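import Mathlib

/-!
# Dimension shifting for `Ext` along a short exact sequence with projective middle term (helper11)
-/

set_option autoImplicit false

namespace Groth.Agent.Lib.helper11.ExtShift

open CategoryTheory Abelian

universe w v u t

section General

variable {C : Type u} [Category.{v} C] [Abelian C] [HasExt.{w} C] (R : Type t) [CommRing R]
  [Linear R C]
variable {S : ShortComplex C} (hS : S.ShortExact) [Projective S.X₂] (Y : C)

/-- Dimension shifting: `Ext^{k+1}(X₁, Y) ≅ Ext^{k+2}(X₃, Y)`. -/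
theorem shift_bijective (k : ℕ) :
    Function.Bijective
      (Ext.precompOfLinear hS.extClass R Y (show 1 + (k + 1) = k + 2 by omega)) := by
  constructor
  · rw [injective_iff_map_eq_zero]
    intro x hx
    obtain ⟨x₂, rfl⟩ := Ext.contravariant_sequence_exact₁ hS Y x (by omega) hx
    rw [Ext.eq_zero_of_projective x₂, Ext.comp_zero]
  · intro x₃
    have h0 : (Ext.mk₀ S.g).comp x₃ (zero_add _) = 0 := Ext.eq_zero_of_projective _
    obtain ⟨x₁, hx₁⟩ := Ext.contravariant_sequence_exact₃ hS Y x₃ h0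
      (show 1 + (k + 1) = k + 2 by omega)
    exact ⟨x₁, hx₁⟩

/-- The connecting map `Hom(X₁, Y) → Ext^1(X₃, Y)`. -/
noncomputable def delta₀ : (S.X₁ ⟶ Y) →ₗ[R] Ext S.X₃ Y 1 :=
  (Ext.precompOfLinear hS.extClass R Y (show 1 + 0 = 1 by rfl)).comp
    (Ext.linearEquiv₀ (R := R)).symm.toLinearMap

theorem delta₀_apply (φ : S.X₁ ⟶ Y) :
    delta₀ R hS Y φ = hS.extClass.comp (Ext.mk₀ φ) (show 1 + 0 = 1 by rfl) := rfl

theorem delta₀_surjective : Function.Surjective (delta₀ R hS Y) := by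
  intro x₃
  have h0 : (Ext.mk₀ S.g).comp x₃ (zero_add _) = 0 := Ext.eq_zero_of_projective _
  obtain ⟨x₁, hx₁⟩ := Ext.contravariant_sequence_exact₃ hS Y x₃ h0
    (show 1 + 0 = 1 by rfl)
  refine ⟨Ext.linearEquiv₀ (R := R) x₁, ?_⟩
  rw [delta₀_apply, Ext.mk₀_linearEquiv₀_apply]
  exact hx₁

theorem delta₀_eq_zero_iff (φ : S.X₁ ⟶ Y) :
    delta₀ R hS Y φ = 0 ↔ ∃ ψ : S.X₂ ⟶ Y, S.f ≫ ψ = φ := by
  rw [delta₀_apply]
  constructor
  · intro h
    obtain ⟨x₂, hx₂⟩ := Ext.contravariant_sequence_exact₁ hS Y (Ext.mk₀ φ) (by rfl) h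
    refine ⟨Ext.linearEquiv₀ (R := R) x₂, ?_⟩
    apply (Ext.mk₀_bijective _ _).1
    rw [← Ext.mk₀_comp_mk₀, Ext.mk₀_linearEquiv₀_apply]
    exact hx₂
  · rintro ⟨ψ, rfl⟩
    rw [← Ext.mk₀_comp_mk₀, ← Ext.comp_assoc (h₁₂ := show 1 + 0 = 1 by rfl)
      (h₂₃ := show 0 + 0 = 0 by rfl) (h := show 1 + 0 + 0 = 1 by rfl),
      hS.extClass_comp, Ext.zero_comp]

end General

section ModuleCat

variable {Λ : Type u} [CommRing Λ] {K F M : Type u} [AddCommGroup K] [Module Λ K]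
  [AddCommGroup F] [Module Λ F] [AddCommGroup M] [Module Λ M]
  (i : K →ₗ[Λ] F) (π : F →ₗ[Λ] M) (hi : Function.Injective i) (hπ : Function.Surjective π)
  (hex : Function.Exact i π) (Y : Type u) [AddCommGroup Y] [Module Λ Y]

/-- The short complex in `ModuleCat` attached to an exact pair of linear maps. -/
noncomputable abbrev sc : ShortComplex (ModuleCat.{u} Λ) :=
  ShortComplex.mk (ModuleCat.ofHom i) (ModuleCat.ofHom π)
    (by ext x; exact hex.apply_apply_eq_zero x)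

include hi hπ in
theorem sc_shortExact : (sc i π hex).ShortExact :=
  { exact := (ShortComplex.ShortExact.moduleCat_exact_iff_function_exact _).mpr hex
    mono_f := (ModuleCat.mono_iff_injective _).mpr hi
    epi_g := (ModuleCat.epi_iff_surjective _).mpr hπ }

variable [Module.Projective Λ F]

instance : Projective (sc i π hex).X₂ :=
  (IsProjective.iff_projective (R := Λ) (P := F)).mp inferInstance

include hi hπ hex in
theorem ext_succ_equiv (k : ℕ) :
    Nonempty (Ext (ModuleCat.of Λ K) (ModuleCat.of Λ Y) (k + 1) ≃ₗ[Λ]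
      Ext (ModuleCat.of Λ M) (ModuleCat.of Λ Y) (k + 2)) :=
  ⟨LinearEquiv.ofBijective _
    (shift_bijective Λ (sc_shortExact i π hi hπ hex) (ModuleCat.of Λ Y) k)⟩

/-- The connecting map on linear maps. -/
noncomputable def deltaLin (hex : Function.Exact i π) (Y : Type u) [AddCommGroup Y] [Module Λ Y]
    (hi : Function.Injective i) (hπ : Function.Surjective π) :
    (K →ₗ[Λ] Y) →ₗ[Λ] Ext (ModuleCat.of Λ M) (ModuleCat.of Λ Y) 1 :=
  (delta₀ Λ (sc_shortExact i π hi hπ hex) (ModuleCat.of Λ Y)).comp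
    (ModuleCat.homLinearEquiv (M := ModuleCat.of Λ K) (N := ModuleCat.of Λ Y) (S := Λ)).symm.toLinearMap

theorem deltaLin_surjective : Function.Surjective (deltaLin i π hex Y hi hπ) := by
  intro x
  obtain ⟨φ, hφ⟩ := delta₀_surjective Λ (sc_shortExact i π hi hπ hex) (ModuleCat.of Λ Y) x
  refine ⟨ModuleCat.homLinearEquiv (S := Λ) φ, ?_⟩
  rw [← hφ]
  exact congrArg (delta₀ Λ (sc_shortExact i π hi hπ hex) (ModuleCat.of Λ Y))
    ((ModuleCat.homLinearEquiv (M := ModuleCat.of Λ K) (N := ModuleCat.of Λ Y)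
      (S := Λ)).symm_apply_apply φ)

theorem deltaLin_eq_zero_iff (φ : K →ₗ[Λ] Y) :
    deltaLin i π hex Y hi hπ φ = 0 ↔ ∃ ψ : F →ₗ[Λ] Y, ψ ∘ₗ i = φ := by
  change delta₀ Λ (sc_shortExact i π hi hπ hex) (ModuleCat.of Λ Y) (ModuleCat.ofHom φ) = 0 ↔ _
  rw [delta₀_eq_zero_iff]
  constructor
  · rintro ⟨ψ, hψ⟩
    refine ⟨ψ.hom, ?_⟩
    have := congrArg ModuleCat.Hom.hom hψ
    exact this
  · rintro ⟨ψ, rfl⟩
    exact ⟨ModuleCat.ofHom ψ, rfl⟩

end ModuleCat

end Groth.Agent.Lib.helper11.ExtShift
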