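import Mathlib
import Groth.Agent.Lib.helper11.ExtShift

/-!
# Flat base change for `Ext` of finite modules over a Noetherian ring (helper11)
-/

set_option autoImplicit false

namespace Groth.Agent.Lib.helper11.ExtBC

open CategoryTheory Abelian TensorProduct Groth.Agent.Lib.helper11.ExtShift

universe u

/-- Isomorphism of quotients from an isomorphism of sources compatible with kernels. -/
theorem equiv_of_surjective_of_ker {B X₁ X₂ Z₁ Z₂ : Type*} [CommRing B]
    [AddCommGroup X₁] [Module B X₁] [AddCommGroup X₂] [Module B X₂]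
    [AddCommGroup Z₁] [Module B Z₁] [AddCommGroup Z₂] [Module B Z₂]
    (p₁ : X₁ →ₗ[B] Z₁) (p₂ : X₂ →ₗ[B] Z₂) (hp₁ : Function.Surjective p₁)
    (hp₂ : Function.Surjective p₂) (θ : X₁ ≃ₗ[B] X₂) (h : ∀ x, p₁ x = 0 ↔ p₂ (θ x) = 0) :
    Nonempty (Z₁ ≃ₗ[B] Z₂) := by
  have hmap : (LinearMap.ker p₁).map (θ : X₁ →ₗ[B] X₂) = LinearMap.ker p₂ := by
    ext y
    constructor
    · rintro ⟨x, hx, rfl⟩
      exact (h x).mp hx
    · intro hy
      refine ⟨θ.symm y, ?_, by simp⟩
      rw [SetLike.mem_coe, LinearMap.mem_ker, h]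
      simpa using hy
  exact ⟨(p₁.quotKerEquivOfSurjective hp₁).symm ≪≫ₗ
    Submodule.Quotient.equiv _ _ θ hmap ≪≫ₗ p₂.quotKerEquivOfSurjective hp₂⟩

variable (A B : Type u) [CommRing A] [CommRing B] [Algebra A B] [Module.Flat A B]
  [IsNoetherianRing A] (N : Type u) [AddCommGroup N] [Module A N]

/-- Degree zero. -/
theorem ext_zero (M : Type u) [AddCommGroup M] [Module A M] [Module.Finite A M] :
    Nonempty ((B ⊗[A] Ext (ModuleCat.of A M) (ModuleCat.of A N) 0) ≃ₗ[B]
      Ext (ModuleCat.of B (B ⊗[A] M)) (ModuleCat.of B (B ⊗[A] N)) 0) := by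
  haveI : Module.FinitePresentation A M := Module.finitePresentation_of_finite A M
  let e₁ : Ext (ModuleCat.of A M) (ModuleCat.of A N) 0 ≃ₗ[A] (M →ₗ[A] N) :=
    (Ext.linearEquiv₀ (R := A)) ≪≫ₗ
      (ModuleCat.homLinearEquiv (M := ModuleCat.of A M) (N := ModuleCat.of A N) (S := A))
  let e₂ : B ⊗[A] (M →ₗ[A] N) ≃ₗ[B] (B ⊗[A] M →ₗ[B] B ⊗[A] N) :=
    (Module.FinitePresentation.isBaseChange_map A M N B).equiv
  let e₃ : (B ⊗[A] M →ₗ[B] B ⊗[A] N) ≃ₗ[B]
      Ext (ModuleCat.of B (B ⊗[A] M)) (ModuleCat.of B (B ⊗[A] N)) 0 :=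
    (ModuleCat.homLinearEquiv (M := ModuleCat.of B (B ⊗[A] M))
      (N := ModuleCat.of B (B ⊗[A] N)) (S := B)).symm ≪≫ₗ (Ext.linearEquiv₀ (R := B)).symm
  exact ⟨(LinearEquiv.baseChange A B _ _ e₁) ≪≫ₗ e₂ ≪≫ₗ e₃⟩

/-- The inductive step for `r ≥ 1`. -/
theorem ext_succ_succ (k : ℕ)
    (IH : ∀ (M : Type u) [AddCommGroup M] [Module A M] [Module.Finite A M],
      Nonempty ((B ⊗[A] Ext (ModuleCat.of A M) (ModuleCat.of A N) (k + 1)) ≃ₗ[B]
        Ext (ModuleCat.of B (B ⊗[A] M)) (ModuleCat.of B (B ⊗[A] N)) (k + 1)))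
    (M : Type u) [AddCommGroup M] [Module A M] [Module.Finite A M] :
    Nonempty ((B ⊗[A] Ext (ModuleCat.of A M) (ModuleCat.of A N) (k + 2)) ≃ₗ[B]
      Ext (ModuleCat.of B (B ⊗[A] M)) (ModuleCat.of B (B ⊗[A] N)) (k + 2)) := by
  obtain ⟨n, f, hf⟩ := Module.Finite.exists_fin' A M
  let K := LinearMap.ker f
  have hi : Function.Injective K.subtype := Submodule.subtype_injective K
  have hex : Function.Exact K.subtype f := LinearMap.exact_subtype_ker_map f
  obtain ⟨eA⟩ := ext_succ_equiv K.subtype f hi hf hex N k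
  have hiB : Function.Injective (K.subtype.baseChange B) :=
    Module.Flat.lTensor_preserves_injective_linearMap _ hi
  have hfB : Function.Surjective (f.baseChange B) := LinearMap.lTensor_surjective B hf
  have hexB : Function.Exact (K.subtype.baseChange B) (f.baseChange B) :=
    lTensor_exact B hex hf
  obtain ⟨eB⟩ := ext_succ_equiv (K.subtype.baseChange B) (f.baseChange B) hiB hfB hexB
    (B ⊗[A] N) k
  obtain ⟨e⟩ := IH K
  exact ⟨(LinearEquiv.baseChange A B _ _ eA).symm ≪≫ₗ e ≪≫ₗ eB⟩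

/-- Degree one. -/
theorem ext_one (M : Type u) [AddCommGroup M] [Module A M] [Module.Finite A M] :
    Nonempty ((B ⊗[A] Ext (ModuleCat.of A M) (ModuleCat.of A N) 1) ≃ₗ[B]
      Ext (ModuleCat.of B (B ⊗[A] M)) (ModuleCat.of B (B ⊗[A] N)) 1) := by
  obtain ⟨n, f, hf⟩ := Module.Finite.exists_fin' A M
  let K := LinearMap.ker f
  have hi : Function.Injective K.subtype := Submodule.subtype_injective K
  have hex : Function.Exact K.subtype f := LinearMap.exact_subtype_ker_map f
  have hiB : Function.Injective (K.subtype.baseChange B) :=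
    Module.Flat.lTensor_preserves_injective_linearMap _ hi
  have hfB : Function.Surjective (f.baseChange B) := LinearMap.lTensor_surjective B hf
  have hexB : Function.Exact (K.subtype.baseChange B) (f.baseChange B) :=
    lTensor_exact B hex hf
  haveI : Module.FinitePresentation A K := Module.finitePresentation_of_finite A K
  haveI : Module.FinitePresentation A (Fin n → A) :=
    Module.finitePresentation_of_finite A (Fin n → A)
  -- the connecting maps
  let δA := deltaLin K.subtype f hex N hi hf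
  have hδA : Function.Surjective δA := deltaLin_surjective K.subtype f hi hf hex N
  let δB := deltaLin (K.subtype.baseChange B) (f.baseChange B) hexB (B ⊗[A] N) hiB hfB
  have hδB : Function.Surjective δB :=
    deltaLin_surjective (K.subtype.baseChange B) (f.baseChange B) hiB hfB hexB (B ⊗[A] N)
  -- the base change isomorphisms for Hom
  let θK : B ⊗[A] (K →ₗ[A] N) ≃ₗ[B] (B ⊗[A] K →ₗ[B] B ⊗[A] N) :=
    (Module.FinitePresentation.isBaseChange_map A K N B).equiv
  let θF : B ⊗[A] ((Fin n → A) →ₗ[A] N) ≃ₗ[B] (B ⊗[A] (Fin n → A) →ₗ[B] B ⊗[A] N) :=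
    (Module.FinitePresentation.isBaseChange_map A (Fin n → A) N B).equiv
  have hθK : ∀ (b : B) (φ : K →ₗ[A] N), θK (b ⊗ₜ[A] φ) = b • φ.baseChange B := by
    intro b φ
    exact IsBaseChange.equiv_tmul _ b φ
  have hθF : ∀ (b : B) (φ : (Fin n → A) →ₗ[A] N), θF (b ⊗ₜ[A] φ) = b • φ.baseChange B := by
    intro b φ
    exact IsBaseChange.equiv_tmul _ b φ
  -- naturality
  have hnat : ∀ z : B ⊗[A] ((Fin n → A) →ₗ[A] N),
      θK ((LinearMap.lcomp A N K.subtype).baseChange B z) =
        (θF z) ∘ₗ (K.subtype.baseChange B) := by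
    intro z
    induction z using TensorProduct.induction_on with
    | zero => simp
    | tmul b ψ =>
      rw [LinearMap.baseChange_tmul, hθK, hθF, LinearMap.lcomp_apply', LinearMap.baseChange_comp,
        LinearMap.smul_comp]
    | add x y hx hy => rw [map_add, map_add, hx, hy, map_add, LinearMap.add_comp]
  -- exactness on the A-side
  have hexA : Function.Exact (LinearMap.lcomp A N K.subtype) δA := by
    intro φ
    rw [deltaLin_eq_zero_iff]
    constructor
    · rintro ⟨ψ, rfl⟩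
      exact ⟨ψ, rfl⟩
    · rintro ⟨ψ, rfl⟩
      exact ⟨ψ, rfl⟩
  have hexAB : Function.Exact ((LinearMap.lcomp A N K.subtype).baseChange B) (δA.baseChange B) :=
    lTensor_exact B hexA hδA
  refine equiv_of_surjective_of_ker (X₁ := B ⊗[A] (K →ₗ[A] N))
    (X₂ := (B ⊗[A] K →ₗ[B] B ⊗[A] N)) (δA.baseChange B) δB
    (LinearMap.lTensor_surjective B hδA) hδB θK ?_
  intro x
  rw [hexAB x, deltaLin_eq_zero_iff]
  constructor
  · rintro ⟨z, rfl⟩
    exact ⟨θF z, (hnat z).symm⟩
  · rintro ⟨ψ, hψ⟩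
    obtain ⟨z, rfl⟩ := θF.surjective ψ
    refine ⟨z, θK.injective ?_⟩
    rw [hnat, hψ]

/-- Flat base change for `Ext` of a finite module over a Noetherian ring. -/
theorem ext_baseChange (r : ℕ) (M : Type u) [AddCommGroup M] [Module A M] [Module.Finite A M] :
    Nonempty ((B ⊗[A] Ext (ModuleCat.of A M) (ModuleCat.of A N) r) ≃ₗ[B]
      Ext (ModuleCat.of B (B ⊗[A] M)) (ModuleCat.of B (B ⊗[A] N)) r) := by
  rcases r with _ | r
  · exact ext_zero A B N M
  · induction r generalizing M with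
    | zero => exact ext_one A B N M
    | succ k ih => exact ext_succ_succ A B N k (fun M' _ _ _ => ih M') M

end Groth.Agent.Lib.helper11.ExtBC
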