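import Mathlib
import Groth.Agent.Lib.helper11.ExtShift
import Groth.Agent.Lib.helper11.ExtBC

/-!
# `Ext^p(A/(x₁,…,x_p), M) ≅ M/(x₁,…,x_p)M` for a weakly regular sequence (helper11)
-/

set_option autoImplicit false

namespace Groth.Agent.Lib.helper11.ExtKoszul

open CategoryTheory Abelian RingTheory.Sequence Groth.Agent.Lib.helper11.ExtShift
  Groth.Agent.Lib.helper11.ExtBC Pointwise

universe u

variable (A : Type u) [CommRing A]

/-- Kernel of `M/P' → M/P` when `P = P' + xM`. -/
theorem mapQ_eq_zero_iff' {M : Type*} [AddCommGroup M] [Module A M] (P' P : Submodule A M) (x : A)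
    (hP : P = P' ⊔ x • (⊤ : Submodule A M)) (h : P' ≤ P) (m : M ⧸ P') :
    Submodule.mapQ P' P LinearMap.id h m = 0 ↔ ∃ m', m = x • m' := by
  induction m using Submodule.Quotient.induction_on with
  | H a =>
    rw [Submodule.mapQ_apply, LinearMap.id_apply, Submodule.Quotient.mk_eq_zero, hP,
      Submodule.mem_sup]
    constructor
    · rintro ⟨b, hb, c, hc, rfl⟩
      obtain ⟨m₀, -, rfl⟩ := (Submodule.mem_smul_pointwise_iff_exists _ _ _).mp hc
      refine ⟨Submodule.Quotient.mk m₀, ?_⟩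
      rw [← Submodule.Quotient.mk_smul, Submodule.Quotient.eq]
      simpa using hb
    · rintro ⟨m', hm'⟩
      induction m' using Submodule.Quotient.induction_on with
      | H m₀ =>
        rw [← Submodule.Quotient.mk_smul, Submodule.Quotient.eq] at hm'
        refine ⟨a - x • m₀, hm', x • m₀, ?_, by abel⟩
        exact Submodule.smul_mem_pointwise_smul _ _ _ Submodule.mem_top

/-- Kernel of `M/J'M → M/JM` when `J = J' + (x)`. -/
theorem mapQ_eq_zero_iff {M : Type*} [AddCommGroup M] [Module A M] (J' J : Ideal A) (x : A)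
    (hJ : J = J' ⊔ Ideal.span {x}) (h : (J' • ⊤ : Submodule A M) ≤ (J • ⊤ : Submodule A M))
    (m : M ⧸ (J' • ⊤ : Submodule A M)) :
    Submodule.mapQ (J' • ⊤ : Submodule A M) (J • ⊤ : Submodule A M) LinearMap.id h m = 0 ↔
      ∃ m', m = x • m' := by
  apply mapQ_eq_zero_iff'
  rw [hJ, Submodule.sup_smul, Submodule.ideal_span_singleton_smul]

/-- Precomposition with multiplication by `x` is multiplication by `x`. -/
theorem mk₀_smul_id_comp {C : Type*} [Category C] [Abelian C] [Linear A C] [HasExt C]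
    {X Y : C} {n : ℕ} (x : A) (e : Ext X Y n) :
    (Ext.mk₀ (x • 𝟙 X)).comp e (zero_add n) = x • e := by
  rw [Ext.mk₀_smul, Ext.smul_comp, Ext.mk₀_id_comp]

section Step

variable {A}
variable (J' J : Ideal A) (x : A) (hJ : J = J' ⊔ Ideal.span {x})
  (hreg : IsSMulRegular (A ⧸ J') x)

/-- Multiplication by `x` on `A/J'`. -/
noncomputable def mulX : (A ⧸ J') →ₗ[A] (A ⧸ J') := LinearMap.lsmul A (A ⧸ J') x

include hJ in
theorem le_of_eq_sup : J' ≤ J := hJ ▸ le_sup_left

/-- The projection `A/J' → A/J`. -/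
noncomputable def proj (h : J' ≤ J) : (A ⧸ J') →ₗ[A] (A ⧸ J) :=
  Submodule.mapQ J' J LinearMap.id h

theorem proj_surjective (h : J' ≤ J) : Function.Surjective (proj J' J h) := by
  intro y
  induction y using Submodule.Quotient.induction_on with
  | H a => exact ⟨Submodule.Quotient.mk a, rfl⟩

include hJ in
theorem exact_mulX_proj : Function.Exact (mulX J' x) (proj J' J (le_of_eq_sup J' J x hJ)) := by
  intro m
  have hP : (J : Submodule A A) = J' ⊔ x • (⊤ : Submodule A A) := by
    rw [hJ]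
    congr 1
    rw [← Submodule.ideal_span_singleton_smul, smul_eq_mul, Ideal.mul_top]
  rw [proj, mapQ_eq_zero_iff' A J' J x hP]
  constructor
  · rintro ⟨m', rfl⟩
    exact ⟨m', rfl⟩
  · rintro ⟨m', rfl⟩
    exact ⟨m', rfl⟩

end Step

/-- The inductive statement. -/
def Claim (A : Type u) [CommRing A] (J : Ideal A) (p : ℕ) : Prop :=
  (∀ (M : Type u) [AddCommGroup M] [Module A M] (i : ℕ), p < i →
    ∀ e : Ext (ModuleCat.of A (A ⧸ J)) (ModuleCat.of A M) i, e = 0) ∧
  (∀ (M : Type u) [AddCommGroup M] [Module A M],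
    Nonempty (Ext (ModuleCat.of A (A ⧸ J)) (ModuleCat.of A M) p ≃ₗ[A]
      M ⧸ (J • (⊤ : Submodule A M))))

theorem claim_bot (J : Ideal A) (hJ : J = ⊥) : Claim A J 0 := by
  let e' : (A ⧸ J) ≃ₗ[A] A := Submodule.quotEquivOfEqBot J hJ
  haveI : Module.Projective A (A ⧸ J) := Module.Projective.of_equiv e'.symm
  haveI : Projective (ModuleCat.of A (A ⧸ J)) :=
    (IsProjective.iff_projective (R := A) (P := A ⧸ J)).mp inferInstance
  refine ⟨?_, ?_⟩
  · intro M _ _ i hi e
    obtain ⟨n, rfl⟩ : ∃ n, i = n + 1 := ⟨i - 1, by omega⟩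
    exact Ext.eq_zero_of_projective e
  · intro M _ _
    have h0 : (J • (⊤ : Submodule A M)) = ⊥ := by rw [hJ, Submodule.bot_smul]
    exact ⟨(Ext.linearEquiv₀ (R := A)) ≪≫ₗ
      (ModuleCat.homLinearEquiv (M := ModuleCat.of A (A ⧸ J)) (N := ModuleCat.of A M) (S := A)) ≪≫ₗ
      (LinearEquiv.congrLeft M A e') ≪≫ₗ (LinearMap.ringLmapEquivSelf A A M) ≪≫ₗ
      (Submodule.quotEquivOfEqBot _ h0).symm⟩

theorem claim_step (J' J : Ideal A) (x : A) (hJ : J = J' ⊔ Ideal.span {x})
    (hreg : IsSMulRegular (A ⧸ J') x) (p : ℕ) (h : Claim A J' p) : Claim A J (p + 1) := by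
  obtain ⟨ha, hb⟩ := h
  have hle : J' ≤ J := le_of_eq_sup J' J x hJ
  have hi : Function.Injective (mulX J' x) := hreg
  have hπ : Function.Surjective (proj J' J hle) := proj_surjective J' J hle
  have hex : Function.Exact (mulX J' x) (proj J' J hle) := exact_mulX_proj J' J x hJ
  have hS := sc_shortExact (mulX J' x) (proj J' J hle) hi hπ hex
  have hf : (sc (mulX J' x) (proj J' J hle) hex).f = x • 𝟙 (ModuleCat.of A (A ⧸ J')) := by
    rfl
  refine ⟨?_, ?_⟩
  · intro M _ _ i hi' e
    obtain ⟨n, rfl⟩ : ∃ n, i = n + 1 := ⟨i - 1, by omega⟩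
    have h0 : (Ext.mk₀ (sc (mulX J' x) (proj J' J hle) hex).g).comp e (zero_add _) = 0 :=
      ha M (n + 1) (by omega) _
    obtain ⟨x₁, hx₁⟩ := Ext.contravariant_sequence_exact₃ hS (ModuleCat.of A M) e h0
      (show 1 + n = n + 1 by omega)
    rw [← hx₁, ha M n (by omega) x₁, Ext.comp_zero]
  · intro M _ _
    obtain ⟨e⟩ := hb M
    let δ : Ext (ModuleCat.of A (A ⧸ J')) (ModuleCat.of A M) p →ₗ[A]
        Ext (ModuleCat.of A (A ⧸ J)) (ModuleCat.of A M) (p + 1) :=
      Ext.precompOfLinear hS.extClass A (ModuleCat.of A M) (show 1 + p = p + 1 by omega)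
    have hδ : Function.Surjective δ := by
      intro y
      have h0 : (Ext.mk₀ (sc (mulX J' x) (proj J' J hle) hex).g).comp y (zero_add _) = 0 :=
        ha M (p + 1) (by omega) _
      obtain ⟨x₁, hx₁⟩ := Ext.contravariant_sequence_exact₃ hS (ModuleCat.of A M) y h0
        (show 1 + p = p + 1 by omega)
      exact ⟨x₁, hx₁⟩
    have hδ0 : ∀ y, δ y = 0 ↔ ∃ y₂ : Ext (ModuleCat.of A (A ⧸ J')) (ModuleCat.of A M) p,
        y = x • y₂ := by
      intro y
      constructor
      · intro hy
        obtain ⟨y₂, hy₂⟩ := Ext.contravariant_sequence_exact₁ hS (ModuleCat.of A M) y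
          (show 1 + p = p + 1 by omega) hy
        refine ⟨y₂, ?_⟩
        rw [← hy₂]
        rw [hf]
        exact mk₀_smul_id_comp A x y₂
      · rintro ⟨y₂, rfl⟩
        have h1 : x • y₂ = (Ext.mk₀ (sc (mulX J' x) (proj J' J hle) hex).f).comp y₂
            (zero_add p) := by
          rw [hf]
          exact (mk₀_smul_id_comp A x y₂).symm
        rw [h1]
        change hS.extClass.comp _ (show 1 + p = p + 1 by omega) = 0
        rw [← Ext.comp_assoc (h₁₂ := show 1 + 0 = 1 by rfl) (h₂₃ := zero_add p)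
          (h := show 1 + 0 + p = p + 1 by omega),
          hS.extClass_comp, Ext.zero_comp]
    have hle' : (J' • ⊤ : Submodule A M) ≤ (J • ⊤ : Submodule A M) :=
      Submodule.smul_mono_left hle
    have hp₂ : Function.Surjective
        (Submodule.mapQ (J' • ⊤ : Submodule A M) (J • ⊤ : Submodule A M) LinearMap.id hle') := by
      intro y
      induction y using Submodule.Quotient.induction_on with
      | H a => exact ⟨Submodule.Quotient.mk a, rfl⟩
    refine equiv_of_surjective_of_ker δ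
      (Submodule.mapQ (J' • ⊤ : Submodule A M) (J • ⊤ : Submodule A M) LinearMap.id hle')
      hδ hp₂ e ?_
    intro y
    rw [hδ0, mapQ_eq_zero_iff A J' J x hJ hle']
    constructor
    · rintro ⟨y₂, rfl⟩
      exact ⟨e y₂, map_smul e x y₂⟩
    · rintro ⟨m', hm'⟩
      refine ⟨e.symm m', ?_⟩
      apply e.injective
      rw [hm', map_smul, LinearEquiv.apply_symm_apply]

theorem claim_ofList (xs : List A) (h : IsWeaklyRegular A xs) :
    Claim A (Ideal.ofList xs) xs.length := by
  induction xs using List.reverseRecOn with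
  | nil => exact claim_bot A _ Ideal.ofList_nil
  | append_singleton xs x ih =>
    rw [isWeaklyRegular_append_iff] at h
    obtain ⟨h1, h2⟩ := h
    have h3 : IsSMulRegular (A ⧸ (Ideal.ofList xs • ⊤ : Submodule A A)) x :=
      ((isWeaklyRegular_cons_iff _ x []).mp h2).1
    have h4 : (Ideal.ofList xs • ⊤ : Submodule A A) = Ideal.ofList xs := by
      rw [smul_eq_mul, Ideal.mul_top]
    have h5 : IsSMulRegular (A ⧸ Ideal.ofList xs) x :=
      ((Submodule.quotEquivOfEq _ _ h4).isSMulRegular_congr x).mp h3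
    rw [List.length_append, List.length_singleton]
    exact claim_step A (Ideal.ofList xs) _ x
      (by rw [Ideal.ofList_append, Ideal.ofList_singleton]) h5 _ (ih h1)

/-- `Ext^p(A/(x₁,…,x_p), M) ≅ M/(x₁,…,x_p)M` for a weakly regular sequence. -/
theorem ext_quotient_top (xs : List A) (hreg : IsWeaklyRegular A xs) (M : Type u)
    [AddCommGroup M] [Module A M] :
    Nonempty (Ext (ModuleCat.of A (A ⧸ Ideal.ofList xs)) (ModuleCat.of A M) xs.length ≃ₗ[A]
      (M ⧸ (Ideal.ofList xs • (⊤ : Submodule A M)))) :=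
  (claim_ofList A xs hreg).2 M

end Groth.Agent.Lib.helper11.ExtKoszul
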