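import Mathlib
import Groth.Agent.Lib.helper11.ExtShift
import Groth.Agent.Lib.helper11.ExtKoszul

/-!
# Vanishing of `Ext^i(N, M)` below the length of an `M`-regular sequence in `I`, for `I`-power
torsion `N` (helper11)
-/

set_option autoImplicit false

namespace Groth.Agent.Lib.helper11.ExtRegular

open CategoryTheory Abelian RingTheory.Sequence Groth.Agent.Lib.helper11.ExtShift
  Groth.Agent.Lib.helper11.ExtKoszul Pointwise

universe u

variable (A : Type u) [CommRing A]

/-- An element killing `N` kills `Ext^i(N, M)`. -/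
theorem smul_ext_eq_zero {N M : ModuleCat.{u} A} (r : A) (hr : ∀ n : N, r • n = 0) {i : ℕ}
    (e : Ext N M i) : r • e = 0 := by
  rw [← mk₀_smul_id_comp A r e]
  have : r • 𝟙 N = 0 := by
    ext n
    exact hr n
  rw [this, Ext.mk₀_zero, Ext.zero_comp]

theorem ext_eq_zero_of_regular (N : Type u) [AddCommGroup N] [Module A N] (I : Ideal A) (k : ℕ)
    (hN : (I ^ k) • (⊤ : Submodule A N) = ⊥) (rs : List A) :
    ∀ (M : Type u) [AddCommGroup M] [Module A M], IsWeaklyRegular M rs → (∀ r ∈ rs, r ∈ I) →
      ∀ i, i < rs.length → ∀ e : Ext (ModuleCat.of A N) (ModuleCat.of A M) i, e = 0 := by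
  induction rs with
  | nil => intro M _ _ _ _ i hi; simp at hi
  | cons x rs ih =>
    intro M _ _ hreg hI i hi e
    rw [isWeaklyRegular_cons_iff] at hreg
    obtain ⟨hx, hreg'⟩ := hreg
    have hxI : x ∈ I := hI x (List.mem_cons_self)
    -- the short exact sequence
    let f : M →ₗ[A] M := LinearMap.lsmul A M x
    let g : M →ₗ[A] QuotSMulTop x M := Submodule.mkQ _
    have hf : Function.Injective f := hx
    have hg : Function.Surjective g := Submodule.mkQ_surjective _
    have hex : Function.Exact f g := by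
      intro m
      change Submodule.Quotient.mk m = 0 ↔ _
      rw [Submodule.Quotient.mk_eq_zero, Submodule.mem_smul_pointwise_iff_exists]
      constructor
      · rintro ⟨m', -, rfl⟩
        exact ⟨m', rfl⟩
      · rintro ⟨m', rfl⟩
        exact ⟨m', Submodule.mem_top, rfl⟩
    have hS := sc_shortExact f g hf hg hex
    have hSf : (sc f g hex).f = x • 𝟙 (ModuleCat.of A M) := rfl
    -- injectivity of multiplication by x
    have hinj : ∀ e' : Ext (ModuleCat.of A N) (ModuleCat.of A M) i, x • e' = 0 → e' = 0 := by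
      intro e' he'
      rw [Ext.smul_eq_comp_mk₀, ← hSf] at he'
      rcases i with _ | n
      · haveI : Mono (sc f g hex).f := hS.mono_f
        exact (injective_iff_map_eq_zero _).mp
          (Ext.postcomp_mk₀_injective_of_mono (ModuleCat.of A N) (sc f g hex).f) e' he'
      · obtain ⟨x₃, hx₃⟩ := Ext.covariant_sequence_exact₁ (ModuleCat.of A N) hS e' he'
          (show n + 1 = n + 1 by rfl)
        have h0 : x₃ = 0 := ih (QuotSMulTop x M) hreg'
          (fun r hr => hI r (List.mem_cons_of_mem _ hr)) n (by simpa using hi) x₃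
        rw [← hx₃, h0, Ext.zero_comp]
    -- nilpotence
    have hkill : x ^ k • e = 0 := by
      apply smul_ext_eq_zero
      intro n
      have h1 : x ^ k • n ∈ (I ^ k) • (⊤ : Submodule A N) :=
        Submodule.smul_mem_smul (Ideal.pow_mem_pow hxI k) Submodule.mem_top
      rw [hN] at h1
      exact h1
    have hpow : ∀ (j : ℕ) (e' : Ext (ModuleCat.of A N) (ModuleCat.of A M) i),
        x ^ j • e' = 0 → e' = 0 := by
      intro j
      induction j with
      | zero => intro e' he'; simpa using he'
      | succ j ihj =>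
        intro e' he'
        rw [pow_succ', mul_smul] at he'
        exact ihj e' (hinj _ he')
    exact hpow k e hkill

/-- `Hom(N, M/(xs)M) ≅ Ext^n(N, M)` for `N` killed by `I` and `xs` an `M`-regular sequence
in `I` of length `n`. -/
theorem hom_quotient_equiv_ext (N : Type u) [AddCommGroup N] [Module A N] (I : Ideal A)
    (hN : ∀ r ∈ I, ∀ n : N, r • n = 0) (rs : List A) :
    ∀ (M : Type u) [AddCommGroup M] [Module A M], IsWeaklyRegular M rs → (∀ r ∈ rs, r ∈ I) →
      Nonempty ((N →ₗ[A] (M ⧸ (Ideal.ofList rs • (⊤ : Submodule A M)))) ≃+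
        Ext (ModuleCat.of A N) (ModuleCat.of A M) rs.length) := by
  have hN1 : (I ^ 1) • (⊤ : Submodule A N) = ⊥ := by
    rw [pow_one, eq_bot_iff, Submodule.smul_le]
    intro r hr n _
    rw [hN r hr n]
    exact Submodule.zero_mem _
  induction rs with
  | nil =>
    intro M _ _ _ _
    have h0 : (Ideal.ofList ([] : List A) • (⊤ : Submodule A M)) = ⊥ := by
      rw [Ideal.ofList_nil, Submodule.bot_smul]
    let e₁ : (N →ₗ[A] (M ⧸ (Ideal.ofList ([] : List A) • (⊤ : Submodule A M)))) ≃ₗ[A]
        (N →ₗ[A] M) := LinearEquiv.congrRight (Submodule.quotEquivOfEqBot _ h0)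
    let e₂ : (N →ₗ[A] M) ≃ₗ[A] Ext (ModuleCat.of A N) (ModuleCat.of A M) 0 :=
      (ModuleCat.homLinearEquiv (M := ModuleCat.of A N) (N := ModuleCat.of A M) (S := A)).symm ≪≫ₗ
        (Ext.linearEquiv₀ (R := A)).symm
    exact ⟨(e₁ ≪≫ₗ e₂).toAddEquiv⟩
  | cons x rs ih =>
    intro M _ _ hreg hI
    have hreg0 := hreg
    rw [isWeaklyRegular_cons_iff] at hreg
    obtain ⟨hx, hreg'⟩ := hreg
    have hxI : x ∈ I := hI x (List.mem_cons_self)
    obtain ⟨eIH⟩ := ih (QuotSMulTop x M) hreg' (fun r hr => hI r (List.mem_cons_of_mem _ hr))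
    -- the short exact sequence
    let f : M →ₗ[A] M := LinearMap.lsmul A M x
    let g : M →ₗ[A] QuotSMulTop x M := Submodule.mkQ _
    have hf : Function.Injective f := hx
    have hg : Function.Surjective g := Submodule.mkQ_surjective _
    have hex : Function.Exact f g := by
      intro m
      change Submodule.Quotient.mk m = 0 ↔ _
      rw [Submodule.Quotient.mk_eq_zero, Submodule.mem_smul_pointwise_iff_exists]
      constructor
      · rintro ⟨m', -, rfl⟩
        exact ⟨m', rfl⟩
      · rintro ⟨m', rfl⟩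
        exact ⟨m', Submodule.mem_top, rfl⟩
    have hS := sc_shortExact f g hf hg hex
    have hSf : (sc f g hex).f = x • 𝟙 (ModuleCat.of A M) := rfl
    let δ : Ext (ModuleCat.of A N) (ModuleCat.of A (QuotSMulTop x M)) rs.length →+
        Ext (ModuleCat.of A N) (ModuleCat.of A M) (rs.length + 1) :=
      hS.extClass.postcomp (ModuleCat.of A N) (show rs.length + 1 = rs.length + 1 by rfl)
    have hδ : Function.Bijective δ := by
      constructor
      · rw [injective_iff_map_eq_zero]
        intro x₃ hx₃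
        obtain ⟨x₂, hx₂⟩ := Ext.covariant_sequence_exact₃ (ModuleCat.of A N) hS x₃
          (show rs.length + 1 = rs.length + 1 by rfl) hx₃
        have h0 : x₂ = 0 := ext_eq_zero_of_regular A N I 1 hN1 (x :: rs) M hreg0 hI rs.length
          (by simp) x₂
        rw [← hx₂, h0, Ext.zero_comp]
      · intro y
        have hy : y.comp (Ext.mk₀ (sc f g hex).f) (add_zero _) = 0 := by
          rw [hSf, ← Ext.smul_eq_comp_mk₀]
          exact smul_ext_eq_zero A x (hN x hxI) y
        obtain ⟨x₃, hx₃⟩ := Ext.covariant_sequence_exact₁ (ModuleCat.of A N) hS y hy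
          (show rs.length + 1 = rs.length + 1 by rfl)
        exact ⟨x₃, hx₃⟩
    let e₁ : (N →ₗ[A] (M ⧸ (Ideal.ofList (x :: rs) • (⊤ : Submodule A M)))) ≃ₗ[A]
        (N →ₗ[A] (QuotSMulTop x M ⧸
          (Ideal.ofList rs • (⊤ : Submodule A (QuotSMulTop x M))))) :=
      LinearEquiv.congrRight (Submodule.quotOfListConsSMulTopEquivQuotSMulTopInner M x rs)
    exact ⟨e₁.toAddEquiv.trans (eIH.trans (AddEquiv.ofBijective δ hδ))⟩

end Groth.Agent.Lib.helper11.ExtRegular
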