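import Mathlib

/-!
# Bridge between the old `Ext` (left derived functor of `linearYoneda`) and `Abelian.Ext`, part A
(helper11)

For a projective resolution `P` of `X`, the homology of `Hom(P, Y)` is `Abelian.Ext X Y n`,
linearly, naturally in `Y` and (for a lift of `X' ⟶ X`) in `X`.
-/

set_option autoImplicit false

namespace Groth.Agent.Lib.helper11.ExtBridge

open CategoryTheory Limits Abelian

universe u

variable {R : Type u} [CommRing R] {X Y : ModuleCat.{u} R} (P : ProjectiveResolution X)

/-- The cochain complex `Hom(P, Y)`. -/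
noncomputable abbrev HomCx (P : ProjectiveResolution X) (Y : ModuleCat.{u} R) :
    CochainComplex (ModuleCat.{u} R) ℕ :=
  P.complex.linearYonedaObj R Y

lemma homCx_d_apply (i j : ℕ) (f : P.complex.X i ⟶ Y) :
    ((HomCx P Y).d i j).hom f = P.complex.d j i ≫ f := rfl

lemma d_comp_iCycles (n : ℕ) (c : (HomCx P Y).cycles n) :
    P.complex.d (n + 1) n ≫ ((HomCx P Y).iCycles n).hom c = 0 := by
  have h := (HomCx P Y).iCycles_d n (n + 1)
  have h2 : ((HomCx P Y).d n (n + 1)).hom (((HomCx P Y).iCycles n).hom c) = 0 := by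
    rw [← ModuleCat.comp_apply, h]; rfl
  exact h2

lemma extMk_congr {n : ℕ} {f f' : P.complex.X n ⟶ Y} (h : f = f') (m : ℕ) (hm : n + 1 = m)
    (hf : P.complex.d m n ≫ f = 0) :
    P.extMk f m hm hf = P.extMk f' m hm (h ▸ hf) := by
  subst h; rfl

lemma smul_extMk {n : ℕ} (r : R) (f : P.complex.X n ⟶ Y) (m : ℕ) (hm : n + 1 = m)
    (hf : P.complex.d m n ≫ f = 0) :
    r • P.extMk f m hm hf = P.extMk (r • f) m hm (by rw [Linear.comp_smul, hf, smul_zero]) := by
  rw [Ext.smul_eq_comp_mk₀, P.extMk_comp_mk₀]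
  exact extMk_congr P (by rw [Linear.comp_smul, Category.comp_id]) m hm _

/-- Cycles of `Hom(P, Y)` to `Ext`. -/
noncomputable def cyclesToExt (n : ℕ) : (HomCx P Y).cycles n →ₗ[R] Ext X Y n where
  toFun c := P.extMk (((HomCx P Y).iCycles n).hom c) (n + 1) rfl (d_comp_iCycles P n c)
  map_add' a b := by
    rw [P.add_extMk]
    exact extMk_congr P (map_add _ a b) _ _ _
  map_smul' r a := by
    rw [RingHom.id_apply, smul_extMk]
    exact extMk_congr P (map_smul _ r a) _ _ _

lemma cyclesToExt_apply (n : ℕ) (c : (HomCx P Y).cycles n) :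
    cyclesToExt P n c =
      P.extMk (((HomCx P Y).iCycles n).hom c) (n + 1) rfl (d_comp_iCycles P n c) := rfl

lemma exists_cycle (n : ℕ) (f : P.complex.X n ⟶ Y) (hf : P.complex.d (n + 1) n ≫ f = 0) :
    ∃ c : (HomCx P Y).cycles n, ((HomCx P Y).iCycles n).hom c = f := by
  let Z : Submodule R (P.complex.X n ⟶ Y) := LinearMap.ker ((HomCx P Y).d n (n + 1)).hom
  have hk : ModuleCat.ofHom Z.subtype ≫ (HomCx P Y).d n (n + 1) = 0 := by
    ext z
    exact z.2
  let l := (HomCx P Y).liftCycles (ModuleCat.ofHom Z.subtype) (n + 1) (by simp) hk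
  have hl : l ≫ (HomCx P Y).iCycles n = ModuleCat.ofHom Z.subtype :=
    (HomCx P Y).liftCycles_i _ _ _ _
  refine ⟨l.hom ⟨f, hf⟩, ?_⟩
  have : ((HomCx P Y).iCycles n).hom (l.hom ⟨f, hf⟩) = f := by
    rw [← ModuleCat.comp_apply, hl]; rfl
  exact this

lemma iCycles_injective (n : ℕ) : Function.Injective ((HomCx P Y).iCycles n).hom :=
  (ModuleCat.mono_iff_injective _).mp inferInstance

lemma homologyπ_surjective (n : ℕ) : Function.Surjective ((HomCx P Y).homologyπ n).hom :=
  (ModuleCat.epi_iff_surjective _).mp inferInstance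

lemma iCycles_toCycles (i n : ℕ) (g : P.complex.X i ⟶ Y) :
    ((HomCx P Y).iCycles n).hom (((HomCx P Y).toCycles i n).hom g) = P.complex.d n i ≫ g := by
  have h := (HomCx P Y).toCycles_i i n
  rw [← ModuleCat.comp_apply, h]; rfl

/-- `extMk f = 0` iff `f` is a coboundary, uniformly in `n` (with `prev 0 = 0`, `d 0 0 = 0`). -/
lemma extMk_eq_zero_iff' (n : ℕ) (f : P.complex.X n ⟶ Y) (hf : P.complex.d (n + 1) n ≫ f = 0) :
    P.extMk f (n + 1) rfl hf = 0 ↔
      ∃ g : P.complex.X ((ComplexShape.up ℕ).prev n) ⟶ Y,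
        P.complex.d n ((ComplexShape.up ℕ).prev n) ≫ g = f := by
  rcases n with _ | n
  · -- degree zero
    have hprev : (ComplexShape.up ℕ).prev 0 = 0 := by simp
    constructor
    · intro h
      refine ⟨0, ?_⟩
      rw [Limits.comp_zero]
      -- f = 0
      simp only [← P.extEquivCohomologyClass.apply_eq_iff_eq,
        ProjectiveResolution.extEquivCohomologyClass_extMk,
        ProjectiveResolution.extEquivCohomologyClass_zero,
        CochainComplex.HomComplex.CohomologyClass.mk_eq_zero_iff] at h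
      rw [CochainComplex.HomComplex.Cocycle.toSingleMk_mem_coboundaries_iff _ _ _ _ _ 1
        (by simp)] at h
      obtain ⟨g, hg⟩ := h
      have hz : IsZero (P.cochainComplex.X 1) :=
        CochainComplex.isZero_of_isStrictlyLE P.cochainComplex 0 1 (by omega)
      rw [hz.eq_of_src g 0, Limits.comp_zero] at hg
      have := congrArg (fun t => (P.cochainComplexXIso (-(0 : ℕ)) 0 rfl).inv ≫ t) hg
      simpa using this
    · rintro ⟨g, rfl⟩
      have : P.complex.d 0 ((ComplexShape.up ℕ).prev 0) = 0 := by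
        rw [hprev]; exact P.complex.shape _ _ (by simp)
      rw [extMk_congr P (by rw [this, Limits.zero_comp]) _ _ _]
      exact P.extMk_zero _ _
  · have hprev : (ComplexShape.up ℕ).prev (n + 1) = n := by simp
    rw [P.extMk_eq_zero_iff f (n + 1 + 1) rfl hf n rfl]
    rw [hprev]

/-- The map from homology of `Hom(P, Y)` to `Ext`. -/
noncomputable def homologyToExt (n : ℕ) :
    (HomCx P Y).homology n ⟶ ModuleCat.of R (Ext X Y n) :=
  ((HomCx P Y).sc n).descHomology (ModuleCat.ofHom (cyclesToExt P n)) (by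
    ext g
    change cyclesToExt P n (((HomCx P Y).toCycles _ n).hom g) = 0
    rw [cyclesToExt_apply, extMk_eq_zero_iff']
    exact ⟨g, (iCycles_toCycles P _ n g).symm⟩)

lemma homologyToExt_π (n : ℕ) (c : (HomCx P Y).cycles n) :
    (homologyToExt P n).hom (((HomCx P Y).homologyπ n).hom c) = cyclesToExt P n c := by
  have h : (HomCx P Y).homologyπ n ≫ homologyToExt P n = ModuleCat.ofHom (cyclesToExt P n) :=
    ((HomCx P Y).sc n).π_descHomology _ _
  have := congrArg (fun f => f.hom c) h
  simpa using this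

lemma homologyToExt_bijective (n : ℕ) : Function.Bijective (homologyToExt (Y := Y) P n).hom := by
  constructor
  · rw [injective_iff_map_eq_zero]
    intro x hx
    obtain ⟨c, rfl⟩ := homologyπ_surjective P n x
    rw [homologyToExt_π, cyclesToExt_apply, extMk_eq_zero_iff'] at hx
    obtain ⟨g, hg⟩ := hx
    have : c = ((HomCx P Y).toCycles _ n).hom g := by
      apply iCycles_injective P n
      rw [iCycles_toCycles, hg]
    rw [this]
    have h := (HomCx P Y).toCycles_comp_homologyπ ((ComplexShape.up ℕ).prev n) n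
    rw [← ModuleCat.comp_apply, h]; rfl
  · intro α
    obtain ⟨f, hf, rfl⟩ := P.extMk_surjective α (n + 1) rfl
    obtain ⟨c, hc⟩ := exists_cycle P n f hf
    refine ⟨((HomCx P Y).homologyπ n).hom c, ?_⟩
    rw [homologyToExt_π, cyclesToExt_apply]
    exact extMk_congr P hc _ _ _

/-- The linear equivalence `H^n(Hom(P, Y)) ≃ Ext^n(X, Y)`. -/
noncomputable def homologyEquivExt (n : ℕ) : (HomCx P Y).homology n ≃ₗ[R] Ext X Y n :=
  LinearEquiv.ofBijective (homologyToExt P n).hom (homologyToExt_bijective P n)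

lemma homologyEquivExt_π (n : ℕ) (c : (HomCx P Y).cycles n) :
    homologyEquivExt P n (((HomCx P Y).homologyπ n).hom c) =
      P.extMk (((HomCx P Y).iCycles n).hom c) (n + 1) rfl (d_comp_iCycles P n c) :=
  homologyToExt_π P n c

end Groth.Agent.Lib.helper11.ExtBridge
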