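import Mathlib
import Groth.Agent.Lib.helper11.ExtBridgeA

/-!
# Bridge old `Ext` / `Abelian.Ext`, part B: naturality of `homologyEquivExt` (helper11)
-/

set_option autoImplicit false

namespace Groth.Agent.Lib.helper11.ExtBridge

open CategoryTheory Limits Abelian

universe u

variable {R : Type u} [CommRing R] {X X' Y Y' : ModuleCat.{u} R} (P : ProjectiveResolution X)

/-- Postcomposition `Hom(P, Y) ⟶ Hom(P, Y')`. -/
noncomputable def postMap (g : Y ⟶ Y') : HomCx P Y ⟶ HomCx P Y' where
  f i := ModuleCat.ofHom (Linear.rightComp R (P.complex.X i) g)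
  comm' i j _ := by
    ext f
    change P.complex.d j i ≫ (f ≫ g) = (P.complex.d j i ≫ f) ≫ g
    rw [Category.assoc]

lemma postMap_f_apply (g : Y ⟶ Y') (i : ℕ) (f : P.complex.X i ⟶ Y) :
    ((postMap P g).f i).hom f = f ≫ g := rfl

lemma iCycles_cyclesMap {K L : CochainComplex (ModuleCat.{u} R) ℕ} (φ : K ⟶ L) (n : ℕ)
    (c : K.cycles n) :
    (L.iCycles n).hom ((HomologicalComplex.cyclesMap φ n).hom c) =
      (φ.f n).hom ((K.iCycles n).hom c) := by
  have h := HomologicalComplex.cyclesMap_i φ n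
  rw [← ModuleCat.comp_apply, h]; rfl

lemma homologyMap_π {K L : CochainComplex (ModuleCat.{u} R) ℕ} (φ : K ⟶ L) (n : ℕ)
    (c : K.cycles n) :
    (HomologicalComplex.homologyMap φ n).hom ((K.homologyπ n).hom c) =
      (L.homologyπ n).hom ((HomologicalComplex.cyclesMap φ n).hom c) := by
  have h := HomologicalComplex.homologyπ_naturality φ n
  rw [← ModuleCat.comp_apply, h]; rfl

/-- Naturality in `Y`. -/
theorem homologyEquivExt_postMap (g : Y ⟶ Y') (n : ℕ) (x : (HomCx P Y).homology n) :
    homologyEquivExt P n ((HomologicalComplex.homologyMap (postMap P g) n).hom x) =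
      (homologyEquivExt P n x).comp (Ext.mk₀ g) (add_zero n) := by
  obtain ⟨c, rfl⟩ := homologyπ_surjective P n x
  rw [homologyMap_π, homologyEquivExt_π, homologyEquivExt_π, P.extMk_comp_mk₀]
  exact extMk_congr P (by rw [iCycles_cyclesMap]; rfl) _ _ _

variable {P} {P' : ProjectiveResolution X'} {f : X' ⟶ X}

/-- Precomposition `Hom(P, Y) ⟶ Hom(P', Y)` along a lift of `f : X' ⟶ X`. -/
noncomputable def preMap (φ : ProjectiveResolution.Hom P' P f) (Y : ModuleCat.{u} R) :
    HomCx P Y ⟶ HomCx P' Y where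
  f i := ModuleCat.ofHom (Linear.leftComp R Y (φ.hom.f i))
  comm' i j _ := by
    ext g
    change P'.complex.d j i ≫ (φ.hom.f i ≫ g) = φ.hom.f j ≫ (P.complex.d j i ≫ g)
    rw [← Category.assoc, ← Category.assoc, φ.hom.comm]

lemma preMap_f_apply (φ : ProjectiveResolution.Hom P' P f) (i : ℕ) (g : P.complex.X i ⟶ Y) :
    ((preMap φ Y).f i).hom g = φ.hom.f i ≫ g := rfl

/-- Naturality in `X`. -/
theorem homologyEquivExt_preMap (φ : ProjectiveResolution.Hom P' P f) (n : ℕ)
    (x : (HomCx P Y).homology n) :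
    homologyEquivExt P' n ((HomologicalComplex.homologyMap (preMap φ Y) n).hom x) =
      (Ext.mk₀ f).comp (homologyEquivExt P n x) (zero_add n) := by
  obtain ⟨c, rfl⟩ := homologyπ_surjective P n x
  rw [homologyMap_π, homologyEquivExt_π, homologyEquivExt_π, ProjectiveResolution.mk₀_comp_extMk _ _ _ _ φ]
  exact extMk_congr P' (by rw [iCycles_cyclesMap]; rfl) _ _ _

end Groth.Agent.Lib.helper11.ExtBridge
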