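import Mathlib
import Groth.Agent.Lib.helper11.ExtBridgeB

/-!
# Bridge old `Ext` / `Abelian.Ext`, part C: naturality of `ProjectiveResolution.isoExt` (helper11)
-/

set_option autoImplicit false

namespace Groth.Agent.Lib.helper11.ExtBridge

open CategoryTheory Limits Opposite

universe u v

section General

variable {ι : Type*} {V : Type u} [Category.{v} V] [Abelian V] {c : ComplexShape ι}

theorem homologyUnop_hom_naturality {K L : HomologicalComplex Vᵒᵖ c} (ψ : K ⟶ L) (i : ι) :
    HomologicalComplex.homologyMap ((HomologicalComplex.unopFunctor V c).map ψ.op) i ≫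
      (K.homologyUnop i).hom =
    (L.homologyUnop i).hom ≫ (HomologicalComplex.homologyMap ψ i).unop := by
  have h := HomologicalComplex.homologyOp_hom_naturality
    ((HomologicalComplex.unopFunctor V c).map ψ.op) i
  have h2 := congrArg Quiver.Hom.unop h
  exact h2.symm

theorem homologyUnop_inv_naturality {K L : HomologicalComplex Vᵒᵖ c} (ψ : K ⟶ L) (i : ι)
    (ψ' : L.unop ⟶ K.unop) (hψ' : ψ' = (HomologicalComplex.unopFunctor V c).map ψ.op) :
    (HomologicalComplex.homologyMap ψ i).unop ≫ (K.homologyUnop i).inv =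
      (L.homologyUnop i).inv ≫ HomologicalComplex.homologyMap ψ' i := by
  subst hψ'
  have h := homologyUnop_hom_naturality ψ i
  refine (Iso.comp_inv_eq _).mpr ?_
  rw [Category.assoc]
  exact (Iso.eq_inv_comp _).mpr h.symm

theorem unop_assembly {A B A' B' : Vᵒᵖ} (a : A ≅ B) (a' : A' ≅ B') (m : B' ⟶ B) {W W' : V}
    (u : unop B ⟶ W) (u' : unop B' ⟶ W') (k : W ⟶ W') (h : m.unop ≫ u' = u ≫ k) :
    (a'.hom ≫ m ≫ a.inv).unop ≫ (a'.inv.unop ≫ u') = (a.inv.unop ≫ u) ≫ k := by
  have e : a'.hom.unop ≫ a'.inv.unop = 𝟙 _ := by rw [← unop_comp, Iso.inv_hom_id]; rfl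
  rw [unop_comp, unop_comp, Category.assoc, Category.assoc, reassoc_of% e, Category.assoc, h]

end General

variable {R : Type u} [CommRing R] {X X' Y Y' : ModuleCat.{u} R} (P : ProjectiveResolution X)

/-- `Hom(-, Y)` as a functor to the opposite category. -/
noncomputable abbrev FY (Y : ModuleCat.{u} R) : ModuleCat.{u} R ⥤ (ModuleCat.{u} R)ᵒᵖ :=
  ((linearYoneda R (ModuleCat.{u} R)).obj Y).rightOp

/-- Naturality of `isoExt` in the second variable. -/
theorem isoExt_hom_naturality_right (g : Y ⟶ Y') (n : ℕ) :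
    ((Ext R (ModuleCat.{u} R) n).obj (op X)).map g ≫ (P.isoExt n Y').hom =
      (P.isoExt n Y).hom ≫ HomologicalComplex.homologyMap (postMap P g) n := by
  let α : FY Y' ⟶ FY Y := NatTrans.rightOp ((linearYoneda R (ModuleCat.{u} R)).map g)
  have h1 : ((Ext R (ModuleCat.{u} R) n).obj (op X)).map g =
      ((NatTrans.leftDerived α n).app X).unop := rfl
  have h2 : (P.isoExt n Y).hom = (P.isoLeftDerivedObj (FY Y) n).inv.unop ≫
      (HomologicalComplex.homologyUnop _ n).inv := rfl
  have h2' : (P.isoExt n Y').hom = (P.isoLeftDerivedObj (FY Y') n).inv.unop ≫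
      (HomologicalComplex.homologyUnop _ n).inv := rfl
  have h3 := ProjectiveResolution.leftDerived_app_eq α P n
  have h4 : postMap P g = (HomologicalComplex.unopFunctor _ _).map
      ((NatTrans.mapHomologicalComplex α (ComplexShape.down ℕ)).app P.complex).op := by
    ext i f
    rfl
  rw [h1, h2, h2', h3]
  exact unop_assembly _ _ _ _ _ _ (homologyUnop_inv_naturality _ n _ h4)

variable {P} {P' : ProjectiveResolution X'} {f : X' ⟶ X}

/-- Naturality of `isoExt` in the first variable. -/
theorem isoExt_hom_naturality_left (φ : ProjectiveResolution.Hom P' P f) (Y : ModuleCat.{u} R)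
    (n : ℕ) :
    ((Ext R (ModuleCat.{u} R) n).map f.op).app Y ≫ (P'.isoExt n Y).hom =
      (P.isoExt n Y).hom ≫ HomologicalComplex.homologyMap (preMap φ Y) n := by
  have h1 : ((Ext R (ModuleCat.{u} R) n).map f.op).app Y =
      (((FY Y).leftDerived n).map f).unop := rfl
  have h2 : (P.isoExt n Y).hom = (P.isoLeftDerivedObj (FY Y) n).inv.unop ≫
      (HomologicalComplex.homologyUnop _ n).inv := rfl
  have h2' : (P'.isoExt n Y).hom = (P'.isoLeftDerivedObj (FY Y) n).inv.unop ≫
      (HomologicalComplex.homologyUnop _ n).inv := rfl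
  have h3 := Functor.leftDerived_map_eq (FY Y) n f (P := P') (Q := P) φ.hom φ.hom_comp_π
  have h4 : preMap φ Y = (HomologicalComplex.unopFunctor _ _).map
      (((FY Y).mapHomologicalComplex (ComplexShape.down ℕ)).map φ.hom).op := by
    ext i g
    rfl
  rw [h1, h2, h2', h3]
  exact unop_assembly _ _ _ _ _ _ (homologyUnop_inv_naturality _ n _ h4)

end Groth.Agent.Lib.helper11.ExtBridge
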