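import Mathlib
import Groth.Agent.Lib.helper11.ExtBridgeC

/-!
# Bridge between the old `Ext` (left derived functor of `linearYoneda`) and `Abelian.Ext` (helper11)

`extBridge X Y n : ((Ext R (ModuleCat R) n).obj (op X)).obj Y ≃ₗ[R] Abelian.Ext X Y n`,
natural in both variables.
-/

set_option autoImplicit false

namespace Groth.Agent.Lib.helper11.ExtBridge

open CategoryTheory Limits Opposite

universe u

variable {R : Type u} [CommRing R] {X X' Y Y' : ModuleCat.{u} R}

/-- The bridge for a chosen resolution. -/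
noncomputable def bridge (P : ProjectiveResolution X) (Y : ModuleCat.{u} R) (n : ℕ) :
    ((Ext R (ModuleCat.{u} R) n).obj (op X)).obj Y ≃ₗ[R] Abelian.Ext X Y n :=
  (P.isoExt n Y).toLinearEquiv ≪≫ₗ homologyEquivExt P n

theorem bridge_map_right (P : ProjectiveResolution X) (g : Y ⟶ Y') (n : ℕ)
    (x : ((Ext R (ModuleCat.{u} R) n).obj (op X)).obj Y) :
    bridge P Y' n ((((Ext R (ModuleCat.{u} R) n).obj (op X)).map g).hom x) =
      (bridge P Y n x).comp (Abelian.Ext.mk₀ g) (add_zero n) := by
  have h := isoExt_hom_naturality_right P g n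
  have h2 : (P.isoExt n Y').hom.hom ((((Ext R (ModuleCat.{u} R) n).obj (op X)).map g).hom x) =
      (HomologicalComplex.homologyMap (postMap P g) n).hom ((P.isoExt n Y).hom.hom x) := by
    rw [← ModuleCat.comp_apply, h]; rfl
  change homologyEquivExt P n ((P.isoExt n Y').hom.hom _) = _
  rw [h2, homologyEquivExt_postMap]
  rfl

theorem bridge_map_left {P : ProjectiveResolution X} {P' : ProjectiveResolution X'} {f : X' ⟶ X}
    (φ : ProjectiveResolution.Hom P' P f) (Y : ModuleCat.{u} R) (n : ℕ)
    (x : ((Ext R (ModuleCat.{u} R) n).obj (op X)).obj Y) :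
    bridge P' Y n ((((Ext R (ModuleCat.{u} R) n).map f.op).app Y).hom x) =
      (Abelian.Ext.mk₀ f).comp (bridge P Y n x) (zero_add n) := by
  have h := isoExt_hom_naturality_left φ Y n
  have h2 : (P'.isoExt n Y).hom.hom ((((Ext R (ModuleCat.{u} R) n).map f.op).app Y).hom x) =
      (HomologicalComplex.homologyMap (preMap φ Y) n).hom ((P.isoExt n Y).hom.hom x) := by
    rw [← ModuleCat.comp_apply, h]; rfl
  change homologyEquivExt P' n ((P'.isoExt n Y).hom.hom _) = _
  rw [h2, homologyEquivExt_preMap]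
  rfl

/-- The canonical bridge. -/
noncomputable def extBridge (X Y : ModuleCat.{u} R) (n : ℕ) :
    ((Ext R (ModuleCat.{u} R) n).obj (op X)).obj Y ≃ₗ[R] Abelian.Ext X Y n :=
  bridge (projectiveResolution X) Y n

theorem extBridge_map_right (g : Y ⟶ Y') (n : ℕ)
    (x : ((Ext R (ModuleCat.{u} R) n).obj (op X)).obj Y) :
    extBridge X Y' n ((((Ext R (ModuleCat.{u} R) n).obj (op X)).map g).hom x) =
      (extBridge X Y n x).comp (Abelian.Ext.mk₀ g) (add_zero n) :=
  bridge_map_right _ g n x

theorem extBridge_map_left (f : X' ⟶ X) (Y : ModuleCat.{u} R) (n : ℕ)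
    (x : ((Ext R (ModuleCat.{u} R) n).obj (op X)).obj Y) :
    extBridge X' Y n ((((Ext R (ModuleCat.{u} R) n).map f.op).app Y).hom x) =
      (Abelian.Ext.mk₀ f).comp (extBridge X Y n x) (zero_add n) :=
  bridge_map_left (P := projectiveResolution X) (P' := projectiveResolution X')
    ⟨ProjectiveResolution.lift f _ _, by
      simpa using ProjectiveResolution.lift_commutes_zero f _ _⟩ Y n x

end Groth.Agent.Lib.helper11.ExtBridge
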