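import Mathlib
import Groth.Agent.Lib.helper11.ExtBridge

/-!
# Elementwise API for Mathlib's local cohomology (helper11)

`localCohomology J i` is a colimit (in the functor category) of the old `Ext^i(R/J^k, -)`.
Through `ExtBridge` we describe its elements by classes in `Abelian.Ext (R/J^k) M i`:

* `ιE J i k M : Abelian.Ext (Q J k) M i →ₗ[R] (localCohomology J i).obj M`
* `ιE_tr` : compatibility with the transition maps `R/J^l → R/J^k`
* `exists_rep` : every element is some `ιE k y`
* `ιE_eq_zero_iff` : `ιE k y = 0` iff `y` dies in some `Ext (R/J^l) M i`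
* `map_ιE` : functoriality in `M`
-/

set_option autoImplicit false

namespace Groth.Agent.Lib.helper11.LCKit

open CategoryTheory Limits Opposite localCohomology Groth.Agent.Lib.helper11.ExtBridge

universe u

variable {R : Type u} [CommRing R]

noncomputable instance : PreservesFilteredColimitsOfSize.{0, 0} (forget (ModuleCat.{u} R)) :=
  preservesFilteredColimitsOfSize_shrink.{0, u, 0, u} _

variable (J : Ideal R) (i : ℕ)

/-- The diagram defining local cohomology. -/
noncomputable abbrev Dg : ℕᵒᵖᵒᵖ ⥤ ModuleCat.{u} R ⥤ ModuleCat.{u} R :=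
  diagram (idealPowersDiagram J) i

/-- `R/J^k` as an object of `ModuleCat R`. -/
abbrev Q (k : ℕ) : ModuleCat.{u} R := ModuleCat.of R (R ⧸ J ^ k)

/-- The transition map `R/J^l → R/J^k` for `k ≤ l`. -/
noncomputable def tr {k l : ℕ} (h : k ≤ l) : Q J l ⟶ Q J k :=
  ModuleCat.ofHom (Submodule.mapQ _ _ LinearMap.id (Ideal.pow_le_pow_right h))

/-- The morphism `op (op k) ⟶ op (op l)` of `ℕᵒᵖᵒᵖ`. -/
def homOp {k l : ℕ} (h : k ≤ l) : (op (op k) : ℕᵒᵖᵒᵖ) ⟶ op (op l) := (homOfLE h).op.op

lemma Dg_map {k l : ℕ} (h : k ≤ l) :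
    (Dg J i).map (homOp h) = (Ext R (ModuleCat.{u} R) i).map (tr J h).op := rfl

variable (M : ModuleCat.{u} R)

/-- The evaluated colimit cocone. -/
noncomputable def evalCocone : Cocone (Dg J i ⋙ (evaluation _ _).obj M) :=
  ((evaluation (ModuleCat.{u} R) (ModuleCat.{u} R)).obj M).mapCocone (colimit.cocone (Dg J i))

noncomputable def evalCoconeIsColimit : IsColimit (evalCocone J i M) :=
  isColimitOfPreserves _ (colimit.isColimit (Dg J i))

/-- The canonical map from `Abelian.Ext (R/J^k) M i` to local cohomology. -/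
noncomputable def ιE (k : ℕ) : Abelian.Ext (Q J k) M i →ₗ[R] (localCohomology J i).obj M :=
  ((colimit.ι (Dg J i) (op (op k))).app M).hom ∘ₗ (extBridge (Q J k) M i).symm.toLinearMap

lemma ιE_apply (k : ℕ) (y : Abelian.Ext (Q J k) M i) :
    ιE J i M k y = ((colimit.ι (Dg J i) (op (op k))).app M).hom ((extBridge (Q J k) M i).symm y) :=
  rfl

theorem ιE_tr {k l : ℕ} (h : k ≤ l) (y : Abelian.Ext (Q J k) M i) :
    ιE J i M l ((Abelian.Ext.mk₀ (tr J h)).comp y (zero_add i)) = ιE J i M k y := by
  have hw := colimit.w (Dg J i) (homOp h)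
  have hw' : ((Dg J i).map (homOp h)).app M ≫ (colimit.ι (Dg J i) (op (op l))).app M =
      (colimit.ι (Dg J i) (op (op k))).app M := by
    rw [← NatTrans.comp_app, hw]
  rw [ιE_apply, ιE_apply, ← hw']
  set y' := (extBridge (Q J k) M i).symm y with hy'
  have h1 := extBridge_map_left (tr J h) M i y'
  rw [hy', LinearEquiv.apply_symm_apply] at h1
  rw [← h1, LinearEquiv.symm_apply_apply]
  rfl

theorem exists_rep (x : (localCohomology J i).obj M) :
    ∃ (k : ℕ) (y : Abelian.Ext (Q J k) M i), ιE J i M k y = x := by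
  obtain ⟨j, y, hy⟩ := Concrete.isColimit_exists_rep _ (evalCoconeIsColimit J i M) x
  refine ⟨j.unop.unop, extBridge (Q J j.unop.unop) M i y, ?_⟩
  rw [ιE_apply, LinearEquiv.symm_apply_apply]
  exact hy

theorem ιE_eq_zero_iff {k : ℕ} (y : Abelian.Ext (Q J k) M i) :
    ιE J i M k y = 0 ↔
      ∃ (l : ℕ) (h : k ≤ l), (Abelian.Ext.mk₀ (tr J h)).comp y (zero_add i) = 0 := by
  constructor
  · intro hy
    rw [ιE_apply] at hy
    set y' := (extBridge (Q J k) M i).symm y with hy'
    have h0 : ((colimit.ι (Dg J i) (op (op k))).app M).hom (0 : ((Dg J i).obj (op (op k))).obj M)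
        = 0 := map_zero _
    have := Concrete.isColimit_exists_of_rep_eq (Dg J i ⋙ (evaluation _ _).obj M)
      (evalCoconeIsColimit J i M) (i := op (op k)) (j := op (op k)) y' 0 (hy.trans h0.symm)
    obtain ⟨j, f, g, hfg⟩ := this
    have hkl : k ≤ j.unop.unop := leOfHom f.unop.unop
    refine ⟨j.unop.unop, hkl, ?_⟩
    have hf : f = homOp hkl := Subsingleton.elim _ _
    have hz : (ConcreteCategory.hom ((Dg J i ⋙ (evaluation _ _).obj M).map g))
        (0 : ((Dg J i).obj (op (op k))).obj M) = 0 := map_zero _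
    rw [hz, hf] at hfg
    have h1 := extBridge_map_left (tr J hkl) M i y'
    rw [hy', LinearEquiv.apply_symm_apply] at h1
    rw [← h1]
    have : (((Ext R (ModuleCat.{u} R) i).map (tr J hkl).op).app M).hom y' = 0 := hfg
    rw [this, map_zero]
  · rintro ⟨l, h, hl⟩
    rw [← ιE_tr J i M h y, hl, map_zero]

variable {M} {N : ModuleCat.{u} R}

theorem map_ιE (g : M ⟶ N) {k : ℕ} (y : Abelian.Ext (Q J k) M i) :
    ((localCohomology J i).map g).hom (ιE J i M k y) =
      ιE J i N k (y.comp (Abelian.Ext.mk₀ g) (add_zero i)) := by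
  have hn := (colimit.ι (Dg J i) (op (op k))).naturality g
  rw [ιE_apply, ιE_apply]
  set y' := (extBridge (Q J k) M i).symm y with hy'
  have h1 := extBridge_map_right (X := Q J k) g i y'
  rw [hy', LinearEquiv.apply_symm_apply] at h1
  rw [← h1, LinearEquiv.symm_apply_apply]
  have : ((colimit.ι (Dg J i) (op (op k))).app N).hom
      ((((Dg J i).obj (op (op k))).map g).hom y') =
      ((colimit (Dg J i)).map g).hom (((colimit.ι (Dg J i) (op (op k))).app M).hom y') := by
    rw [← ModuleCat.comp_apply, ← ModuleCat.comp_apply, hn]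
  exact this.symm

end Groth.Agent.Lib.helper11.LCKit
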