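import Mathlib
import Groth.Agent.Lib.helper11.LCKit
import Groth.Agent.Lib.helper11.ExtRegular
import Groth.Prelude.Def_Wider

/-!
# Local cohomology: additivity, vanishing below depth, long exact sequence (helper11)
-/

set_option autoImplicit false

namespace Groth.Agent.Lib.helper11.LCKit

open CategoryTheory Limits Opposite localCohomology Abelian

universe u

variable {R : Type u} [CommRing R] (J : Ideal R) (i : ℕ)

section Additive

variable {M N : ModuleCat.{u} R}

theorem map_add' (f g : M ⟶ N) :
    (localCohomology J i).map (f + g) = (localCohomology J i).map f + (localCohomology J i).map g := by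
  ext x
  obtain ⟨k, y, rfl⟩ := exists_rep J i M x
  rw [ModuleCat.hom_add, LinearMap.add_apply, map_ιE, map_ιE, map_ιE, Ext.mk₀_add, Ext.comp_add,
    map_add]

instance : (localCohomology J i).Additive where
  map_add {_ _ f g} := map_add' J i f g

theorem map_smul' (r : R) (f : M ⟶ N) :
    (localCohomology J i).map (r • f) = r • (localCohomology J i).map f := by
  ext x
  obtain ⟨k, y, rfl⟩ := exists_rep J i M x
  rw [ModuleCat.hom_smul, LinearMap.smul_apply, map_ιE, map_ιE, Ext.mk₀_smul, Ext.comp_smul,
    map_smul]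

instance : (localCohomology J i).Linear R where
  map_smul {_ _} f r := map_smul' J i r f

/-- `r • x = H(r • 𝟙)(x)`. -/
theorem smul_eq_map (r : R) (x : (localCohomology J i).obj M) :
    r • x = ((localCohomology J i).map (r • 𝟙 M)).hom x := by
  rw [map_smul', ModuleCat.hom_smul, LinearMap.smul_apply, CategoryTheory.Functor.map_id]
  rfl

end Additive

section Vanishing

variable (M : ModuleCat.{u} R)

theorem subsingleton_of_forall_ext (h : ∀ k, Subsingleton (Ext (Q J k) M i)) :
    Subsingleton ((localCohomology J i).obj M) := by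
  refine ⟨fun x y => ?_⟩
  obtain ⟨k, a, rfl⟩ := exists_rep J i M x
  obtain ⟨l, b, rfl⟩ := exists_rep J i M y
  rw [(h k).elim a 0, (h l).elim b 0, map_zero, map_zero]

theorem pow_smul_top_Q (k : ℕ) : (J ^ k) • (⊤ : Submodule R (R ⧸ J ^ k)) = ⊥ := by
  rw [eq_bot_iff]
  intro x hx
  refine Submodule.smul_induction_on hx ?_ ?_
  · intro r hr n _
    obtain ⟨a, rfl⟩ := Ideal.Quotient.mk_surjective n
    change r • (Ideal.Quotient.mk (J ^ k) a) ∈ _
    rw [Submodule.mem_bot]
    have : r • (Ideal.Quotient.mk (J ^ k) a) = Ideal.Quotient.mk (J ^ k) (r * a) := rfl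
    rw [this, Ideal.Quotient.eq_zero_iff_mem]
    exact Ideal.mul_mem_right _ _ hr
  · intro a b ha hb
    exact Submodule.add_mem _ ha hb

/-- Local cohomology vanishes below the length of a weakly regular sequence in `J`. -/
theorem subsingleton_of_isWeaklyRegular (X : Type u) [AddCommGroup X] [Module R X] (rs : List R)
    (hreg : RingTheory.Sequence.IsWeaklyRegular X rs) (hmem : ∀ r ∈ rs, r ∈ J)
    (hi : i < rs.length) : Subsingleton (LocCoh.H J i X) := by
  apply subsingleton_of_forall_ext
  intro k
  refine ⟨fun a b => ?_⟩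
  have h := Groth.Agent.Lib.helper11.ExtRegular.ext_eq_zero_of_regular R (R ⧸ J ^ k) J k
    (pow_smul_top_Q J k) rs X hreg hmem i hi
  rw [h a, h b]

/-- Local cohomology vanishes below the `J`-depth (when `JX ≠ X`). -/
theorem subsingleton_of_lt_idealDepth (X : Type u) [AddCommGroup X] [Module R X]
    (hJX : J • (⊤ : Submodule R X) ≠ ⊤) (hi : (i : ℕ∞) < LocCoh.idealDepth J X) :
    Subsingleton (LocCoh.H J i X) := by
  rw [LocCoh.idealDepth, if_neg hJX] at hi
  obtain ⟨rs, hrs⟩ := lt_iSup_iff.mp hi
  obtain ⟨⟨hreg, hmem⟩, hlt⟩ := lt_iSup_iff.mp hrs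
  exact subsingleton_of_isWeaklyRegular J i X rs hreg hmem (by exact_mod_cast hlt)

end Vanishing

end Groth.Agent.Lib.helper11.LCKit
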