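import Mathlib
import Groth.Agent.Lib.helper11.LCKit2

/-!
# `H^0_J(M) = Γ_J(M)` (helper11)

* `ev J M : (localCohomology J 0).obj M →ₗ[R] M` with `ev_ιE`, `ev_injective`, `mem_range_ev_iff`
* `ev_natural`
-/

set_option autoImplicit false

namespace Groth.Agent.Lib.helper11.LCKit

open CategoryTheory Limits Opposite localCohomology Abelian Groth.Agent.Lib.helper11.ExtBridge

universe u

variable {R : Type u} [CommRing R] (J : Ideal R) (M : ModuleCat.{u} R)

/-- evaluation of a degree-0 Ext class at `1 ∈ R/J^k`. -/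
noncomputable def ev1 (k : ℕ) : Abelian.Ext (Q J k) M 0 →ₗ[R] M where
  toFun y := (Ext.linearEquiv₀ (R := R) y).hom (1 : R ⧸ J ^ k)
  map_add' x y := by
    rw [map_add]; rfl
  map_smul' r x := by
    rw [map_smul]; rfl

lemma ev1_mk₀ (k : ℕ) (g : Q J k ⟶ M) : ev1 J M k (Ext.mk₀ g) = g.hom (1 : R ⧸ J ^ k) := by
  have : Ext.linearEquiv₀ (R := R) (Ext.mk₀ g) = g :=
    (Ext.linearEquiv₀ (R := R)).apply_symm_apply g
  show (Ext.linearEquiv₀ (R := R) (Ext.mk₀ g)).hom (1 : R ⧸ J ^ k) = _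
  rw [this]

lemma ev1_tr {k l : ℕ} (h : k ≤ l) (y : Abelian.Ext (Q J k) M 0) :
    ev1 J M l ((Ext.mk₀ (tr J h)).comp y (zero_add 0)) = ev1 J M k y := by
  obtain ⟨g, rfl⟩ := (Ext.linearEquiv₀ (R := R)).symm.surjective y
  show ev1 J M l ((Ext.mk₀ (tr J h)).comp (Ext.mk₀ g) (zero_add 0)) = ev1 J M k (Ext.mk₀ g)
  rw [Ext.mk₀_comp_mk₀, ev1_mk₀, ev1_mk₀]
  rfl

/-- the cocone with point `M`. -/
noncomputable def gamCocone : Cocone (Dg J 0 ⋙ (evaluation _ _).obj M) where
  pt := M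
  ι :=
    { app := fun j => ModuleCat.ofHom
        ((ev1 J M j.unop.unop) ∘ₗ (extBridge (Q J j.unop.unop) M 0).toLinearMap)
      naturality := by
        intro j j' f
        have hkl : j.unop.unop ≤ j'.unop.unop := leOfHom f.unop.unop
        have hf : f = homOp hkl := Subsingleton.elim _ _
        subst hf
        ext y
        have h1 := extBridge_map_left (tr J hkl) M 0 y
        have h2 := ev1_tr J M hkl (extBridge (Q J j.unop.unop) M 0 y)
        rw [← h1] at h2
        exact h2 }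

/-- The comparison `H^0_J(M) → M`. -/
noncomputable def ev : (localCohomology J 0).obj M →ₗ[R] M :=
  ((evalCoconeIsColimit J 0 M).desc (gamCocone J M)).hom

theorem ev_ιE (k : ℕ) (y : Abelian.Ext (Q J k) M 0) : ev J M (ιE J 0 M k y) = ev1 J M k y := by
  have h := (evalCoconeIsColimit J 0 M).fac (gamCocone J M) (op (op k))
  have h2 := congrArg (fun φ => φ.hom ((extBridge (Q J k) M 0).symm y)) h
  simp only [ModuleCat.hom_comp, LinearMap.comp_apply] at h2
  rw [ιE_apply]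
  refine h2.trans ?_
  show ev1 J M k ((extBridge (Q J k) M 0) ((extBridge (Q J k) M 0).symm y)) = _
  rw [LinearEquiv.apply_symm_apply]

theorem ev1_injective (k : ℕ) : Function.Injective (ev1 J M k) := by
  rw [← LinearMap.ker_eq_bot, LinearMap.ker_eq_bot']
  intro y hy
  obtain ⟨g, rfl⟩ := (Ext.linearEquiv₀ (R := R)).symm.surjective y
  change ev1 J M k (Ext.mk₀ g) = 0 at hy
  rw [ev1_mk₀] at hy
  have : g = 0 := by
    apply ModuleCat.hom_ext
    apply LinearMap.ext
    intro x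
    obtain ⟨r, rfl⟩ := Ideal.Quotient.mk_surjective x
    have : (Ideal.Quotient.mk (J ^ k) r : R ⧸ J ^ k) = r • (1 : R ⧸ J ^ k) := by
      rw [Algebra.smul_def, mul_one]; rfl
    rw [this, map_smul, hy, smul_zero]
    rfl
  rw [this]
  exact map_zero _

theorem ev_injective : Function.Injective (ev J M) := by
  rw [← LinearMap.ker_eq_bot, LinearMap.ker_eq_bot']
  intro x hx
  obtain ⟨k, y, rfl⟩ := exists_rep J 0 M x
  rw [ev_ιE] at hx
  have : y = 0 := ev1_injective J M k (hx.trans (map_zero _).symm)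
  rw [this, map_zero]

theorem mem_range_ev_iff (m : M) :
    m ∈ LinearMap.range (ev J M) ↔ ∃ n : ℕ, ∀ a ∈ J ^ n, a • m = 0 := by
  constructor
  · rintro ⟨x, rfl⟩
    obtain ⟨k, y, rfl⟩ := exists_rep J 0 M x
    refine ⟨k, fun a ha => ?_⟩
    rw [ev_ιE]
    obtain ⟨g, rfl⟩ := (Ext.linearEquiv₀ (R := R)).symm.surjective y
    change a • ev1 J M k (Ext.mk₀ g) = 0
    rw [ev1_mk₀, ← map_smul]
    have : a • (1 : R ⧸ J ^ k) = 0 := by
      rw [Algebra.smul_def, mul_one]
      exact (Ideal.Quotient.eq_zero_iff_mem).2 ha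
    rw [this, map_zero]
  · rintro ⟨n, hn⟩
    let g : Q J n ⟶ M := ModuleCat.ofHom
      (Submodule.liftQ (J ^ n) (LinearMap.toSpanSingleton R M m) (by
        intro a ha
        rw [LinearMap.mem_ker, LinearMap.toSpanSingleton_apply]
        exact hn a ha))
    refine ⟨ιE J 0 M n (Ext.mk₀ g), ?_⟩
    rw [ev_ιE, ev1_mk₀]
    show (Submodule.liftQ (J ^ n) (LinearMap.toSpanSingleton R M m) _) (Submodule.Quotient.mk 1) = m
    rw [Submodule.liftQ_apply, LinearMap.toSpanSingleton_apply, one_smul]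

variable {M} {N : ModuleCat.{u} R}

theorem ev_natural (g : M ⟶ N) (x : (localCohomology J 0).obj M) :
    ev J N (((localCohomology J 0).map g).hom x) = g.hom (ev J M x) := by
  obtain ⟨k, y, rfl⟩ := exists_rep J 0 M x
  rw [map_ιE, ev_ιE, ev_ιE]
  obtain ⟨f, rfl⟩ := (Ext.linearEquiv₀ (R := R)).symm.surjective y
  change ev1 J N k ((Ext.mk₀ f).comp (Ext.mk₀ g) (add_zero 0)) = g.hom (ev1 J M k (Ext.mk₀ f))
  rw [Ext.mk₀_comp_mk₀, ev1_mk₀, ev1_mk₀]
  rfl

end Groth.Agent.Lib.helper11.LCKit
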