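import Mathlib
import Groth.Agent.Lib.helper11.LCKit2

/-!
# Local cohomology: the long exact sequence (helper11)
-/

set_option autoImplicit false

namespace Groth.Agent.Lib.helper11.LCKit

open CategoryTheory Limits Opposite localCohomology Abelian
open Groth.Agent.Lib.helper11.ExtBridge

universe u

variable {R : Type u} [CommRing R] (J : Ideal R) (i : ℕ)

variable {S : ShortComplex (ModuleCat.{u} R)} (hS : S.ShortExact)

/-- Postcomposition with an `Ext` class as a linear map. -/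
noncomputable def postcompLin {X Y Z : ModuleCat.{u} R} {a b c : ℕ} (β : Ext Y Z b)
    (h : a + b = c) : Ext X Y a →ₗ[R] Ext X Z c where
  toFun α := α.comp β h
  map_add' α₁ α₂ := Ext.add_comp α₁ α₂ β h
  map_smul' r α := Ext.smul_comp α β h r

/-- The legs of the cocone defining `δ`. -/
noncomputable def δLeg (j : ℕᵒᵖᵒᵖ) :
    ((Dg J i).obj j).obj S.X₃ ⟶ (localCohomology J (i + 1)).obj S.X₁ :=
  ModuleCat.ofHom (ιE J (i + 1) S.X₁ j.unop.unop ∘ₗ postcompLin hS.extClass rfl ∘ₗ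
    (extBridge (Q J j.unop.unop) S.X₃ i).toLinearMap)

/-- The cocone defining `δ`. -/
noncomputable def δCocone : Cocone (Dg J i ⋙ (evaluation _ _).obj S.X₃) where
  pt := (localCohomology J (i + 1)).obj S.X₁
  ι :=
    { app := fun j => δLeg J i hS j
      naturality := by
        intro j j' f
        have hkl : j.unop.unop ≤ j'.unop.unop := leOfHom f.unop.unop
        have hf : f = homOp hkl := Subsingleton.elim _ _
        subst hf
        ext y
        change ιE J (i + 1) S.X₁ j'.unop.unop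
          ((extBridge (Q J j'.unop.unop) S.X₃ i
            ((((Ext R (ModuleCat.{u} R) i).map (tr J hkl).op).app S.X₃).hom y)).comp
              hS.extClass rfl) =
          ιE J (i + 1) S.X₁ j.unop.unop ((extBridge (Q J j.unop.unop) S.X₃ i y).comp
            hS.extClass rfl)
        rw [extBridge_map_left, ← ιE_tr J (i + 1) S.X₁ hkl]
        congr 1
        exact Ext.comp_assoc _ _ _ _ _ (by omega) }

/-- The connecting homomorphism `H^i_J(X₃) → H^{i+1}_J(X₁)`. -/
noncomputable def δ : (localCohomology J i).obj S.X₃ ⟶ (localCohomology J (i + 1)).obj S.X₁ :=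
  (evalCoconeIsColimit J i S.X₃).desc (δCocone J i hS)

theorem δ_ιE {k : ℕ} (y : Ext (Q J k) S.X₃ i) :
    (δ J i hS).hom (ιE J i S.X₃ k y) = ιE J (i + 1) S.X₁ k (y.comp hS.extClass rfl) := by
  have h := (evalCoconeIsColimit J i S.X₃).fac (δCocone J i hS) (op (op k))
  rw [ιE_apply]
  have h2 : (δ J i hS).hom (((colimit.ι (Dg J i) (op (op k))).app S.X₃).hom
      ((extBridge (Q J k) S.X₃ i).symm y)) =
      ((δCocone J i hS).ι.app (op (op k))).hom ((extBridge (Q J k) S.X₃ i).symm y) := by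
    rw [← h]; rfl
  rw [h2]
  change ιE J (i + 1) S.X₁ k ((extBridge (Q J k) S.X₃ i
    ((extBridge (Q J k) S.X₃ i).symm y)).comp hS.extClass rfl) = _
  rw [LinearEquiv.apply_symm_apply]

include hS in
/-- Exactness at `H^i(X₂)`. -/
theorem exact₂ (x₂ : (localCohomology J i).obj S.X₂)
    (h : ((localCohomology J i).map S.g).hom x₂ = 0) :
    ∃ x₁ : (localCohomology J i).obj S.X₁, ((localCohomology J i).map S.f).hom x₁ = x₂ := by
  obtain ⟨k, y, rfl⟩ := exists_rep J i S.X₂ x₂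
  rw [map_ιE, ιE_eq_zero_iff] at h
  obtain ⟨l, hkl, hl⟩ := h
  rw [← Ext.comp_assoc_of_third_deg_zero] at hl
  obtain ⟨y₁, hy₁⟩ := Ext.covariant_sequence_exact₂ (Q J l) hS _ hl
  refine ⟨ιE J i S.X₁ l y₁, ?_⟩
  rw [map_ιE, hy₁, ιE_tr]

/-- Exactness at `H^i(X₃)`. -/
theorem exact₃ (x₃ : (localCohomology J i).obj S.X₃) (h : (δ J i hS).hom x₃ = 0) :
    ∃ x₂ : (localCohomology J i).obj S.X₂, ((localCohomology J i).map S.g).hom x₂ = x₃ := by
  obtain ⟨k, y, rfl⟩ := exists_rep J i S.X₃ x₃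
  rw [δ_ιE, ιE_eq_zero_iff] at h
  obtain ⟨l, hkl, hl⟩ := h
  rw [← Ext.comp_assoc _ _ _ (zero_add i) rfl (by omega)] at hl
  obtain ⟨y₂, hy₂⟩ := Ext.covariant_sequence_exact₃ (Q J l) hS _ rfl hl
  refine ⟨ιE J i S.X₂ l y₂, ?_⟩
  rw [map_ιE, hy₂, ιE_tr]

/-- Exactness at `H^{i+1}(X₁)`. -/
theorem exact₁ (x₁ : (localCohomology J (i + 1)).obj S.X₁)
    (h : ((localCohomology J (i + 1)).map S.f).hom x₁ = 0) :
    ∃ x₃ : (localCohomology J i).obj S.X₃, (δ J i hS).hom x₃ = x₁ := by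
  obtain ⟨k, y, rfl⟩ := exists_rep J (i + 1) S.X₁ x₁
  rw [map_ιE, ιE_eq_zero_iff] at h
  obtain ⟨l, hkl, hl⟩ := h
  rw [← Ext.comp_assoc_of_third_deg_zero] at hl
  obtain ⟨y₃, hy₃⟩ := Ext.covariant_sequence_exact₁ (Q J l) hS _ hl rfl
  refine ⟨ιE J i S.X₃ l y₃, ?_⟩
  rw [δ_ιE, hy₃, ιE_tr]

include hS in
/-- `H^0(f)` is injective. -/
theorem map_f_injective_zero :
    Function.Injective ((localCohomology J 0).map S.f).hom := by
  rw [injective_iff_map_eq_zero]
  intro x hx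
  obtain ⟨k, y, rfl⟩ := exists_rep J 0 S.X₁ x
  rw [map_ιE, ιE_eq_zero_iff] at hx
  obtain ⟨l, hkl, hl⟩ := hx
  rw [← Ext.comp_assoc_of_third_deg_zero] at hl
  haveI : Mono S.f := hS.mono_f
  have := Ext.postcomp_mk₀_injective_of_mono (Q J l) S.f
  have h0 : (Ext.mk₀ (tr J hkl)).comp y (zero_add 0) = 0 := by
    apply this
    rw [map_zero]
    exact hl
  rw [← ιE_tr J 0 S.X₁ hkl, h0, map_zero]

end Groth.Agent.Lib.helper11.LCKit
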