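import Mathlib
import Groth.Agent.Lib.helper11.LCKit3
import Groth.Agent.Lib.helper11.LCGamma
import Groth.Agent.S0301

/-!
# Local cohomology of power-torsion modules (helper11)

* `δ_map_g`, `map_f_δ` : the compositions in the long exact sequence vanish
* `subsingleton_of_injective` : `H^i_J(E) = 0` for `E` injective, `i > 0`
* `IsTors J M` : every element killed by a power of `J`
* `evEquivOfTors` : `H^0_J(N) ≃ N` for torsion `N`
* `exists_torsion_injective_ses`, `subsingleton_of_isTors` (noetherian): `H^i_J(N) = 0`, `i > 0`.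
-/

set_option autoImplicit false

namespace Groth.Agent.Lib.helper11.LCKit

open CategoryTheory Limits Opposite localCohomology Abelian Groth.Agent.Lib.helper11.ExtBridge

universe u

variable {R : Type u} [CommRing R] (J : Ideal R) (i : ℕ)

section LES

variable {S : ShortComplex (ModuleCat.{u} R)} (hS : S.ShortExact)

theorem δ_map_g (x₂ : (localCohomology J i).obj S.X₂) :
    (δ J i hS).hom (((localCohomology J i).map S.g).hom x₂) = 0 := by
  obtain ⟨k, y, rfl⟩ := exists_rep J i S.X₂ x₂
  rw [map_ιE, δ_ιE, Ext.comp_assoc_of_second_deg_zero, hS.comp_extClass, Ext.comp_zero, map_zero]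

theorem map_f_δ (x₃ : (localCohomology J i).obj S.X₃) :
    ((localCohomology J (i + 1)).map S.f).hom ((δ J i hS).hom x₃) = 0 := by
  obtain ⟨k, y, rfl⟩ := exists_rep J i S.X₃ x₃
  rw [δ_ιE, map_ιE, Ext.comp_assoc_of_third_deg_zero, hS.extClass_comp, Ext.comp_zero, map_zero]

include hS in
theorem map_g_map_f (x₁ : (localCohomology J i).obj S.X₁) :
    ((localCohomology J i).map S.g).hom (((localCohomology J i).map S.f).hom x₁) = 0 := by
  rw [← ModuleCat.comp_apply, ← Functor.map_comp, S.zero, Functor.map_zero]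
  rfl

end LES

theorem subsingleton_of_injective (E : ModuleCat.{u} R) [Injective E] (hi : 0 < i) :
    Subsingleton ((localCohomology J i).obj E) := by
  apply subsingleton_of_forall_ext
  intro k
  obtain ⟨j, rfl⟩ : ∃ j, i = j + 1 := ⟨i - 1, by omega⟩
  exact subsingleton_of_forall_eq 0 (fun e => Ext.eq_zero_of_injective e)

/-- `J`-power torsion. -/
def IsTors (M : Type*) [AddCommGroup M] [Module R M] : Prop :=
  ∀ m : M, ∃ n : ℕ, ∀ a ∈ J ^ n, a • m = 0

theorem ev_surjective_of_isTors (N : ModuleCat.{u} R) (hN : IsTors J N) :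
    Function.Surjective (ev J N) := by
  intro m
  have := (mem_range_ev_iff J N m).2 (hN m)
  exact this

/-- `H^0_J(N) ≃ N` for a `J`-power torsion module. -/
noncomputable def evEquivOfTors (N : ModuleCat.{u} R) (hN : IsTors J N) :
    (localCohomology J 0).obj N ≃ₗ[R] N :=
  LinearEquiv.ofBijective (ev J N) ⟨ev_injective J N, ev_surjective_of_isTors J N hN⟩

theorem isTors_of_surjective {M N : Type*} [AddCommGroup M] [Module R M] [AddCommGroup N]
    [Module R N] (f : M →ₗ[R] N) (hf : Function.Surjective f) (hM : IsTors J M) : IsTors J N := by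
  intro n
  obtain ⟨m, rfl⟩ := hf n
  obtain ⟨k, hk⟩ := hM m
  exact ⟨k, fun a ha => by rw [← map_smul, hk a ha, map_zero]⟩

theorem isTors_of_injective {M N : Type*} [AddCommGroup M] [Module R M] [AddCommGroup N]
    [Module R N] (f : M →ₗ[R] N) (hf : Function.Injective f) (hN : IsTors J N) : IsTors J M := by
  intro m
  obtain ⟨k, hk⟩ := hN (f m)
  exact ⟨k, fun a ha => hf (by rw [map_smul, hk a ha, map_zero])⟩

variable [IsNoetherianRing R]

/-- A torsion module embeds in a torsion injective module with torsion cokernel. -/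
theorem exists_torsion_injective_ses (N : ModuleCat.{u} R) (hN : IsTors J N) :
    ∃ (X₂ X₃ : ModuleCat.{u} R) (f : N ⟶ X₂) (g : X₂ ⟶ X₃) (w : f ≫ g = 0),
      (ShortComplex.mk f g w).ShortExact ∧ Injective X₂ ∧ IsTors J X₂ ∧ IsTors J X₃ := by
  let E0 : ModuleCat.{u} R := Injective.under N
  let ι0 : N ⟶ E0 := Injective.ι N
  haveI : Mono ι0 := Injective.ι_mono N
  have hι0 : Function.Injective ι0.hom := (ModuleCat.mono_iff_injective ι0).1 inferInstance
  haveI hE0inj : Injective (ModuleCat.of R E0) := (inferInstance : Injective (Injective.under N))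
  haveI hE0 : Module.Injective R E0 := Module.injective_module_of_injective_object R E0
  let T : Submodule R E0 := ⨆ n : ℕ, Submodule.torsionBySet R E0 ((J ^ n : Ideal R) : Set R)
  have hTinj : Module.Injective R T := Groth.Agent.S0301.result R E0 hE0 J
  have hTtors : IsTors J T := by
    intro t
    obtain ⟨n, hn⟩ := (Groth.Agent.S0301.mem_iSup_torsionBySet_pow J t.1).1 t.2
    exact ⟨n, fun a ha => Subtype.ext (hn a ha)⟩
  have hmem : ∀ x : N, ι0.hom x ∈ T := by
    intro x
    rw [Groth.Agent.S0301.mem_iSup_torsionBySet_pow]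
    obtain ⟨n, hn⟩ := hN x
    exact ⟨n, fun a ha => by rw [← map_smul, hn a ha, map_zero]⟩
  let f' : N →ₗ[R] T := LinearMap.codRestrict T ι0.hom hmem
  have hf' : Function.Injective f' := fun x y h => hι0 (congrArg Subtype.val h)
  let C := T ⧸ LinearMap.range f'
  let g' : T →ₗ[R] C := (LinearMap.range f').mkQ
  have hg' : Function.Surjective g' := Submodule.mkQ_surjective _
  refine ⟨ModuleCat.of R T, ModuleCat.of R C, ModuleCat.ofHom f', ModuleCat.ofHom g', ?_, ?_,
    Module.injective_object_of_injective_module R T, hTtors,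
    isTors_of_surjective J g' hg' hTtors⟩
  · ext x
    show g' (f' x) = 0
    exact (Submodule.Quotient.mk_eq_zero _).2 ⟨x, rfl⟩
  · apply ModuleCat.shortComplex_shortExact
    · intro t
      show g' t = 0 ↔ t ∈ Set.range f'
      rw [Submodule.mkQ_apply, Submodule.Quotient.mk_eq_zero]
      rfl
    · exact hf'
    · exact hg'

/-- Local cohomology of a torsion module vanishes in positive degrees. -/
theorem subsingleton_of_isTors (i : ℕ) (hi : 0 < i) :
    ∀ (N : ModuleCat.{u} R), IsTors J N → Subsingleton ((localCohomology J i).obj N) := by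
  obtain ⟨j, rfl⟩ : ∃ j, i = j + 1 := ⟨i - 1, by omega⟩
  induction j with
  | zero =>
    intro N hN
    obtain ⟨X₂, X₃, f, g, w, hS, hinj, hX₂, hX₃⟩ := exists_torsion_injective_ses J N hN
    haveI := hinj
    refine subsingleton_of_forall_eq 0 (fun x₁ => ?_)
    have h0 : ((localCohomology J (0 + 1)).map f).hom x₁ = 0 :=
      (subsingleton_of_injective J (0 + 1) X₂ (by omega)).elim _ _
    obtain ⟨x₃, rfl⟩ := exact₁ J 0 hS x₁ h0
    obtain ⟨t, ht⟩ := ((ModuleCat.epi_iff_surjective g).1 hS.epi_g) (ev J X₃ x₃)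
    obtain ⟨x₂, hx₂⟩ := ev_surjective_of_isTors J X₂ hX₂ t
    have : ((localCohomology J 0).map g).hom x₂ = x₃ := by
      apply ev_injective J X₃
      rw [ev_natural, hx₂, ht]
    rw [← this]
    exact δ_map_g J 0 hS x₂
  | succ j ih =>
    intro N hN
    obtain ⟨X₂, X₃, f, g, w, hS, hinj, hX₂, hX₃⟩ := exists_torsion_injective_ses J N hN
    haveI := hinj
    refine subsingleton_of_forall_eq 0 (fun x₁ => ?_)
    have h0 : ((localCohomology J (j + 1 + 1)).map f).hom x₁ = 0 :=
      (subsingleton_of_injective J (j + 1 + 1) X₂ (by omega)).elim _ _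
    obtain ⟨x₃, rfl⟩ := exact₁ J (j + 1) hS x₁ h0
    haveI := ih (by omega) X₃ hX₃
    rw [Subsingleton.elim x₃ 0, map_zero]

end Groth.Agent.Lib.helper11.LCKit
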