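import Mathlib

/-!
# Induction over modules of finite length over a local ring (helper11)
-/

set_option autoImplicit false
universe u

namespace Groth.Agent.Lib.helper11.FinLenInd

open CategoryTheory IsLocalRing

variable {A : Type u} [CommRing A]

/-- the short exact sequence `0 → N → M → M/N → 0`. -/
noncomputable def subSC (M : ModuleCat.{u} A) (N : Submodule A M) :
    ShortComplex (ModuleCat.{u} A) :=
  ShortComplex.mk (ModuleCat.ofHom N.subtype) (ModuleCat.ofHom N.mkQ) (by
    ext x
    simp)

lemma subSC_shortExact (M : ModuleCat.{u} A) (N : Submodule A M) : (subSC M N).ShortExact := by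
  apply ModuleCat.shortComplex_shortExact
  · intro x
    change N.mkQ x = 0 ↔ x ∈ Set.range N.subtype
    simp only [Submodule.mkQ_apply, Submodule.Quotient.mk_eq_zero, Submodule.coe_subtype,
      Subtype.range_coe_subtype]
    rfl
  · exact N.injective_subtype
  · exact N.mkQ_surjective

lemma length_subSC (M : ModuleCat.{u} A) (N : Submodule A M) :
    Module.length A M = Module.length A N + Module.length A (M ⧸ N) :=
  Module.length_eq_add_of_exact N.subtype N.mkQ N.injective_subtype N.mkQ_surjective
    (LinearMap.exact_subtype_mkQ N)

variable [IsLocalRing A]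

/-- Induction over finite length modules over a local ring: a property that holds for zero modules
and passes from `M'` to `M` along `0 → M' → M → k → 0` holds for all modules of finite length. -/
theorem finiteLength_induction (Q : ModuleCat.{u} A → Prop)
    (h0 : ∀ M : ModuleCat.{u} A, Subsingleton M → Q M)
    (hstep : ∀ S : ShortComplex (ModuleCat.{u} A), S.ShortExact →
      Nonempty (S.X₃ ≅ ModuleCat.of A (ResidueField A)) →
      Module.length A S.X₂ = Module.length A S.X₁ + 1 → Module.length A S.X₂ ≠ ⊤ →
      Q S.X₁ → Q S.X₂) :
    ∀ M : ModuleCat.{u} A, Module.length A M ≠ ⊤ → Q M := by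
  have key : ∀ (n : ℕ) (M : ModuleCat.{u} A), Module.length A M = n → Q M := by
    intro n
    induction n using Nat.strong_induction_on with
    | _ n ih =>
      intro M hM
      by_cases hsub : Subsingleton M
      · exact h0 M hsub
      · rw [not_subsingleton_iff_nontrivial] at hsub
        have hfl : IsFiniteLength A M := by
          rw [← Module.length_ne_top_iff, hM]
          exact ENat.coe_ne_top n
        obtain ⟨hnoeth, hart⟩ := isFiniteLength_iff_isNoetherian_isArtinian.mp hfl
        obtain ⟨N, hN⟩ : ∃ N : Submodule A M, IsCoatom N := by
          obtain h | ⟨N, hN, -⟩ := eq_top_or_exists_le_coatom (⊥ : Submodule A M)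
          · exact absurd h bot_ne_top
          · exact ⟨N, hN⟩
        have hsimple : IsSimpleModule A (M ⧸ N) := isSimpleModule_iff_isCoatom.mpr hN
        obtain ⟨I, hI, ⟨e⟩⟩ := isSimpleModule_iff_quot_maximal.mp hsimple
        have hIm : I = maximalIdeal A := IsLocalRing.eq_maximalIdeal hI
        subst hIm
        have hlen := length_subSC M N
        have hone : Module.length A (M ⧸ N) = 1 := Module.length_eq_one A (M ⧸ N)
        rw [hone] at hlen
        have hNfin : Module.length A N ≠ ⊤ := by
          intro h
          rw [h, top_add] at hlen
          rw [hlen] at hM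
          exact ENat.top_ne_coe n hM
        obtain ⟨m, hm⟩ := ENat.ne_top_iff_exists.mp hNfin
        have hmn : m < n := by
          rw [← hm, hM] at hlen
          have : (n : ℕ∞) = ((m + 1 : ℕ) : ℕ∞) := by
            rw [hlen]
            push_cast
            rfl
          have := ENat.coe_inj.mp this
          omega
        have hQN : Q (ModuleCat.of A N) := ih m hmn (ModuleCat.of A N) hm.symm
        have hMfin : Module.length A M ≠ ⊤ := by
          rw [hM]
          exact ENat.coe_ne_top n
        exact hstep (subSC M N) (subSC_shortExact M N) ⟨e.toModuleIso⟩ hlen hMfin hQN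
  intro M hM
  obtain ⟨n, hn⟩ := ENat.ne_top_iff_exists.mp hM
  exact key n M hn.symm

end Groth.Agent.Lib.helper11.FinLenInd
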