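import Mathlib
import Groth.Agent.Lib.helper11.LCTorsion
import Groth.Agent.Lib.helper11.ExtRegular
import Groth.Agent.Lib.helper11.FinLenInd

/-!
# Vanishing tools for local cohomology (helper11)

* `exists_pow_smul_eq_zero` : every element of `H^i_J(M)` is killed by a power of `J`
* `subsingleton_of_smul_injective` : if `x ∈ J` acts injectively on `H^i_J(M)` then it is zero
* `smul_injective_of_regular` : `x` `M`-regular and `H^i_J(M/xM) = 0` ⇒ `x` injective on `H^{i+1}`
* `isTorsFree_quotient` etc.
* `subsingleton_of_supportDim_lt` : Grothendieck vanishing for finite modules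
-/

set_option autoImplicit false

namespace Groth.Agent.Lib.helper11.LCKit

open CategoryTheory Limits Opposite localCohomology Abelian Groth.Agent.Lib.helper11.ExtBridge
  Groth.Agent.Lib.helper11.ExtRegular Pointwise

universe u

variable {R : Type u} [CommRing R] (J : Ideal R) (i : ℕ)

theorem smul_Q_eq_zero (k : ℕ) (a : R) (ha : a ∈ J ^ k) (n : Q J k) : a • n = 0 := by
  obtain ⟨r, rfl⟩ := Ideal.Quotient.mk_surjective n
  show a • (Ideal.Quotient.mk (J ^ k) r) = 0
  rw [Algebra.smul_def]
  show Ideal.Quotient.mk (J ^ k) a * _ = 0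
  rw [(Ideal.Quotient.eq_zero_iff_mem).2 ha, zero_mul]

theorem exists_pow_smul_eq_zero (M : ModuleCat.{u} R) (z : (localCohomology J i).obj M) :
    ∃ k : ℕ, ∀ a ∈ J ^ k, a • z = 0 := by
  obtain ⟨k, y, rfl⟩ := exists_rep J i M z
  refine ⟨k, fun a ha => ?_⟩
  rw [← map_smul, smul_ext_eq_zero R a (smul_Q_eq_zero J k a ha) y, map_zero]

/-- If some `x ∈ J` acts injectively on `H^i_J(M)`, then `H^i_J(M) = 0`. -/
theorem subsingleton_of_smul_injective (M : ModuleCat.{u} R) (x : R) (hx : x ∈ J)
    (hinj : ∀ z : (localCohomology J i).obj M, x • z = 0 → z = 0) :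
    Subsingleton ((localCohomology J i).obj M) := by
  refine subsingleton_of_forall_eq 0 (fun z => ?_)
  obtain ⟨k, hk⟩ := exists_pow_smul_eq_zero J i M z
  have h := hk (x ^ k) (Ideal.pow_mem_pow hx k)
  clear hk
  induction k with
  | zero => simpa using h
  | succ k ih =>
    apply ih
    apply hinj
    rw [← mul_smul, ← pow_succ']
    exact h

/-- If `x` is `M`-regular and `H^i_J(M/xM) = 0`, then `x` acts injectively on `H^{i+1}_J(M)`. -/
theorem smul_injective_of_regular (M : ModuleCat.{u} R) (x : R) (hreg : IsSMulRegular M x)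
    (h : Subsingleton ((localCohomology J i).obj (ModuleCat.of R (QuotSMulTop x M)))) :
    ∀ z : (localCohomology J (i + 1)).obj M, x • z = 0 → z = 0 := by
  intro z hz
  have hS := hreg.smulShortComplex_shortExact
  rw [smul_eq_map] at hz
  obtain ⟨x₃, rfl⟩ := exact₁ J i hS z hz
  have : x₃ = 0 := h.elim _ _
  rw [this]
  exact map_zero _

/-- No nonzero `J`-power torsion elements. -/
def IsTorsFree (M : Type*) [AddCommGroup M] [Module R M] : Prop :=
  ∀ m : M, (∃ n : ℕ, ∀ a ∈ J ^ n, a • m = 0) → m = 0

/-- The `J`-power torsion submodule. -/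
def gam (M : Type*) [AddCommGroup M] [Module R M] : Submodule R M where
  carrier := {m | ∃ n : ℕ, ∀ a ∈ J ^ n, a • m = 0}
  zero_mem' := ⟨0, fun a _ => smul_zero a⟩
  add_mem' := by
    rintro m m' ⟨n, hn⟩ ⟨n', hn'⟩
    refine ⟨n + n', fun a ha => ?_⟩
    rw [smul_add, hn a (Ideal.pow_le_pow_right (Nat.le_add_right n n') ha),
      hn' a (Ideal.pow_le_pow_right (Nat.le_add_left n' n) ha), add_zero]
  smul_mem' := by
    rintro c m ⟨n, hn⟩
    exact ⟨n, fun a ha => by rw [smul_comm, hn a ha, smul_zero]⟩

theorem isTors_gam (M : Type*) [AddCommGroup M] [Module R M] : IsTors J (gam J M) := by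
  rintro ⟨m, n, hn⟩
  exact ⟨n, fun a ha => Subtype.ext (hn a ha)⟩

/-- `M/Γ_J(M)` has no `J`-torsion (for `J` finitely generated). -/
theorem isTorsFree_quotient_gam (hJ : J.FG) (M : Type*) [AddCommGroup M] [Module R M] :
    IsTorsFree J (M ⧸ gam J M) := by
  intro m hm
  obtain ⟨m, rfl⟩ := Submodule.Quotient.mk_surjective _ m
  obtain ⟨n, hn⟩ := hm
  rw [Submodule.Quotient.mk_eq_zero]
  -- `J^n m ⊆ Γ`
  have h1 : ∀ a ∈ J ^ n, a • m ∈ gam J M := fun a ha => by
    have := hn a ha
    rwa [← Submodule.Quotient.mk_smul, Submodule.Quotient.mk_eq_zero] at this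
  have hfg : (J ^ n).FG := Ideal.FG.pow hJ
  obtain ⟨s, hs⟩ := hfg
  have h2 : ∀ t : Finset R, (∀ a ∈ t, a ∈ J ^ n) →
      ∃ N : ℕ, ∀ a ∈ t, ∀ b ∈ J ^ N, b • (a • m) = 0 := by
    classical
    intro t
    induction t using Finset.induction_on with
    | empty => exact fun _ => ⟨0, fun a ha => by simp at ha⟩
    | insert c t hc ih =>
      intro ht
      obtain ⟨N1, hN1⟩ := h1 c (ht c (Finset.mem_insert_self c t))
      obtain ⟨N2, hN2⟩ := ih (fun a ha => ht a (Finset.mem_insert_of_mem ha))
      refine ⟨N1 + N2, fun a ha b hb => ?_⟩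
      rcases Finset.mem_insert.1 ha with rfl | ha
      · exact hN1 b (Ideal.pow_le_pow_right (Nat.le_add_right N1 N2) hb)
      · exact hN2 a ha b (Ideal.pow_le_pow_right (Nat.le_add_left N2 N1) hb)
  obtain ⟨N, hN⟩ := h2 s (fun a ha => by rw [← hs]; exact Ideal.subset_span ha)
  refine ⟨N + n, fun c hc => ?_⟩
  rw [pow_add] at hc
  refine Submodule.mul_induction_on hc ?_ ?_
  · intro b hb a ha
    rw [← hs] at ha
    rw [mul_smul]
    refine Submodule.span_induction ?_ ?_ ?_ ?_ ha
    · intro a ha
      exact hN a ha b hb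
    · rw [zero_smul, smul_zero]
    · intro x y _ _ hx hy
      rw [add_smul, smul_add, hx, hy, add_zero]
    · intro r x _ hx
      rw [smul_eq_mul, mul_smul, smul_comm b r, hx, smul_zero]
  · intro x y hx hy
    rw [add_smul, hx, hy, add_zero]

theorem gam_eq_bot_of_isTorsFree (M : Type*) [AddCommGroup M] [Module R M] (h : IsTorsFree J M) :
    gam J M = ⊥ := by
  rw [eq_bot_iff]
  intro m hm
  exact (Submodule.mem_bot R).2 (h m hm)

/-- A finite torsion-free module over a noetherian ring has a regular element in `J`. -/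
theorem exists_regular_of_isTorsFree [IsNoetherianRing R] (M : Type u) [AddCommGroup M]
    [Module R M] [Module.Finite R M] (h : IsTorsFree J M) :
    ∃ x ∈ J, IsSMulRegular M x := by
  have hsub : Subsingleton ((R ⧸ J) →ₗ[R] M) := by
    refine subsingleton_of_forall_eq 0 (fun f => ?_)
    have h1 : f 1 = 0 := by
      apply h
      refine ⟨1, fun a ha => ?_⟩
      rw [pow_one] at ha
      rw [← map_smul]
      have : a • (1 : R ⧸ J) = 0 := by
        rw [Algebra.smul_def, mul_one]
        exact (Ideal.Quotient.eq_zero_iff_mem).2 ha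
      rw [this, map_zero]
    apply LinearMap.ext
    intro y
    obtain ⟨r, rfl⟩ := Ideal.Quotient.mk_surjective y
    have : (Ideal.Quotient.mk J r : R ⧸ J) = r • (1 : R ⧸ J) := by
      rw [Algebra.smul_def, mul_one]; rfl
    rw [this, map_smul, h1, smul_zero, LinearMap.zero_apply]
  obtain ⟨r, hr, hreg⟩ := IsSMulRegular.subsingleton_linearMap_iff.1 hsub
  rw [Ideal.annihilator_quotient] at hr
  exact ⟨r, hr, hreg⟩

/-- **Grothendieck vanishing** for finite modules: `H^i_J(M) = 0` for `i > dim Supp M`. -/
theorem subsingleton_of_supportDim_lt [IsNoetherianRing R] (i : ℕ) :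
    ∀ (M : Type u) [AddCommGroup M] [Module R M] [Module.Finite R M],
      Module.supportDim R M < i → Subsingleton ((localCohomology J i).obj (ModuleCat.of R M)) := by
  induction i with
  | zero =>
    intro M _ _ _ h
    have hbot : Module.supportDim R M = ⊥ := by
      by_contra hne
      obtain ⟨d, hd⟩ := WithBot.ne_bot_iff_exists.1 hne
      rw [← hd] at h
      have : (d : WithBot ℕ∞) < ((0 : ℕ∞) : WithBot ℕ∞) := by exact_mod_cast h
      exact not_lt_bot (a := d) (by simpa using WithBot.coe_lt_coe.1 this)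
    haveI : Subsingleton M := (Module.supportDim_eq_bot_iff_subsingleton R M).1 hbot
    haveI : Subsingleton (ModuleCat.of R M) := ‹Subsingleton M›
    have hz : IsZero (ModuleCat.of R M) := ModuleCat.isZero_of_subsingleton _
    have : IsZero ((localCohomology J 0).obj (ModuleCat.of R M)) :=
      (localCohomology J 0).map_isZero hz
    exact ModuleCat.subsingleton_of_isZero this
  | succ i ih =>
    intro M _ _ _ h
    -- reduce to the torsion-free quotient
    let T := gam J M
    let S := Groth.Agent.Lib.helper11.FinLenInd.subSC (ModuleCat.of R M) T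
    have hS : S.ShortExact := Groth.Agent.Lib.helper11.FinLenInd.subSC_shortExact _ _
    have hT : IsTors J S.X₁ := isTors_gam J M
    haveI := subsingleton_of_isTors J (i + 1) (by omega) S.X₁ hT
    suffices hN : Subsingleton ((localCohomology J (i + 1)).obj S.X₃) by
      refine subsingleton_of_forall_eq 0 (fun z => ?_)
      have hz : ((localCohomology J (i + 1)).map S.g).hom z = 0 := hN.elim _ _
      obtain ⟨x₁, rfl⟩ := exact₂ J (i + 1) hS z hz
      rw [Subsingleton.elim x₁ 0]
      exact map_zero _
    -- the quotient `N = M/Γ`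
    let N := M ⧸ T
    have hNfree : IsTorsFree J N := isTorsFree_quotient_gam J (IsNoetherian.noetherian J) M
    obtain ⟨x, hxJ, hreg⟩ := exists_regular_of_isTorsFree J N hNfree
    have hdimN : Module.supportDim R N ≤ Module.supportDim R M :=
      Module.supportDim_le_of_surjective T.mkQ T.mkQ_surjective
    have hdimQ : Module.supportDim R (QuotSMulTop x N) + 1 ≤ Module.supportDim R N :=
      Module.supportDim_quotSMulTop_succ_le_of_notMem_minimalPrimes
        (fun _ => hreg.notMem_of_mem_minimalPrimes)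
    have hlt : Module.supportDim R (QuotSMulTop x N) < i := by
      have h1 : Module.supportDim R (QuotSMulTop x N) + 1 < ((i + 1 : ℕ) : WithBot ℕ∞) :=
        lt_of_le_of_lt (hdimQ.trans hdimN) h
      by_contra hcon
      rw [not_lt] at hcon
      have : ((i + 1 : ℕ) : WithBot ℕ∞) ≤ Module.supportDim R (QuotSMulTop x N) + 1 := by
        push_cast
        exact add_le_add_left hcon 1
      exact absurd h1 (not_lt.2 this)
    have hQ := ih (QuotSMulTop x N) hlt
    exact subsingleton_of_smul_injective J (i + 1) (ModuleCat.of R N) x hxJ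
      (smul_injective_of_regular J i (ModuleCat.of R N) x hreg hQ)

end Groth.Agent.Lib.helper11.LCKit
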