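import Mathlib
import Groth.Agent.Lib.helper11.ExtKoszul

/-!
# Finite injective dimension over a noetherian local ring is detected by the residue field
(helper11)
-/

set_option autoImplicit false

namespace Groth.Agent.Lib.helper11.InjDimKappa

open CategoryTheory Abelian Groth.Agent.Lib.helper11.ExtShift Groth.Agent.Lib.helper11.ExtKoszul

universe u

variable {A : Type u} [CommRing A]

theorem ext_eq_zero_of_isZero {X Y : ModuleCat.{u} A} (hX : Limits.IsZero X) {n : ℕ}
    (e : Ext X Y n) : e = 0 := by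
  rw [← Ext.mk₀_id_comp e, hX.eq_of_src (𝟙 X) 0, Ext.mk₀_zero, Ext.zero_comp]

theorem ext_eq_zero_of_iso {X X' Y : ModuleCat.{u} A} (φ : X ≅ X') {n : ℕ}
    (h : Subsingleton (Ext X' Y n)) (e : Ext X Y n) : e = 0 := by
  have h1 : e = (Ext.mk₀ φ.hom).comp ((Ext.mk₀ φ.inv).comp e (zero_add n)) (zero_add n) := by
    rw [Ext.mk₀_comp_mk₀_assoc, φ.hom_inv_id, Ext.mk₀_id_comp]
  rw [h1, Subsingleton.elim ((Ext.mk₀ φ.inv).comp e (zero_add n)) 0, Ext.comp_zero]

/-- Vanishing of `Ext^j(-, M)` on `A/q` for primes `q ⊇ J` gives vanishing on all finite modules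
killed by `J`. -/
theorem ext_subsingleton_of_primes [IsNoetherianRing A] (J : Ideal A) (M : ModuleCat.{u} A)
    (j : ℕ)
    (hq : ∀ q : Ideal A, q.IsPrime → J ≤ q → Subsingleton (Ext (ModuleCat.of A (A ⧸ q)) M j))
    (Y : Type u) [AddCommGroup Y] [Module A Y] [hY : Module.Finite A Y]
    (hJ : ∀ a ∈ J, ∀ y : Y, a • y = 0) : Subsingleton (Ext (ModuleCat.of A Y) M j) := by
  revert hJ
  induction hY using IsNoetherianRing.induction_on_isQuotientEquivQuotientPrime A with
  | subsingleton N =>
    intro _
    exact ⟨fun a b => by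
      rw [ext_eq_zero_of_isZero (ModuleCat.isZero_of_subsingleton (ModuleCat.of A N)) a,
        ext_eq_zero_of_isZero (ModuleCat.isZero_of_subsingleton (ModuleCat.of A N)) b]⟩
  | quotient N p f =>
    intro hJ
    have hle : J ≤ p.1 := by
      intro a ha
      have h1 : a • f.symm 1 = 0 := hJ a ha _
      have h2 : f (a • f.symm 1) = 0 := by rw [h1, map_zero]
      rw [map_smul, f.apply_symm_apply] at h2
      have h3 : (Ideal.Quotient.mk p.1) a = 0 := by
        rw [← h2, Algebra.smul_def, mul_one]
        rfl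
      exact Ideal.Quotient.eq_zero_iff_mem.mp h3
    have hs := hq p.1 p.2 hle
    exact ⟨fun a b => by
      rw [ext_eq_zero_of_iso f.toModuleIso hs a, ext_eq_zero_of_iso f.toModuleIso hs b]⟩
  | exact N₁ N₂ N₃ f g hf hg hfg h₁ h₃ =>
    intro hJ
    have hJ₁ : ∀ a ∈ J, ∀ y : N₁, a • y = 0 := by
      intro a ha y
      apply hf
      rw [map_smul, map_zero]
      exact hJ a ha _
    have hJ₃ : ∀ a ∈ J, ∀ y : N₃, a • y = 0 := by
      intro a ha y
      obtain ⟨z, rfl⟩ := hg y
      rw [← map_smul, hJ a ha, map_zero]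
    haveI := h₁ hJ₁
    haveI := h₃ hJ₃
    have hS := sc_shortExact f g hf hg hfg
    refine ⟨fun a b => ?_⟩
    have key : ∀ e : Ext (ModuleCat.of A N₂) M j, e = 0 := by
      intro e
      obtain ⟨x₃, rfl⟩ := Ext.contravariant_sequence_exact₂ hS M e (Subsingleton.elim _ _)
      rw [Subsingleton.elim x₃ 0, Ext.comp_zero]
    rw [key a, key b]

/-- Baer's criterion in terms of `Ext¹(A/I, -)`. -/
theorem injective_of_ext_one (C : ModuleCat.{u} A)
    (h : ∀ I : Ideal A, Subsingleton (Ext (ModuleCat.of A (A ⧸ I)) C 1)) : Injective C := by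
  haveI : Module.Injective A C := by
    apply Module.Baer.injective
    intro I g
    have hS := sc_shortExact (Submodule.subtype I) (Submodule.mkQ I)
      (Submodule.injective_subtype I) (Submodule.mkQ_surjective I)
      (LinearMap.exact_subtype_mkQ I)
    haveI := h I
    obtain ⟨x₂, hx₂⟩ := Ext.contravariant_sequence_exact₁ hS C
      (Ext.mk₀ (ModuleCat.ofHom g)) (rfl : 1 + 0 = 1) (Subsingleton.elim _ _)
    obtain ⟨φ, rfl⟩ := (Ext.mk₀_bijective _ _).2 x₂
    rw [Ext.mk₀_comp_mk₀] at hx₂
    have h2 := (Ext.mk₀_bijective _ _).1 hx₂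
    refine ⟨φ.hom, fun x hx => ?_⟩
    have h3 := congrArg (fun ψ => ψ.hom ⟨x, hx⟩) h2
    exact h3
  exact (Module.injective_iff_injective_object A C).mp inferInstance

/-- If `Ext^{n+1}(A/I, M) = 0` for all ideals `I`, then `M` has injective dimension `≤ n`. -/
theorem hasInjectiveDimensionLT_of_ext_quotient (n : ℕ) : ∀ (M : ModuleCat.{u} A),
    (∀ I : Ideal A, Subsingleton (Ext (ModuleCat.of A (A ⧸ I)) M (n + 1))) →
    HasInjectiveDimensionLT M (n + 1) := by
  induction n with
  | zero =>
    intro M h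
    haveI := injective_of_ext_one M h
    infer_instance
  | succ n ih =>
    intro M h
    let S : ShortComplex (ModuleCat.{u} A) :=
      ShortComplex.mk (Injective.ι M) (Limits.cokernel.π (Injective.ι M))
        (Limits.cokernel.condition _)
    have hS : S.ShortExact :=
      { exact := ShortComplex.exact_cokernel _
        mono_f := inferInstanceAs (Mono (Injective.ι M))
        epi_g := inferInstanceAs (Epi (Limits.cokernel.π (Injective.ι M))) }
    have h₂ : Injective S.X₂ := inferInstanceAs (Injective (Injective.under M))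
    have hC : ∀ I : Ideal A, Subsingleton (Ext (ModuleCat.of A (A ⧸ I)) S.X₃ (n + 1)) := by
      intro I
      haveI := h I
      have key : ∀ e : Ext (ModuleCat.of A (A ⧸ I)) S.X₃ (n + 1), e = 0 := by
        intro e
        obtain ⟨x₂, rfl⟩ := Ext.covariant_sequence_exact₃ _ hS e
          (rfl : n + 1 + 1 = n + 1 + 1) (Subsingleton.elim _ _)
        rw [Ext.eq_zero_of_injective x₂, Ext.zero_comp]
      exact ⟨fun a b => by rw [key a, key b]⟩
    have h3 : HasInjectiveDimensionLT S.X₃ (n + 1) := ih S.X₃ hC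
    exact (hS.hasInjectiveDimensionLT_X₃_iff n h₂).mp h3

section Local

variable [IsLocalRing A] [IsNoetherianRing A]

/-- Vanishing of `Ext^i(κ, M)` for `i ≥ N` propagates to `Ext^i(A/p, M)` for all primes `p`. -/
theorem ext_quotient_prime_subsingleton (M : Type u) [AddCommGroup M] [Module A M]
    [Module.Finite A M] (N : ℕ)
    (hN : ∀ i, N ≤ i → Subsingleton
      (Ext (ModuleCat.of A (IsLocalRing.ResidueField A)) (ModuleCat.of A M) i)) :
    ∀ p : Ideal A, p.IsPrime → ∀ i, N ≤ i →
      Subsingleton (Ext (ModuleCat.of A (A ⧸ p)) (ModuleCat.of A M) i) := by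
  intro p
  induction p using WellFoundedGT.induction with
  | ind p ih =>
    intro hp i hi
    by_cases hpm : p = IsLocalRing.maximalIdeal A
    · subst hpm
      exact hN i hi
    · have hlt : p < IsLocalRing.maximalIdeal A :=
        lt_of_le_of_ne (IsLocalRing.le_maximalIdeal hp.ne_top) hpm
      obtain ⟨x, hxm, hxp⟩ := SetLike.exists_of_lt hlt
      have hpJ : p < p ⊔ Ideal.span {x} := by
        refine lt_of_le_of_ne le_sup_left fun h => hxp ?_
        rw [h]
        exact Ideal.mem_sup_right (Ideal.mem_span_singleton_self x)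
      haveI h1 : Subsingleton (Ext (ModuleCat.of A (A ⧸ (p ⊔ Ideal.span {x})))
          (ModuleCat.of A M) (i + 1)) := by
        refine ext_subsingleton_of_primes (p ⊔ Ideal.span {x}) (ModuleCat.of A M) (i + 1) ?_
          (A ⧸ (p ⊔ Ideal.span {x})) ?_
        · intro q hq hJq
          exact ih q (lt_of_lt_of_le hpJ hJq) hq (i + 1) (by omega)
        · intro a ha y
          obtain ⟨b, rfl⟩ := Ideal.Quotient.mk_surjective y
          rw [Algebra.smul_def, Ideal.Quotient.algebraMap_eq, ← map_mul,
            Ideal.Quotient.eq_zero_iff_mem]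
          exact Ideal.mul_mem_right _ _ ha
      have hreg : Function.Injective (mulX p x) := by
        haveI := hp
        rw [injective_iff_map_eq_zero]
        intro y hy
        obtain ⟨b, rfl⟩ := Ideal.Quotient.mk_surjective y
        change x • (Ideal.Quotient.mk p b) = 0 at hy
        rw [Algebra.smul_def, Ideal.Quotient.algebraMap_eq, ← map_mul,
          Ideal.Quotient.eq_zero_iff_mem] at hy
        rw [Ideal.Quotient.eq_zero_iff_mem]
        exact (hp.mem_or_mem hy).resolve_left hxp
      have hS := sc_shortExact (mulX p x) (proj p (p ⊔ Ideal.span {x}) le_sup_left) hreg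
        (proj_surjective p _ le_sup_left) (exact_mulX_proj p _ x rfl)
      have hsurj : ∀ e : Ext (ModuleCat.of A (A ⧸ p)) (ModuleCat.of A M) i, ∃ e', e = x • e' := by
        intro e
        obtain ⟨(x₂ : Ext (ModuleCat.of A (A ⧸ p)) (ModuleCat.of A M) i), hx₂⟩ :=
          Ext.contravariant_sequence_exact₁ hS (ModuleCat.of A M) e
            (add_comm 1 i) (Subsingleton.elim _ _)
        refine ⟨x₂, ?_⟩
        rw [← hx₂]
        have hmul : ModuleCat.ofHom (mulX p x) = x • 𝟙 (ModuleCat.of A (A ⧸ p)) := by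
          ext y
          rfl
        change (Ext.mk₀ (ModuleCat.ofHom (mulX p x))).comp x₂ _ = _
        rw [hmul]
        exact mk₀_smul_id_comp A x x₂
      have htop : (⊤ : Submodule A (Ext (ModuleCat.of A (A ⧸ p)) (ModuleCat.of A M) i)) ≤
          (IsLocalRing.maximalIdeal A) • ⊤ := by
        intro e _
        obtain ⟨e', rfl⟩ := hsurj e
        exact Submodule.smul_mem_smul hxm Submodule.mem_top
      have hbot := Submodule.eq_bot_of_le_smul_of_le_jacobson_bot (IsLocalRing.maximalIdeal A)
        (⊤ : Submodule A (Ext (ModuleCat.of A (A ⧸ p)) (ModuleCat.of A M) i))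
        Module.Finite.fg_top htop (IsLocalRing.maximalIdeal_le_jacobson ⊥)
      exact (Submodule.subsingleton_iff A).mp (subsingleton_of_bot_eq_top hbot.symm)

/-- **Finite injective dimension is detected by `Ext(κ, -)`.** -/
theorem exists_hasInjectiveDimensionLT_iff (M : Type u) [AddCommGroup M] [Module A M]
    [Module.Finite A M] :
    (∃ n : ℕ, HasInjectiveDimensionLT (ModuleCat.of A M) n) ↔
      ∃ N : ℕ, ∀ i : ℕ, N ≤ i → Subsingleton
        (Ext (ModuleCat.of A (IsLocalRing.ResidueField A)) (ModuleCat.of A M) i) := by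
  constructor
  · rintro ⟨n, hn⟩
    exact ⟨n, fun i hi => HasInjectiveDimensionLT.subsingleton (ModuleCat.of A M) n i hi _⟩
  · rintro ⟨N, hN⟩
    refine ⟨N + 1, hasInjectiveDimensionLT_of_ext_quotient N (ModuleCat.of A M) fun I => ?_⟩
    refine ext_subsingleton_of_primes ⊥ (ModuleCat.of A M) (N + 1) ?_ (A ⧸ I) ?_
    · intro q hq _
      exact ext_quotient_prime_subsingleton M N hN q hq (N + 1) (Nat.le_succ N)
    · intro a ha y
      rw [(Submodule.mem_bot A).mp ha, zero_smul]

end Local

end Groth.Agent.Lib.helper11.InjDimKappa
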