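import Mathlib
import Groth.Agent.Lib.helper11.InjDimKappa

/-!
# Ischebeck's theorem: `Ext^i(N, M) = 0` for `i < depth M - dim N` (helper11)
-/

set_option autoImplicit false

namespace Groth.Agent.Lib.helper11.Ischebeck

open CategoryTheory Abelian Groth.Agent.Lib.helper11.ExtShift Groth.Agent.Lib.helper11.ExtKoszul
  Groth.Agent.Lib.helper11.InjDimKappa

universe u

variable {A : Type u} [CommRing A] [IsLocalRing A] [IsNoetherianRing A]

/-- Nakayama step: for `x ∈ 𝔪 ∖ q`, vanishing of `Ext^{i+1}(A/(q + x), M)` gives vanishing of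
`Ext^i(A/q, M)`. -/
theorem ext_prime_step (M : Type u) [AddCommGroup M] [Module A M] [Module.Finite A M]
    (p : Ideal A) (hp : p.IsPrime) (x : A) (hxm : x ∈ IsLocalRing.maximalIdeal A) (hxp : x ∉ p)
    (i : ℕ)
    (h1 : Subsingleton (Ext (ModuleCat.of A (A ⧸ (p ⊔ Ideal.span {x}))) (ModuleCat.of A M)
      (i + 1))) :
    Subsingleton (Ext (ModuleCat.of A (A ⧸ p)) (ModuleCat.of A M) i) := by
  have hreg : Function.Injective (mulX p x) := by
    rw [injective_iff_map_eq_zero]
    intro y hy
    obtain ⟨b, rfl⟩ := Ideal.Quotient.mk_surjective y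
    change x • (Ideal.Quotient.mk p b) = 0 at hy
    rw [Algebra.smul_def, Ideal.Quotient.algebraMap_eq, ← map_mul,
      Ideal.Quotient.eq_zero_iff_mem] at hy
    rw [Ideal.Quotient.eq_zero_iff_mem]
    exact (hp.mem_or_mem hy).resolve_left hxp
  have hS := sc_shortExact (mulX p x) (proj p (p ⊔ Ideal.span {x}) le_sup_left) hreg
    (proj_surjective p _ le_sup_left) (exact_mulX_proj p _ x rfl)
  have hsurj : ∀ e : Ext (ModuleCat.of A (A ⧸ p)) (ModuleCat.of A M) i, ∃ e', e = x • e' := by
    intro e
    obtain ⟨(x₂ : Ext (ModuleCat.of A (A ⧸ p)) (ModuleCat.of A M) i), hx₂⟩ :=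
      Ext.contravariant_sequence_exact₁ hS (ModuleCat.of A M) e
        (add_comm 1 i) (Subsingleton.elim _ _)
    refine ⟨x₂, ?_⟩
    rw [← hx₂]
    have hmul : ModuleCat.ofHom (mulX p x) = x • 𝟙 (ModuleCat.of A (A ⧸ p)) := by
      ext y
      rfl
    change (Ext.mk₀ (ModuleCat.ofHom (mulX p x))).comp x₂ _ = _
    rw [hmul]
    exact mk₀_smul_id_comp A x x₂
  have htop : (⊤ : Submodule A (Ext (ModuleCat.of A (A ⧸ p)) (ModuleCat.of A M) i)) ≤
      (IsLocalRing.maximalIdeal A) • ⊤ := by
    intro e _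
    obtain ⟨e', rfl⟩ := hsurj e
    exact Submodule.smul_mem_smul hxm Submodule.mem_top
  have hbot := Submodule.eq_bot_of_le_smul_of_le_jacobson_bot (IsLocalRing.maximalIdeal A)
    (⊤ : Submodule A (Ext (ModuleCat.of A (A ⧸ p)) (ModuleCat.of A M) i))
    Module.Finite.fg_top htop (IsLocalRing.maximalIdeal_le_jacobson ⊥)
  exact (Submodule.subsingleton_iff A).mp (subsingleton_of_bot_eq_top hbot.symm)

theorem withBot_le_of_add_one_le (a : WithBot ℕ∞) (ha : 0 ≤ a) (r : ℕ)
    (h : a + 1 ≤ ((r + 1 : ℕ) : WithBot ℕ∞)) : a ≤ (r : WithBot ℕ∞) := by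
  induction a with
  | bot => exact bot_le
  | coe a =>
    induction a with
    | top =>
      exfalso
      have h' : (((⊤ : ℕ∞) + 1 : ℕ∞) : WithBot ℕ∞) ≤ (((r + 1 : ℕ) : ℕ∞) : WithBot ℕ∞) := h
      rw [WithBot.coe_le_coe, top_add, top_le_iff] at h'
      exact ENat.coe_ne_top _ h'
    | coe a =>
      have h' : ((a + 1 : ℕ) : WithBot ℕ∞) ≤ ((r + 1 : ℕ) : WithBot ℕ∞) := by
        simpa using h
      have h'' : a + 1 ≤ r + 1 := by exact_mod_cast h'
      have : a ≤ r := by omega
      exact_mod_cast this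

/-- The key induction for Ischebeck's theorem, on cyclic modules `A/q`. -/
theorem ext_quotient_prime_of_regular (M : Type u) [AddCommGroup M] [Module A M]
    [Module.Finite A M] [Nontrivial M] (rs : List A)
    (hmem : ∀ r ∈ rs, r ∈ IsLocalRing.maximalIdeal A)
    (hreg : RingTheory.Sequence.IsRegular M rs) :
    ∀ (r : ℕ) (q : Ideal A), q.IsPrime → ringKrullDim (A ⧸ q) ≤ r → ∀ i : ℕ, i + r < rs.length →
      Subsingleton (Ext (ModuleCat.of A (A ⧸ q)) (ModuleCat.of A M) i) := by
  have hsmul : (IsLocalRing.maximalIdeal A) • (⊤ : Submodule A M) < ⊤ := by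
    rw [lt_top_iff_ne_top]
    intro h
    have hbot := Submodule.eq_bot_of_le_smul_of_le_jacobson_bot (IsLocalRing.maximalIdeal A)
      (⊤ : Submodule A M) Module.Finite.fg_top h.symm.le (IsLocalRing.maximalIdeal_le_jacobson ⊥)
    exact top_ne_bot hbot
  have hmax : ∀ i : ℕ, i < rs.length → Subsingleton
      (Ext (ModuleCat.of A (A ⧸ IsLocalRing.maximalIdeal A)) (ModuleCat.of A M) i) := by
    refine ModuleCat.subsingleton_ext_of_exists_isRegular (IsLocalRing.maximalIdeal A)
      (ModuleCat.of A (A ⧸ IsLocalRing.maximalIdeal A)) ?_ (ModuleCat.of A M) hsmul rs hmem hreg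
    change Module.support A (A ⧸ IsLocalRing.maximalIdeal A) ⊆ _
    rw [Module.support_eq_zeroLocus, Ideal.annihilator_quotient]
  intro r
  induction r with
  | zero =>
    intro q hq hdim i hi
    by_cases hqm : q = IsLocalRing.maximalIdeal A
    · subst hqm
      exact hmax i (by omega)
    · exfalso
      have hlt : q < IsLocalRing.maximalIdeal A :=
        lt_of_le_of_ne (IsLocalRing.le_maximalIdeal hq.ne_top) hqm
      obtain ⟨x, hxm, hxq⟩ := SetLike.exists_of_lt hlt
      haveI := hq
      have hnz : Ideal.Quotient.mk q x ∈ nonZeroDivisors (A ⧸ q) := by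
        rw [mem_nonZeroDivisors_iff_ne_zero]
        intro h0
        exact hxq (Ideal.Quotient.eq_zero_iff_mem.mp h0)
      have h1 := ringKrullDim_succ_le_of_surjective
        (Ideal.Quotient.factor hlt.le) (Ideal.Quotient.factor_surjective hlt.le) hnz
        (by rw [Ideal.Quotient.factor_mk, Ideal.Quotient.eq_zero_iff_mem]; exact hxm)
      have h2 : (0 : WithBot ℕ∞) ≤ ringKrullDim (A ⧸ IsLocalRing.maximalIdeal A) :=
        ringKrullDim_nonneg_of_nontrivial
      have h3 : (1 : WithBot ℕ∞) ≤ 0 := by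
        calc (1 : WithBot ℕ∞) = 0 + 1 := by simp
          _ ≤ ringKrullDim (A ⧸ IsLocalRing.maximalIdeal A) + 1 := by gcongr
          _ ≤ ringKrullDim (A ⧸ q) := h1
          _ ≤ ((0 : ℕ) : WithBot ℕ∞) := hdim
          _ = 0 := by simp
      exact absurd h3 (by decide)
  | succ r ih =>
    intro q hq hdim i hi
    by_cases hqm : q = IsLocalRing.maximalIdeal A
    · subst hqm
      exact hmax i (by omega)
    · have hlt : q < IsLocalRing.maximalIdeal A :=
        lt_of_le_of_ne (IsLocalRing.le_maximalIdeal hq.ne_top) hqm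
      obtain ⟨x, hxm, hxq⟩ := SetLike.exists_of_lt hlt
      haveI := hq
      have hnz : Ideal.Quotient.mk q x ∈ nonZeroDivisors (A ⧸ q) := by
        rw [mem_nonZeroDivisors_iff_ne_zero]
        intro h0
        exact hxq (Ideal.Quotient.eq_zero_iff_mem.mp h0)
      refine ext_prime_step M q hq x hxm hxq i ?_
      refine ext_subsingleton_of_primes (q ⊔ Ideal.span {x}) (ModuleCat.of A M) (i + 1) ?_
        (A ⧸ (q ⊔ Ideal.span {x})) ?_
      · intro q' hq' hJq'
        have hqq' : q ≤ q' := le_sup_left.trans hJq'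
        have hxq' : x ∈ q' := hJq' (Ideal.mem_sup_right (Ideal.mem_span_singleton_self x))
        have h1 := ringKrullDim_succ_le_of_surjective
          (Ideal.Quotient.factor hqq') (Ideal.Quotient.factor_surjective hqq') hnz
          (by rw [Ideal.Quotient.factor_mk, Ideal.Quotient.eq_zero_iff_mem]; exact hxq')
        haveI : Nontrivial (A ⧸ q') := Ideal.Quotient.nontrivial_iff.mpr hq'.ne_top
        have h2 : ringKrullDim (A ⧸ q') ≤ (r : WithBot ℕ∞) :=
          withBot_le_of_add_one_le _ ringKrullDim_nonneg_of_nontrivial r (h1.trans hdim)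
        exact ih q' hq' h2 (i + 1) (by omega)
      · intro a ha y
        obtain ⟨b, rfl⟩ := Ideal.Quotient.mk_surjective y
        rw [Algebra.smul_def, Ideal.Quotient.algebraMap_eq, ← map_mul,
          Ideal.Quotient.eq_zero_iff_mem]
        exact Ideal.mul_mem_right _ _ ha

/-- **Ischebeck's theorem**, with the depth hypothesis given by a regular sequence. -/
theorem ext_subsingleton_of_regular (M N : Type u) [AddCommGroup M] [Module A M]
    [AddCommGroup N] [Module A N] [Module.Finite A M] [Module.Finite A N] [Nontrivial M]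
    (rs : List A) (hmem : ∀ r ∈ rs, r ∈ IsLocalRing.maximalIdeal A)
    (hreg : RingTheory.Sequence.IsRegular M rs) (r i : ℕ)
    (hr : Module.supportDim A N ≤ r) (hi : i + r < rs.length) :
    Subsingleton (Ext (ModuleCat.of A N) (ModuleCat.of A M) i) := by
  refine ext_subsingleton_of_primes (Module.annihilator A N) (ModuleCat.of A M) i ?_ N ?_
  · intro q hq hle
    refine ext_quotient_prime_of_regular M rs hmem hreg r q hq ?_ i hi
    rw [Module.supportDim_eq_ringKrullDim_quotient_annihilator] at hr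
    exact (ringKrullDim_le_of_surjective (Ideal.Quotient.factor hle)
      (Ideal.Quotient.factor_surjective hle)).trans hr
  · intro a ha y
    exact Module.mem_annihilator.mp ha y

end Groth.Agent.Lib.helper11.Ischebeck
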