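import Mathlib
import Groth.Agent.Lib.helper11.Ischebeck
import Groth.Agent.Lib.helper19.RegularLocalSeq

/-!
# Regular systems of parameters and Ext vanishing over regular local rings (helper11)
-/

set_option autoImplicit false

namespace Groth.Agent.Lib.helper11.RegularSop

open CategoryTheory Abelian

universe u

variable {A : Type u} [CommRing A] [IsRegularLocalRing A]

/-- A regular local ring of dimension `d` has a regular sequence of length `d` generating the
maximal ideal. -/
theorem exists_regular_sop (d : ℕ) (hd : ringKrullDim A = d) :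
    ∃ rs : List A, rs.length = d ∧ Ideal.ofList rs = IsLocalRing.maximalIdeal A ∧
      (∀ r ∈ rs, r ∈ IsLocalRing.maximalIdeal A) ∧ RingTheory.Sequence.IsRegular A rs := by
  classical
  obtain ⟨s, hs1, hs2⟩ := Submodule.FG.exists_span_finset_card_eq_spanFinrank
    (IsNoetherian.noetherian (IsLocalRing.maximalIdeal A))
  have hspan : Ideal.ofList s.toList = IsLocalRing.maximalIdeal A := by
    rw [← hs2]
    unfold Ideal.ofList
    congr 1
    ext y
    simp
  have hdim : ringKrullDim A = (s.toList.length : ℕ) := by
    rw [Finset.length_toList, hs1]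
    exact (IsRegularLocalRing.spanFinrank_maximalIdeal (R := A)).symm
  have hlen : s.toList.length = d := by
    have : ((s.toList.length : ℕ) : WithBot ℕ∞) = (d : WithBot ℕ∞) := by rw [← hdim, hd]
    exact_mod_cast this
  have hreg := Groth.Agent.Lib.helper19.isRegular_of_ofList_eq_maximalIdeal A s.toList hspan hdim
  refine ⟨s.toList, hlen, hspan, ?_, hreg⟩
  intro r hr
  rw [← hspan]
  exact Ideal.subset_span hr

/-- Over a regular local ring of dimension `n`, `Ext^i(M, A) = 0` for `i < n - dim M`. -/
theorem ext_subsingleton_of_supportDim (n : ℕ) (hn : ringKrullDim A = n) (M : Type u)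
    [AddCommGroup M] [Module A M] [Module.Finite A M] (r i : ℕ)
    (hr : Module.supportDim A M ≤ r) (hi : i + r < n) :
    Subsingleton (Ext (ModuleCat.of A M) (ModuleCat.of A A) i) := by
  obtain ⟨rs, hlen, -, hmem, hreg⟩ := exists_regular_sop n hn
  exact Groth.Agent.Lib.helper11.Ischebeck.ext_subsingleton_of_regular A M rs hmem hreg r i hr
    (by omega)

end Groth.Agent.Lib.helper11.RegularSop
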