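import Mathlib
import Groth.Agent.Lib.helper11.InjDimKappa
import Groth.Agent.Lib.helper11.ExtRegular

/-!
# Bass' lemma on supports of `Ext^i(A/p, M)` (helper11)

If `p < s` are primes with no prime strictly in between and `s ∈ Supp Ext^i(A/p, M)`, then
`s ∈ Supp Ext^{i+1}(A/s, M)`.
-/

set_option autoImplicit false

namespace Groth.Agent.Lib.helper11.BassLemma

open CategoryTheory Abelian Groth.Agent.Lib.helper11.ExtShift Groth.Agent.Lib.helper11.ExtKoszul
  Groth.Agent.Lib.helper11.InjDimKappa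

universe u

variable {A : Type u} [CommRing A]

/-- Every class in `Ext^j(Y, M)` is killed by an element outside `s`. -/
def LocVanish (s : Ideal A) (Y M : ModuleCat.{u} A) (j : ℕ) : Prop :=
  ∀ e : Ext Y M j, ∃ r : A, r ∉ s ∧ r • e = 0

theorem locVanish_iff_notMem_support (s : PrimeSpectrum A) (Y M : ModuleCat.{u} A) (j : ℕ) :
    LocVanish s.asIdeal Y M j ↔ s ∉ Module.support A (Ext Y M j) := by
  rw [Module.notMem_support_iff']
  rfl

theorem locVanish_of_iso (s : Ideal A) {X X' Y : ModuleCat.{u} A} (φ : X ≅ X') {n : ℕ}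
    (h : LocVanish s X' Y n) : LocVanish s X Y n := by
  intro e
  have h1 : e = (Ext.mk₀ φ.hom).comp ((Ext.mk₀ φ.inv).comp e (zero_add n)) (zero_add n) := by
    rw [Ext.mk₀_comp_mk₀_assoc, φ.hom_inv_id, Ext.mk₀_id_comp]
  obtain ⟨r, hr, hre⟩ := h ((Ext.mk₀ φ.inv).comp e (zero_add n))
  refine ⟨r, hr, ?_⟩
  rw [h1, ← Ext.comp_smul, hre, Ext.comp_zero]

/-- Local vanishing of `Ext^j(-, M)` at `s` on `A/q` for primes `q ⊇ J` gives local vanishing on
all finite modules killed by `J`. -/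
theorem locVanish_of_primes [IsNoetherianRing A] (s : Ideal A) [hs : s.IsPrime] (J : Ideal A)
    (M : ModuleCat.{u} A) (j : ℕ)
    (hq : ∀ q : Ideal A, q.IsPrime → J ≤ q → LocVanish s (ModuleCat.of A (A ⧸ q)) M j)
    (Y : Type u) [AddCommGroup Y] [Module A Y] [hY : Module.Finite A Y]
    (hJ : ∀ a ∈ J, ∀ y : Y, a • y = 0) : LocVanish s (ModuleCat.of A Y) M j := by
  revert hJ
  induction hY using IsNoetherianRing.induction_on_isQuotientEquivQuotientPrime A with
  | subsingleton N =>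
    intro _ e
    refine ⟨1, ?_, ?_⟩
    · exact fun h => hs.ne_top ((Ideal.eq_top_iff_one s).mpr h)
    · rw [ext_eq_zero_of_isZero (ModuleCat.isZero_of_subsingleton (ModuleCat.of A N)) e,
        smul_zero]
  | quotient N p f =>
    intro hJ
    have hle : J ≤ p.1 := by
      intro a ha
      have h1 : a • f.symm 1 = 0 := hJ a ha _
      have h2 : f (a • f.symm 1) = 0 := by rw [h1, map_zero]
      rw [map_smul, f.apply_symm_apply] at h2
      have h3 : (Ideal.Quotient.mk p.1) a = 0 := by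
        rw [← h2, Algebra.smul_def, mul_one]
        rfl
      exact Ideal.Quotient.eq_zero_iff_mem.mp h3
    exact locVanish_of_iso s f.toModuleIso (hq p.1 p.2 hle)
  | exact N₁ N₂ N₃ f g hf hg hfg h₁ h₃ =>
    intro hJ
    have hJ₁ : ∀ a ∈ J, ∀ y : N₁, a • y = 0 := by
      intro a ha y
      apply hf
      rw [map_smul, map_zero]
      exact hJ a ha _
    have hJ₃ : ∀ a ∈ J, ∀ y : N₃, a • y = 0 := by
      intro a ha y
      obtain ⟨z, rfl⟩ := hg y
      rw [← map_smul, hJ a ha, map_zero]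
    have H₁ := h₁ hJ₁
    have H₃ := h₃ hJ₃
    have hS := sc_shortExact f g hf hg hfg
    intro e
    obtain ⟨r₁, hr₁, h1⟩ := H₁ ((Ext.mk₀ (sc f g hfg).f).comp e (zero_add j))
    have h2 : (Ext.mk₀ (sc f g hfg).f).comp (r₁ • e) (zero_add j) = 0 := by
      rw [Ext.comp_smul, h1]
    obtain ⟨x₃, hx₃⟩ := Ext.contravariant_sequence_exact₂ hS M (r₁ • e) h2
    obtain ⟨r₃, hr₃, h3⟩ := H₃ x₃
    refine ⟨r₃ * r₁, fun h => (hs.mem_or_mem h).elim hr₃ hr₁, ?_⟩
    rw [mul_smul, ← hx₃, ← Ext.comp_smul, h3, Ext.comp_zero]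

/-- **Bass' lemma**: if `p < s` are primes with no prime strictly between them and
`s ∈ Supp Ext^i(A/p, M)`, then `s ∈ Supp Ext^{i+1}(A/s, M)`. -/
theorem mem_support_ext_succ [IsNoetherianRing A] (M : Type u) [AddCommGroup M] [Module A M]
    [Module.Finite A M] (p s : PrimeSpectrum A) (hps : p < s)
    (hcov : ∀ q : PrimeSpectrum A, p < q → q ≤ s → q = s) (i : ℕ)
    (h : s ∈ Module.support A (Ext (ModuleCat.of A (A ⧸ p.asIdeal)) (ModuleCat.of A M) i)) :
    s ∈ Module.support A (Ext (ModuleCat.of A (A ⧸ s.asIdeal)) (ModuleCat.of A M) (i + 1)) := by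
  by_contra hcon
  rw [← locVanish_iff_notMem_support] at hcon
  obtain ⟨x, hxs, hxp⟩ := SetLike.exists_of_lt (show p.asIdeal < s.asIdeal from hps)
  haveI := p.2
  haveI := s.2
  -- local vanishing for `A/(p + x)`
  have hJ : LocVanish s.asIdeal (ModuleCat.of A (A ⧸ (p.asIdeal ⊔ Ideal.span {x})))
      (ModuleCat.of A M) (i + 1) := by
    refine locVanish_of_primes s.asIdeal (p.asIdeal ⊔ Ideal.span {x}) (ModuleCat.of A M) (i + 1) ?_
      (A ⧸ (p.asIdeal ⊔ Ideal.span {x})) ?_
    · intro q hq hJq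
      by_cases hqs : q ≤ s.asIdeal
      · have hpq : p.asIdeal < q := by
          refine lt_of_le_of_ne (le_sup_left.trans hJq) ?_
          intro heq
          exact hxp (heq ▸ hJq (Ideal.mem_sup_right (Ideal.mem_span_singleton_self x)))
        have := hcov ⟨q, hq⟩ hpq hqs
        subst this
        exact hcon
      · obtain ⟨r, hrq, hrs⟩ := Set.not_subset.mp hqs
        intro e
        refine ⟨r, hrs, ExtRegular.smul_ext_eq_zero A r ?_ e⟩
        intro y
        obtain ⟨b, rfl⟩ := Ideal.Quotient.mk_surjective y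
        change r • (Ideal.Quotient.mk q b) = 0
        rw [Algebra.smul_def, Ideal.Quotient.algebraMap_eq, ← map_mul,
          Ideal.Quotient.eq_zero_iff_mem]
        exact Ideal.mul_mem_right _ _ hrq
    · intro a ha y
      obtain ⟨b, rfl⟩ := Ideal.Quotient.mk_surjective y
      rw [Algebra.smul_def, Ideal.Quotient.algebraMap_eq, ← map_mul,
        Ideal.Quotient.eq_zero_iff_mem]
      exact Ideal.mul_mem_right _ _ ha
  -- the short exact sequence `0 → A/p → A/p → A/(p + x) → 0`
  have hreg : Function.Injective (mulX p.asIdeal x) := by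
    rw [injective_iff_map_eq_zero]
    intro y hy
    obtain ⟨b, rfl⟩ := Ideal.Quotient.mk_surjective y
    change x • (Ideal.Quotient.mk p.asIdeal b) = 0 at hy
    rw [Algebra.smul_def, Ideal.Quotient.algebraMap_eq, ← map_mul,
      Ideal.Quotient.eq_zero_iff_mem] at hy
    rw [Ideal.Quotient.eq_zero_iff_mem]
    exact (p.2.mem_or_mem hy).resolve_left hxp
  have hS := sc_shortExact (mulX p.asIdeal x)
    (proj p.asIdeal (p.asIdeal ⊔ Ideal.span {x}) le_sup_left) hreg
    (proj_surjective p.asIdeal _ le_sup_left) (exact_mulX_proj p.asIdeal _ x rfl)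
  -- Nakayama via supports
  have hmem : s ∈ Module.support A
      (QuotSMulTop x (Ext (ModuleCat.of A (A ⧸ p.asIdeal)) (ModuleCat.of A M) i)) := by
    rw [Module.support_quotSMulTop]
    exact ⟨h, by simpa using hxs⟩
  rw [Module.mem_support_iff'] at hmem
  obtain ⟨ebar, hebar⟩ := hmem
  obtain ⟨e, rfl⟩ := Submodule.Quotient.mk_surjective _ ebar
  obtain ⟨r, hrs, hr⟩ := hJ (hS.extClass.comp e (add_comm 1 i))
  apply hebar r hrs
  have hzero : hS.extClass.comp (r • e) (add_comm 1 i) = 0 := by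
    rw [Ext.comp_smul, hr]
  obtain ⟨(x₂ : Ext (ModuleCat.of A (A ⧸ p.asIdeal)) (ModuleCat.of A M) i), hx₂⟩ :=
    Ext.contravariant_sequence_exact₁ hS (ModuleCat.of A M) (r • e) (add_comm 1 i) hzero
  have hmul : ModuleCat.ofHom (mulX p.asIdeal x) = x • 𝟙 (ModuleCat.of A (A ⧸ p.asIdeal)) := by
    rfl
  have hx₂' : r • e = x • x₂ := by
    rw [← hx₂]
    change (Ext.mk₀ (ModuleCat.ofHom (mulX p.asIdeal x))).comp x₂ _ = _
    rw [hmul]
    exact mk₀_smul_id_comp A x x₂
  rw [← Submodule.Quotient.mk_smul, hx₂', Submodule.Quotient.mk_eq_zero]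
  exact Submodule.smul_mem_pointwise_smul _ _ _ Submodule.mem_top

end Groth.Agent.Lib.helper11.BassLemma
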