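import Mathlib
import Groth.Agent.Lib.helper11.BassLemma
import Groth.Agent.Lib.helper11.ExtBC
import Groth.Agent.Lib.Helper21.DepthKit3

/-!
# Depth of localizations via supports of `Ext^i(A/p, M)` (helper11)
-/

set_option autoImplicit false

namespace Groth.Agent.Lib.helper11.BassDepth

open CategoryTheory Abelian TensorProduct Groth.Agent.Lib.helper11.InjDimKappa
  Groth.Agent.Lib.helper11.BassLemma

universe u

variable {A : Type u} [CommRing A]

theorem ext_eq_zero_of_iso_right {X Y Y' : ModuleCat.{u} A} (ψ : Y ≅ Y') {n : ℕ}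
    (h : Subsingleton (Ext X Y' n)) (e : Ext X Y n) : e = 0 := by
  have h1 : e = (e.comp (Ext.mk₀ ψ.hom) (add_zero n)).comp (Ext.mk₀ ψ.inv) (add_zero n) := by
    rw [Ext.comp_assoc_of_third_deg_zero, Ext.mk₀_comp_mk₀, ψ.hom_inv_id, Ext.comp_mk₀_id]
  rw [h1, Subsingleton.elim (e.comp (Ext.mk₀ ψ.hom) (add_zero n)) 0, Ext.zero_comp]

theorem subsingleton_ext_of_iso {X X' Y Y' : ModuleCat.{u} A} (φ : X ≅ X') (ψ : Y ≅ Y') {n : ℕ}
    (h : Subsingleton (Ext X' Y' n)) : Subsingleton (Ext X Y n) := by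
  have h1 : Subsingleton (Ext X Y' n) :=
    ⟨fun a b => by rw [ext_eq_zero_of_iso φ h a, ext_eq_zero_of_iso φ h b]⟩
  exact ⟨fun a b => by rw [ext_eq_zero_of_iso_right ψ h1 a, ext_eq_zero_of_iso_right ψ h1 b]⟩

theorem subsingleton_ext_iff_of_iso {X X' Y Y' : ModuleCat.{u} A} (φ : X ≅ X') (ψ : Y ≅ Y')
    {n : ℕ} : Subsingleton (Ext X Y n) ↔ Subsingleton (Ext X' Y' n) :=
  ⟨subsingleton_ext_of_iso φ.symm ψ.symm, subsingleton_ext_of_iso φ ψ⟩

section LemmaD

variable [IsNoetherianRing A] (M : Type u) [AddCommGroup M] [Module A M] [Module.Finite A M]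

/-- `Ext^i_{A_p}(κ(p), M_p) = 0` iff `p ∉ Supp Ext^i_A(A/p, M)`. -/
theorem subsingleton_ext_localization_iff (p : PrimeSpectrum A) (i : ℕ) :
    Subsingleton (Ext (ModuleCat.of (Localization.AtPrime p.asIdeal)
        (Localization.AtPrime p.asIdeal ⧸
          IsLocalRing.maximalIdeal (Localization.AtPrime p.asIdeal)))
      (ModuleCat.of (Localization.AtPrime p.asIdeal)
        (LocalizedModule p.asIdeal.primeCompl M)) i) ↔
    p ∉ Module.support A (Ext (ModuleCat.of A (A ⧸ p.asIdeal)) (ModuleCat.of A M) i) := by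
  obtain ⟨e⟩ := ExtBC.ext_baseChange A (Localization.AtPrime p.asIdeal) M i (A ⧸ p.asIdeal)
  have hmap : p.asIdeal.map (algebraMap A (Localization.AtPrime p.asIdeal)) =
      IsLocalRing.maximalIdeal (Localization.AtPrime p.asIdeal) :=
    Localization.AtPrime.map_eq_maximalIdeal
  let φ₁ : (Localization.AtPrime p.asIdeal ⧸
        IsLocalRing.maximalIdeal (Localization.AtPrime p.asIdeal)) ≃ₗ[Localization.AtPrime p.asIdeal]
      (Localization.AtPrime p.asIdeal) ⊗[A] (A ⧸ p.asIdeal) :=
    (Submodule.quotEquivOfEq _ _ hmap.symm) ≪≫ₗ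
      (Algebra.TensorProduct.quotIdealMapEquivTensorQuot (Localization.AtPrime p.asIdeal)
        p.asIdeal).toLinearEquiv
  let ψ₁ : LocalizedModule p.asIdeal.primeCompl M ≃ₗ[Localization.AtPrime p.asIdeal]
      (Localization.AtPrime p.asIdeal) ⊗[A] M :=
    LocalizedModule.equivTensorProduct p.asIdeal.primeCompl M
  rw [subsingleton_ext_iff_of_iso φ₁.toModuleIso ψ₁.toModuleIso, Module.notMem_support_iff,
    ← e.subsingleton_congr]
  exact (LocalizedModule.equivTensorProduct p.asIdeal.primeCompl _).symm.subsingleton_congr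

/-- `n ≤ depth M_p` iff `p ∉ Supp Ext^i_A(A/p, M)` for all `i < n`. -/
theorem natCast_le_depth_localization_iff (p : PrimeSpectrum A)
    [Nontrivial (LocalizedModule p.asIdeal.primeCompl M)] (n : ℕ) :
    (n : ℕ∞) ≤ LocCoh.depth (Localization.AtPrime p.asIdeal)
      (LocalizedModule p.asIdeal.primeCompl M) ↔
    ∀ i < n, p ∉ Module.support A (Ext (ModuleCat.of A (A ⧸ p.asIdeal)) (ModuleCat.of A M) i) := by
  unfold LocCoh.depth
  rw [Groth.Agent.S0320.natCast_le_depth_iff (Localization.AtPrime p.asIdeal)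
    (IsLocalRing.maximalIdeal (Localization.AtPrime p.asIdeal))
    (LocalizedModule p.asIdeal.primeCompl M)
    Groth.Agent.Lib.Helper21.DepthKit.maximalIdeal_smul_top_ne_top n]
  unfold Groth.Agent.S0319.A
  simp_rw [subsingleton_ext_localization_iff]

/-- Chain form of Bass' lemma. -/
theorem mem_support_ext_add (p : PrimeSpectrum A) (n : ℕ)
    (h : p ∈ Module.support A (Ext (ModuleCat.of A (A ⧸ p.asIdeal)) (ModuleCat.of A M) n)) :
    ∀ (k : ℕ) (t : PrimeSpectrum.zeroLocus (p.asIdeal : Set A)), Order.height t = k →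
      t.1 ∈ Module.support A
        (Ext (ModuleCat.of A (A ⧸ t.1.asIdeal)) (ModuleCat.of A M) (n + k)) := by
  intro k
  induction k with
  | zero =>
    intro t ht
    have hmin : IsMin t := Order.height_eq_zero.mp (by simpa using ht)
    let p' : PrimeSpectrum.zeroLocus (p.asIdeal : Set A) :=
      ⟨p, by rw [PrimeSpectrum.mem_zeroLocus]⟩
    have hle : p' ≤ t := by
      have := t.2
      rw [PrimeSpectrum.mem_zeroLocus] at this
      exact this
    have heq : t = p' := le_antisymm (hmin hle) hle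
    subst heq
    exact h
  | succ k ih =>
    intro t ht
    obtain ⟨-, ⟨y, hyt, hy⟩, hall⟩ := Order.height_eq_coe_add_one_iff.mp (by simpa using ht)
    have h1 := ih y hy
    have h2 : t.1 ∈ Module.support A
        (Ext (ModuleCat.of A (A ⧸ y.1.asIdeal)) (ModuleCat.of A M) (n + k)) :=
      Module.mem_support_mono hyt.le h1
    refine mem_support_ext_succ M y.1 t.1 hyt ?_ (n + k) h2
    intro q hyq hqt
    have hq : q ∈ PrimeSpectrum.zeroLocus (p.asIdeal : Set A) := by
      have := y.2
      rw [PrimeSpectrum.mem_zeroLocus] at this ⊢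
      exact this.trans hyq.le
    by_contra hne
    have hlt : (⟨q, hq⟩ : PrimeSpectrum.zeroLocus (p.asIdeal : Set A)) < t :=
      lt_of_le_of_ne hqt (fun h => hne (congrArg Subtype.val h))
    have h3 := hall ⟨q, hq⟩ hlt
    have h4 := Order.height_add_one_le (show y < ⟨q, hq⟩ from hyq)
    rw [hy] at h4
    have h5 : ((k + 1 : ℕ) : ℕ∞) ≤ k := by
      push_cast
      exact h4.trans h3
    have : k + 1 ≤ k := by exact_mod_cast h5
    omega

/-- `depth M_s ≤ depth M_p + ht(s/p)`. -/
theorem depth_localization_le (p s : Ideal A) [hp : p.IsPrime] [hs : s.IsPrime] (hps : p ≤ s) :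
    LocCoh.depth (Localization.AtPrime s) (LocalizedModule s.primeCompl M) ≤
      LocCoh.depth (Localization.AtPrime p) (LocalizedModule p.primeCompl M) +
        (s.map (Ideal.Quotient.mk p)).height := by
  rcases subsingleton_or_nontrivial (LocalizedModule p.primeCompl M) with hsub | hnt
  · rw [Groth.Agent.Lib.Helper21.DepthKit.depth_of_subsingleton
      (A := Localization.AtPrime p) (M := LocalizedModule p.primeCompl M), top_add]
    exact le_top
  let P : PrimeSpectrum A := ⟨p, hp⟩
  let S : PrimeSpectrum A := ⟨s, hs⟩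
  have hPS : P ≤ S := hps
  have hntS : Nontrivial (LocalizedModule s.primeCompl M) := by
    have h1 : P ∈ Module.support A M := Module.mem_support_iff.mpr hnt
    exact Module.mem_support_iff.mp (Module.mem_support_mono hPS h1)
  obtain ⟨n, hn⟩ := Groth.Agent.Lib.Helper21.DepthKit.exists_nat_depth
    (A := Localization.AtPrime p) (M := LocalizedModule p.primeCompl M)
  -- `p ∈ Supp Ext^n(A/p, M)`
  have hle := (natCast_le_depth_localization_iff M P n).mp (by rw [hn])
  have hnle : ¬ ((n + 1 : ℕ) : ℕ∞) ≤ LocCoh.depth (Localization.AtPrime P.asIdeal)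
      (LocalizedModule P.asIdeal.primeCompl M) := by
    change ¬ ((n + 1 : ℕ) : ℕ∞) ≤ LocCoh.depth (Localization.AtPrime p)
      (LocalizedModule p.primeCompl M)
    rw [hn]
    intro h
    have : n + 1 ≤ n := by exact_mod_cast h
    omega
  rw [natCast_le_depth_localization_iff M P (n + 1)] at hnle
  push Not at hnle
  obtain ⟨i, hi, hmem⟩ := hnle
  have hin : i = n := by
    by_contra hne
    exact hle i (by omega) hmem
  subst hin
  -- the height
  have hker : RingHom.ker (Ideal.Quotient.mk p) ≤ s := by rw [Ideal.mk_ker]; exact hps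
  have hprime : (s.map (Ideal.Quotient.mk p)).IsPrime :=
    Ideal.map_isPrime_of_surjective Ideal.Quotient.mk_surjective hker
  let t₀ : PrimeSpectrum (A ⧸ p) := ⟨s.map (Ideal.Quotient.mk p), hprime⟩
  have hfin : (s.map (Ideal.Quotient.mk p)).height ≠ ⊤ := Ideal.height_ne_top hprime.ne_top
  obtain ⟨k, hk⟩ := ENat.ne_top_iff_exists.mp hfin
  have hk' : Order.height t₀ = k := by
    rw [hk]
    exact (PrimeSpectrum.height_eq_orderHeight t₀).symm
  let t := p.primeSpectrumQuotientOrderIsoZeroLocus t₀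
  have ht : Order.height t = k := by rw [Order.height_orderIso, hk']
  have htS : t.1 = S := by
    apply PrimeSpectrum.ext
    change (s.map (Ideal.Quotient.mk p)).comap (Ideal.Quotient.mk p) = s
    rw [Ideal.comap_map_of_surjective _ Ideal.Quotient.mk_surjective, ← RingHom.ker_eq_comap_bot,
      sup_eq_left]
    exact hker
  have hmemS := mem_support_ext_add M P i hmem k t ht
  rw [htS] at hmemS
  have hfinal : ¬ ((i + k + 1 : ℕ) : ℕ∞) ≤ LocCoh.depth (Localization.AtPrime S.asIdeal)
      (LocalizedModule S.asIdeal.primeCompl M) := by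
    rw [natCast_le_depth_localization_iff M S (i + k + 1)]
    push Not
    exact ⟨i + k, by omega, hmemS⟩
  change ¬ ((i + k + 1 : ℕ) : ℕ∞) ≤ LocCoh.depth (Localization.AtPrime s)
      (LocalizedModule s.primeCompl M) at hfinal
  rw [hn, ← hk]
  rw [not_le] at hfinal
  have : LocCoh.depth (Localization.AtPrime s) (LocalizedModule s.primeCompl M) ≤
      ((i + k : ℕ) : ℕ∞) := by
    rw [Nat.cast_add_one] at hfinal
    exact ENat.lt_natCast_add_one_iff.mp hfinal
  exact_mod_cast this

end LemmaD

end Groth.Agent.Lib.helper11.BassDepth
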