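import Mathlib

/-!
# Basic facts on mapping cones of complexes of modules (helper11)
-/

set_option autoImplicit false
universe u

namespace Groth.Agent.Lib.helper11.ConeBasic

open CategoryTheory CategoryTheory.Limits CochainComplex HomologicalComplex

variable {V : Type u} [CommRing V]

/-- A module which is a "biproduct" of two flat modules is flat. -/
theorem flat_of_biprod {A B M : Type u} [AddCommGroup A] [AddCommGroup B] [AddCommGroup M]
    [Module V A] [Module V B] [Module V M] [Module.Flat V A] [Module.Flat V B]
    (ι₁ : A →ₗ[V] M) (ι₂ : B →ₗ[V] M) (π₁ : M →ₗ[V] A) (π₂ : M →ₗ[V] B)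
    (h : ι₁ ∘ₗ π₁ + ι₂ ∘ₗ π₂ = LinearMap.id) : Module.Flat V M := by
  rw [Module.Flat.iff_lTensor_preserves_injective_linearMap]
  intro N N' _ _ _ _ f hf
  rw [injective_iff_map_eq_zero]
  intro x hx
  have h1 : (π₁.rTensor N) x = 0 := by
    apply Module.Flat.lTensor_preserves_injective_linearMap (M := A) f hf
    rw [map_zero, ← LinearMap.comp_apply, LinearMap.lTensor_comp_rTensor,
      ← LinearMap.rTensor_comp_lTensor, LinearMap.comp_apply, hx, map_zero]
  have h2 : (π₂.rTensor N) x = 0 := by
    apply Module.Flat.lTensor_preserves_injective_linearMap (M := B) f hf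
    rw [map_zero, ← LinearMap.comp_apply, LinearMap.lTensor_comp_rTensor,
      ← LinearMap.rTensor_comp_lTensor, LinearMap.comp_apply, hx, map_zero]
  have h3 : x = ((ι₁ ∘ₗ π₁ + ι₂ ∘ₗ π₂).rTensor N) x := by
    rw [h, LinearMap.rTensor_id, LinearMap.id_apply]
  rw [h3, LinearMap.rTensor_add, LinearMap.add_apply, LinearMap.rTensor_comp,
    LinearMap.rTensor_comp, LinearMap.comp_apply, LinearMap.comp_apply, h1, h2, map_zero,
    map_zero, add_zero]

/-- Terms of the mapping cone of a map between complexes of flat modules are flat. -/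
theorem flat_X {K L : CochainComplex (ModuleCat.{u} V) ℤ} (u : K ⟶ L)
    (hK : ∀ i : ℤ, Module.Flat V (K.X i)) (hL : ∀ i : ℤ, Module.Flat V (L.X i)) (i : ℤ) :
    Module.Flat V ((mappingCone u).X i) := by
  haveI := hK (i + 1)
  haveI := hL i
  refine flat_of_biprod ((mappingCone.inl u).v (i + 1) i (by omega)).hom
    ((mappingCone.inr u).f i).hom ((mappingCone.fst u).1.v i (i + 1) rfl).hom
    ((mappingCone.snd u).v i i (add_zero i)).hom ?_
  ext x
  have h := congrArg (fun t => t.hom x) (mappingCone.id_X u i (i + 1) rfl)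
  simpa using h

theorem finite_of_exact {X₁ X₂ X₃ : ModuleCat.{u} V} [IsNoetherianRing V] (f : X₁ ⟶ X₂)
    (g : X₂ ⟶ X₃) (w : f ≫ g = 0) (hex : (ShortComplex.mk f g w).Exact)
    (h1 : Module.Finite V X₁) (h3 : Module.Finite V X₃) : Module.Finite V X₂ := by
  rw [ShortComplex.moduleCat_exact_iff_range_eq_ker] at hex
  dsimp at hex
  constructor
  apply Submodule.fg_of_fg_map_of_fg_inf_ker g.hom
  · exact IsNoetherian.noetherian _
  · rw [top_inf_eq, ← hex, LinearMap.range_eq_map]
    exact Submodule.FG.map _ Module.Finite.fg_top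

/-- Homology of the mapping cone is finite if the homologies of source and target are
(Noetherian base ring). -/
theorem finite_homology [IsNoetherianRing V] {K L : CochainComplex (ModuleCat.{u} V) ℤ}
    (u : K ⟶ L) (n : ℤ) (hK : Module.Finite V (K.homology (n + 1)))
    (hL : Module.Finite V (L.homology n)) :
    Module.Finite V ((mappingCone u).homology n) := by
  have hT := HomotopyCategory.mappingCone_triangleh_distinguished u
  have hex := (HomotopyCategory.homologyFunctor (ModuleCat.{u} V) (ComplexShape.up ℤ)
    0).homologySequence_exact₃ _ hT n (n + 1) rfl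
  let F := HomotopyCategory.homologyFunctorFactors (ModuleCat.{u} V) (ComplexShape.up ℤ)
  haveI : Module.Finite V
      ((HomologicalComplex.homologyFunctor (ModuleCat.{u} V) (ComplexShape.up ℤ) n).obj L) := hL
  haveI : Module.Finite V
      ((HomologicalComplex.homologyFunctor (ModuleCat.{u} V) (ComplexShape.up ℤ) (n + 1)).obj K) :=
    hK
  have h1 : Module.Finite V
      ((HomotopyCategory.homologyFunctor (ModuleCat.{u} V) (ComplexShape.up ℤ) n).obj
        ((HomotopyCategory.quotient _ _).obj L)) :=
    Module.Finite.equiv ((F n).app L).toLinearEquiv.symm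
  have h3 : Module.Finite V
      ((HomotopyCategory.homologyFunctor (ModuleCat.{u} V) (ComplexShape.up ℤ) (n + 1)).obj
        ((HomotopyCategory.quotient _ _).obj K)) :=
    Module.Finite.equiv ((F (n + 1)).app K).toLinearEquiv.symm
  have hmid : Module.Finite V
      ((HomotopyCategory.homologyFunctor (ModuleCat.{u} V) (ComplexShape.up ℤ) n).obj
        ((HomotopyCategory.quotient _ _).obj (mappingCone u))) :=
    finite_of_exact _ _ _ hex h1 h3
  haveI : Module.Finite V
      ((HomotopyCategory.quotient (ModuleCat.{u} V) (ComplexShape.up ℤ) ⋙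
        HomotopyCategory.homologyFunctor (ModuleCat.{u} V) (ComplexShape.up ℤ) n).obj
          (mappingCone u)) := hmid
  exact Module.Finite.equiv ((F n).app (mappingCone u)).toLinearEquiv

end Groth.Agent.Lib.helper11.ConeBasic
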