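import Mathlib
import Groth.Agent.Lib.helper11.InjDimKappa
import Groth.Agent.Lib.helper19.RegularLocalSeq

/-!
# Global dimension of a regular local ring (helper11)
-/

set_option autoImplicit false

namespace Groth.Agent.Lib.helper11.GlDimRegular

open CategoryTheory Abelian Groth.Agent.Lib.helper11.ExtKoszul
  Groth.Agent.Lib.helper11.InjDimKappa

universe u

variable {A : Type u} [CommRing A]

section Local

variable [IsLocalRing A] [IsNoetherianRing A]

/-- If `Ext^i(κ, N) = 0` for all finite `N` and all `i ≥ n`, then every `A`-module has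
projective dimension `< n + 1` ... (here stated with `n = d + 1`). -/
theorem hasProjectiveDimensionLT_of_ext_residue (d : ℕ)
    (hκ : ∀ (N : Type u) [AddCommGroup N] [Module A N] [Module.Finite A N] (i : ℕ), d + 1 ≤ i →
      Subsingleton (Ext (ModuleCat.of A (IsLocalRing.ResidueField A)) (ModuleCat.of A N) i))
    (M : ModuleCat.{u} A) : HasProjectiveDimensionLT M (d + 1) := by
  -- finite modules have projective dimension `≤ d`
  have hfin : ∀ (L : Type u) [AddCommGroup L] [Module A L] [Module.Finite A L],
      HasProjectiveDimensionLT (ModuleCat.of A L) (d + 1) := by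
    intro L _ _ _
    refine ModuleCat.hasProjectiveDimensionLT_of_forall_finite (ModuleCat.of A L) (d + 1) ?_
    intro N hN
    refine ext_subsingleton_of_primes ⊥ N (d + 1) ?_ L ?_
    · intro q hq _
      exact ext_quotient_prime_subsingleton N (d + 1) (fun i hi => hκ N i hi) q hq (d + 1) le_rfl
    · intro a ha y
      rw [(Submodule.mem_bot A).mp ha, zero_smul]
  -- every module has injective dimension `≤ d`
  have hinj : ∀ N : ModuleCat.{u} A, HasInjectiveDimensionLT N (d + 1) := by
    intro N
    refine hasInjectiveDimensionLT_of_ext_quotient d N fun I => ?_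
    haveI := hfin (A ⧸ I)
    exact HasProjectiveDimensionLT.subsingleton (ModuleCat.of A (A ⧸ I)) (d + 1) (d + 1) le_rfl N
  refine HasProjectiveDimensionLT.mk fun i hi Y e => ?_
  haveI := hinj Y
  exact e.eq_zero_of_hasInjectiveDimensionLT (d + 1) hi

end Local

/-- **Serre**: every module over a regular local ring of dimension `d` has projective dimension
at most `d`. -/
theorem hasProjectiveDimensionLT_of_isRegularLocalRing [IsRegularLocalRing A] (d : ℕ)
    (hd : ringKrullDim A = d) (M : ModuleCat.{u} A) : HasProjectiveDimensionLT M (d + 1) := by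
  classical
  obtain ⟨s, hs1, hs2⟩ := Submodule.FG.exists_span_finset_card_eq_spanFinrank
    (IsNoetherian.noetherian (IsLocalRing.maximalIdeal A))
  have hspan : Ideal.ofList s.toList = IsLocalRing.maximalIdeal A := by
    rw [← hs2]
    unfold Ideal.ofList
    congr 1
    ext y
    simp
  have hdim : ringKrullDim A = (s.toList.length : ℕ) := by
    rw [Finset.length_toList, hs1]
    exact (IsRegularLocalRing.spanFinrank_maximalIdeal (R := A)).symm
  have hlen : s.toList.length = d := by
    have : ((s.toList.length : ℕ) : WithBot ℕ∞) = (d : WithBot ℕ∞) := by rw [← hdim, hd]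
    exact_mod_cast this
  have hreg := Groth.Agent.Lib.helper19.isRegular_of_ofList_eq_maximalIdeal A s.toList hspan hdim
  have hclaim := claim_ofList A s.toList hreg.toIsWeaklyRegular
  rw [hspan, hlen] at hclaim
  refine hasProjectiveDimensionLT_of_ext_residue d ?_ M
  intro N _ _ _ i hi
  refine ⟨fun a b => ?_⟩
  have h0 : ∀ e : Ext (ModuleCat.of A (A ⧸ IsLocalRing.maximalIdeal A)) (ModuleCat.of A N) i,
      e = 0 := fun e => hclaim.1 N i (by omega) e
  exact (h0 a).trans (h0 b).symm

end Groth.Agent.Lib.helper11.GlDimRegular
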