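import Mathlib

/-!
# A stably free ideal of a domain is principal (helper11)

If `P` is an ideal of a domain `S` with `P × S^a ≃ S^(a+1)`, then `P` is principal.
-/

set_option autoImplicit false

namespace Groth.Agent.Lib.helper11.StablyFreeIdeal

open Matrix

universe u

section Det

variable {S : Type u} [CommRing S] {a : ℕ} (c : Fin a → (Fin (a + 1) → S))

/-- `v ↦ det [v; c₁; …; c_a]` as a linear map. -/
noncomputable def D : (Fin (a + 1) → S) →ₗ[S] S :=
  ∑ j : Fin (a + 1), ((-1 : S) ^ (j : ℕ) *
    ((Matrix.of c).submatrix id j.succAbove).det) • LinearMap.proj j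

theorem D_eq_det (v : Fin (a + 1) → S) :
    D c v = (Matrix.of (Fin.cons v c : Fin (a + 1) → (Fin (a + 1) → S))).det := by
  rw [Matrix.det_succ_row_zero]
  unfold D
  rw [LinearMap.sum_apply]
  apply Finset.sum_congr rfl
  intro j _
  rw [LinearMap.smul_apply, LinearMap.proj_apply, smul_eq_mul]
  have h1 : (Matrix.of (Fin.cons v c : Fin (a + 1) → (Fin (a + 1) → S))) 0 j = v j := rfl
  have h2 : (Matrix.of (Fin.cons v c : Fin (a + 1) → (Fin (a + 1) → S))).submatrix Fin.succ
      j.succAbove = (Matrix.of c).submatrix id j.succAbove := by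
    ext i l
    rfl
  rw [h1, h2]
  ring

theorem D_apply_c (i : Fin a) : D c (c i) = 0 := by
  rw [D_eq_det]
  apply Matrix.det_zero_of_row_eq (i := 0) (j := i.succ) (Fin.succ_ne_zero i).symm
  ext l
  rfl

end Det

section Main

variable {S : Type u} [CommRing S] [IsDomain S]

theorem isPrincipal_of_equiv (P : Ideal S) (a : ℕ)
    (φ : (P × (Fin a → S)) ≃ₗ[S] (Fin (a + 1) → S)) : P.IsPrincipal := by
  classical
  let c : Fin a → (Fin (a + 1) → S) := fun i => φ (0, Pi.single i 1)
  let w : P →ₗ[S] (Fin (a + 1) → S) := φ.toLinearMap ∘ₗ LinearMap.inl S P (Fin a → S)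
  let ρ : (Fin (a + 1) → S) →ₗ[S] (Fin a → S) :=
    LinearMap.snd S P (Fin a → S) ∘ₗ φ.symm.toLinearMap
  have hρc : ∀ i, ρ (c i) = Pi.single i 1 := by
    intro i
    change (φ.symm (φ (0, Pi.single i 1))).2 = _
    rw [φ.symm_apply_apply]
  -- decomposition
  have hψ : ∀ t : Fin a → S, φ ((0 : P), t) = ∑ i, t i • c i := by
    intro t
    have h2 : t = ∑ i, t i • (Pi.single i 1 : Fin a → S) := by
      ext l
      simp [Finset.sum_apply, Pi.single_apply]
    let ψ : (Fin a → S) →ₗ[S] (Fin (a + 1) → S) :=
      φ.toLinearMap ∘ₗ LinearMap.inr S P (Fin a → S)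
    change ψ t = _
    conv_lhs => rw [h2]
    rw [map_sum]
    apply Finset.sum_congr rfl
    intro i _
    rw [map_smul]
    rfl
  have hdec : ∀ (p : P) (t : Fin a → S), φ (p, t) = w p + ∑ i, t i • c i := by
    intro p t
    have h1 : (p, t) = (p, (0 : Fin a → S)) + ((0 : P), t) := by simp
    rw [h1, map_add, hψ]
    rfl
  have hD : ∀ (p : P) (t : Fin a → S), D c (φ (p, t)) = D c (w p) := by
    intro p t
    rw [hdec, map_add, map_sum]
    simp [D_apply_c]
  -- surjectivity of `D`
  have hsurj : ∃ v, D c v = 1 := by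
    by_contra hcon
    have hI : LinearMap.range (D c) ≠ ⊤ := by
      intro h
      apply hcon
      have : (1 : S) ∈ LinearMap.range (D c) := by rw [h]; trivial
      exact this
    obtain ⟨Q, hQ, hIQ⟩ := Ideal.exists_le_maximal (LinearMap.range (D c) : Ideal S) hI
    letI : Field (S ⧸ Q) := Ideal.Quotient.field Q
    let mk : S →+* (S ⧸ Q) := Ideal.Quotient.mk Q
    let cbar : Fin a → (Fin (a + 1) → S ⧸ Q) := fun i j => mk (c i j)
    have hli : LinearIndependent (S ⧸ Q) cbar := by
      rw [Fintype.linearIndependent_iff]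
      intro g hg i
      choose t ht using fun i => Ideal.Quotient.mk_surjective (g i)
      have h1 : ∀ j, (∑ i, t i • c i) j ∈ Q := by
        intro j
        rw [← Ideal.Quotient.eq_zero_iff_mem]
        have := congrFun hg j
        simp only [Finset.sum_apply, Pi.smul_apply, smul_eq_mul, Pi.zero_apply] at this
        rw [Finset.sum_apply, map_sum]
        rw [← this]
        apply Finset.sum_congr rfl
        intro i _
        rw [Pi.smul_apply, smul_eq_mul, map_mul, ht]
      have h2 : ∀ (u : Fin (a + 1) → S), (∀ j, u j ∈ Q) → ∀ l, ρ u l ∈ Q := by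
        intro u hu l
        have : u = ∑ j, u j • (Pi.single j 1 : Fin (a + 1) → S) := by
          ext l
          simp [Finset.sum_apply, Pi.single_apply]
        rw [this, map_sum, Finset.sum_apply]
        apply Ideal.sum_mem
        intro j _
        rw [map_smul, Pi.smul_apply, smul_eq_mul]
        exact Ideal.mul_mem_right _ _ (hu j)
      have h3 := h2 _ h1 i
      rw [map_sum] at h3
      have h4 : (∑ l, ρ (t l • c l)) i = t i := by
        rw [Finset.sum_apply]
        simp only [map_smul, hρc, Pi.smul_apply, smul_eq_mul, Pi.single_apply, mul_ite, mul_one,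
          mul_zero]
        simp
      rw [h4] at h3
      rw [← ht i]
      exact Ideal.Quotient.eq_zero_iff_mem.2 h3
    have hfr : a < Module.finrank (S ⧸ Q) (Fin (a + 1) → S ⧸ Q) := by
      rw [Module.finrank_fin_fun]
      exact Nat.lt_succ_self a
    obtain ⟨vbar, hvbar⟩ := exists_linearIndependent_cons_of_lt_finrank hli hfr
    choose v hv using fun j => Ideal.Quotient.mk_surjective (vbar j)
    have hdet : (Matrix.of (Fin.cons vbar cbar : Fin (a + 1) → (Fin (a + 1) → S ⧸ Q))).det ≠ 0 := by
      have h1 : IsUnit (Matrix.of (Fin.cons vbar cbar : Fin (a + 1) → (Fin (a + 1) → S ⧸ Q))) :=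
        Matrix.linearIndependent_rows_iff_isUnit.1 hvbar
      exact ((Matrix.isUnit_iff_isUnit_det _).1 h1).ne_zero
    apply hdet
    have hmap : (Matrix.of (Fin.cons vbar cbar : Fin (a + 1) → (Fin (a + 1) → S ⧸ Q))) =
        (Matrix.of (Fin.cons v c : Fin (a + 1) → (Fin (a + 1) → S))).map mk := by
      ext i j
      refine Fin.cases ?_ (fun i' => ?_) i
      · change vbar j = mk (v j)
        rw [hv j]
      · rfl
    rw [hmap, ← RingHom.mapMatrix_apply, ← RingHom.map_det, ← D_eq_det]
    exact Ideal.Quotient.eq_zero_iff_mem.2 (hIQ ⟨v, rfl⟩)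
  obtain ⟨v, hv⟩ := hsurj
  obtain ⟨⟨p₀, t₀⟩, hpt⟩ := φ.surjective v
  have hp₀ : D c (w p₀) = 1 := by rw [← hD p₀ t₀, hpt, hv]
  refine ⟨⟨(p₀ : S), ?_⟩⟩
  apply le_antisymm
  · intro q hq
    rw [Submodule.mem_span_singleton]
    refine ⟨D c (w ⟨q, hq⟩), ?_⟩
    -- q = q * Λ p₀ = Λ (q p₀) = p₀ Λ q
    have h1 : (q : S) • p₀ = (p₀ : S) • (⟨q, hq⟩ : P) := by
      ext
      simp [mul_comm]
    have h2 := congrArg (fun z => D c (w z)) h1
    simp only [map_smul, smul_eq_mul, hp₀, mul_one] at h2
    rw [smul_eq_mul, mul_comm]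
    exact h2.symm
  · rw [Submodule.span_le]
    intro z hz
    rw [Set.mem_singleton_iff] at hz
    rw [hz]
    exact p₀.2

theorem rank_ideal_eq_one (P : Ideal S) (hP : P ≠ ⊥) : Module.rank S P = 1 := by
  apply le_antisymm
  · have := LinearMap.rank_le_of_injective P.subtype (Submodule.injective_subtype P)
    rwa [Module.rank_self] at this
  · obtain ⟨p₀, hp₀, hp₀0⟩ := Submodule.exists_mem_ne_zero_of_ne_bot hP
    let f : S →ₗ[S] P := LinearMap.toSpanSingleton S P ⟨p₀, hp₀⟩
    have hf : Function.Injective f := by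
      rw [injective_iff_map_eq_zero]
      intro s hs
      have := congrArg Subtype.val hs
      simp only [f, LinearMap.toSpanSingleton_apply, Submodule.coe_smul, smul_eq_mul,
        ZeroMemClass.coe_zero, mul_eq_zero] at this
      rcases this with h | h
      · exact h
      · exact absurd h hp₀0
    have := LinearMap.rank_le_of_injective f hf
    rwa [Module.rank_self] at this

theorem isPrincipal_of_stablyFree (P : Ideal S) (G G' : Type u) [AddCommGroup G] [Module S G]
    [Module.Free S G] [Module.Finite S G] [AddCommGroup G'] [Module S G'] [Module.Free S G']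
    [Module.Finite S G'] (φ : (P × G) ≃ₗ[S] G') : P.IsPrincipal := by
  by_cases hP : P = ⊥
  · rw [hP]
    exact bot_isPrincipal
  have hrank : Module.rank S (P × G) = Module.rank S P + Module.rank S G := by
    have h1 := LinearMap.rank_range_add_rank_ker (LinearMap.snd S P G)
    rw [Submodule.range_snd, rank_top, LinearMap.ker_snd] at h1
    have h2 : Module.rank S (LinearMap.range (LinearMap.inl S P G)) = Module.rank S P :=
      (LinearEquiv.ofInjective (LinearMap.inl S P G) LinearMap.inl_injective).rank_eq.symm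
    rw [h2] at h1
    rw [← h1, add_comm]
  have hb : Module.finrank S G' = Module.finrank S G + 1 := by
    have h1 : Module.rank S (P × G) = Module.rank S G' := φ.rank_eq
    rw [hrank, rank_ideal_eq_one P hP, ← Module.finrank_eq_rank S G,
      ← Module.finrank_eq_rank S G'] at h1
    have h2 : ((1 + Module.finrank S G : ℕ) : Cardinal) = (Module.finrank S G' : ℕ) := by
      rw [← h1]
      push_cast
      rfl
    have h3 := Nat.cast_injective h2
    omega
  let eG : G ≃ₗ[S] (Fin (Module.finrank S G) → S) := (Module.finBasis S G).equivFun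
  let eG' : G' ≃ₗ[S] (Fin (Module.finrank S G') → S) := (Module.finBasis S G').equivFun
  let e1 : (Fin (Module.finrank S G') → S) ≃ₗ[S] (Fin (Module.finrank S G + 1) → S) :=
    LinearEquiv.funCongrLeft S S (finCongr hb.symm)
  exact isPrincipal_of_equiv P (Module.finrank S G)
    ((LinearEquiv.prodCongr (LinearEquiv.refl S P) eG.symm).trans ((φ.trans eG').trans e1))

end Main

end Groth.Agent.Lib.helper11.StablyFreeIdeal
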