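import Mathlib
import Groth.Agent.Lib.helper11.ExtShift

/-!
# Finite projective dimension + projective after flat base change ⇒ stably free (helper11)
-/

set_option autoImplicit false

namespace Groth.Agent.Lib.helper11.StablyFreeLoc

open CategoryTheory TensorProduct

universe u

/-- `N ⊕ (finite free) ≅ (finite free)`. -/
def StablyFree (S : Type u) [CommRing S] (N : Type u) [AddCommGroup N] [Module S N] : Prop :=
  ∃ (G G' : Type u) (_ : AddCommGroup G) (_ : Module S G) (_ : Module.Free S G)
    (_ : Module.Finite S G) (_ : AddCommGroup G') (_ : Module S G') (_ : Module.Free S G')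
    (_ : Module.Finite S G'), Nonempty ((N × G) ≃ₗ[S] G')

theorem StablyFree.of_equiv {S : Type u} [CommRing S] {N N' : Type u} [AddCommGroup N]
    [Module S N] [AddCommGroup N'] [Module S N'] (e : N ≃ₗ[S] N') (h : StablyFree S N) :
    StablyFree S N' := by
  obtain ⟨G, G', i1, i2, i3, i4, i5, i6, i7, i8, ⟨φ⟩⟩ := h
  exact ⟨G, G', i1, i2, i3, i4, i5, i6, i7, i8,
    ⟨(LinearEquiv.prodCongr e.symm (LinearEquiv.refl S G)).trans φ⟩⟩

variable {R : Type u} [CommRing R] [IsLocalRing R] [IsNoetherianRing R]
variable (S : Type u) [CommRing S] [Algebra R S] [Module.Flat R S]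

theorem stablyFree_baseChange : ∀ (n : ℕ) (M : Type u) [AddCommGroup M] [Module R M]
    [Module.Finite R M], HasProjectiveDimensionLT (ModuleCat.of R M) (n + 1) →
    Module.Projective S (S ⊗[R] M) → StablyFree S (S ⊗[R] M) := by
  intro n
  induction n with
  | zero =>
    intro M _ _ _ hpd _
    haveI : Projective (ModuleCat.of R M) := projective_iff_hasProjectiveDimensionLT_one.2 hpd
    haveI : Module.Projective R M := (IsProjective.iff_projective (R := R) (P := M)).2 inferInstance
    haveI : Module.Free R M := Module.free_of_flat_of_isLocalRing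
    refine ⟨PUnit, S ⊗[R] M, inferInstance, inferInstance, inferInstance, inferInstance,
      inferInstance, inferInstance, inferInstance, inferInstance, ⟨LinearEquiv.prodUnique⟩⟩
  | succ n ih =>
    intro M _ _ _ hpd hproj
    obtain ⟨m, g, hg⟩ := Module.Finite.exists_fin' R M
    let K := LinearMap.ker g
    let f : K →ₗ[R] (Fin m → R) := K.subtype
    have hf : Function.Injective f := Submodule.injective_subtype K
    have hex : Function.Exact f g := by
      rw [LinearMap.exact_iff, Submodule.range_subtype]
    have hS := ExtShift.sc_shortExact f g hf hg hex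
    haveI : Projective (ExtShift.sc f g hex).X₂ :=
      (IsProjective.iff_projective (R := R) (P := (Fin m → R))).1 inferInstance
    have hpdK : HasProjectiveDimensionLT (ModuleCat.of R K) (n + 1) :=
      hS.hasProjectiveDimensionLT_X₁ (n + 1)
        (hasProjectiveDimensionLT_of_ge (ExtShift.sc f g hex).X₂ 1 (n + 1) (by omega)) hpd
    -- base change
    let f' : S ⊗[R] K →ₗ[S] S ⊗[R] (Fin m → R) := f.baseChange S
    let g' : S ⊗[R] (Fin m → R) →ₗ[S] S ⊗[R] M := g.baseChange S
    have hf' : Function.Injective f' := by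
      change Function.Injective (f.baseChange S : S ⊗[R] K → S ⊗[R] (Fin m → R))
      rw [LinearMap.baseChange_eq_ltensor]
      exact Module.Flat.lTensor_preserves_injective_linearMap f hf
    have hg' : Function.Surjective g' := by
      change Function.Surjective (g.baseChange S : S ⊗[R] (Fin m → R) → S ⊗[R] M)
      rw [LinearMap.baseChange_eq_ltensor]
      exact LinearMap.lTensor_surjective S hg
    have hex' : Function.Exact f' g' := by
      change Function.Exact (f.baseChange S : S ⊗[R] K → S ⊗[R] (Fin m → R))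
        (g.baseChange S : S ⊗[R] (Fin m → R) → S ⊗[R] M)
      rw [LinearMap.baseChange_eq_ltensor, LinearMap.baseChange_eq_ltensor]
      exact Module.Flat.lTensor_exact S hex
    -- splitting
    obtain ⟨l, hl⟩ := Module.projective_lifting_property g' LinearMap.id hg'
    obtain ⟨e, -, -⟩ := (hex'.splitSurjectiveEquiv hf') ⟨l, hl⟩
    -- `S ⊗ K` is projective
    haveI : Module.Projective S (S ⊗[R] K) := by
      refine Module.Projective.of_split (M := S ⊗[R] (Fin m → R))
        (e.symm.toLinearMap ∘ₗ LinearMap.inl S (S ⊗[R] K) (S ⊗[R] M))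
        (LinearMap.fst S (S ⊗[R] K) (S ⊗[R] M) ∘ₗ e.toLinearMap) ?_
      ext x
      simp
    obtain ⟨G, G', i1, i2, i3, i4, i5, i6, i7, i8, ⟨φ⟩⟩ := ih K hpdK inferInstance
    -- `(S ⊗ M) × G' ≃ (S ⊗ M) × ((S ⊗ K) × G) ≃ ((S ⊗ K) × (S ⊗ M)) × G ≃ (S ⊗ F) × G`
    refine ⟨G', (S ⊗[R] (Fin m → R)) × G, i5, i6, i7, i8, inferInstance, inferInstance,
      inferInstance, inferInstance, ⟨?_⟩⟩
    exact (LinearEquiv.prodCongr (LinearEquiv.refl S (S ⊗[R] M)) φ.symm).trans
      ((LinearEquiv.prodAssoc S (S ⊗[R] M) (S ⊗[R] K) G).symm.trans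
        (LinearEquiv.prodCongr ((LinearEquiv.prodComm S (S ⊗[R] M) (S ⊗[R] K)).trans e.symm)
          (LinearEquiv.refl S G)))

end Groth.Agent.Lib.helper11.StablyFreeLoc
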