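import Mathlib
import Groth.Agent.Lib.helper11.StablyFreeIdeal
import Groth.Agent.Lib.helper11.StablyFreeLoc
import Groth.Agent.Lib.helper11.GlDimRegular
import Groth.Agent.Lib.Helper5.SerreLoc
import Groth.Agent.Lib.helper19.RegularLocal

/-!
# Auslander–Buchsbaum: a regular local ring is a UFD (helper11)
-/

set_option autoImplicit false

namespace Groth.Agent.Lib.helper11.RegularUFD

open IsLocalRing TensorProduct

universe u

section L4

variable {S : Type u} [CommRing S] [IsDomain S] [IsNoetherianRing S]

/-- a height-one prime of a locally factorial Noetherian domain is projective. -/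
theorem projective_of_locally_ufd (P : Ideal S) [hP : P.IsPrime] (hht : P.height = 1)
    (h : ∀ (Q : Ideal S) (_ : Q.IsMaximal), UniqueFactorizationMonoid (Localization.AtPrime Q)) :
    Module.Projective S P := by
  haveI : Module.FinitePresentation S P := Module.finitePresentation_of_finite S P
  apply Module.projective_of_localization_maximal
  intro Q hQ
  haveI := hQ.isPrime
  haveI : IsDomain (Localization.AtPrime Q) :=
    IsLocalization.isDomain_localization (Ideal.primeCompl_le_nonZeroDivisors Q)
  let P' : Ideal (Localization.AtPrime Q) := P.map (algebraMap S (Localization.AtPrime Q))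
  let e₀ : LocalizedModule Q.primeCompl P ≃ₗ[S] P' :=
    IsLocalizedModule.linearEquiv Q.primeCompl (LocalizedModule.mkLinearMap Q.primeCompl P)
      (Algebra.idealMap (Localization.AtPrime Q) P)
  let e : LocalizedModule Q.primeCompl P ≃ₗ[Localization.AtPrime Q] P' :=
    LinearEquiv.extendScalarsOfIsLocalization Q.primeCompl (Localization.AtPrime Q) e₀
  suffices hfree : Module.Free (Localization.AtPrime Q) P' by
    exact Module.Projective.of_equiv' e.symm
  by_cases hPQ : P ≤ Q
  · have hdisj : Disjoint (Q.primeCompl : Set S) (P : Set S) := by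
      rw [Set.disjoint_left]
      intro s hs hsP
      exact hs (hPQ hsP)
    haveI : P'.IsPrime :=
      IsLocalization.isPrime_of_isPrime_disjoint Q.primeCompl (Localization.AtPrime Q) P hP hdisj
    have hht' : P'.height = 1 := by
      rw [IsLocalization.height_map_of_disjoint Q.primeCompl P hdisj]
      exact hht
    haveI := h Q hQ
    obtain ⟨π, hπ⟩ := (UniqueFactorizationMonoid.isPrincipal_of_height_eq_one hht').principal
    have hπ0 : π ≠ 0 := by
      rintro rfl
      have hbot : P' = ⊥ := by rw [hπ]; simp
      rw [hbot, Ideal.height_bot] at hht'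
      exact zero_ne_one hht'
    rw [hπ]
    exact Module.Free.of_equiv
      (LinearEquiv.toSpanNonzeroSingleton (Localization.AtPrime Q) (Localization.AtPrime Q) π hπ0)
  · have htop : P' = ⊤ := by
      obtain ⟨s, hsP, hsQ⟩ := Set.not_subset.1 hPQ
      apply Ideal.eq_top_of_isUnit_mem _ (Ideal.mem_map_of_mem _ hsP)
      exact IsLocalization.map_units (Localization.AtPrime Q) (⟨s, hsQ⟩ : Q.primeCompl)
    rw [htop]
    exact Module.Free.of_equiv (Submodule.topEquiv (R := Localization.AtPrime Q)
      (M := Localization.AtPrime Q)).symm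

end L4

section L5

variable {R : Type u} [CommRing R] [IsRegularLocalRing R]

/-- localizations of `R_x` (`x ∈ 𝔪`) at primes are regular local rings of smaller dimension. -/
theorem regular_atPrime_away (d : ℕ) (hd : ringKrullDim R = d) (x : R)
    (hx : x ∈ maximalIdeal R) (Q : Ideal (Localization.Away x)) [hQ : Q.IsPrime] :
    IsRegularLocalRing (Localization.AtPrime Q) ∧
      ∃ d' : ℕ, d' < d ∧ ringKrullDim (Localization.AtPrime Q) = d' := by
  let q : Ideal R := Q.comap (algebraMap R (Localization.Away x))
  haveI : q.IsPrime := Ideal.comap_isPrime _ _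
  haveI : IsLocalization.AtPrime (Localization.AtPrime Q) q :=
    IsLocalization.isLocalization_isLocalization_atPrime_isLocalization (Submonoid.powers x)
      (Localization.AtPrime Q) Q
  let e : Localization.AtPrime q ≃ₐ[R] Localization.AtPrime Q :=
    IsLocalization.algEquiv q.primeCompl _ _
  haveI : IsRegularLocalRing (Localization.AtPrime q) :=
    Groth.Agent.Lib.Helper5.SerreLoc.localization_regular R q
  have hreg : IsRegularLocalRing (Localization.AtPrime Q) :=
    IsRegularLocalRing.of_ringEquiv e.toRingEquiv
  refine ⟨hreg, ?_⟩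
  have hxq : x ∉ q := by
    intro hxq
    have h1 : algebraMap R (Localization.Away x) x ∈ Q := hxq
    have h2 : IsUnit (algebraMap R (Localization.Away x) x) :=
      IsLocalization.Away.algebraMap_isUnit x
    exact hQ.ne_top (Ideal.eq_top_of_isUnit_mem _ h1 h2)
  have hlt : q < maximalIdeal R :=
    lt_of_le_of_ne (IsLocalRing.le_maximalIdeal (Ideal.IsPrime.ne_top inferInstance))
      (fun h => hxq (h ▸ hx))
  have h1 : q.height < (maximalIdeal R).height := Ideal.height_strict_mono_of_isPrime hlt
  have h2 : ((maximalIdeal R).height : WithBot ℕ∞) = d := by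
    rw [IsLocalRing.maximalIdeal_height_eq_ringKrullDim, hd]
  have h3 : (maximalIdeal R).height = d := by exact_mod_cast h2
  rw [h3] at h1
  obtain ⟨d', hd'⟩ := ENat.ne_top_iff_exists.1 (ne_top_of_lt h1)
  refine ⟨d', ?_, ?_⟩
  · rw [← hd'] at h1
    exact_mod_cast h1
  · rw [← ringKrullDim_eq_of_ringEquiv e.toRingEquiv,
      IsLocalization.AtPrime.ringKrullDim_eq_height q (Localization.AtPrime q), ← hd']
    rfl

end L5

section Main

open Groth.Agent.Lib.helper19

theorem ufd_aux : ∀ (d : ℕ) (R : Type u) [CommRing R] [IsRegularLocalRing R] [IsDomain R],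
    ringKrullDim R = d → UniqueFactorizationMonoid R := by
  intro d
  induction d using Nat.strong_induction_on with
  | _ d ih =>
  intro R _ _ _ hd
  by_cases hm : maximalIdeal R = ⊥
  · have hf : IsField R := IsLocalRing.isField_iff_maximalIdeal_eq.2 hm
    letI := hf.toField
    infer_instance
  -- pick `x ∈ 𝔪 \ 𝔪²`
  obtain ⟨x, hxm, hx2⟩ : ∃ x ∈ maximalIdeal R, x ∉ maximalIdeal R ^ 2 := by
    by_contra hcon
    push Not at hcon
    apply hm
    have hle : maximalIdeal R ≤ maximalIdeal R • maximalIdeal R := by
      intro y hy
      have := hcon y hy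
      rwa [pow_two] at this
    exact Submodule.eq_bot_of_le_smul_of_le_jacobson_bot (maximalIdeal R) (maximalIdeal R)
      (IsNoetherian.noetherian _) hle (IsLocalRing.maximalIdeal_le_jacobson _)
  have hx0 : x ≠ 0 := by
    rintro rfl
    exact hx2 (Ideal.zero_mem _)
  have hxprime : Prime x := by
    obtain ⟨hreg, -⟩ := isRegularLocalRing_quotient_span_singleton hxm hx2
    haveI := hreg
    haveI : IsDomain (R ⧸ Ideal.span ({x} : Set R)) := isDomain_of_isRegularLocalRing _
    have : (Ideal.span ({x} : Set R)).IsPrime := (Ideal.Quotient.isDomain_iff_prime _).1 inferInstance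
    exact (Ideal.span_singleton_prime hx0).1 this
  apply UniqueFactorizationMonoid.of_forall_isPrincipal_of_height_eq_one
  intro p hp hht
  by_cases hxp : x ∈ p
  · have hspan : (Ideal.span ({x} : Set R)).IsPrime := (Ideal.span_singleton_prime hx0).2 hxprime
    have hle : Ideal.span ({x} : Set R) ≤ p := (Ideal.span_singleton_le_iff_mem _).2 hxp
    have heq : Ideal.span ({x} : Set R) = p := by
      by_contra hne
      have hlt : Ideal.span ({x} : Set R) < p := lt_of_le_of_ne hle hne
      have h1 : (Ideal.span ({x} : Set R)).height < p.height :=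
        Ideal.height_strict_mono_of_isPrime hlt
      rw [hht] at h1
      have h2 : (Ideal.span ({x} : Set R)).height = 0 := ENat.lt_one_iff_eq_zero.1 h1
      have h3 : Ideal.span ({x} : Set R) ∈ minimalPrimes R := by
        rw [← Ideal.height_eq_zero_iff] at *
        exact h2
      have h4 : Ideal.span ({x} : Set R) = ⊥ := by
        have h5 : (⊥ : Ideal R).IsPrime := Ideal.isPrime_bot
        exact le_antisymm (h3.2 ⟨h5, bot_le⟩ bot_le) bot_le
      exact hx0 (Ideal.span_singleton_eq_bot.1 h4)
    exact ⟨x, heq.symm⟩
  · apply Ideal.isPrincipal_of_isPrincipal_localizationAway_of_prime hxprime hxp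
    set P : Ideal (Localization.Away x) := p.map (algebraMap R (Localization.Away x)) with hPdef
    have hdisj : Disjoint (Submonoid.powers x : Set R) (p : Set R) := by
      rw [Set.disjoint_left]
      rintro y ⟨n, rfl⟩ hy
      exact hxp (hp.mem_of_pow_mem n hy)
    haveI : IsDomain (Localization.Away x) :=
      IsLocalization.isDomain_localization
        (Submonoid.powers_le.mpr (mem_nonZeroDivisors_of_ne_zero hx0))
    haveI hPprime : P.IsPrime :=
      IsLocalization.isPrime_of_isPrime_disjoint (Submonoid.powers x) (Localization.Away x) p hp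
        hdisj
    have hPht : P.height = 1 := by
      rw [hPdef, IsLocalization.height_map_of_disjoint (Submonoid.powers x) p hdisj]
      exact hht
    have hproj : Module.Projective (Localization.Away x) P := by
      apply projective_of_locally_ufd P hPht
      intro Q hQ
      haveI := hQ.isPrime
      obtain ⟨hreg, d', hd'lt, hd'⟩ := regular_atPrime_away d hd x hxm Q
      haveI := hreg
      haveI : IsDomain (Localization.AtPrime Q) := isDomain_of_isRegularLocalRing _
      exact ih d' hd'lt (Localization.AtPrime Q) hd'
    let ebc : (Localization.Away x) ⊗[R] p ≃ₗ[Localization.Away x] P :=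
      (IsLocalizedModule.isBaseChange (Submonoid.powers x) (Localization.Away x)
        (Algebra.idealMap (Localization.Away x) p)).equiv
    have hpd : CategoryTheory.HasProjectiveDimensionLT (ModuleCat.of R p) (d + 1) :=
      GlDimRegular.hasProjectiveDimensionLT_of_isRegularLocalRing d hd _
    haveI : Module.Projective (Localization.Away x) ((Localization.Away x) ⊗[R] p) :=
      Module.Projective.of_equiv' ebc.symm
    have hsf := StablyFreeLoc.stablyFree_baseChange (Localization.Away x) d p hpd inferInstance
    obtain ⟨G, G', i1, i2, i3, i4, i5, i6, i7, i8, ⟨φ⟩⟩ := hsf.of_equiv ebc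
    exact StablyFreeIdeal.isPrincipal_of_stablyFree P G G' φ

/-- **Auslander–Buchsbaum**: a regular local ring is a unique factorisation domain. -/
theorem ufd (R : Type u) [CommRing R] [IsRegularLocalRing R] [IsDomain R] :
    UniqueFactorizationMonoid R := by
  obtain ⟨d, hd⟩ := Groth.Agent.Lib.Helper5.SerreLoc.exists_finite_ringKrullDim R
  exact ufd_aux d R hd

end Main

end Groth.Agent.Lib.helper11.RegularUFD
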