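import Mathlib.RingTheory.WittVector.StructurePolynomial
import Mathlib.RingTheory.WittVector.Defs
import Mathlib.RingTheory.MvPolynomial.WeightedHomogeneous

/-!
# Weighted homogeneity of Witt structure polynomials (helper11)
-/

set_option autoImplicit false

namespace Groth.Agent.Lib.helper11.WittHomog

open MvPolynomial

variable (p : ℕ) [hp : Fact p.Prime] {idx : Type*}

/-- If all "ghost" right-hand sides are weighted homogeneous of degree `p ^ n`, so are
the Witt structure polynomials. -/
theorem wittStructureInt_isWeightedHomogeneous (w : idx × ℕ → ℕ) (Φ : MvPolynomial idx ℤ)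
    (h : ∀ n, IsWeightedHomogeneous w
      (bind₁ (fun i => rename (Prod.mk i) (wittPolynomial p ℤ n)) Φ) (p ^ n)) (n : ℕ) :
    IsWeightedHomogeneous w (wittStructureInt p Φ n) (p ^ n) := by
  induction n using Nat.strong_induction_on with
  | _ n ih =>
    have key0 : bind₁ (wittStructureInt p Φ) (wittPolynomial p ℤ n) =
        ∑ i ∈ Finset.range (n + 1), C ((p : ℤ) ^ i) * wittStructureInt p Φ i ^ p ^ (n - i) := by
      rw [wittPolynomial_eq_sum_C_mul_X_pow, map_sum]
      refine Finset.sum_congr rfl fun i _ => ?_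
      rw [map_mul, bind₁_C_right, map_pow (bind₁ _) (X i), bind₁_X_right]
    have key := wittStructureInt_prop p Φ n
    rw [key0, Finset.sum_range_succ, Nat.sub_self, pow_zero, pow_one] at key
    have h1 : IsWeightedHomogeneous w (C ((p : ℤ) ^ n) * wittStructureInt p Φ n) (p ^ n) := by
      have e : C ((p : ℤ) ^ n) * wittStructureInt p Φ n =
          bind₁ (fun i => rename (Prod.mk i) (wittPolynomial p ℤ n)) Φ -
            ∑ i ∈ Finset.range n, C ((p : ℤ) ^ i) * wittStructureInt p Φ i ^ p ^ (n - i) := by
        rw [← key]; ring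
      rw [e]
      apply (h n).sub
      apply IsWeightedHomogeneous.sum
      intro i hi
      have hi' := Finset.mem_range.1 hi
      have := ((ih i hi').pow (p ^ (n - i))).C_mul ((p : ℤ) ^ i)
      rwa [smul_eq_mul, ← pow_add, Nat.sub_add_cancel hi'.le] at this
    intro d hd
    apply h1
    rw [coeff_C_mul]
    exact mul_ne_zero (pow_ne_zero _ (by exact_mod_cast hp.1.ne_zero)) hd

/-- `rename (Prod.mk j) (W_n)` is weighted homogeneous of degree `p ^ n` when `(j, i)` has
weight `p ^ i`. -/
theorem rename_wittPolynomial_isWeightedHomogeneous (w : idx × ℕ → ℕ) (j : idx)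
    (hw : ∀ i, w (j, i) = p ^ i) (n : ℕ) :
    IsWeightedHomogeneous w (rename (Prod.mk j) (wittPolynomial p ℤ n)) (p ^ n) := by
  rw [wittPolynomial_eq_sum_C_mul_X_pow, map_sum]
  apply IsWeightedHomogeneous.sum
  intro i hi
  have hi' : i ≤ n := Nat.lt_succ_iff.1 (Finset.mem_range.1 hi)
  rw [map_mul, rename_C, map_pow (rename _) (X i), rename_X]
  have := ((isWeightedHomogeneous_X ℤ w (j, i)).pow (p ^ (n - i))).C_mul ((p : ℤ) ^ i)
  rwa [hw, smul_eq_mul, ← pow_add, Nat.sub_add_cancel hi'] at this

/-- `rename (Prod.mk j) (W_n)` is weighted homogeneous of degree `0` when all `(j, i)` have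
weight `0`. -/
theorem rename_wittPolynomial_isWeightedHomogeneous_zero (w : idx × ℕ → ℕ) (j : idx)
    (hw : ∀ i, w (j, i) = 0) (n : ℕ) :
    IsWeightedHomogeneous w (rename (Prod.mk j) (wittPolynomial p ℤ n)) 0 := by
  rw [wittPolynomial_eq_sum_C_mul_X_pow, map_sum]
  apply IsWeightedHomogeneous.sum
  intro i hi
  rw [map_mul, rename_C, map_pow (rename _) (X i), rename_X]
  have := ((isWeightedHomogeneous_X ℤ w (j, i)).pow (p ^ (n - i))).C_mul ((p : ℤ) ^ i)
  rwa [hw, smul_zero] at this

theorem wittAdd_isWeightedHomogeneous (n : ℕ) :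
    IsWeightedHomogeneous (fun i : Fin 2 × ℕ => p ^ i.2) (WittVector.wittAdd p n) (p ^ n) := by
  apply wittStructureInt_isWeightedHomogeneous
  intro n
  simp only [map_add, bind₁_X_right]
  exact (rename_wittPolynomial_isWeightedHomogeneous p _ 0 (fun _ => rfl) n).add
    (rename_wittPolynomial_isWeightedHomogeneous p _ 1 (fun _ => rfl) n)

/-- `wittMul` is homogeneous of degree `p ^ n` in the second set of variables
(weights `p ^ i`), the first set having weight `0`. -/
theorem wittMul_isWeightedHomogeneous (n : ℕ) :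
    IsWeightedHomogeneous (fun i : Fin 2 × ℕ => if i.1 = 0 then 0 else p ^ i.2)
      (WittVector.wittMul p n) (p ^ n) := by
  apply wittStructureInt_isWeightedHomogeneous
  intro n
  simp only [map_mul, bind₁_X_right]
  have := (rename_wittPolynomial_isWeightedHomogeneous_zero p
    (fun i : Fin 2 × ℕ => if i.1 = 0 then 0 else p ^ i.2) 0 (fun _ => by simp) n).mul
    (rename_wittPolynomial_isWeightedHomogeneous p
    (fun i : Fin 2 × ℕ => if i.1 = 0 then 0 else p ^ i.2) 1 (fun _ => by simp) n)
  rwa [zero_add] at this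

end Groth.Agent.Lib.helper11.WittHomog
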