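import Groth.Agent.Lib.helper11.GenFreeTools
import Mathlib.RingTheory.Flat.FaithfullyFlat.Algebra
import Mathlib.RingTheory.FiniteStability
import Mathlib.RingTheory.Localization.Ideal
import Mathlib.RingTheory.Spectrum.Prime.RingHom

/-!
# The image of a finite type morphism contains a neighbourhood of the generic point (helper11)
-/

set_option autoImplicit false
universe u

namespace Groth.Agent.Lib.helper11.GenFreeImage

open Groth.Agent.Lib.helper11.GenFree Groth.Agent.Lib.helper11.GenFreeTools TensorProduct

/-- Let `p₀` be the generic point of `Spec R` (contained in every prime), `S` a finite type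
`R`-algebra whose spectrum hits `p₀`. Then the image of `Spec S` contains a basic open
neighbourhood of `p₀`. -/
theorem exists_basicOpen_subset_range {R S : Type u} [CommRing R] [CommRing S] [Algebra R S]
    [Algebra.FiniteType R S] (p₀ : PrimeSpectrum R)
    (hmin : ∀ q : PrimeSpectrum R, p₀.asIdeal ≤ q.asIdeal)
    (hfib : p₀ ∈ Set.range (PrimeSpectrum.comap (algebraMap R S))) :
    ∃ g : R, g ∉ p₀.asIdeal ∧ ∀ q : PrimeSpectrum R, g ∉ q.asIdeal →
      q ∈ Set.range (PrimeSpectrum.comap (algebraMap R S)) := by
  classical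
  set I := p₀.asIdeal with hI
  haveI : I.IsPrime := p₀.2
  obtain ⟨g', hg', H⟩ := GenFree.exists_spec
    (genFree_of_finiteType (R := R ⧸ I) ((R ⧸ I) ⊗[R] S) ((R ⧸ I) ⊗[R] S))
  obtain ⟨g, rfl⟩ := Ideal.Quotient.mk_surjective g'
  have hgI : g ∉ I := fun h => hg' (Ideal.Quotient.eq_zero_iff_mem.mpr h)
  refine ⟨g, hgI, fun q hq => ?_⟩
  set g' : R ⧸ I := Ideal.Quotient.mk I g with hg'def
  haveI : Module.Free (Localization.Away g') (Localization.Away g' ⊗[R] S) :=
    haveI := (H g' (dvd_refl _) hg').1
    Module.Free.of_equiv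
      (AlgebraTensorModule.cancelBaseChange R (R ⧸ I) (Localization.Away g') (Localization.Away g') S)
  -- nontriviality
  haveI : Nontrivial (Localization.Away g' ⊗[R] S) := by
    haveI : Nontrivial (I.ResidueField ⊗[R] S) :=
      (PrimeSpectrum.nontrivial_iff_mem_rangeComap p₀).mpr hfib
    have hu : ∀ y : Submonoid.powers g',
        IsUnit ((IsScalarTower.toAlgHom R (R ⧸ I) I.ResidueField) y) := by
      rintro ⟨_, n, rfl⟩
      have h1 : IsUnit ((IsScalarTower.toAlgHom R (R ⧸ I) I.ResidueField) g') := by
        rw [isUnit_iff_ne_zero]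
        intro h0
        exact hg' (Ideal.injective_algebraMap_quotient_residueField (I := I) (by
          rw [map_zero]; exact h0))
      simpa only [map_pow] using h1.pow n
    let ψ : Localization.Away g' →ₐ[R] I.ResidueField := IsLocalization.liftAlgHom hu
    exact RingHom.domain_nontrivial
      (Algebra.TensorProduct.map ψ (AlgHom.id R S)).toRingHom
  -- prime chasing
  have hIq : I ≤ q.asIdeal := hmin q
  let q' : Ideal (R ⧸ I) := Ideal.map (Ideal.Quotient.mk I) q.asIdeal
  haveI hq'prime : q'.IsPrime := Ideal.map_isPrime_of_surjective Ideal.Quotient.mk_surjective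
    (by rw [Ideal.mk_ker]; exact hIq)
  have hq'comap : Ideal.comap (Ideal.Quotient.mk I) q' = q.asIdeal := by
    rw [Ideal.comap_map_of_surjective _ Ideal.Quotient.mk_surjective, ← RingHom.ker_eq_comap_bot,
      Ideal.mk_ker, sup_eq_left]
    exact hIq
  have hdisj : Disjoint (Submonoid.powers g' : Set (R ⧸ I)) (q' : Set (R ⧸ I)) := by
    rw [Set.disjoint_left]
    rintro x ⟨n, rfl⟩ hx
    have : g' ∈ q' := hq'prime.mem_of_pow_mem n hx
    have h3 : g ∈ Ideal.comap (Ideal.Quotient.mk I) q' := this
    rw [hq'comap] at h3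
    exact hq h3
  let q'' : Ideal (Localization.Away g') :=
    Ideal.map (algebraMap (R ⧸ I) (Localization.Away g')) q'
  haveI hq''prime : q''.IsPrime :=
    IsLocalization.isPrime_of_isPrime_disjoint (Submonoid.powers g') (Localization.Away g') q'
      hq'prime hdisj
  have hq''comap : Ideal.comap (algebraMap (R ⧸ I) (Localization.Away g')) q'' = q' :=
    IsLocalization.under_map_of_isPrime_disjoint (Submonoid.powers g') (Localization.Away g')
      hq'prime hdisj
  obtain ⟨Q'', hQ''⟩ := PrimeSpectrum.comap_surjective_of_faithfullyFlat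
    (A := Localization.Away g') (B := Localization.Away g' ⊗[R] S) ⟨q'', hq''prime⟩
  have hQ''i : Ideal.comap (algebraMap (Localization.Away g') (Localization.Away g' ⊗[R] S))
      Q''.asIdeal = q'' := congrArg PrimeSpectrum.asIdeal hQ''
  refine ⟨PrimeSpectrum.comap (Algebra.TensorProduct.includeRight :
    S →ₐ[R] Localization.Away g' ⊗[R] S).toRingHom Q'', ?_⟩
  ext r
  change (Algebra.TensorProduct.includeRight : S →ₐ[R] Localization.Away g' ⊗[R] S)
    (algebraMap R S r) ∈ Q''.asIdeal ↔ r ∈ q.asIdeal
  rw [AlgHom.commutes, IsScalarTower.algebraMap_apply R (Localization.Away g')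
    (Localization.Away g' ⊗[R] S), IsScalarTower.algebraMap_apply R (R ⧸ I) (Localization.Away g'),
    ← Ideal.mem_comap, hQ''i, ← Ideal.mem_comap, hq''comap, ← hq'comap]
  rfl

end Groth.Agent.Lib.helper11.GenFreeImage
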