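import Groth.Agent.Lib.helper11.GenFreeCore
import Mathlib.RingTheory.MvPolynomial.Localization
import Mathlib.RingTheory.Polynomial.Basic
import Mathlib.RingTheory.FiniteType
import Mathlib.RingTheory.Localization.Integer

/-!
# Tools around generic freeness (helper11)
-/

set_option autoImplicit false
universe u

namespace Groth.Agent.Lib.helper11.GenFreeTools

open Groth.Agent.Lib.helper11.GenFree MvPolynomial Function TensorProduct

variable {R : Type u} [CommRing R] [IsDomain R]

/-- Torsion elements of a module that is free after inverting `h` are killed by a power of `h`. -/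
theorem exists_pow_smul_eq_zero {N : Type*} [AddCommGroup N] [Module R N] (h : R) (hh : h ≠ 0)
    [Module.Free (Localization.Away h) (LocalizedModule (Submonoid.powers h) N)]
    (x : N) (d : R) (hd : d ≠ 0) (hdx : d • x = 0) : ∃ m : ℕ, h ^ m • x = 0 := by
  have hle : Submonoid.powers h ≤ nonZeroDivisors R :=
    powers_le_nonZeroDivisors_of_noZeroDivisors hh
  haveI : IsDomain (Localization.Away h) := IsLocalization.isDomain_localization hle
  have h1 : (algebraMap R (Localization.Away h) d) •
      (LocalizedModule.mkLinearMap (Submonoid.powers h) N x) = 0 := by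
    rw [algebraMap_smul, ← map_smul, hdx, map_zero]
  have h2 : algebraMap R (Localization.Away h) d ≠ 0 := by
    intro h0
    exact hd ((IsLocalization.injective _ hle) (by rw [h0, map_zero]))
  have h3 : LocalizedModule.mkLinearMap (Submonoid.powers h) N x = 0 :=
    (smul_eq_zero_iff_right h2).mp h1
  obtain ⟨⟨_, m, rfl⟩, hm⟩ :=
    (IsLocalizedModule.eq_zero_iff (Submonoid.powers h)
      (LocalizedModule.mkLinearMap (Submonoid.powers h) N)).mp h3
  exact ⟨m, hm⟩

/-- Consequences of generic freeness in the form used later. -/
theorem GenFree.exists_spec {N : Type u} [AddCommGroup N] [Module R N] (hN : GenFree R N) :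
    ∃ f : R, f ≠ 0 ∧ ∀ h : R, f ∣ h → h ≠ 0 →
      Module.Free (Localization.Away h) (Localization.Away h ⊗[R] N) ∧
      ∀ (x : N) (d : R), d ≠ 0 → d • x = 0 → ∃ m : ℕ, h ^ m • x = 0 := by
  obtain ⟨f, hf, H⟩ := hN
  refine ⟨f, hf, fun h hd hh => ?_⟩
  haveI := H h hd hh
  refine ⟨?_, fun x d hd' hdx => exists_pow_smul_eq_zero h hh x d hd' hdx⟩
  exact Module.Free.of_equiv
    (IsLocalizedModule.isBaseChange (Submonoid.powers h) (Localization.Away h)
      (LocalizedModule.mkLinearMap (Submonoid.powers h) N)).equiv.symm

/-- Generic freeness for finite modules over finite type algebras over a domain. -/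
theorem genFree_of_finiteType (B N : Type u) [CommRing B] [Algebra R B] [Algebra.FiniteType R B]
    [AddCommGroup N] [Module B N] [Module R N] [IsScalarTower R B N] [Module.Finite B N] :
    GenFree R N := by
  have hft : Algebra.FiniteType R B := inferInstance
  obtain ⟨n, π, hπ⟩ := Algebra.FiniteType.iff_quotient_mvPolynomial''.mp hft
  letI : Algebra (MvPolynomial (Fin n) R) B := π.toRingHom.toAlgebra
  letI : Module (MvPolynomial (Fin n) R) N := Module.compHom N (π : MvPolynomial (Fin n) R →+* B)
  haveI : IsScalarTower (MvPolynomial (Fin n) R) B N := ⟨fun p b y => by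
    change (π p * b) • y = π p • (b • y)
    rw [mul_smul]⟩
  haveI : IsScalarTower R (MvPolynomial (Fin n) R) N := ⟨fun r p y => by
    change π (r • p) • y = r • (π p • y)
    rw [map_smul, smul_assoc]⟩
  haveI : Module.Finite (MvPolynomial (Fin n) R) B :=
    Module.Finite.of_surjective (Algebra.linearMap (MvPolynomial (Fin n) R) B) hπ
  haveI : Module.Finite (MvPolynomial (Fin n) R) N := Module.Finite.trans B N
  exact GenFreeCore.genFree_of_finite n N

end Groth.Agent.Lib.helper11.GenFreeTools
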