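import Mathlib.RingTheory.LocalProperties.Projective
import Mathlib.RingTheory.Localization.Module
import Mathlib.Algebra.Module.LocalizedModule.Exact
import Mathlib.Algebra.Module.LocalizedModule.Away
import Mathlib.Algebra.Exact.Basic
import Mathlib.LinearAlgebra.FreeModule.Basic

/-!
# Generic freeness: the predicate and its permanence properties (helper11)
-/

set_option autoImplicit false
universe u v

namespace Groth.Agent.Lib.helper11.GenFree

open Function

variable (R : Type u) [CommRing R]

/-- `N` becomes free after inverting any nonzero multiple of some nonzero `f`. -/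
def GenFree (N : Type v) [AddCommGroup N] [Module R N] : Prop :=
  ∃ f : R, f ≠ 0 ∧ ∀ h : R, f ∣ h → h ≠ 0 →
    Module.Free (Localization.Away h) (LocalizedModule (Submonoid.powers h) N)

variable {R}
variable {N N' N₁ N₂ N₃ : Type v} [AddCommGroup N] [Module R N] [AddCommGroup N'] [Module R N']
  [AddCommGroup N₁] [Module R N₁] [AddCommGroup N₂] [Module R N₂] [AddCommGroup N₃] [Module R N₃]

theorem GenFree.of_free [Nontrivial R] [Module.Free R N] : GenFree R N :=
  ⟨1, one_ne_zero, fun h _ _ =>
    Module.free_of_isLocalizedModule (Submonoid.powers h)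
      (LocalizedModule.mkLinearMap (Submonoid.powers h) N)⟩

theorem GenFree.of_linearEquiv (e : N ≃ₗ[R] N') (hN : GenFree R N) : GenFree R N' := by
  obtain ⟨f, hf, H⟩ := hN
  refine ⟨f, hf, fun h hd hh => ?_⟩
  haveI := H h hd hh
  exact Module.Free.of_equiv (IsLocalizedModule.mapEquiv (Submonoid.powers h)
    (LocalizedModule.mkLinearMap (Submonoid.powers h) N)
    (LocalizedModule.mkLinearMap (Submonoid.powers h) N') (Localization.Away h) e)

theorem GenFree.of_exact [IsDomain R] (f : N₁ →ₗ[R] N₂) (g : N₂ →ₗ[R] N₃) (hf : Injective f)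
    (hg : Surjective g) (hfg : Exact f g) (h₁ : GenFree R N₁) (h₃ : GenFree R N₃) :
    GenFree R N₂ := by
  obtain ⟨f₁, hf₁, H₁⟩ := h₁
  obtain ⟨f₃, hf₃, H₃⟩ := h₃
  refine ⟨f₁ * f₃, mul_ne_zero hf₁ hf₃, fun h hd hh => ?_⟩
  haveI := H₁ h (dvd_of_mul_right_dvd hd) hh
  haveI := H₃ h (dvd_of_mul_left_dvd hd) hh
  set S := Submonoid.powers h
  set A := Localization.Away h
  let F : LocalizedModule S N₁ →ₗ[A] LocalizedModule S N₂ :=
    IsLocalizedModule.mapExtendScalars S (LocalizedModule.mkLinearMap S N₁)
      (LocalizedModule.mkLinearMap S N₂) A f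
  let G : LocalizedModule S N₂ →ₗ[A] LocalizedModule S N₃ :=
    IsLocalizedModule.mapExtendScalars S (LocalizedModule.mkLinearMap S N₂)
      (LocalizedModule.mkLinearMap S N₃) A g
  have hF : Injective F := IsLocalizedModule.map_injective S _ _ f hf
  have hG : Surjective G := IsLocalizedModule.map_surjective S _ _ g hg
  have hFG : Exact F G := IsLocalizedModule.map_exact S _ _ _ f g hfg
  obtain ⟨l, hl⟩ := Module.projective_lifting_property G LinearMap.id hG
  obtain ⟨e, -⟩ := hFG.splitSurjectiveEquiv hF ⟨l, hl⟩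
  exact Module.Free.of_equiv e.symm

theorem GenFree.of_cofinal (ι : N' →ₗ[R] N) (hι : Injective ι) (c : R) (hc : c ≠ 0)
    [IsDomain R] (hcof : ∀ y : N, ∃ k : ℕ, c ^ k • y ∈ LinearMap.range ι) (hN' : GenFree R N') :
    GenFree R N := by
  obtain ⟨f, hf, H⟩ := hN'
  refine ⟨f * c, mul_ne_zero hf hc, fun h hd hh => ?_⟩
  haveI := H h (dvd_of_mul_right_dvd hd) hh
  obtain ⟨d, rfl⟩ : c ∣ h := dvd_of_mul_left_dvd hd
  set S := Submonoid.powers (c * d)
  set A := Localization.Away (c * d)
  let I : LocalizedModule S N' →ₗ[R] LocalizedModule S N :=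
    IsLocalizedModule.map S (LocalizedModule.mkLinearMap S N') (LocalizedModule.mkLinearMap S N) ι
  have hI : Injective I := IsLocalizedModule.map_injective S _ _ ι hι
  have hI' : Surjective I := by
    intro x
    induction x using LocalizedModule.induction_on with
    | h y s =>
      obtain ⟨k, y', hy'⟩ := hcof y
      let t : S := ⟨(c * d) ^ k, k, rfl⟩
      refine ⟨LocalizedModule.mk (d ^ k • y') (t * s), ?_⟩
      rw [IsLocalizedModule.map_LocalizedModules, map_smul, hy',
        ← LocalizedModule.mk_cancel_common_left t s y]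
      congr 1
      rw [smul_smul, ← mul_pow, mul_comm d c]
      rfl
  exact Module.Free.of_equiv
    (LinearEquiv.extendScalarsOfIsLocalization S A (LinearEquiv.ofBijective I ⟨hI, hI'⟩))

end Groth.Agent.Lib.helper11.GenFree
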