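import Mathlib.RingTheory.Adjoin.Basic
import Mathlib.LinearAlgebra.Span.Basic
import Mathlib.Algebra.Algebra.Tower

/-!
# An integrality-type finiteness statement "up to powers of `c`" (helper11)
-/

set_option autoImplicit false

namespace Groth.Agent.Lib.helper11.GenFreeStep

open Finset

variable {R P Q C : Type*} [CommRing R] [CommRing P] [Algebra R P] [CommRing Q] [Algebra R Q]
  (ψ : Q →ₐ[R] P) (z : P)
  [AddCommGroup C] [Module R C] [Module P C] [IsScalarTower R P C] [Module Q C]

/-- Suppose `P` is generated over `R` by `ψ(Q)` and `z`, that `C` is generated over `P` by `Y`,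
and that `c z^D + Σ_{i<D} ψ(a_i) z^i` kills `C`. Then, up to powers of `c`, `C` is generated over `Q`
by the `z^j y`, `j < D`, `y ∈ Y`. -/
theorem exists_pow_smul_mem_span
    (hQ : ∀ (a : Q) (y : C), a • y = ψ a • y)
    (hgen : Algebra.adjoin R (Set.range ψ ∪ {z}) = ⊤)
    (D : ℕ) (a : ℕ → Q) (c : R)
    (hrel : ∀ y : C, c • (z ^ D • y) + ∑ i ∈ range D, ψ (a i) • (z ^ i • y) = 0)
    (Y : Finset C) (hY : Submodule.span P (Y : Set C) = ⊤) [DecidableEq C] :
    ∀ y : C, ∃ k : ℕ, c ^ k • y ∈
      Submodule.span Q (((range D ×ˢ Y).image fun p => z ^ p.1 • p.2 : Finset C) : Set C) := by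
  classical
  set G' : Finset C := (range D ×ˢ Y).image fun p => z ^ p.1 • p.2 with hG'
  set W : Submodule Q C := Submodule.span Q (G' : Set C) with hW
  have hRW : ∀ (r : R) (w : C), w ∈ W → r • w ∈ W := by
    intro r w hw
    have : r • w = (algebraMap R Q r) • w := by
      rw [hQ, AlgHom.commutes, algebraMap_smul]
    rw [this]
    exact W.smul_mem _ hw
  have hmemG : ∀ j < D, ∀ y ∈ Y, z ^ j • y ∈ W := by
    intro j hj y hy
    apply Submodule.subset_span
    rw [hG']
    simp only [coe_image, Set.mem_image, mem_coe, mem_product, mem_range, Prod.exists]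
    exact ⟨j, y, ⟨hj, hy⟩, rfl⟩
  have htop : ∀ y ∈ Y, c • (z ^ D • y) ∈ W := by
    intro y hy
    have h := hrel y
    rw [add_eq_zero_iff_eq_neg] at h
    rw [h]
    apply W.neg_mem
    apply W.sum_mem
    intro i hi
    rw [← hQ]
    exact W.smul_mem _ (hmemG i (mem_range.mp hi) y hy)
  -- key: `c • z • w ∈ W` for `w ∈ W`
  have key : ∀ w ∈ W, c • (z • w) ∈ W := by
    intro w hw
    induction hw using Submodule.span_induction with
    | mem w hw =>
      rw [hG'] at hw
      simp only [coe_image, Set.mem_image, mem_coe, mem_product, mem_range, Prod.exists] at hw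
      obtain ⟨j, y, ⟨hj, hy⟩, rfl⟩ := hw
      rw [smul_smul, ← pow_succ']
      rcases Nat.lt_or_ge (j + 1) D with h | h
      · exact hRW _ _ (hmemG _ h y hy)
      · have : j + 1 = D := by omega
        rw [this]
        exact htop y hy
    | zero => simp
    | add u v _ _ hu hv =>
      rw [smul_add, smul_add]
      exact W.add_mem hu hv
    | smul b u _ hu =>
      have : c • z • b • u = b • (c • z • u) := by
        rw [hQ, hQ, smul_comm z, smul_comm c]
      rw [this]
      exact W.smul_mem _ hu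
  -- the set of elements with a `c`-multiple in `W`
  let V : Set C := {y | ∃ k : ℕ, c ^ k • y ∈ W}
  have hVadd : ∀ y₁ y₂, y₁ ∈ V → y₂ ∈ V → y₁ + y₂ ∈ V := by
    rintro y₁ y₂ ⟨k₁, h₁⟩ ⟨k₂, h₂⟩
    refine ⟨k₁ + k₂, ?_⟩
    rw [smul_add]
    apply W.add_mem
    · rw [pow_add, mul_comm, mul_smul]
      exact hRW _ _ h₁
    · rw [pow_add, mul_smul]
      exact hRW _ _ h₂
  have hVR : ∀ (r : R) y, y ∈ V → r • y ∈ V := by
    rintro r y ⟨k, h⟩
    exact ⟨k, by rw [smul_comm]; exact hRW _ _ h⟩
  have hVψ : ∀ (b : Q) y, y ∈ V → ψ b • y ∈ V := by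
    rintro b y ⟨k, h⟩
    refine ⟨k, ?_⟩
    rw [smul_comm, ← hQ]
    exact W.smul_mem _ h
  have hVz : ∀ y, y ∈ V → z • y ∈ V := by
    rintro y ⟨k, h⟩
    refine ⟨k + 1, ?_⟩
    have : c ^ (k + 1) • z • y = c • z • (c ^ k • y) := by
      rw [pow_succ', mul_smul, smul_comm (c ^ k) z]
    rw [this]
    exact key _ h
  have hVzero : (0 : C) ∈ V := ⟨0, by simp⟩
  -- the elements of `P` preserving `V` form everything
  have hVP : ∀ (p : P) y, y ∈ V → p • y ∈ V := by
    intro p
    have hp : p ∈ Algebra.adjoin R (Set.range ψ ∪ {z}) := by rw [hgen]; trivial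
    induction hp using Algebra.adjoin_induction with
    | mem x hx =>
      rcases hx with ⟨b, rfl⟩ | hx
      · exact hVψ b
      · rw [Set.mem_singleton_iff] at hx
        rw [hx]
        exact hVz
    | algebraMap r =>
      intro y hy
      rw [algebraMap_smul]
      exact hVR r y hy
    | add p₁ p₂ _ _ h₁ h₂ =>
      intro y hy
      rw [add_smul]
      exact hVadd _ _ (h₁ y hy) (h₂ y hy)
    | mul p₁ p₂ _ _ h₁ h₂ =>
      intro y hy
      rw [mul_smul]
      exact h₁ _ (h₂ y hy)
  have hYV : ∀ y ∈ Y, y ∈ V := by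
    intro y hy
    refine ⟨1, ?_⟩
    rw [pow_one]
    rcases Nat.eq_zero_or_pos D with h | h
    · have := htop y hy
      rwa [h, pow_zero, one_smul] at this
    · have := hmemG 0 h y hy
      rw [pow_zero, one_smul] at this
      exact hRW _ _ this
  intro y
  have hy : y ∈ Submodule.span P (Y : Set C) := by rw [hY]; trivial
  change y ∈ V
  induction hy using Submodule.span_induction with
  | mem y hy => exact hYV y hy
  | zero => exact hVzero
  | add u v _ _ hu hv => exact hVadd _ _ hu hv
  | smul p u _ hu => exact hVP p u hu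

end Groth.Agent.Lib.helper11.GenFreeStep
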