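import Groth.Agent.Lib.helper11.MonicTrick
import Groth.Agent.Lib.helper11.GenFreeBasic
import Groth.Agent.Lib.helper11.GenFreeStep
import Mathlib.LinearAlgebra.Dimension.Localization
import Mathlib.Algebra.Module.Torsion.Basic
import Mathlib.RingTheory.MvPolynomial.Basic

/-!
# Generic freeness for finite modules over polynomial rings over a domain (helper11)
-/

set_option autoImplicit false
universe u

namespace Groth.Agent.Lib.helper11.GenFreeCore

open Groth.Agent.Lib.helper11.GenFree MvPolynomial Function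

variable {R : Type u} [CommRing R] [IsDomain R]

/-- Reduction to modules killed by a nonzero element of the (domain) algebra `P`. -/
theorem of_torsion_quotient (P : Type u) [CommRing P] [IsDomain P] [Algebra R P] [Module.Free R P]
    (hstar : ∀ (C : Type u) [AddCommGroup C] [Module R C] [Module P C] [IsScalarTower R P C]
      [Module.Finite P C] (g : P), g ≠ 0 → (∀ y : C, g • y = 0) → GenFree R C)
    (N : Type u) [AddCommGroup N] [Module R N] [Module P N] [IsScalarTower R P N]
    (c : R) (hc : c ≠ 0) (G : Finset N)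
    (h : ∀ y : N, ∃ k : ℕ, c ^ k • y ∈ Submodule.span P (G : Set N)) : GenFree R N := by
  classical
  let N' : Submodule P N := Submodule.span P (G : Set N)
  haveI : Module.Finite P N' := Module.Finite.span_of_finite P G.finite_toSet
  obtain ⟨s, hs, hli⟩ := exists_set_linearIndependent P N'
  let φ : (s →₀ P) →ₗ[P] N' := Finsupp.linearCombination P (Subtype.val : s → N')
  have hφ : Injective φ := hli
  let S : Submodule P N' := LinearMap.range φ
  have hrankS : Module.rank P S = Module.rank P N' := by
    rw [rank_range_of_injective φ hφ, rank_finsupp_self, hs, Cardinal.lift_id]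
  have hrank0 : Module.rank P (N' ⧸ S) = 0 := by
    have h1 := Submodule.rank_quotient_add_rank S
    rw [hrankS] at h1
    have h2 : Module.rank P (N' ⧸ S) + Module.rank P N' = 0 + Module.rank P N' := by
      rw [h1, zero_add]
    exact Cardinal.eq_of_add_eq_add_right h2 (Module.rank_lt_aleph0 P N')
  have htors : Module.IsTorsion P (N' ⧸ S) := by
    intro x
    obtain ⟨a, ha, hax⟩ := rank_eq_zero_iff.mp hrank0 x
    exact ⟨⟨a, mem_nonZeroDivisors_of_ne_zero ha⟩, hax⟩
  obtain ⟨g, hgann, hg0⟩ := Submodule.annihilator_top_inter_nonZeroDivisors htors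
  have hg : g ≠ 0 := nonZeroDivisors.ne_zero hg0
  have hgC : ∀ y : N' ⧸ S, g • y = 0 := fun y =>
    (Submodule.mem_annihilator.mp hgann) y Submodule.mem_top
  have hC : GenFree R (N' ⧸ S) := hstar (N' ⧸ S) g hg hgC
  have hN' : GenFree R N' := by
    refine GenFree.of_exact (φ.restrictScalars R) (S.mkQ.restrictScalars R) hφ
      (Submodule.mkQ_surjective S) ?_ GenFree.of_free hC
    exact LinearMap.exact_map_mkQ_range φ
  refine GenFree.of_cofinal (N'.subtype.restrictScalars R) (Submodule.injective_subtype N') c hc ?_ hN'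
  intro y
  obtain ⟨k, hk⟩ := h y
  exact ⟨k, ⟨⟨_, hk⟩, rfl⟩⟩

/-- A module killed by a nonzero element of the base ring is generically free (generically zero). -/
theorem genFree_of_smul_eq_zero (C : Type u) [AddCommGroup C] [Module R C] (g : R) (hg : g ≠ 0)
    (hgC : ∀ y : C, g • y = 0) : GenFree R C := by
  refine GenFree.of_cofinal (0 : PUnit.{u+1} →ₗ[R] C) (fun _ _ _ => Subsingleton.elim _ _) g hg ?_
    GenFree.of_free
  intro y
  exact ⟨1, ⟨0, by simp [hgC y]⟩⟩

open Polynomial in
/-- The inductive step. -/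
theorem step (n : ℕ)
    (ih : ∀ (N : Type u) [AddCommGroup N] [Module R N] [Module (MvPolynomial (Fin n) R) N]
      [IsScalarTower R (MvPolynomial (Fin n) R) N] (c : R), c ≠ 0 → ∀ (G : Finset N),
      (∀ y : N, ∃ k : ℕ, c ^ k • y ∈ Submodule.span (MvPolynomial (Fin n) R) (G : Set N)) →
      GenFree R N)
    (C : Type u) [AddCommGroup C] [Module R C] [Module (MvPolynomial (Fin (n + 1)) R) C]
    [IsScalarTower R (MvPolynomial (Fin (n + 1)) R) C]
    [Module.Finite (MvPolynomial (Fin (n + 1)) R) C] (g : MvPolynomial (Fin (n + 1)) R)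
    (hg : g ≠ 0) (hgC : ∀ y : C, g • y = 0) : GenFree R C := by
  classical
  obtain ⟨c', hc', hlead⟩ := MonicTrick.T_leadingCoeff g hg
  set T := MonicTrick.T g with hT
  set q := finSuccEquiv R n (T g) with hq
  let E : (MvPolynomial (Fin n) R)[X] ≃ₐ[R] MvPolynomial (Fin (n + 1)) R :=
    (finSuccEquiv R n).symm.trans T.symm
  let ψ : MvPolynomial (Fin n) R →ₐ[R] MvPolynomial (Fin (n + 1)) R :=
    (E : (MvPolynomial (Fin n) R)[X] →ₐ[R] MvPolynomial (Fin (n + 1)) R).comp Polynomial.CAlgHom
  let z : MvPolynomial (Fin (n + 1)) R := E Polynomial.X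
  have hEC : ∀ a, E (Polynomial.C a) = ψ a := fun a => rfl
  have hEq : E q = g := by
    simp only [E, hq, AlgEquiv.trans_apply, AlgEquiv.symm_apply_apply]
  have hgen : Algebra.adjoin R (Set.range ψ ∪ {z}) = ⊤ := by
    rw [eq_top_iff]
    rintro p -
    obtain ⟨p', rfl⟩ := E.surjective p
    induction p' using Polynomial.induction_on with
    | C a =>
      rw [hEC]
      exact Algebra.subset_adjoin (Or.inl ⟨a, rfl⟩)
    | add p₁ p₂ h₁ h₂ =>
      rw [map_add]
      exact Subalgebra.add_mem _ h₁ h₂
    | monomial k a h =>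
      rw [pow_succ, ← mul_assoc, map_mul]
      exact Subalgebra.mul_mem _ h (Algebra.subset_adjoin (Or.inr rfl))
  have hgsum : g = ∑ i ∈ Finset.range (q.natDegree + 1), ψ (q.coeff i) * z ^ i := by
    conv_lhs => rw [← hEq, q.as_sum_range_C_mul_X_pow]
    rw [map_sum]
    refine Finset.sum_congr rfl fun i _ => ?_
    rw [map_mul, map_pow, hEC]
  have hrel : ∀ y : C, c' • (z ^ q.natDegree • y) +
      ∑ i ∈ Finset.range q.natDegree, ψ (q.coeff i) • (z ^ i • y) = 0 := by
    intro y
    have h1 := hgC y
    rw [hgsum, Finset.sum_smul, Finset.sum_range_succ] at h1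
    have h2 : q.coeff q.natDegree = MvPolynomial.C c' := hlead
    rw [h2] at h1
    have h3 : ψ (MvPolynomial.C c') = algebraMap R _ c' := by
      rw [← MvPolynomial.algebraMap_eq, AlgHom.commutes]
    rw [h3, mul_smul, algebraMap_smul, add_comm] at h1
    rw [← h1]
    congr 1
    refine Finset.sum_congr rfl fun i _ => ?_
    rw [mul_smul]
  letI : Module (MvPolynomial (Fin n) R) C :=
    Module.compHom C (ψ : MvPolynomial (Fin n) R →+* MvPolynomial (Fin (n + 1)) R)
  have hQ : ∀ (a : MvPolynomial (Fin n) R) (y : C), a • y = ψ a • y := fun _ _ => rfl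
  haveI : IsScalarTower R (MvPolynomial (Fin n) R) C := ⟨fun r a y => by
    rw [hQ, hQ, map_smul, smul_assoc]⟩
  obtain ⟨Y, hY⟩ := Module.Finite.fg_top (R := MvPolynomial (Fin (n + 1)) R) (M := C)
  exact ih C c' hc' _ (GenFreeStep.exists_pow_smul_mem_span ψ z hQ hgen q.natDegree
    (fun i => q.coeff i) c' hrel Y hY)

/-- **Generic freeness** for modules over a polynomial ring over a domain which are finitely
generated up to inverting a nonzero element of the base. -/
theorem core (n : ℕ) : ∀ (N : Type u) [AddCommGroup N] [Module R N]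
    [Module (MvPolynomial (Fin n) R) N] [IsScalarTower R (MvPolynomial (Fin n) R) N] (c : R),
    c ≠ 0 → ∀ (G : Finset N),
    (∀ y : N, ∃ k : ℕ, c ^ k • y ∈ Submodule.span (MvPolynomial (Fin n) R) (G : Set N)) →
    GenFree R N := by
  induction n with
  | zero =>
    intro N _ _ _ _ c hc G h
    refine of_torsion_quotient (MvPolynomial (Fin 0) R) ?_ N c hc G h
    intro C _ _ _ _ _ g hg hgC
    have hg' : g = MvPolynomial.C (MvPolynomial.coeff 0 g) := MvPolynomial.eq_C_of_isEmpty g
    refine genFree_of_smul_eq_zero C (MvPolynomial.coeff 0 g) ?_ ?_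
    · intro h0
      rw [h0, map_zero] at hg'
      exact hg hg'
    · intro y
      rw [← algebraMap_smul (MvPolynomial (Fin 0) R), MvPolynomial.algebraMap_eq, ← hg']
      exact hgC y
  | succ n ih =>
    intro N _ _ _ _ c hc G h
    refine of_torsion_quotient (MvPolynomial (Fin (n + 1)) R) ?_ N c hc G h
    intro C _ _ _ _ _ g hg hgC
    exact step n ih C g hg hgC

/-- Generic freeness for finite modules over `R[X_1, …, X_n]`, `R` a domain. -/
theorem genFree_of_finite (n : ℕ) (N : Type u) [AddCommGroup N] [Module R N]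
    [Module (MvPolynomial (Fin n) R) N] [IsScalarTower R (MvPolynomial (Fin n) R) N]
    [Module.Finite (MvPolynomial (Fin n) R) N] : GenFree R N := by
  obtain ⟨G, hG⟩ := Module.Finite.fg_top (R := MvPolynomial (Fin n) R) (M := N)
  refine core n N 1 one_ne_zero G fun y => ⟨0, ?_⟩
  rw [hG]
  trivial

end Groth.Agent.Lib.helper11.GenFreeCore
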