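import Mathlib.Topology.Constructible
import Mathlib.Topology.NoetherianSpace
import Mathlib.Topology.Sober
import Mathlib.Topology.Irreducible
import Mathlib.Order.Directed
import Mathlib.Topology.Semicontinuity.Basic
import Mathlib.Data.Set.Finite.Basic

set_option autoImplicit false
universe u v

namespace Groth.Agent.Lib.helper11.ConstrTop

open Topology TopologicalSpace Set

variable {X : Type u} [TopologicalSpace X]

/-- In a Noetherian space every set is retrocompact. -/
lemma isRetrocompact_of_noetherian [NoetherianSpace X] (s : Set X) : IsRetrocompact s :=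
  fun _ _ _ => NoetherianSpace.isCompact _

lemma isConstructible_of_isOpen [NoetherianSpace X] {s : Set X} (hs : IsOpen s) :
    IsConstructible s :=
  (isRetrocompact_of_noetherian s).isConstructible hs

lemma isConstructible_of_isClosed [NoetherianSpace X] {s : Set X} (hs : IsClosed s) :
    IsConstructible s := by
  rw [← isConstructible_compl]
  exact isConstructible_of_isOpen hs.isOpen_compl

/-- Dichotomy: a constructible set `E` and an irreducible set `Y`: some nonempty open part of `Y`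
lies in `E` or in `Eᶜ`. -/
lemma dichotomy {E : Set X} (hE : IsConstructible E) {Y : Set X} (hY : IsIrreducible Y) :
    ∃ U : Set X, IsOpen U ∧ (U ∩ Y).Nonempty ∧ (U ∩ Y ⊆ E ∨ U ∩ Y ⊆ Eᶜ) := by
  induction hE using IsConstructible.empty_union_induction with
  | open_retrocompact U hU _ =>
    by_cases h : (U ∩ Y).Nonempty
    · exact ⟨U, hU, h, Or.inl inter_subset_left⟩
    · refine ⟨univ, isOpen_univ, by simpa using hY.nonempty, Or.inr ?_⟩
      intro x hx hxU
      exact h ⟨x, hxU, hx.2⟩
  | union s _ t _ ihs iht =>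
    obtain ⟨U₁, hU₁, hne₁, h₁⟩ := ihs
    obtain ⟨U₂, hU₂, hne₂, h₂⟩ := iht
    have hne : ((U₁ ∩ U₂) ∩ Y).Nonempty := by
      have := hY.isPreirreducible U₁ U₂ hU₁ hU₂ (by rwa [inter_comm] at hne₁)
        (by rwa [inter_comm] at hne₂)
      rwa [inter_comm] at this
    refine ⟨U₁ ∩ U₂, hU₁.inter hU₂, hne, ?_⟩
    rcases h₁ with h₁ | h₁
    · left
      intro x hx
      exact Or.inl (h₁ ⟨hx.1.1, hx.2⟩)
    · rcases h₂ with h₂ | h₂
      · left
        intro x hx
        exact Or.inr (h₂ ⟨hx.1.2, hx.2⟩)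
      · right
        intro x hx hxst
        rcases hxst with hxs | hxt
        · exact h₁ ⟨hx.1.1, hx.2⟩ hxs
        · exact h₂ ⟨hx.1.2, hx.2⟩ hxt
  | compl s _ ih =>
    obtain ⟨U, hU, hne, h⟩ := ih
    refine ⟨U, hU, hne, ?_⟩
    rcases h with h | h
    · right; rwa [compl_compl]
    · left; exact h

/-- If the trace of constructible `E` on irreducible `Y` is dense in `Y`, it contains a nonempty
open part of `Y`. -/
lemma exists_open_of_dense {E : Set X} (hE : IsConstructible E) {Y : Set X}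
    (hY : IsIrreducible Y) (hd : Y ⊆ closure (E ∩ Y)) :
    ∃ U : Set X, IsOpen U ∧ (U ∩ Y).Nonempty ∧ U ∩ Y ⊆ E := by
  obtain ⟨U, hU, hne, h | h⟩ := dichotomy hE hY
  · exact ⟨U, hU, hne, h⟩
  · exfalso
    obtain ⟨y, hyU, hyY⟩ := hne
    have hy : y ∈ closure (E ∩ Y) := hd hyY
    rw [mem_closure_iff] at hy
    obtain ⟨z, hzU, hzE, hzY⟩ := hy U hU hyU
    exact h ⟨hzU, hzY⟩ hzE

/-- A nonempty relatively open part of an irreducible set is dense in it. -/
lemma subset_closure_of_open_inter {Y : Set X} (hY : IsIrreducible Y) {U : Set X} (hU : IsOpen U)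
    (hne : (U ∩ Y).Nonempty) : Y ⊆ closure (U ∩ Y) := by
  intro y hy
  rw [mem_closure_iff]
  intro V hV hyV
  have := hY.isPreirreducible V U hV hU ⟨y, hy, hyV⟩ (by rwa [inter_comm] at hne)
  obtain ⟨z, hzY, hzV, hzU⟩ := this
  exact ⟨z, hzV, hzU, hzY⟩

/-- Noetherian induction on closed subsets, in the form: a property of closed sets holds for all
closed sets provided it holds for `∅`, for unions of two closed sets for which it holds, and for an
irreducible closed set whenever it holds for all its proper closed subsets. -/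
lemma closed_induction [NoetherianSpace X] (P : Set X → Prop)
    (hempty : P ∅)
    (hunion : ∀ Y₁ Y₂ : Set X, IsClosed Y₁ → IsClosed Y₂ → P Y₁ → P Y₂ → P (Y₁ ∪ Y₂))
    (hirr : ∀ Y : Set X, IsClosed Y → IsIrreducible Y →
      (∀ Z : Set X, IsClosed Z → Z ⊂ Y → P Z) → P Y)
    (Y : Set X) (hY : IsClosed Y) : P Y := by
  suffices h : ∀ Z : Closeds X, P (Z : Set X) from h ⟨Y, hY⟩
  intro Z
  induction Z using WellFoundedLT.induction with
  | _ Z ih =>
    have ih' : ∀ W : Set X, IsClosed W → W ⊂ (Z : Set X) → P W := fun W hW hWZ =>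
      ih ⟨W, hW⟩ (by rw [← SetLike.coe_ssubset_coe]; exact hWZ)
    have hZc : IsClosed (Z : Set X) := Z.isClosed
    clear ih
    generalize (Z : Set X) = S at *
    by_cases hZe : S = ∅
    · rw [hZe]; exact hempty
    by_cases hZi : IsIrreducible S
    · exact hirr _ hZc hZi ih'
    · -- reducible
      have hne : S.Nonempty := nonempty_iff_ne_empty.mpr hZe
      have hnp : ¬ IsPreirreducible S := fun h => hZi ⟨hne, h⟩
      rw [isPreirreducible_iff_isClosed_union_isClosed] at hnp
      push Not at hnp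
      obtain ⟨Z₁, Z₂, hZ₁, hZ₂, hsub, hn₁, hn₂⟩ := hnp
      have e : S = (S ∩ Z₁) ∪ (S ∩ Z₂) := by
        rw [← inter_union_distrib_left]; exact (inter_eq_left.mpr hsub).symm
      have h₁ : S ∩ Z₁ ⊂ S := by
        refine ⟨inter_subset_left, fun h => hn₁ (fun x hx => (h hx).2)⟩
      have h₂ : S ∩ Z₂ ⊂ S := by
        refine ⟨inter_subset_left, fun h => hn₂ (fun x hx => (h hx).2)⟩
      rw [e]
      exact hunion _ _ (hZc.inter hZ₁) (hZc.inter hZ₂) (ih' _ (hZc.inter hZ₁) h₁)
        (ih' _ (hZc.inter hZ₂) h₂)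


omit [TopologicalSpace X] in
lemma diff_ssubset_of_inter_nonempty {Y U : Set X} (hne : (U ∩ Y).Nonempty) : Y \ U ⊂ Y := by
  refine ⟨sdiff_subset, fun h => ?_⟩
  obtain ⟨y, hyU, hyY⟩ := hne
  exact (h hyY).2 hyU

lemma dense_preimage_val_iff {Y E : Set X} :
    Dense (Subtype.val ⁻¹' E : Set Y) ↔ Y ⊆ closure (E ∩ Y) := by
  rw [Subtype.dense_iff, Subtype.image_preimage_coe, inter_comm]

/-- Directed monotone constructible cover of a Noetherian space is eventually everything, under
the density hypothesis on irreducible closed subsets. -/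
lemma exists_eq_univ_of_directed {ι : Type v} [NoetherianSpace X] [Preorder ι]
    [IsDirected ι (· ≤ ·)] [Nonempty ι]
    (E : ι → Set X) (hmono : Monotone E) (hE : ∀ a, IsConstructible (E a))
    (hirr : ∀ Y : Set X, IsClosed Y → IsIrreducible Y → ∃ a, Y ⊆ closure (E a ∩ Y)) :
    ∃ a, E a = Set.univ := by
  have key : ∀ Y : Set X, IsClosed Y → ∃ a, Y ⊆ E a := by
    apply closed_induction
    · exact ⟨Classical.arbitrary ι, empty_subset _⟩
    · rintro Y₁ Y₂ - - ⟨a₁, h₁⟩ ⟨a₂, h₂⟩
      obtain ⟨c, hc₁, hc₂⟩ := exists_ge_ge a₁ a₂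
      exact ⟨c, union_subset (h₁.trans (hmono hc₁)) (h₂.trans (hmono hc₂))⟩
    · intro Y hYc hYi ih
      obtain ⟨a, ha⟩ := hirr Y hYc hYi
      obtain ⟨U, hU, hne, hsub⟩ := exists_open_of_dense (hE a) hYi ha
      obtain ⟨b, hb⟩ := ih (Y \ U) (hYc.sdiff hU) (diff_ssubset_of_inter_nonempty hne)
      obtain ⟨c, hc₁, hc₂⟩ := exists_ge_ge a b
      refine ⟨c, fun y hy => ?_⟩
      by_cases hyU : y ∈ U
      · exact hmono hc₁ (hsub ⟨hyU, hy⟩)
      · exact hmono hc₂ (hb ⟨hy, hyU⟩)
  obtain ⟨a, ha⟩ := key univ isClosed_univ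
  exact ⟨a, univ_subset_iff.mp ha⟩

/-- The generic point of an irreducible closed set lies in every nonempty relatively open part. -/
lemma genericPoint_mem_of_inter_nonempty {Y : Set X} {η : X} (hη : IsGenericPoint η Y)
    {U : Set X} (hU : IsOpen U) (hne : (U ∩ Y).Nonempty) : η ∈ U := by
  rw [hη.mem_open_set_iff hU, inter_comm]; exact hne

/-- If `E` contains the generic point of `Y` then its trace on `Y` is dense in `Y`. -/
lemma subset_closure_of_genericPoint_mem {Y E : Set X} {η : X} (hη : IsGenericPoint η Y)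
    (h : η ∈ E) : Y ⊆ closure (E ∩ Y) := by
  have : ({η} : Set X) ⊆ E ∩ Y := by
    rintro _ rfl; exact ⟨h, hη.mem⟩
  calc Y = closure {η} := hη.def.symm
    _ ⊆ closure (E ∩ Y) := closure_mono this


lemma isNowhereDense_iff_not_dense_of_irreducible {T : Type*} [TopologicalSpace T]
    [IrreducibleSpace T] {s : Set T} : IsNowhereDense s ↔ ¬ Dense s := by
  constructor
  · intro h hd
    rw [IsNowhereDense, hd.closure_eq, interior_univ] at h
    exact (univ_nonempty (α := T)).ne_empty h
  · intro hd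
    rw [IsNowhereDense]
    by_contra hne
    have h1 : (interior (closure s)).Nonempty := nonempty_iff_ne_empty.mpr hne
    have h2 : ((closure s)ᶜ).Nonempty := by
      rw [nonempty_compl]
      intro h
      exact hd (dense_iff_closure_eq.mpr h)
    obtain ⟨x, hx1, hx2⟩ := nonempty_preirreducible_inter isOpen_interior
      isClosed_closure.isOpen_compl h1 h2
    exact hx2 (interior_subset hx1)

lemma isNowhereDense_preimage_val_iff {Y E : Set X} (hY : IsIrreducible Y) :
    IsNowhereDense (Subtype.val ⁻¹' E : Set Y) ↔ ¬ (Y ⊆ closure (E ∩ Y)) := by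
  have : IrreducibleSpace Y := isIrreducible_iff_irreducibleSpace.mp hY
  rw [isNowhereDense_iff_not_dense_of_irreducible, dense_preimage_val_iff]

/-- `E` constructible, `Y` irreducible: if the trace of `E` is not dense in `Y` ... this is the
negation form: a nonempty open part inside `Eᶜ` prevents density. -/
lemma not_dense_of_open_inter_subset_compl {Y E U : Set X} (hU : IsOpen U)
    (hne : (U ∩ Y).Nonempty) (h : U ∩ Y ⊆ Eᶜ) : ¬ (Y ⊆ closure (E ∩ Y)) := by
  intro hd
  obtain ⟨y, hyU, hyY⟩ := hne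
  have hy : y ∈ closure (E ∩ Y) := hd hyY
  rw [mem_closure_iff] at hy
  obtain ⟨z, hzU, hzE, hzY⟩ := hy U hU hyU
  exact h ⟨hzU, hzY⟩ hzE

/-- Characterisation of constructible sets in a Noetherian space. -/
lemma isConstructible_iff_forall_irreducible [NoetherianSpace X] (E : Set X) :
    IsConstructible E ↔
      ∀ Y : Set X, IsClosed Y → IsIrreducible Y →
        ¬ (Y ⊆ closure (E ∩ Y)) ∨ ∃ U : Set X, IsOpen U ∧ (U ∩ Y).Nonempty ∧ U ∩ Y ⊆ E := by
  constructor
  · intro hE Y _ hYi
    obtain ⟨U, hU, hne, h | h⟩ := dichotomy hE hYi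
    · exact Or.inr ⟨U, hU, hne, h⟩
    · exact Or.inl (not_dense_of_open_inter_subset_compl hU hne h)
  · intro H
    have key : ∀ Y : Set X, IsClosed Y → IsConstructible (E ∩ Y) := by
      apply closed_induction
      · simp
      · intro Y₁ Y₂ _ _ h₁ h₂
        rw [inter_union_distrib_left]
        exact h₁.union h₂
      · intro Y hYc hYi ih
        rcases H Y hYc hYi with h | ⟨U, hU, hne, hsub⟩
        · have hZY : closure (E ∩ Y) ⊆ Y := closure_minimal inter_subset_right hYc
          have hss : closure (E ∩ Y) ⊂ Y := ⟨hZY, h⟩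
          have e : E ∩ Y = E ∩ closure (E ∩ Y) := by
            apply subset_antisymm
            · exact fun x hx => ⟨hx.1, subset_closure hx⟩
            · exact fun x hx => ⟨hx.1, hZY hx.2⟩
          rw [e]
          exact ih _ isClosed_closure hss
        · have e : E ∩ Y = (U ∩ Y) ∪ (E ∩ (Y \ U)) := by
            ext x
            constructor
            · rintro ⟨hxE, hxY⟩
              by_cases hxU : x ∈ U
              · exact Or.inl ⟨hxU, hxY⟩
              · exact Or.inr ⟨hxE, hxY, hxU⟩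
            · rintro (hx | hx)
              · exact ⟨hsub hx, hx.2⟩
              · exact ⟨hx.1, hx.2.1⟩
          rw [e]
          exact ((isConstructible_of_isOpen hU).inter (isConstructible_of_isClosed hYc)).union
            (ih _ (hYc.sdiff hU) (diff_ssubset_of_inter_nonempty hne))
    simpa using key univ isClosed_univ

/-- Openness criterion in a Noetherian space. -/
lemma isOpen_iff_forall_irreducible [NoetherianSpace X] (E : Set X) :
    IsOpen E ↔
      ∀ Y : Set X, IsClosed Y → IsIrreducible Y → (E ∩ Y).Nonempty →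
        ∃ U : Set X, IsOpen U ∧ (U ∩ Y).Nonempty ∧ U ∩ Y ⊆ E := by
  constructor
  · intro hE Y _ _ hne
    exact ⟨E, hE, hne, inter_subset_left⟩
  · intro H
    have key : ∀ Y : Set X, IsClosed Y → IsClosed (Y \ E) := by
      apply closed_induction
      · simp
      · intro Y₁ Y₂ _ _ h₁ h₂
        rw [union_sdiff_distrib]
        exact h₁.union h₂
      · intro Y hYc hYi ih
        by_cases hne : (E ∩ Y).Nonempty
        · obtain ⟨U, hU, hne', hsub⟩ := H Y hYc hYi hne
          have e : Y \ E = (Y \ U) \ E := by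
            ext x
            constructor
            · rintro ⟨hxY, hxE⟩
              exact ⟨⟨hxY, fun hxU => hxE (hsub ⟨hxU, hxY⟩)⟩, hxE⟩
            · rintro ⟨⟨hxY, _⟩, hxE⟩
              exact ⟨hxY, hxE⟩
          rw [e]
          exact ih _ (hYc.sdiff hU) (diff_ssubset_of_inter_nonempty hne')
        · have e : Y \ E = Y := by
            ext x
            constructor
            · exact fun hx => hx.1
            · exact fun hx => ⟨hx, fun hxE => hne ⟨x, hxE, hx⟩⟩
          rw [e]; exact hYc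
    have := key univ isClosed_univ
    rw [← compl_eq_univ_sdiff] at this
    exact isClosed_compl_iff.mp this

/-- Neighbourhood criterion for constructible sets in a Noetherian space. -/
lemma mem_nhds_iff_forall_irreducible [NoetherianSpace X] (x : X) {E : Set X}
    (hE : IsConstructible E) :
    E ∈ 𝓝 x ↔ ∀ Y : Set X, IsClosed Y → IsIrreducible Y → x ∈ Y → Y ⊆ closure (E ∩ Y) := by
  constructor
  · intro hEx Y _ hYi hxY
    obtain ⟨V, hVE, hV, hxV⟩ := mem_nhds_iff.mp hEx
    exact (subset_closure_of_open_inter hYi hV ⟨x, hxV, hxY⟩).trans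
      (closure_mono (inter_subset_inter_left _ hVE))
  · intro H
    have key : ∀ Y : Set X, IsClosed Y → ∃ V : Set X, IsOpen V ∧ x ∈ V ∧ V ∩ Y ⊆ E := by
      apply closed_induction
      · exact ⟨univ, isOpen_univ, mem_univ _, by simp⟩
      · rintro Y₁ Y₂ - - ⟨V₁, hV₁, hx₁, h₁⟩ ⟨V₂, hV₂, hx₂, h₂⟩
        refine ⟨V₁ ∩ V₂, hV₁.inter hV₂, ⟨hx₁, hx₂⟩, ?_⟩
        rintro y ⟨⟨hy₁, hy₂⟩, hy | hy⟩
        · exact h₁ ⟨hy₁, hy⟩
        · exact h₂ ⟨hy₂, hy⟩
      · intro Y hYc hYi ih
        by_cases hxY : x ∈ Y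
        · obtain ⟨U, hU, hne, hsub⟩ := exists_open_of_dense hE hYi (H Y hYc hYi hxY)
          obtain ⟨V, hV, hxV, hVsub⟩ := ih _ (hYc.sdiff hU) (diff_ssubset_of_inter_nonempty hne)
          refine ⟨V, hV, hxV, ?_⟩
          rintro y ⟨hyV, hyY⟩
          by_cases hyU : y ∈ U
          · exact hsub ⟨hyU, hyY⟩
          · exact hVsub ⟨hyV, hyY, hyU⟩
        · exact ⟨Yᶜ, hYc.isOpen_compl, hxY, fun y hy => absurd hy.2 hy.1⟩
    obtain ⟨V, hV, hxV, hsub⟩ := key univ isClosed_univ
    exact mem_nhds_iff.mpr ⟨V, by simpa using hsub, hV, hxV⟩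


lemma dichotomy_finset {T : Type v} (h : X → T) (hfib : ∀ t, IsConstructible (h ⁻¹' {t}))
    {Y : Set X} (hY : IsIrreducible Y) (s : Finset T) :
    ∃ U : Set X, IsOpen U ∧ (U ∩ Y).Nonempty ∧
      ((∃ t ∈ s, U ∩ Y ⊆ h ⁻¹' {t}) ∨ (∀ t ∈ s, U ∩ Y ⊆ (h ⁻¹' {t})ᶜ)) := by
  classical
  induction s using Finset.induction_on with
  | empty => exact ⟨univ, isOpen_univ, by simpa using hY.nonempty, Or.inr (by simp)⟩
  | insert t s _ ih =>
    obtain ⟨U₁, hU₁, hne₁, h₁⟩ := ih
    obtain ⟨U₂, hU₂, hne₂, h₂⟩ := dichotomy (hfib t) hY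
    have hne : ((U₁ ∩ U₂) ∩ Y).Nonempty := by
      have := hY.isPreirreducible U₁ U₂ hU₁ hU₂ (by rwa [inter_comm] at hne₁)
        (by rwa [inter_comm] at hne₂)
      rwa [inter_comm] at this
    refine ⟨U₁ ∩ U₂, hU₁.inter hU₂, hne, ?_⟩
    have s₁ : (U₁ ∩ U₂) ∩ Y ⊆ U₁ ∩ Y := fun x hx => ⟨hx.1.1, hx.2⟩
    have s₂ : (U₁ ∩ U₂) ∩ Y ⊆ U₂ ∩ Y := fun x hx => ⟨hx.1.2, hx.2⟩
    rcases h₁ with ⟨t', ht', h₁⟩ | h₁
    · exact Or.inl ⟨t', Finset.mem_insert_of_mem ht', s₁.trans h₁⟩
    · rcases h₂ with h₂ | h₂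
      · exact Or.inl ⟨t, Finset.mem_insert_self _ _, s₂.trans h₂⟩
      · right
        intro t' ht'
        rcases Finset.mem_insert.mp ht' with rfl | ht'
        · exact s₂.trans h₂
        · exact s₁.trans (h₁ t' ht')

/-- A constructible function is constant on a nonempty open part of any irreducible set. -/
lemma exists_open_const {T : Type v} (h : X → T) (hfib : ∀ t, IsConstructible (h ⁻¹' {t}))
    (hfin : (Set.range h).Finite) {Y : Set X} (hY : IsIrreducible Y) :
    ∃ U : Set X, IsOpen U ∧ (U ∩ Y).Nonempty ∧ ∀ a ∈ U ∩ Y, ∀ b ∈ U ∩ Y, h a = h b := by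
  obtain ⟨U, hU, hne, H⟩ := dichotomy_finset h hfib hY hfin.toFinset
  refine ⟨U, hU, hne, ?_⟩
  rcases H with ⟨t, _, ht⟩ | H
  · intro a ha b hb
    have ha' : h a = t := ht ha
    have hb' : h b = t := ht hb
    rw [ha', hb']
  · exfalso
    obtain ⟨y, hy⟩ := hne
    exact H (h y) (by simp) hy rfl

lemma constructible_function_of_locally_const [NoetherianSpace X] {T : Type v} (h : X → T)
    (H : ∀ Y : Set X, IsClosed Y → IsIrreducible Y →
      ∃ U : Set X, IsOpen U ∧ (U ∩ Y).Nonempty ∧ ∀ a ∈ U ∩ Y, ∀ b ∈ U ∩ Y, h a = h b) :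
    (∀ t, IsConstructible (h ⁻¹' {t})) ∧ (Set.range h).Finite := by
  have key : ∀ Y : Set X, IsClosed Y →
      (h '' Y).Finite ∧ ∀ t, IsConstructible (h ⁻¹' {t} ∩ Y) := by
    apply closed_induction
    · simp
    · rintro Y₁ Y₂ - - ⟨f₁, c₁⟩ ⟨f₂, c₂⟩
      refine ⟨by rw [image_union]; exact f₁.union f₂, fun t => ?_⟩
      rw [inter_union_distrib_left]
      exact (c₁ t).union (c₂ t)
    · intro Y hYc hYi ih
      obtain ⟨U, hU, hne, hconst⟩ := H Y hYc hYi
      obtain ⟨f, c⟩ := ih _ (hYc.sdiff hU) (diff_ssubset_of_inter_nonempty hne)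
      obtain ⟨y₀, hy₀⟩ := hne
      constructor
      · apply (f.union (finite_singleton (h y₀))).subset
        rintro _ ⟨y, hy, rfl⟩
        by_cases hyU : y ∈ U
        · exact Or.inr (hconst y ⟨hyU, hy⟩ y₀ hy₀)
        · exact Or.inl ⟨y, ⟨hy, hyU⟩, rfl⟩
      · intro t
        have e : h ⁻¹' {t} ∩ Y = (h ⁻¹' {t} ∩ (Y \ U)) ∪ (h ⁻¹' {t} ∩ (U ∩ Y)) := by
          ext x
          constructor
          · rintro ⟨hxt, hxY⟩
            by_cases hxU : x ∈ U
            · exact Or.inr ⟨hxt, hxU, hxY⟩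
            · exact Or.inl ⟨hxt, hxY, hxU⟩
          · rintro (hx | hx)
            · exact ⟨hx.1, hx.2.1⟩
            · exact ⟨hx.1, hx.2.2⟩
        rw [e]
        refine (c t).union ?_
        have hUY : IsConstructible (U ∩ Y) :=
          (isConstructible_of_isOpen hU).inter (isConstructible_of_isClosed hYc)
        by_cases ht : h y₀ = t
        · have : h ⁻¹' {t} ∩ (U ∩ Y) = U ∩ Y := by
            apply inter_eq_right.mpr
            intro x hx
            change h x = t
            rw [← ht]; exact hconst x hx y₀ hy₀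
          rw [this]; exact hUY
        · have : h ⁻¹' {t} ∩ (U ∩ Y) = ∅ := by
            rw [eq_empty_iff_forall_notMem]
            rintro x ⟨hxt, hx⟩
            exact ht ((hconst y₀ hy₀ x hx).trans hxt)
          rw [this]; exact IsConstructible.empty
  obtain ⟨f, c⟩ := key univ isClosed_univ
  exact ⟨fun t => by simpa using c t, by simpa using f⟩

/-- In a quasi-sober Noetherian space a function with constructible fibres has finite range. -/
lemma finite_range_of_quasiSober [NoetherianSpace X] [QuasiSober X] {T : Type v} (h : X → T)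
    (hfib : ∀ t, IsConstructible (h ⁻¹' {t})) : (Set.range h).Finite := by
  have key : ∀ Y : Set X, IsClosed Y → (h '' Y).Finite := by
    apply closed_induction
    · simp
    · rintro Y₁ Y₂ - - f₁ f₂
      rw [image_union]; exact f₁.union f₂
    · intro Y hYc hYi ih
      obtain ⟨η, hη⟩ := QuasiSober.sober hYi hYc
      obtain ⟨U, hU, hne, hsub⟩ := exists_open_of_dense (hfib (h η)) hYi
        (subset_closure_of_genericPoint_mem hη rfl)
      have f := ih _ (hYc.sdiff hU) (diff_ssubset_of_inter_nonempty hne)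
      apply (f.union (finite_singleton (h η))).subset
      rintro _ ⟨y, hy, rfl⟩
      by_cases hyU : y ∈ U
      · exact Or.inr (hsub ⟨hyU, hy⟩)
      · exact Or.inl ⟨y, ⟨hy, hyU⟩, rfl⟩
  simpa using key univ isClosed_univ

/-- In a quasi-sober Noetherian space a constructible set stable under generization is open. -/
lemma isOpen_of_stableUnderGeneralization [NoetherianSpace X] [QuasiSober X] {E : Set X}
    (hE : IsConstructible E) (hgen : ∀ x x' : X, x' ⤳ x → x ∈ E → x' ∈ E) : IsOpen E := by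
  rw [isOpen_iff_mem_nhds]
  intro x hx
  rw [mem_nhds_iff_forall_irreducible x hE]
  intro Y hYc hYi hxY
  obtain ⟨η, hη⟩ := QuasiSober.sober hYi hYc
  exact subset_closure_of_genericPoint_mem hη (hgen x η (hη.specializes hxY) hx)

end Groth.Agent.Lib.helper11.ConstrTop
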