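import Groth.Agent.Lib.helper11.GenFreeTools
import Mathlib.RingTheory.FiniteStability
import Mathlib.RingTheory.Localization.Ideal
import Mathlib.RingTheory.Spectrum.Prime.RingHom
import Mathlib.RingTheory.Localization.BaseChange

/-!
# Closed sets containing the generic fibre contain the fibres near the generic point (helper11)
-/

set_option autoImplicit false
universe u

namespace Groth.Agent.Lib.helper11.GenFibreCover

open Groth.Agent.Lib.helper11.GenFree Groth.Agent.Lib.helper11.GenFreeTools TensorProduct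

/-- Let `p₀` be the generic point of `Spec R`, `S` a finite type `R`-algebra, `J` an ideal of `S`
contained in every prime lying over `p₀`. Then `J` is contained in every prime lying over a
basic open neighbourhood of `p₀`. -/
theorem exists_forall_le_of_generic_fibre {R S : Type u} [CommRing R] [CommRing S] [Algebra R S]
    [Algebra.FiniteType R S] (p₀ : PrimeSpectrum R)
    (hmin : ∀ q : PrimeSpectrum R, p₀.asIdeal ≤ q.asIdeal) (J : Ideal S)
    (hJ : ∀ Q : PrimeSpectrum S, PrimeSpectrum.comap (algebraMap R S) Q = p₀ → J ≤ Q.asIdeal) :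
    ∃ g : R, g ∉ p₀.asIdeal ∧ ∀ Q : PrimeSpectrum S,
      g ∉ (PrimeSpectrum.comap (algebraMap R S) Q).asIdeal → J ≤ Q.asIdeal := by
  classical
  set I := p₀.asIdeal with hI
  haveI : I.IsPrime := p₀.2
  obtain ⟨g', hg', H⟩ := GenFree.exists_spec
    (genFree_of_finiteType (R := R ⧸ I) ((R ⧸ I) ⊗[R] S) ((R ⧸ I) ⊗[R] S))
  obtain ⟨g, rfl⟩ := Ideal.Quotient.mk_surjective g'
  have hgI : g ∉ I := fun h => hg' (Ideal.Quotient.eq_zero_iff_mem.mpr h)
  refine ⟨g, hgI, fun Q hQ h hh => ?_⟩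
  have Htors := (H _ (dvd_refl _) hg').2
  let K := FractionRing (R ⧸ I)
  -- Claim A: `1 ⊗ h` is nilpotent in `K ⊗[R] S`
  have hnil : IsNilpotent ((1 : K) ⊗ₜ[R] h) := by
    rw [← mem_nilradical, nilradical_eq_sInf, Ideal.mem_sInf]
    intro P hP
    haveI : P.IsPrime := hP
    let Q₁ : PrimeSpectrum S := ⟨P.comap (Algebra.TensorProduct.includeRight :
      S →ₐ[R] K ⊗[R] S).toRingHom, inferInstance⟩
    have hQ₁ : PrimeSpectrum.comap (algebraMap R S) Q₁ = p₀ := by
      ext r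
      change (Algebra.TensorProduct.includeRight : S →ₐ[R] K ⊗[R] S) (algebraMap R S r) ∈ P ↔
        r ∈ I
      rw [AlgHom.commutes, IsScalarTower.algebraMap_apply R K (K ⊗[R] S),
        IsScalarTower.algebraMap_apply R (R ⧸ I) K]
      constructor
      · intro hr
        by_contra hrI
        have h0 : algebraMap (R ⧸ I) K (algebraMap R (R ⧸ I) r) ≠ 0 := by
          intro h0
          have := (IsFractionRing.injective (R ⧸ I) K) (h0.trans (map_zero _).symm)
          exact hrI (Ideal.Quotient.eq_zero_iff_mem.mp this)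
        have hu : IsUnit (algebraMap K (K ⊗[R] S)
            (algebraMap (R ⧸ I) K (algebraMap R (R ⧸ I) r))) :=
          (isUnit_iff_ne_zero.mpr h0).map _
        exact hP.ne_top (Ideal.eq_top_of_isUnit_mem _ hr hu)
      · intro hr
        have : algebraMap R (R ⧸ I) r = 0 := Ideal.Quotient.eq_zero_iff_mem.mpr hr
        rw [this, map_zero, map_zero]
        exact P.zero_mem
    exact hJ Q₁ hQ₁ hh
  obtain ⟨n, hn⟩ := hnil
  rw [Algebra.TensorProduct.tmul_pow, one_pow] at hn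
  -- Claim B: `1 ⊗ h ^ n` is torsion in `(R ⧸ I) ⊗[R] S`
  have htor : ∃ d : R ⧸ I, d ≠ 0 ∧ d • ((1 : R ⧸ I) ⊗ₜ[R] (h ^ n)) = 0 := by
    have h1 : (TensorProduct.mk (R ⧸ I) K ((R ⧸ I) ⊗[R] S) 1) ((1 : R ⧸ I) ⊗ₜ[R] (h ^ n)) = 0 := by
      apply (AlgebraTensorModule.cancelBaseChange R (R ⧸ I) K K S).injective
      rw [map_zero]
      change (AlgebraTensorModule.cancelBaseChange R (R ⧸ I) K K S)
        ((1 : K) ⊗ₜ[R ⧸ I] ((1 : R ⧸ I) ⊗ₜ[R] (h ^ n))) = 0
      rw [AlgebraTensorModule.cancelBaseChange_tmul, one_smul]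
      exact hn
    obtain ⟨c, hc⟩ := (IsLocalizedModule.eq_zero_iff (nonZeroDivisors (R ⧸ I))
      (TensorProduct.mk (R ⧸ I) K ((R ⧸ I) ⊗[R] S) 1)).mp h1
    exact ⟨c, nonZeroDivisors.ne_zero c.2, hc⟩
  obtain ⟨d, hd, hdx⟩ := htor
  obtain ⟨m, hm⟩ := Htors _ d hd hdx
  -- map to `S ⧸ Q`
  have hIQ : ∀ a ∈ I, algebraMap R (S ⧸ Q.asIdeal) a = 0 := by
    intro a ha
    have h1 : a ∈ (PrimeSpectrum.comap (algebraMap R S) Q).asIdeal := hmin _ ha
    rw [IsScalarTower.algebraMap_apply R S (S ⧸ Q.asIdeal)]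
    exact Ideal.Quotient.eq_zero_iff_mem.mpr h1
  let χ₁ : (R ⧸ I) →ₐ[R] (S ⧸ Q.asIdeal) :=
    Ideal.Quotient.liftₐ I (Algebra.ofId R (S ⧸ Q.asIdeal)) hIQ
  let χ : (R ⧸ I) ⊗[R] S →ₐ[R] (S ⧸ Q.asIdeal) :=
    Algebra.TensorProduct.productMap χ₁ (Ideal.Quotient.mkₐ R Q.asIdeal)
  have h2 := congrArg χ hm
  rw [map_zero, ← map_pow, TensorProduct.smul_tmul', smul_eq_mul, mul_one] at h2
  have h3 : χ ((Ideal.Quotient.mk I (g ^ m)) ⊗ₜ[R] (h ^ n)) =
      Ideal.Quotient.mk Q.asIdeal (algebraMap R S (g ^ m) * h ^ n) := by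
    simp only [χ, χ₁, Algebra.TensorProduct.productMap_apply_tmul]
    rw [map_mul]
    congr 1
  rw [h3, Ideal.Quotient.eq_zero_iff_mem] at h2
  rcases Q.2.mem_or_mem h2 with h4 | h4
  · exfalso
    rw [map_pow] at h4
    exact hQ (Q.2.mem_of_pow_mem m h4)
  · exact Q.2.mem_of_pow_mem n h4

end Groth.Agent.Lib.helper11.GenFibreCover
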