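import Mathlib
import Groth.Agent.Lib.helper11.GenFibreCover

/-!
# Scheme version: closed sets containing the generic fibre (helper11)
-/

set_option autoImplicit false
universe u

namespace Groth.Agent.Lib.helper11.GenFibreCoverScheme

open AlgebraicGeometry CategoryTheory

/-- Affine-local version. -/
theorem exists_basicOpen_affine {X Y : Scheme.{u}} (f : X ⟶ Y) [IrreducibleSpace ↑Y]
    [LocallyOfFiniteType f] (T : Set X) (hT : IsClosed T)
    (hfib : f.base ⁻¹' {genericPoint Y} ⊆ T)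
    (W : Y.Opens) (hW : IsAffineOpen W) (hηW : genericPoint Y ∈ W)
    (U : X.Opens) (hU : IsAffineOpen U) (e : U ≤ f ⁻¹ᵁ W) :
    ∃ g : Γ(Y, W), genericPoint Y ∈ Y.basicOpen g ∧
      ∀ x ∈ U, f.base x ∈ Y.basicOpen g → x ∈ T := by
  set η := genericPoint Y with hη
  have hgen : IsGenericPoint η (⊤ : Set Y) := genericPoint_spec Y
  let φ : Γ(Y, W) →+* Γ(X, U) := (f.appLE W U e).hom
  have hφ : φ.FiniteType := Scheme.Hom.finiteType_appLE f hW hU e
  letI : Algebra Γ(Y, W) Γ(X, U) := φ.toAlgebra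
  haveI : Algebra.FiniteType Γ(Y, W) Γ(X, U) := hφ
  let p₀ : PrimeSpectrum Γ(Y, W) := hW.primeIdealOf ⟨η, hηW⟩
  have hp₀ : hW.fromSpec p₀ = η := hW.fromSpec_primeIdealOf ⟨η, hηW⟩
  have hmin : ∀ q : PrimeSpectrum Γ(Y, W), p₀.asIdeal ≤ q.asIdeal := by
    intro q
    change p₀ ≤ q
    rw [PrimeSpectrum.le_iff_specializes]
    have h1 : η ⤳ hW.fromSpec q := hgen.specializes (Set.mem_univ _)
    rw [← hp₀] at h1
    exact (hW.fromSpec.isOpenEmbedding.isInducing.specializes_iff).mp h1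
  have h4 := IsAffineOpen.SpecMap_appLE_fromSpec f hW hU e
  have h5 : ∀ Q : PrimeSpectrum Γ(X, U),
      f.base (hU.fromSpec Q) = hW.fromSpec ((Spec.map (f.appLE W U e)) Q) := by
    intro Q
    rw [← Scheme.Hom.comp_apply, ← Scheme.Hom.comp_apply, h4]
  -- the closed set
  have hclosed : IsClosed (hU.fromSpec ⁻¹' T) := hT.preimage hU.fromSpec.continuous
  obtain ⟨J, hJ⟩ := (PrimeSpectrum.isClosed_iff_zeroLocus_ideal _).mp hclosed
  have hJfib : ∀ Q : PrimeSpectrum Γ(X, U),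
      PrimeSpectrum.comap (algebraMap Γ(Y, W) Γ(X, U)) Q = p₀ → J ≤ Q.asIdeal := by
    intro Q hQ
    have h6 : Q ∈ hU.fromSpec ⁻¹' T := by
      apply hfib
      change f.base (hU.fromSpec Q) = η
      rw [h5, ← hp₀]
      congr 1
    rw [hJ] at h6
    exact h6
  obtain ⟨g, hg, hgJ⟩ :=
    Groth.Agent.Lib.helper11.GenFibreCover.exists_forall_le_of_generic_fibre p₀ hmin J hJfib
  refine ⟨g, ?_, ?_⟩
  · have h6 : p₀ ∈ hW.fromSpec ⁻¹ᵁ Y.basicOpen g := by
      rw [hW.fromSpec_preimage_basicOpen]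
      exact hg
    have h7 : hW.fromSpec p₀ ∈ Y.basicOpen g := h6
    rw [hp₀] at h7
    exact h7
  · intro x hxU hx
    let Q : PrimeSpectrum Γ(X, U) := hU.primeIdealOf ⟨x, hxU⟩
    have hQx : hU.fromSpec Q = x := hU.fromSpec_primeIdealOf ⟨x, hxU⟩
    have hfxW : f.base x ∈ W := e hxU
    have h2 := IsAffineOpen.comap_primeIdealOf_appLE (f := f) (x := x) W hW U hU e hxU
    have hgQ : g ∉ (PrimeSpectrum.comap (algebraMap Γ(Y, W) Γ(X, U)) Q).asIdeal := by
      have h8 : PrimeSpectrum.comap (algebraMap Γ(Y, W) Γ(X, U)) Q =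
          hW.primeIdealOf ⟨f.base x, hfxW⟩ := h2
      rw [h8]
      have h3 : hW.primeIdealOf ⟨f.base x, hfxW⟩ ∈ hW.fromSpec ⁻¹ᵁ Y.basicOpen g := by
        change hW.fromSpec (hW.primeIdealOf ⟨f.base x, hfxW⟩) ∈ Y.basicOpen g
        rw [hW.fromSpec_primeIdealOf ⟨f.base x, hfxW⟩]
        exact hx
      rw [hW.fromSpec_preimage_basicOpen] at h3
      exact h3
    have h9 : Q ∈ PrimeSpectrum.zeroLocus (J : Set Γ(X, U)) := hgJ Q hgQ
    rw [← hJ] at h9
    have h10 : hU.fromSpec Q ∈ T := h9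
    rwa [hQx] at h10

/-- Let `f : X ⟶ Y` be of finite type with `Y` irreducible, `T` a closed subset of `X` containing
the generic fibre. Then `T` contains the preimage of a nonempty open subset of `Y`. -/
theorem exists_open_preimage_subset {X Y : Scheme.{u}} (f : X ⟶ Y) [IrreducibleSpace ↑Y]
    [LocallyOfFiniteType f] [QuasiCompact f] (T : Set X) (hT : IsClosed T)
    (hfib : f.base ⁻¹' {genericPoint Y} ⊆ T) :
    ∃ V : Y.Opens, (V : Set Y).Nonempty ∧ f.base ⁻¹' (V : Set Y) ⊆ T := by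
  classical
  set η := genericPoint Y with hη
  obtain ⟨W, hW, hηW, -⟩ := exists_isAffineOpen_mem_and_subset (X := Y) (x := η) (U := ⊤) (by simp)
  have hcomp : IsCompact (f.base ⁻¹' (W : Set Y)) :=
    QuasiCompact.isCompact_preimage (f := f) _ W.isOpen hW.isCompact
  -- local data
  have hloc : ∀ x : X, x ∈ f.base ⁻¹' (W : Set Y) → ∃ (U : X.Opens) (g : Γ(Y, W)), x ∈ U ∧
      η ∈ Y.basicOpen g ∧ ∀ x' ∈ U, f.base x' ∈ Y.basicOpen g → x' ∈ T := by
    intro x hx
    have hxW : x ∈ f ⁻¹ᵁ W := hx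
    obtain ⟨U, hU, hxU, hUW⟩ := exists_isAffineOpen_mem_and_subset (X := X) (x := x) hxW
    obtain ⟨g, hg1, hg2⟩ := exists_basicOpen_affine f T hT hfib W hW hηW U hU hUW
    exact ⟨U, g, hxU, hg1, hg2⟩
  choose! U g hxU hηg hUT using hloc
  obtain ⟨t, ht', htfin, ht⟩ := hcomp.elim_finite_subcover_image
    (b := f.base ⁻¹' (W : Set Y)) (c := fun x : X => ((U x : X.Opens) : Set X))
    (fun x _ => (U x).isOpen) (fun x hx => Set.mem_biUnion hx (hxU x hx))
  have hVopen : IsOpen ((W : Set Y) ∩ ⋂ i ∈ t, (Y.basicOpen (g i) : Set Y)) :=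
    W.isOpen.inter (htfin.isOpen_biInter fun i _ => (Y.basicOpen (g i)).isOpen)
  refine ⟨⟨_, hVopen⟩, ⟨η, hηW, ?_⟩, ?_⟩
  · simp only [Set.mem_iInter]
    intro i hi
    exact hηg i (ht' hi)
  · intro x hx
    have hxW : x ∈ f.base ⁻¹' (W : Set Y) := hx.1
    obtain ⟨i, hi, hxi⟩ : ∃ i ∈ t, x ∈ ((U i : X.Opens) : Set X) := by
      have := ht hxW
      simpa only [Set.mem_iUnion, exists_prop] using this
    have hxg : f.base x ∈ Y.basicOpen (g i) := by
      have := hx.2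
      simp only [Set.mem_iInter] at this
      exact this i hi
    exact hUT i (ht' hi) x hxi hxg

end Groth.Agent.Lib.helper11.GenFibreCoverScheme
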