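import Mathlib
import Groth.Agent.Lib.helper11.BassDepth

/-!
# Gorenstein local rings: injective dimension = dimension = depth (helper11)
-/

set_option autoImplicit false

namespace Groth.Agent.Lib.helper11.GorensteinLocal

open CategoryTheory Abelian Groth.Agent.Lib.helper11.InjDimKappa
  Groth.Agent.Lib.helper11.BassLemma Groth.Agent.Lib.helper11.BassDepth
  Groth.Agent.Lib.helper11.ExtShift Groth.Agent.Lib.helper11.ExtKoszul

universe u

variable {A : Type u} [CommRing A]

/-- An associated prime `p` of `M` lies in the support of `Hom(A/p, M)`. -/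
theorem mem_support_ext_zero_of_mem_associatedPrimes [IsNoetherianRing A] (M : Type u)
    [AddCommGroup M] [Module A M] (p : PrimeSpectrum A) (hp : p.asIdeal ∈ associatedPrimes A M) :
    p ∈ Module.support A (Ext (ModuleCat.of A (A ⧸ p.asIdeal)) (ModuleCat.of A M) 0) := by
  obtain ⟨-, f, hf⟩ := (isAssociatedPrime_iff_exists_injective_linearMap p.asIdeal M).mp hp
  rw [Module.mem_support_iff']
  refine ⟨Ext.mk₀ (ModuleCat.ofHom f), fun r hr h0 => ?_⟩
  rw [← Ext.mk₀_smul, ← Ext.mk₀_zero] at h0
  have h1 := (Ext.mk₀_bijective _ _).1 h0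
  have h2 : (r • ModuleCat.ofHom f).hom (1 : A ⧸ p.asIdeal) = 0 := by rw [h1]; rfl
  have h3 : f (r • (1 : A ⧸ p.asIdeal)) = 0 := by
    rw [map_smul]
    exact h2
  have h4 : r • (1 : A ⧸ p.asIdeal) = 0 := hf (by rw [h3, map_zero])
  rw [Algebra.smul_def, mul_one, Ideal.Quotient.algebraMap_eq,
    Ideal.Quotient.eq_zero_iff_mem] at h4
  exact hr h4

section Local

variable [IsLocalRing A]

/-- Over a local ring, a module is nonzero iff the closed point is in its support. -/
theorem closedPoint_mem_support_iff (E : Type*) [AddCommGroup E] [Module A E] :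
    IsLocalRing.closedPoint A ∈ Module.support A E ↔ Nontrivial E := by
  constructor
  · intro h
    by_contra hE
    rw [not_nontrivial_iff_subsingleton] at hE
    rw [Module.support_eq_empty] at h
    exact h
  · intro hE
    obtain ⟨q, hq⟩ := (Module.support_eq_empty_iff.not.mpr
      (not_subsingleton_iff_nontrivial.mpr hE) : Module.support A E ≠ ∅) |>
        Set.nonempty_iff_ne_empty.mpr
    exact Module.mem_support_mono (IsLocalRing.le_maximalIdeal q.2.ne_top) hq

variable [IsNoetherianRing A]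

/-- Some `Ext^k(κ, A)` with `k ≥ dim A` is nonzero. -/
theorem exists_nontrivial_ext_residue_ge_dim (d : ℕ) (hd : ringKrullDim A = d) :
    ∃ k : ℕ, d ≤ k ∧ Nontrivial
      (Ext (ModuleCat.of A (A ⧸ IsLocalRing.maximalIdeal A)) (ModuleCat.of A A) k) := by
  have hht : Order.height (IsLocalRing.closedPoint A) = d := by
    rw [← PrimeSpectrum.height_eq_orderHeight]
    have h1 : ((IsLocalRing.maximalIdeal A).height : WithBot ℕ∞) = ((d : ℕ∞) : WithBot ℕ∞) := by
      rw [IsLocalRing.maximalIdeal_height_eq_ringKrullDim, hd]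
      rfl
    exact_mod_cast h1
  obtain ⟨l, hlast, hlen⟩ := Order.exists_series_of_height_eq_coe _ hht
  obtain ⟨p, hpmin, hple⟩ := Ideal.exists_minimalPrimes_le
    (show (⊥ : Ideal A) ≤ (l.head).asIdeal from bot_le)
  have hpprime : p.IsPrime := hpmin.1.1
  let P : PrimeSpectrum A := ⟨p, hpprime⟩
  have hass : p ∈ associatedPrimes A A := by
    apply Module.associatedPrimes.minimalPrimes_annihilator_subset_associatedPrimes A A
    rwa [Module.annihilator_eq_bot.mpr inferInstance]
  have hmem0 := mem_support_ext_zero_of_mem_associatedPrimes A P hass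
  have hzl : ∀ i, l i ∈ PrimeSpectrum.zeroLocus (P.asIdeal : Set A) := by
    intro i
    rw [PrimeSpectrum.mem_zeroLocus]
    exact hple.trans (l.strictMono.monotone (Fin.zero_le i))
  let l' : LTSeries (PrimeSpectrum.zeroLocus (P.asIdeal : Set A)) :=
    LTSeries.mk l.length (fun i => ⟨l i, hzl i⟩) (fun i j hij => l.strictMono hij)
  let t : PrimeSpectrum.zeroLocus (P.asIdeal : Set A) := l'.last
  have htval : t.1 = IsLocalRing.closedPoint A := hlast
  have hge : (d : ℕ∞) ≤ Order.height t := by
    rw [← hlen]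
    exact Order.length_le_height (p := l') le_rfl
  have hfin : Order.height t ≠ ⊤ := by
    have h1 : Order.height t ≤ Order.height t.1 :=
      Order.height_le_height_apply_of_strictMono Subtype.val (fun a b h => h) t
    rw [htval, hht] at h1
    exact ne_top_of_le_ne_top (ENat.natCast_ne_top d) h1
  obtain ⟨k, hk⟩ := ENat.ne_top_iff_exists.mp hfin
  have hmem := mem_support_ext_add A P 0 hmem0 k t hk.symm
  rw [htval, zero_add] at hmem
  refine ⟨k, ?_, (closedPoint_mem_support_iff
    (Ext (ModuleCat.of A (A ⧸ IsLocalRing.maximalIdeal A)) (ModuleCat.of A A) k)).mp hmem⟩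
  rw [← hk] at hge
  exact_mod_cast hge

/-- Injective dimension bound from vanishing of `Ext^i(κ, M)`. -/
theorem hasInjectiveDimensionLT_of_ext_residue (M : Type u) [AddCommGroup M] [Module A M]
    [Module.Finite A M] (N : ℕ)
    (hN : ∀ i, N + 1 ≤ i → Subsingleton
      (Ext (ModuleCat.of A (A ⧸ IsLocalRing.maximalIdeal A)) (ModuleCat.of A M) i)) :
    HasInjectiveDimensionLT (ModuleCat.of A M) (N + 1) := by
  refine hasInjectiveDimensionLT_of_ext_quotient N (ModuleCat.of A M) fun I => ?_
  refine ext_subsingleton_of_primes ⊥ (ModuleCat.of A M) (N + 1) ?_ (A ⧸ I) ?_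
  · intro q hq _
    exact ext_quotient_prime_subsingleton M (N + 1) hN q hq (N + 1) le_rfl
  · intro a ha y
    rw [(Submodule.mem_bot A).mp ha, zero_smul]

open Groth.Agent.Lib.Helper21.DepthKit in
/-- If `A` has injective dimension `≤ j` and `Ext^j(κ, A) ≠ 0` then `j ≤ depth A`. -/
theorem le_depth_of_nontrivial_ext (j : ℕ)
    (hinj : HasInjectiveDimensionLT (ModuleCat.of A A) (j + 1))
    (hne : Nontrivial (Ext (ModuleCat.of A (A ⧸ IsLocalRing.maximalIdeal A)) (ModuleCat.of A A) j))
    (t : ℕ) (ht : LocCoh.depth A A = t) : j ≤ t := by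
  by_contra hlt
  rw [not_le] at hlt
  obtain ⟨xs, hlen, hmem, hreg⟩ := (natCast_le_depth_iff (A := A) (M := A) t).mp (by rw [ht])
  haveI : Nontrivial (A ⧸ (Ideal.ofList xs • ⊤ : Submodule A A)) :=
    nontrivial_quot_ofList xs hmem
  have hdN := depth_quot_ofList xs A hmem hreg
  rw [ht, hlen] at hdN
  have h0 : LocCoh.depth A (A ⧸ (Ideal.ofList xs • ⊤ : Submodule A A)) = 0 := by
    have h1 : LocCoh.depth A (A ⧸ (Ideal.ofList xs • ⊤ : Submodule A A)) + (t : ℕ∞) =
        0 + (t : ℕ∞) := by rw [hdN, zero_add]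
    exact (ENat.add_left_injective_of_ne_top (ENat.natCast_ne_top t)) h1
  have hAss := (Groth.Agent.S5752.result A _).mp h0
  obtain ⟨-, f, hf⟩ := (isAssociatedPrime_iff_exists_injective_linearMap _ _).mp hAss
  have hS := sc_shortExact f (LinearMap.range f).mkQ hf (Submodule.mkQ_surjective _)
    (LinearMap.exact_map_mkQ_range f)
  have h4 : (Ideal.ofList xs • ⊤ : Submodule A A) = Ideal.ofList xs := by
    rw [smul_eq_mul, Ideal.mul_top]
  have hvan : Subsingleton (Ext (ModuleCat.of A (A ⧸ (Ideal.ofList xs • ⊤ : Submodule A A)))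
      (ModuleCat.of A A) j) := by
    have hcl := (claim_ofList A xs hreg).1 A j (by omega)
    have hsub : Subsingleton (Ext (ModuleCat.of A (A ⧸ Ideal.ofList xs)) (ModuleCat.of A A) j) :=
      ⟨fun a b => by rw [hcl a, hcl b]⟩
    exact ⟨fun a b => by
      rw [ext_eq_zero_of_iso (Submodule.quotEquivOfEq _ _ h4).toModuleIso hsub a,
        ext_eq_zero_of_iso (Submodule.quotEquivOfEq _ _ h4).toModuleIso hsub b]⟩
  have key : ∀ x₁ : Ext (ModuleCat.of A (A ⧸ IsLocalRing.maximalIdeal A)) (ModuleCat.of A A) j,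
      x₁ = 0 := by
    intro x₁
    have hδ : hS.extClass.comp x₁ (add_comm 1 j) = 0 :=
      Ext.eq_zero_of_hasInjectiveDimensionLT _ (j + 1) le_rfl
    obtain ⟨x₂, hx₂⟩ := Ext.contravariant_sequence_exact₁ hS (ModuleCat.of A A) x₁
      (add_comm 1 j) hδ
    rw [← hx₂, Subsingleton.elim x₂ 0, Ext.comp_zero]
  obtain ⟨a, b, hab⟩ := hne
  exact hab ((key a).trans (key b).symm)

open Groth.Agent.Lib.Helper21.DepthKit in
/-- **Gorenstein local rings**: if `A` has finite injective dimension and `dim A = d` then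
`inj.dim A ≤ d`, `Ext^d(κ, A) ≠ 0` and `depth A = d`. -/
theorem gorenstein_main (hG : ∃ n : ℕ, HasInjectiveDimensionLT (ModuleCat.of A A) n) (d : ℕ)
    (hd : ringKrullDim A = d) :
    HasInjectiveDimensionLT (ModuleCat.of A A) (d + 1) ∧
    Nontrivial (Ext (ModuleCat.of A (A ⧸ IsLocalRing.maximalIdeal A)) (ModuleCat.of A A) d) ∧
    LocCoh.depth A A = d := by
  classical
  obtain ⟨n0, hn0⟩ := hG
  have hP : ∃ N : ℕ, ∀ i, N ≤ i → Subsingleton
      (Ext (ModuleCat.of A (A ⧸ IsLocalRing.maximalIdeal A)) (ModuleCat.of A A) i) :=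
    ⟨n0, fun i hi => HasInjectiveDimensionLT.subsingleton (ModuleCat.of A A) n0 i hi _⟩
  have hr := Nat.find_spec hP
  have hmin := fun m => Nat.find_min hP (m := m)
  set r := Nat.find hP with hrdef
  obtain ⟨k, hdk, hk⟩ := exists_nontrivial_ext_residue_ge_dim d hd
  have hkr : k < r := by
    by_contra hle
    rw [not_lt] at hle
    exact not_subsingleton_iff_nontrivial.mpr hk (hr k hle)
  obtain ⟨j, hj⟩ : ∃ j, r = j + 1 := Nat.exists_eq_succ_of_ne_zero (by omega)
  have hnej : Nontrivial
      (Ext (ModuleCat.of A (A ⧸ IsLocalRing.maximalIdeal A)) (ModuleCat.of A A) j) := by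
    have h1 := hmin j (by omega)
    push Not at h1
    obtain ⟨i, hji, hi⟩ := h1
    have hij : i = j := by
      by_contra hne
      exact not_subsingleton_iff_nontrivial.mpr hi (hr i (by omega))
    subst hij
    exact hi
  have hinj : HasInjectiveDimensionLT (ModuleCat.of A A) (j + 1) :=
    hasInjectiveDimensionLT_of_ext_residue A j (fun i hi => hr i (by omega))
  obtain ⟨t, ht⟩ := exists_nat_depth (A := A) (M := A)
  have hjt := le_depth_of_nontrivial_ext j hinj hnej t ht
  have htd : t ≤ d := by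
    have h1 := depth_le_supportDim (A := A) (M := A)
    rw [Module.supportDim_self_eq_ringKrullDim, hd, ht] at h1
    exact_mod_cast h1
  have hjd : j = d := by omega
  have htd' : t = d := by omega
  subst hjd
  refine ⟨hinj, hnej, ?_⟩
  rw [ht, htd']

end Local

end Groth.Agent.Lib.helper11.GorensteinLocal
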