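import Mathlib
import Groth.Agent.Lib.helper11.LCVanish
import Groth.Agent.Lib.Helper26.MatlisComplete
import Groth.Agent.Lib.Helper26.Melkersson

/-!
# `H^i_m(M)` is Artinian for finite `M` over a noetherian local ring (helper11)
-/

set_option autoImplicit false

namespace Groth.Agent.Lib.helper11.LCKit

open CategoryTheory Limits Opposite localCohomology Abelian IsLocalRing

universe u

variable {R : Type u} [CommRing R] [IsNoetherianRing R]

/-- `H^i_J(M) ≃ H^i_J(M/Γ_J M)` for `i > 0`. -/
theorem bijective_map_mkQ_gam (J : Ideal R) (i : ℕ) (hi : 0 < i) (M : Type u) [AddCommGroup M]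
    [Module R M] :
    Function.Bijective ((localCohomology J i).map (ModuleCat.ofHom (gam J M).mkQ)).hom := by
  let S := Groth.Agent.Lib.helper11.FinLenInd.subSC (ModuleCat.of R M) (gam J M)
  have hS : S.ShortExact := Groth.Agent.Lib.helper11.FinLenInd.subSC_shortExact _ _
  have hT : IsTors J S.X₁ := isTors_gam J M
  have hv : ∀ j, 0 < j → Subsingleton ((localCohomology J j).obj S.X₁) :=
    fun j hj => subsingleton_of_isTors J j hj S.X₁ hT
  change Function.Bijective ((localCohomology J i).map S.g).hom
  constructor
  · rw [injective_iff_map_eq_zero]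
    intro x hx
    obtain ⟨x₁, rfl⟩ := exact₂ J i hS x hx
    haveI := hv i hi
    rw [Subsingleton.elim x₁ 0]
    exact map_zero _
  · intro x₃
    haveI := hv (i + 1) (by omega)
    exact exact₃ J i hS x₃ (Subsingleton.elim _ _)

variable [IsLocalRing R]

theorem isArtinian_localCohomology (i : ℕ) :
    ∀ (M : Type u) [AddCommGroup M] [Module R M] [Module.Finite R M],
      IsArtinian R ((localCohomology (maximalIdeal R) i).obj (ModuleCat.of R M)) := by
  induction i with
  | zero =>
    intro M _ _ _
    haveI : IsNoetherian R ((localCohomology (maximalIdeal R) 0).obj (ModuleCat.of R M)) :=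
      isNoetherian_of_injective (ev (maximalIdeal R) (ModuleCat.of R M))
        (ev_injective (maximalIdeal R) (ModuleCat.of R M))
    exact Groth.Agent.Lib.Helper26.Matlis.isArtinian_of_isPowerTorsion_of_isNoetherian _
      (fun z => exists_pow_smul_eq_zero (maximalIdeal R) 0 (ModuleCat.of R M) z)
  | succ i ih =>
    intro M _ _ _
    -- reduce to `N = M/Γ`
    let N := M ⧸ gam (maximalIdeal R) M
    suffices hN : IsArtinian R ((localCohomology (maximalIdeal R) (i + 1)).obj (ModuleCat.of R N)) by
      have hb := bijective_map_mkQ_gam (maximalIdeal R) (i + 1) (by omega) M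
      exact isArtinian_of_injective
        ((localCohomology (maximalIdeal R) (i + 1)).map
          (ModuleCat.ofHom (gam (maximalIdeal R) M).mkQ)).hom hb.1
    have hNfree : IsTorsFree (maximalIdeal R) N :=
      isTorsFree_quotient_gam (maximalIdeal R) (IsNoetherian.noetherian _) M
    obtain ⟨x, hxJ, hreg⟩ := exists_regular_of_isTorsFree (maximalIdeal R) N hNfree
    have hS := IsSMulRegular.smulShortComplex_shortExact (M := ModuleCat.of R N) hreg
    let S := (ModuleCat.of R N).smulShortComplex x
    haveI hQ : IsArtinian R ((localCohomology (maximalIdeal R) i).obj S.X₃) :=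
      ih (QuotSMulTop x N)
    show IsArtinian R ((localCohomology (maximalIdeal R) (i + 1)).obj S.X₁)
    haveI : IsArtinian R (Submodule.torsionBy R
        ((localCohomology (maximalIdeal R) (i + 1)).obj S.X₁) x) := by
      have hle : Submodule.torsionBy R
          ((localCohomology (maximalIdeal R) (i + 1)).obj S.X₁) x ≤
          LinearMap.range (δ (maximalIdeal R) i hS).hom := by
        intro z hz
        rw [Submodule.mem_torsionBy_iff] at hz
        have hz' : ((localCohomology (maximalIdeal R) (i + 1)).map S.f).hom z = 0 := by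
          rw [smul_eq_map] at hz
          exact hz
        obtain ⟨x₃, hx₃⟩ := exact₁ (maximalIdeal R) i hS z hz'
        exact ⟨x₃, hx₃⟩
      haveI : IsArtinian R (LinearMap.range (δ (maximalIdeal R) i hS).hom) :=
        isArtinian_of_surjective _ (δ (maximalIdeal R) i hS).hom.rangeRestrict
          (LinearMap.surjective_rangeRestrict _)
      exact isArtinian_of_le hle
    apply Groth.Agent.Lib.Helper26.Melkersson.isArtinian_of_torsionBy x
    intro z
    obtain ⟨k, hk⟩ := exists_pow_smul_eq_zero (maximalIdeal R) (i + 1) S.X₁ z
    exact ⟨k, hk _ (Ideal.pow_mem_pow hxJ k)⟩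

end Groth.Agent.Lib.helper11.LCKit
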