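import Mathlib
import Groth.Agent.Lib.helper11.LCArtinian

/-!
# The top local cohomology `H^n_a(M)`, `n = dim M`, is Artinian (helper11)
-/

set_option autoImplicit false

namespace Groth.Agent.Lib.helper11.LCKit

open CategoryTheory Limits Opposite localCohomology Abelian IsLocalRing

universe u

variable {R : Type u} [CommRing R] [IsNoetherianRing R]

/-- A finite module supported in `V(J)` is killed by a power of `J`. -/
theorem exists_pow_le_annihilator (J : Ideal R) (F : Type*) [AddCommGroup F] [Module R F]
    [Module.Finite R F] (h : Module.support R F ⊆ PrimeSpectrum.zeroLocus (J : Set R)) :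
    ∃ k : ℕ, J ^ k ≤ Module.annihilator R F := by
  rw [Module.support_eq_zeroLocus, PrimeSpectrum.zeroLocus_subset_zeroLocus_iff] at h
  exact Ideal.exists_pow_le_of_le_radical_of_fg h (IsNoetherian.noetherian J)

theorem withBot_le_of_add_one_le (a : WithBot ℕ∞) (i : ℕ)
    (h : a + 1 ≤ ((i + 1 : ℕ) : WithBot ℕ∞)) : a ≤ (i : WithBot ℕ∞) := by
  induction a using WithBot.recBotCoe with
  | bot => exact bot_le
  | coe d =>
    have h' : ((d + 1 : ℕ∞) : WithBot ℕ∞) ≤ (((i + 1 : ℕ) : ℕ∞) : WithBot ℕ∞) := by
      exact_mod_cast h
    have h2 : d + 1 ≤ ((i + 1 : ℕ) : ℕ∞) := WithBot.coe_le_coe.1 h'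
    have h3 : d ≤ (i : ℕ∞) := by
      push_cast at h2
      exact (ENat.add_le_add_iff_right (by simp)).1 h2
    exact_mod_cast WithBot.coe_le_coe.2 h3

variable [IsLocalRing R]

theorem isArtinian_of_supportDim_le_zero (M : Type u) [AddCommGroup M] [Module R M]
    [Module.Finite R M] (h : Module.supportDim R M ≤ 0) : IsArtinian R M := by
  rcases subsingleton_or_nontrivial M with hs | hn
  · infer_instance
  · have h0 : Module.supportDim R M = 0 := by
      apply le_antisymm h
      have hne := (Module.supportDim_ne_bot_iff_nontrivial R M).2 hn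
      obtain ⟨d, hd⟩ := WithBot.ne_bot_iff_exists.1 hne
      rw [← hd]
      exact WithBot.coe_le_coe.2 zero_le
    have hsupp := support_of_supportDim_eq_zero (R := R) (N := M) h0
    obtain ⟨k, hk⟩ := exists_pow_le_annihilator (maximalIdeal R) M hsupp.le
    apply Groth.Agent.Lib.Helper26.Matlis.isArtinian_of_isPowerTorsion_of_isNoetherian
    intro m
    exact ⟨k, fun a ha => Module.mem_annihilator.1 (hk ha) m⟩

theorem isArtinian_top_localCohomology (J : Ideal R) (n : ℕ) :
    ∀ (M : Type u) [AddCommGroup M] [Module R M] [Module.Finite R M],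
      Module.supportDim R M ≤ n →
      IsArtinian R ((localCohomology J n).obj (ModuleCat.of R M)) := by
  induction n with
  | zero =>
    intro M _ _ _ h
    haveI : IsArtinian R M := isArtinian_of_supportDim_le_zero M (by simpa using h)
    exact isArtinian_of_injective (ev J (ModuleCat.of R M)) (ev_injective J (ModuleCat.of R M))
  | succ i ih =>
    intro M _ _ _ h
    let N := M ⧸ gam J M
    suffices hN : IsArtinian R ((localCohomology J (i + 1)).obj (ModuleCat.of R N)) by
      have hb := bijective_map_mkQ_gam J (i + 1) (by omega) M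
      exact isArtinian_of_injective
        ((localCohomology J (i + 1)).map (ModuleCat.ofHom (gam J M).mkQ)).hom hb.1
    have hNfree : IsTorsFree J N := isTorsFree_quotient_gam J (IsNoetherian.noetherian _) M
    obtain ⟨x, hxJ, hreg⟩ := exists_regular_of_isTorsFree J N hNfree
    have hS := IsSMulRegular.smulShortComplex_shortExact (M := ModuleCat.of R N) hreg
    let S := (ModuleCat.of R N).smulShortComplex x
    have hdimN : Module.supportDim R N ≤ Module.supportDim R M :=
      Module.supportDim_le_of_surjective (gam J M).mkQ (gam J M).mkQ_surjective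
    have hdimQ : Module.supportDim R (QuotSMulTop x N) + 1 ≤ Module.supportDim R N :=
      Module.supportDim_quotSMulTop_succ_le_of_notMem_minimalPrimes
        (fun _ => hreg.notMem_of_mem_minimalPrimes)
    have hle : Module.supportDim R (QuotSMulTop x N) ≤ i := by
      have h1 : Module.supportDim R (QuotSMulTop x N) + 1 ≤ ((i + 1 : ℕ) : WithBot ℕ∞) :=
        (hdimQ.trans hdimN).trans h
      exact withBot_le_of_add_one_le _ i h1
    haveI hQ : IsArtinian R ((localCohomology J i).obj S.X₃) := ih (QuotSMulTop x N) hle
    show IsArtinian R ((localCohomology J (i + 1)).obj S.X₁)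
    haveI : IsArtinian R (Submodule.torsionBy R ((localCohomology J (i + 1)).obj S.X₁) x) := by
      have hle : Submodule.torsionBy R ((localCohomology J (i + 1)).obj S.X₁) x ≤
          LinearMap.range (δ J i hS).hom := by
        intro z hz
        rw [Submodule.mem_torsionBy_iff] at hz
        have hz' : ((localCohomology J (i + 1)).map S.f).hom z = 0 := by
          rw [smul_eq_map] at hz
          exact hz
        obtain ⟨x₃, hx₃⟩ := exact₁ J i hS z hz'
        exact ⟨x₃, hx₃⟩
      haveI : IsArtinian R (LinearMap.range (δ J i hS).hom) :=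
        isArtinian_of_surjective _ (δ J i hS).hom.rangeRestrict
          (LinearMap.surjective_rangeRestrict _)
      exact isArtinian_of_le hle
    apply Groth.Agent.Lib.Helper26.Melkersson.isArtinian_of_torsionBy x
    intro z
    obtain ⟨k, hk⟩ := exists_pow_smul_eq_zero J (i + 1) S.X₁ z
    exact ⟨k, hk _ (Ideal.pow_mem_pow hxJ k)⟩

end Groth.Agent.Lib.helper11.LCKit
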