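import Mathlib
import Groth.Agent.Lib.helper11.LCVanish

/-!
# Torsion-free injective embeddings and `J`-depth via `Ext` (helper11)

* `injective_of_retract`
* `exists_injective_torsFree_ses` : a `J`-torsion-free module embeds in a `J`-torsion-free injective
* `subsingleton_of_injective_torsFree` : `H^i_J(E) = 0` for all `i` for such `E`
* `ext_eq_zero_of_isTors_of_injective_torsFree`
* `isTorsFree_of_subsingleton_hom` : `Hom(F, G) = 0`, `Supp F ⊇ V(J)` ⇒ `Γ_J(G) = 0`
* `ext_vanishing_of_lc_vanishing`, `lc_vanishing_of_ext_vanishing`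
-/

set_option autoImplicit false

namespace Groth.Agent.Lib.helper11.LCKit

open CategoryTheory Limits Opposite localCohomology Abelian

universe u

variable {R : Type u} [CommRing R]

theorem injective_of_retract {Q Q' : Type u} [AddCommGroup Q] [Module R Q] [AddCommGroup Q']
    [Module R Q'] (ι : Q' →ₗ[R] Q) (r : Q →ₗ[R] Q') (h : ∀ x, r (ι x) = x)
    [Module.Injective R Q] : Module.Injective R Q' where
  out X Y _ _ _ _ f hf g := by
    obtain ⟨k, hk⟩ := Module.Injective.out f hf (ι ∘ₗ g)
    refine ⟨r ∘ₗ k, fun x => ?_⟩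
    rw [LinearMap.comp_apply, hk, LinearMap.comp_apply, h]

variable (J : Ideal R)

theorem isTorsFree_of_subsingleton_H0 (G : ModuleCat.{u} R)
    (h : Subsingleton ((localCohomology J 0).obj G)) : IsTorsFree J G := by
  intro m hm
  obtain ⟨x, rfl⟩ := (mem_range_ev_iff J G m).2 hm
  rw [Subsingleton.elim x 0, map_zero]

theorem subsingleton_H0_of_isTorsFree (G : ModuleCat.{u} R) (h : IsTorsFree J G) :
    Subsingleton ((localCohomology J 0).obj G) := by
  refine subsingleton_of_forall_eq 0 (fun x => ?_)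
  apply ev_injective J G
  rw [map_zero]
  exact h _ ((mem_range_ev_iff J G _).1 ⟨x, rfl⟩)

theorem subsingleton_of_injective_torsFree (E : ModuleCat.{u} R) [Injective E]
    (h : IsTorsFree J E) (i : ℕ) : Subsingleton ((localCohomology J i).obj E) := by
  rcases Nat.eq_zero_or_pos i with rfl | hi
  · exact subsingleton_H0_of_isTorsFree J E h
  · exact subsingleton_of_injective J i E hi

/-- `Hom(F, G) = 0` if `F` is torsion and `G` torsion-free. -/
theorem hom_eq_zero_of_isTors_of_isTorsFree {F G : ModuleCat.{u} R} (hF : IsTors J F)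
    (hG : IsTorsFree J G) (φ : F ⟶ G) : φ = 0 := by
  ext x
  apply hG
  obtain ⟨n, hn⟩ := hF x
  exact ⟨n, fun a ha => by rw [← map_smul, hn a ha, map_zero]⟩

theorem ext_eq_zero_of_isTors_of_injective_torsFree {F E : ModuleCat.{u} R} [Injective E]
    (hF : IsTors J F) (hE : IsTorsFree J E) {i : ℕ} (e : Ext F E i) : e = 0 := by
  rcases Nat.eq_zero_or_pos i with rfl | hi
  · obtain ⟨φ, rfl⟩ := (Ext.homEquiv₀).symm.surjective e
    show Ext.mk₀ φ = 0
    rw [hom_eq_zero_of_isTors_of_isTorsFree J hF hE φ, Ext.mk₀_zero]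
  · obtain ⟨j, rfl⟩ : ∃ j, i = j + 1 := ⟨i - 1, by omega⟩
    exact Ext.eq_zero_of_injective e

variable [IsNoetherianRing R]

/-- A `J`-torsion-free module embeds in a `J`-torsion-free injective module. -/
theorem exists_injective_torsFree_ses (G : ModuleCat.{u} R) (hG : IsTorsFree J G) :
    ∃ (X₂ X₃ : ModuleCat.{u} R) (f : G ⟶ X₂) (g : X₂ ⟶ X₃) (w : f ≫ g = 0),
      (ShortComplex.mk f g w).ShortExact ∧ Injective X₂ ∧ IsTorsFree J X₂ := by
  let E0 : ModuleCat.{u} R := Injective.under G
  let ι0 : G ⟶ E0 := Injective.ι G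
  haveI : Mono ι0 := Injective.ι_mono G
  have hι0 : Function.Injective ι0.hom := (ModuleCat.mono_iff_injective ι0).1 inferInstance
  haveI hE0inj : Injective (ModuleCat.of R E0) := (inferInstance : Injective (Injective.under G))
  haveI hE0 : Module.Injective R E0 := Module.injective_module_of_injective_object R E0
  let T : Submodule R E0 := ⨆ n : ℕ, Submodule.torsionBySet R E0 ((J ^ n : Ideal R) : Set R)
  haveI hTinj : Module.Injective R T := Groth.Agent.S0301.result R E0 hE0 J
  have hTmem : ∀ x : E0, x ∈ T ↔ ∃ n : ℕ, ∀ a ∈ J ^ n, a • x = 0 :=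
    fun x => Groth.Agent.S0301.mem_iSup_torsionBySet_pow J x
  -- retraction onto `T`
  obtain ⟨ρ, hρ⟩ := Module.Injective.out T.subtype T.injective_subtype (LinearMap.id : T →ₗ[R] T)
  have hρ' : ∀ t : T, ρ t.1 = t := fun t => hρ t
  let E' : Submodule R E0 := LinearMap.ker ρ
  let π' : E0 →ₗ[R] E' := LinearMap.codRestrict E' (LinearMap.id - T.subtype ∘ₗ ρ) (by
    intro x
    show ρ (x - (ρ x).1) = 0
    rw [map_sub, hρ' (ρ x), sub_self])
  have hπ' : ∀ x : E', π' (E'.subtype x) = x := by
    intro x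
    apply Subtype.ext
    show x.1 - (ρ x.1).1 = x.1
    have : ρ x.1 = 0 := x.2
    rw [this]
    simp
  haveI hE'inj : Module.Injective R E' := injective_of_retract E'.subtype π' hπ'
  have hE'free : IsTorsFree J E' := by
    intro x hx
    obtain ⟨n, hn⟩ := hx
    have hxT : x.1 ∈ T := (hTmem x.1).2 ⟨n, fun a ha => by
      have := congrArg Subtype.val (hn a ha)
      exact this⟩
    have h1 : ρ x.1 = ⟨x.1, hxT⟩ := hρ' ⟨x.1, hxT⟩
    have h2 : ρ x.1 = 0 := x.2
    rw [h2] at h1
    apply Subtype.ext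
    exact (congrArg Subtype.val h1).symm
  let f' : G →ₗ[R] E' := π' ∘ₗ ι0.hom
  have hf' : Function.Injective f' := by
    rw [← LinearMap.ker_eq_bot, LinearMap.ker_eq_bot']
    intro m hm
    have h1 : ι0.hom m - (ρ (ι0.hom m)).1 = 0 := congrArg Subtype.val hm
    have h2 : ι0.hom m ∈ T := by
      rw [sub_eq_zero] at h1
      rw [h1]
      exact (ρ (ι0.hom m)).2
    obtain ⟨n, hn⟩ := (hTmem _).1 h2
    apply hG
    exact ⟨n, fun a ha => hι0 (by rw [map_smul, hn a ha, map_zero])⟩
  let C := E' ⧸ LinearMap.range f'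
  let g' : E' →ₗ[R] C := (LinearMap.range f').mkQ
  have hg' : Function.Surjective g' := Submodule.mkQ_surjective _
  refine ⟨ModuleCat.of R E', ModuleCat.of R C, ModuleCat.ofHom f', ModuleCat.ofHom g', ?_, ?_,
    Module.injective_object_of_injective_module R E', hE'free⟩
  · ext x
    show g' (f' x) = 0
    exact (Submodule.Quotient.mk_eq_zero _).2 ⟨x, rfl⟩
  · apply ModuleCat.shortComplex_shortExact
    · intro t
      show g' t = 0 ↔ t ∈ Set.range f'
      rw [Submodule.mkQ_apply, Submodule.Quotient.mk_eq_zero]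
      rfl
    · exact hf'
    · exact hg'

/-- If `H^i_J(G) = 0` for `i < n`, then `Ext^i(F, G) = 0` for `i < n` and every `J`-torsion `F`. -/
theorem ext_vanishing_of_lc_vanishing (n : ℕ) :
    ∀ (G : ModuleCat.{u} R), (∀ i, i < n → Subsingleton ((localCohomology J i).obj G)) →
      ∀ (F : ModuleCat.{u} R), IsTors J F → ∀ i, i < n → ∀ e : Ext F G i, e = 0 := by
  induction n with
  | zero => intro G _ F _ i hi; omega
  | succ n ih =>
    intro G hG F hF i hi e
    have hGfree : IsTorsFree J G := isTorsFree_of_subsingleton_H0 J G (hG 0 (by omega))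
    rcases Nat.eq_zero_or_pos i with rfl | hipos
    · obtain ⟨φ, rfl⟩ := (Ext.homEquiv₀).symm.surjective e
      show Ext.mk₀ φ = 0
      rw [hom_eq_zero_of_isTors_of_isTorsFree J hF hGfree φ, Ext.mk₀_zero]
    · obtain ⟨j, rfl⟩ : ∃ j, i = j + 1 := ⟨i - 1, by omega⟩
      obtain ⟨X₂, X₃, f, g, w, hS, hinj, hX₂⟩ := exists_injective_torsFree_ses J G hGfree
      haveI := hinj
      -- `H^k(C) = 0` for `k < n`
      have hC : ∀ k, k < n → Subsingleton ((localCohomology J k).obj X₃) := by
        intro k hk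
        refine subsingleton_of_forall_eq 0 (fun x₃ => ?_)
        haveI := hG (k + 1) (by omega)
        obtain ⟨x₂, rfl⟩ := exact₃ J k hS x₃ (Subsingleton.elim _ _)
        haveI := subsingleton_of_injective_torsFree J X₂ hX₂ k
        rw [Subsingleton.elim x₂ 0]
        exact map_zero _
      have h0 : e.comp (Ext.mk₀ f) (add_zero (j + 1)) = 0 :=
        ext_eq_zero_of_isTors_of_injective_torsFree J hF hX₂ _
      obtain ⟨e₃, he₃⟩ := Ext.covariant_sequence_exact₁ F hS e h0 (n₀ := j) rfl
      have : e₃ = 0 := ih X₃ hC F hF j (by omega) e₃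
      rw [← he₃, this, Ext.zero_comp]

/-- `Hom(F, G) = 0` with `F` finite and `V(J) ⊆ Supp F` forces `Γ_J(G) = 0`. -/
theorem isTorsFree_of_subsingleton_hom (F : Type u) [AddCommGroup F] [Module R F]
    [Module.Finite R F] (hF : PrimeSpectrum.zeroLocus (J : Set R) ⊆ Module.support R F)
    (G : Type u) [AddCommGroup G] [Module R G] (h : ∀ φ : F →ₗ[R] G, φ = 0) :
    IsTorsFree J G := by
  intro x hx
  by_contra hx0
  obtain ⟨k, hk⟩ := hx
  let N : Submodule R G := Submodule.span R {x}
  haveI : Nontrivial N := ⟨⟨⟨x, Submodule.mem_span_singleton_self x⟩, 0, fun h0 =>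
    hx0 (congrArg Subtype.val h0)⟩⟩
  haveI : Module.Finite R N := Module.Finite.span_singleton R x
  obtain ⟨p, hp⟩ := associatedPrimes.nonempty R N
  haveI hpprime : p.IsPrime := hp.isPrime
  obtain ⟨y, hy⟩ := (isAssociatedPrime_iff.1 hp).2
  have hyp : ∀ r : R, r ∈ p ↔ r • y = 0 := by
    intro r
    rw [hy, Submodule.mem_colon_singleton, Submodule.mem_bot]
  -- `J ≤ p`
  have hJp : J ≤ p := by
    intro a ha
    have hak : a ^ k ∈ p := by
      rw [hyp]
      obtain ⟨r, hr⟩ := Submodule.mem_span_singleton.1 y.2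
      apply Subtype.ext
      show a ^ k • y.1 = 0
      rw [← hr, smul_comm, hk _ (Ideal.pow_mem_pow ha k), smul_zero]
    exact hpprime.mem_of_pow_mem k hak
  have hpF : (⟨p, hpprime⟩ : PrimeSpectrum R) ∈ Module.support R F :=
    hF ((PrimeSpectrum.mem_zeroLocus _ _).2 hJp)
  have hann : Module.annihilator R F ≤ p := Module.mem_support_iff_of_finite.1 hpF
  have hsub : Subsingleton (F →ₗ[R] N) := by
    refine subsingleton_of_forall_eq 0 (fun φ => ?_)
    have := h (N.subtype ∘ₗ φ)
    apply LinearMap.ext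
    intro z
    apply Subtype.ext
    exact LinearMap.congr_fun this z
  obtain ⟨r, hr, hreg⟩ := IsSMulRegular.subsingleton_linearMap_iff.1 hsub
  have hry : r • y = 0 := (hyp r).1 (hann hr)
  have hy0 : y = 0 := hreg (by show r • y = r • 0; rw [hry, smul_zero])
  -- but `p ≠ ⊤`
  apply hpprime.ne_top
  rw [Ideal.eq_top_iff_one, hyp, hy0, smul_zero]

/-- If `Ext^i(F, G) = 0` for `i < n` for one finite `F` with `V(J) ⊆ Supp F ` (and `F` torsion),
then `H^i_J(G) = 0` for `i < n`. -/
theorem lc_vanishing_of_ext_vanishing (F : Type u) [AddCommGroup F] [Module R F]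
    [Module.Finite R F] (hF : PrimeSpectrum.zeroLocus (J : Set R) ⊆ Module.support R F)
    (hFt : IsTors J F) (n : ℕ) :
    ∀ (G : ModuleCat.{u} R), (∀ i, i < n → ∀ e : Ext (ModuleCat.of R F) G i, e = 0) →
      ∀ i, i < n → Subsingleton ((localCohomology J i).obj G) := by
  induction n with
  | zero => intro G _ i hi; omega
  | succ n ih =>
    intro G hG i hi
    have hGfree : IsTorsFree J G := by
      apply isTorsFree_of_subsingleton_hom J F hF G
      intro φ
      have := hG 0 (by omega) (Ext.mk₀ (ModuleCat.ofHom φ))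
      have h2 : ModuleCat.ofHom φ = 0 := by
        apply (Ext.homEquiv₀ (X := ModuleCat.of R F) (Y := G)).symm.injective
        show Ext.mk₀ (ModuleCat.ofHom φ) = Ext.mk₀ 0
        rw [this, Ext.mk₀_zero]
      exact congrArg ModuleCat.Hom.hom h2
    rcases Nat.eq_zero_or_pos i with rfl | hipos
    · exact subsingleton_H0_of_isTorsFree J G hGfree
    · obtain ⟨j, rfl⟩ : ∃ j, i = j + 1 := ⟨i - 1, by omega⟩
      obtain ⟨X₂, X₃, f, g, w, hS, hinj, hX₂⟩ := exists_injective_torsFree_ses J G hGfree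
      haveI := hinj
      have hC : ∀ k, k < n → ∀ e : Ext (ModuleCat.of R F) X₃ k, e = 0 := by
        intro k hk e
        have h1 : e.comp hS.extClass rfl = 0 := hG (k + 1) (by omega) _
        obtain ⟨e₂, he₂⟩ := Ext.covariant_sequence_exact₃ (ModuleCat.of R F) hS e rfl h1
        rw [← he₂, ext_eq_zero_of_isTors_of_injective_torsFree J hFt hX₂ e₂, Ext.zero_comp]
      haveI := ih X₃ hC j (by omega)
      refine subsingleton_of_forall_eq 0 (fun x₁ => ?_)
      have h0 : ((localCohomology J (j + 1)).map f).hom x₁ = 0 :=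
        (subsingleton_of_injective_torsFree J X₂ hX₂ (j + 1)).elim _ _
      obtain ⟨x₃, rfl⟩ := exact₁ J j hS x₁ h0
      rw [Subsingleton.elim x₃ 0]
      exact map_zero _

end Groth.Agent.Lib.helper11.LCKit
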