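import Mathlib

/-!
# Secondary representations of Artinian modules (minimal theory) (helper11)

Main result `exists_mem_smul_surjective`: for an Artinian module `L` over a Noetherian local ring
with `𝔪 L = L` and finitely many primes `P ≠ 𝔪`, some `x ∈ 𝔪` outside all `P` acts surjectively
on `L`.
-/

set_option autoImplicit false

namespace Groth.Agent.Lib.helper11.SecRep

universe u v

variable {R : Type u} [CommRing R] {L : Type v} [AddCommGroup L] [Module R L]

/-- sum-irreducible submodules. -/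
def SumIrred (S : Submodule R L) : Prop :=
  ∀ A B : Submodule R L, A ⊔ B = S → A = S ∨ B = S

/-- secondary submodules: each `x` acts surjectively or nilpotently. -/
def IsSec (S : Submodule R L) : Prop :=
  ∀ x : R, (∀ s ∈ S, ∃ t ∈ S, x • t = s) ∨ (∃ k : ℕ, ∀ s ∈ S, x ^ k • s = 0)

/-- the image submodule `x^k S`. -/
def powImg (S : Submodule R L) (x : R) (k : ℕ) : Submodule R L :=
  S.map (LinearMap.lsmul R L (x ^ k))

theorem mem_powImg {S : Submodule R L} {x : R} {k : ℕ} {l : L} :
    l ∈ powImg S x k ↔ ∃ s ∈ S, x ^ k • s = l := by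
  simp [powImg, Submodule.mem_map]

theorem powImg_le (S : Submodule R L) (x : R) (k : ℕ) : powImg S x k ≤ S := by
  intro l hl
  obtain ⟨s, hs, rfl⟩ := mem_powImg.1 hl
  exact S.smul_mem _ hs

theorem powImg_antitone (S : Submodule R L) (x : R) : Antitone (powImg S x) := by
  intro a b hab l hl
  obtain ⟨s, hs, rfl⟩ := mem_powImg.1 hl
  refine mem_powImg.2 ⟨x ^ (b - a) • s, S.smul_mem _ hs, ?_⟩
  rw [smul_smul, ← pow_add, Nat.add_sub_cancel' hab]

variable [IsArtinian R L]

theorem isSec_of_sumIrred (S : Submodule R L) (hS : SumIrred S) : IsSec S := by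
  intro x
  obtain ⟨k, hk⟩ := IsArtinian.monotone_stabilizes
    (⟨fun k => OrderDual.toDual (powImg S x k), fun a b hab => powImg_antitone S x hab⟩ :
      ℕ →o (Submodule R L)ᵒᵈ)
  have hk2 : powImg S x k = powImg S x (k + k) := by
    have := hk (k + k) (Nat.le_add_right k k)
    exact OrderDual.toDual.injective this
  have hk1 : powImg S x k = powImg S x (k + 1) := by
    have := hk (k + 1) (Nat.le_add_right k 1)
    exact OrderDual.toDual.injective this
  -- `S = x^k S ⊔ (S ⊓ ker x^k)`
  have hsum : powImg S x k ⊔ (S ⊓ LinearMap.ker (LinearMap.lsmul R L (x ^ k))) = S := by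
    apply le_antisymm
    · exact sup_le (powImg_le S x k) inf_le_left
    · intro l hl
      have h1 : x ^ k • l ∈ powImg S x k := mem_powImg.2 ⟨l, hl, rfl⟩
      rw [hk2] at h1
      obtain ⟨s, hs, hsl⟩ := mem_powImg.1 h1
      have h2 : l = x ^ k • s + (l - x ^ k • s) := by abel
      rw [h2]
      refine Submodule.add_mem _ (Submodule.mem_sup_left (mem_powImg.2 ⟨s, hs, rfl⟩))
        (Submodule.mem_sup_right ⟨S.sub_mem hl (S.smul_mem _ hs), ?_⟩)
      show (LinearMap.lsmul R L (x ^ k)) (l - x ^ k • s) = 0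
      rw [LinearMap.lsmul_apply, smul_sub, smul_smul, ← pow_add, hsl, sub_self]
  rcases hS _ _ hsum with h | h
  · left
    intro s hs
    rw [← h, hk1] at hs
    obtain ⟨t, ht, rfl⟩ := mem_powImg.1 hs
    refine ⟨x ^ k • t, S.smul_mem _ ht, ?_⟩
    rw [smul_smul, ← pow_succ']
  · right
    refine ⟨k, fun s hs => ?_⟩
    rw [← h] at hs
    exact hs.2

/-- Every submodule of an Artinian module is a finite sum of sum-irreducible submodules. -/
theorem exists_finset_sumIrred (S : Submodule R L) :
    ∃ F : Finset (Submodule R L), (∀ T ∈ F, SumIrred T) ∧ F.sup id = S := by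
  classical
  induction S using IsArtinian.induction with
  | _ S ih =>
    by_cases hS : SumIrred S
    · exact ⟨{S}, by simpa using hS, by simp⟩
    · unfold SumIrred at hS
      push_neg at hS
      obtain ⟨A, B, hAB, hA, hB⟩ := hS
      have hA' : A < S := lt_of_le_of_ne (hAB ▸ le_sup_left) hA
      have hB' : B < S := lt_of_le_of_ne (hAB ▸ le_sup_right) hB
      obtain ⟨FA, hFA, hFA'⟩ := ih A hA'
      obtain ⟨FB, hFB, hFB'⟩ := ih B hB'
      refine ⟨FA ∪ FB, fun T hT => ?_, ?_⟩
      · rcases Finset.mem_union.1 hT with h | h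
        · exact hFA T h
        · exact hFB T h
      · rw [Finset.sup_union, hFA', hFB', hAB]

omit [IsArtinian R L] in
/-- the prime attached to a secondary submodule. -/
theorem isPrime_radical_annihilator (T : Submodule R L) (hT : IsSec T) (hT0 : T ≠ ⊥) :
    (Module.annihilator R T).radical.IsPrime := by
  refine ⟨?_, ?_⟩
  · intro h
    have h1 : (1 : R) ∈ (Module.annihilator R T).radical := by rw [h]; trivial
    obtain ⟨k, hk⟩ := h1
    rw [one_pow, Module.mem_annihilator] at hk
    apply hT0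
    rw [Submodule.eq_bot_iff]
    intro t ht
    have := hk ⟨t, ht⟩
    rw [one_smul] at this
    exact congrArg Subtype.val this
  · intro x y hxy
    by_contra hcon
    rw [not_or] at hcon
    obtain ⟨hx, hy⟩ := hcon
    rcases hT x with hsurj | ⟨k, hk⟩
    · apply hy
      obtain ⟨k, hk⟩ := hxy
      refine ⟨k, ?_⟩
      rw [Module.mem_annihilator]
      rintro ⟨t, ht⟩
      apply Subtype.ext
      show y ^ k • t = 0
      -- `t = x^k t'`
      have hpow : ∀ j : ℕ, ∀ s ∈ T, ∃ s' ∈ T, x ^ j • s' = s := by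
        intro j
        induction j with
        | zero => exact fun s hs => ⟨s, hs, by simp⟩
        | succ j ih =>
          intro s hs
          obtain ⟨s1, hs1, rfl⟩ := hsurj s hs
          obtain ⟨s2, hs2, rfl⟩ := ih s1 hs1
          exact ⟨s2, hs2, by rw [pow_succ', mul_smul]⟩
      obtain ⟨t', ht', rfl⟩ := hpow k t ht
      rw [smul_smul, ← mul_pow, mul_comm y x]
      rw [Module.mem_annihilator] at hk
      exact congrArg Subtype.val (hk ⟨t', ht'⟩)
    · apply hx
      refine ⟨k, ?_⟩
      rw [Module.mem_annihilator]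
      rintro ⟨t, ht⟩
      exact Subtype.ext (hk t ht)

omit [IsArtinian R L] in
theorem surj_of_notMem_radical (T : Submodule R L) (hT : IsSec T) (x : R)
    (hx : x ∉ (Module.annihilator R T).radical) : ∀ s ∈ T, ∃ t ∈ T, x • t = s := by
  rcases hT x with h | ⟨k, hk⟩
  · exact h
  · exfalso
    apply hx
    refine ⟨k, ?_⟩
    rw [Module.mem_annihilator]
    rintro ⟨t, ht⟩
    exact Subtype.ext (hk t ht)

/-- Main lemma. -/
theorem exists_mem_smul_surjective [IsNoetherianRing R] [IsLocalRing R]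
    (𝔄 : Finset (Ideal R))
    (h𝔄 : ∀ P ∈ 𝔄, P.IsPrime ∧ P ≠ IsLocalRing.maximalIdeal R)
    (hL : IsLocalRing.maximalIdeal R • (⊤ : Submodule R L) = ⊤) :
    ∃ x ∈ IsLocalRing.maximalIdeal R, (∀ P ∈ 𝔄, x ∉ P) ∧ ∀ l : L, ∃ l' : L, x • l' = l := by
  classical
  set m := IsLocalRing.maximalIdeal R with hm
  obtain ⟨F, hF, hFsup⟩ := exists_finset_sumIrred (⊤ : Submodule R L)
  have hsec : ∀ T ∈ F, IsSec T := fun T hT => isSec_of_sumIrred T (hF T hT)
  let pr : Submodule R L → Ideal R := fun T => (Module.annihilator R T).radical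
  let F1 := F.filter (fun T => T ≠ ⊥ ∧ pr T ≠ m)
  let F2 := F.filter (fun T => ¬ (T ≠ ⊥ ∧ pr T ≠ m))
  have hF12 : F1.sup id ⊔ F2.sup id = ⊤ := by
    rw [← Finset.sup_union, Finset.filter_union_filter_not_eq, hFsup]
  -- `F2` is killed by a power of `m`
  have hkill : ∀ G : Finset (Submodule R L), (∀ T ∈ G, T ∈ F2) →
      ∃ k : ℕ, ∀ l ∈ G.sup id, ∀ a ∈ m ^ k, a • l = 0 := by
    intro G
    induction G using Finset.induction_on with
    | empty =>
      intro _
      refine ⟨0, fun l hl a _ => ?_⟩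
      rw [Finset.sup_empty, Submodule.mem_bot] at hl
      rw [hl, smul_zero]
    | insert T G hTG ih =>
      intro hG
      obtain ⟨k2, hk2⟩ := ih (fun T' hT' => hG T' (Finset.mem_insert_of_mem hT'))
      have hT2 : T ∈ F2 := hG T (Finset.mem_insert_self T G)
      have hT2' := (Finset.mem_filter.1 hT2).2
      have hk1 : ∃ k1 : ℕ, ∀ l ∈ T, ∀ a ∈ m ^ k1, a • l = 0 := by
        by_cases hT0 : T = ⊥
        · refine ⟨0, fun l hl a _ => ?_⟩
          rw [hT0, Submodule.mem_bot] at hl
          rw [hl, smul_zero]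
        · have hpm : pr T = m := by
            by_contra hne
            exact hT2' ⟨hT0, hne⟩
          have hle : m ≤ (Module.annihilator R T).radical := hpm.symm.le
          obtain ⟨k1, hk1⟩ := Ideal.exists_pow_le_of_le_radical_of_fg hle
            (IsNoetherian.noetherian m)
          refine ⟨k1, fun l hl a ha => ?_⟩
          have := hk1 ha
          rw [Module.mem_annihilator] at this
          exact congrArg Subtype.val (this ⟨l, hl⟩)
      obtain ⟨k1, hk1⟩ := hk1
      refine ⟨max k1 k2, fun l hl a ha => ?_⟩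
      rw [Finset.sup_insert, id] at hl
      obtain ⟨t, ht, u, hu, rfl⟩ := Submodule.mem_sup.1 hl
      rw [smul_add, hk1 t ht a (Ideal.pow_le_pow_right (le_max_left k1 k2) ha),
        hk2 u hu a (Ideal.pow_le_pow_right (le_max_right k1 k2) ha), add_zero]
  obtain ⟨k, hk⟩ := hkill F2 (fun T hT => hT)
  -- `m^k L = L`
  have hpow : ∀ j : ℕ, m ^ j • (⊤ : Submodule R L) = ⊤ := by
    intro j
    induction j with
    | zero => simp
    | succ j ih => rw [pow_succ, Submodule.mul_smul, hL, ih]
  have hT1 : F1.sup id = ⊤ := by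
    rw [eq_top_iff, ← hpow k, ← hF12, Submodule.smul_sup]
    apply sup_le
    · exact Submodule.smul_le_right
    · rw [Submodule.smul_le]
      intro a ha l hl
      rw [hk l hl a ha]
      exact Submodule.zero_mem _
  -- prime avoidance
  let 𝔅 : Finset (Ideal R) := 𝔄 ∪ F1.image pr
  have h𝔅 : ∀ P ∈ 𝔅, P.IsPrime ∧ P ≠ m := by
    intro P hP
    rcases Finset.mem_union.1 hP with h | h
    · exact h𝔄 P h
    · obtain ⟨T, hT, rfl⟩ := Finset.mem_image.1 h
      have hT' := Finset.mem_filter.1 hT
      exact ⟨isPrime_radical_annihilator T (hsec T hT'.1) hT'.2.1, hT'.2.2⟩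
  have hnot : ¬ ((m : Set R) ⊆ ⋃ P ∈ (𝔅 : Set (Ideal R)), (P : Set R)) := by
    intro hsub
    have := (Ideal.subset_union_prime (s := 𝔅) (f := id) ⊥ ⊥
      (fun P hP _ _ => (h𝔅 P hP).1)).1 hsub
    obtain ⟨P, hP, hmP⟩ := this
    have hPprime := (h𝔅 P hP).1
    have : m = P := (IsLocalRing.maximalIdeal.isMaximal R).eq_of_le hPprime.ne_top hmP
    exact (h𝔅 P hP).2 this.symm
  rw [Set.not_subset] at hnot
  obtain ⟨x, hxm, hx⟩ := hnot
  have hx' : ∀ P ∈ 𝔅, x ∉ P := by
    intro P hP hxP
    apply hx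
    exact Set.mem_biUnion (show P ∈ (𝔅 : Set (Ideal R)) from hP) hxP
  refine ⟨x, hxm, fun P hP => hx' P (Finset.mem_union_left _ hP), ?_⟩
  -- surjectivity
  let X : Submodule R L := (⊤ : Submodule R L).map (LinearMap.lsmul R L x)
  have hX : F1.sup id ≤ X := by
    apply Finset.sup_le
    intro T hT s hs
    have hT' := Finset.mem_filter.1 hT
    have hxT : x ∉ pr T := hx' (pr T) (Finset.mem_union_right _ (Finset.mem_image_of_mem pr hT))
    obtain ⟨t, _, rfl⟩ := surj_of_notMem_radical T (hsec T hT'.1) x hxT s hs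
    exact ⟨t, trivial, rfl⟩
  intro l
  have : l ∈ X := hX (hT1 ▸ trivial)
  obtain ⟨l', _, hl'⟩ := this
  exact ⟨l', hl'⟩

end Groth.Agent.Lib.helper11.SecRep
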