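import Mathlib
import Groth.Agent.Lib.helper11.LCArtinianTop
import Groth.Agent.Lib.helper11.LCGammaFree
import Groth.Agent.Lib.helper11.SecRep

/-!
# Grothendieck's non-vanishing theorem (helper11)

For a Noetherian local ring `(R, m)` and a finite `R`-module `M` with `dim Supp M = n`,
`H^n_m(M) ≠ 0`.  The proof follows Macdonald–Sharp (no completion): induction on `n`, using that
`H^{n-1}_m(M)` is Artinian and the "secondary representation" lemma `SecRep.exists_mem_smul_surjective`.
-/

set_option autoImplicit false

namespace Groth.Agent.Lib.helper11.LCKit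

open CategoryTheory Limits Opposite localCohomology Abelian IsLocalRing Pointwise

universe u

section Support

variable {R : Type u} [CommRing R]

/-- The support of a `J`-power torsion module lies in `V(J)`. -/
theorem support_subset_zeroLocus_of_isTors (J : Ideal R) (T : Type*) [AddCommGroup T] [Module R T]
    (hT : IsTors J T) : Module.support R T ⊆ PrimeSpectrum.zeroLocus (J : Set R) := by
  intro p hp
  obtain ⟨t, ht⟩ := Module.mem_support_iff_exists_annihilator.1 hp
  obtain ⟨k, hk⟩ := hT t
  have hJk : J ^ k ≤ p.asIdeal := by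
    intro a ha
    apply ht
    rw [Submodule.mem_annihilator_span_singleton]
    exact hk a ha
  exact (PrimeSpectrum.mem_zeroLocus _ _).2 (p.isPrime.le_of_pow_le hJk)

end Support

variable {R : Type u} [CommRing R] [IsNoetherianRing R] [IsLocalRing R]

/-- Killing the `m`-torsion does not change the dimension of a module of positive dimension. -/
theorem supportDim_quotient_gam (M : Type u) [AddCommGroup M] [Module R M] [Module.Finite R M]
    (h : 0 < Module.supportDim R M) :
    Module.supportDim R (M ⧸ gam (maximalIdeal R) M) = Module.supportDim R M := by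
  set Γ := gam (maximalIdeal R) M with hΓ
  apply le_antisymm (Module.supportDim_le_of_surjective Γ.mkQ Γ.mkQ_surjective)
  obtain ⟨x, y, hxy⟩ := Order.krullDim_pos_iff.1 h
  have hsupp : Module.support R M = Module.support R Γ ∪ Module.support R (M ⧸ Γ) :=
    Module.support_of_exact (LinearMap.exact_subtype_mkQ Γ) Γ.injective_subtype Γ.mkQ_surjective
  have hΓs : Module.support R Γ ⊆ PrimeSpectrum.zeroLocus (maximalIdeal R : Set R) :=
    support_subset_zeroLocus_of_isTors (maximalIdeal R) Γ (isTors_gam (maximalIdeal R) M)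
  -- `x` is not the closed point
  have hxm : x.1 ∉ PrimeSpectrum.zeroLocus (maximalIdeal R : Set R) := by
    intro hx
    have h1 : maximalIdeal R ≤ x.1.asIdeal := (PrimeSpectrum.mem_zeroLocus _ _).1 hx
    have h2 : y.1.asIdeal ≤ maximalIdeal R := IsLocalRing.le_maximalIdeal y.1.isPrime.ne_top
    have h3 : x.1 < y.1 := hxy
    exact absurd (h2.trans h1) (not_le_of_gt h3)
  have hxN : x.1 ∈ Module.support R (M ⧸ Γ) := by
    have := hsupp.le x.2
    rcases this with h1 | h1
    · exact absurd (hΓs h1) hxm
    · exact h1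
  haveI : Nontrivial (M ⧸ Γ) := by
    rw [← Module.nonempty_support_iff (R := R)]
    exact ⟨_, hxN⟩
  have hsub : Module.support R M ⊆ Module.support R (M ⧸ Γ) := by
    intro p hp
    rcases hsupp.le hp with h1 | h1
    · have h2 := hΓs h1
      rw [PrimeSpectrum.zeroLocus_eq_singleton, Set.mem_singleton_iff] at h2
      rw [h2]
      exact IsLocalRing.closedPoint_mem_support R (M ⧸ Γ)
    · exact h1
  exact Order.krullDim_le_of_strictMono (fun a => ⟨a.1, hsub a.2⟩) (fun {_ _} lt => lt)

/-- The short exact sequence `0 → ker (y·) → M → yM → 0`. -/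
noncomputable def smulKerSC (M : Type u) [AddCommGroup M] [Module R M] (y : R) :
    ShortComplex (ModuleCat.{u} R) :=
  ShortComplex.mk
    (ModuleCat.ofHom (LinearMap.ker (LinearMap.lsmul R M y)).subtype)
    (ModuleCat.ofHom (LinearMap.rangeRestrict (LinearMap.lsmul R M y)))
    (by
      ext x
      exact LinearMap.mem_ker.1 x.2)

theorem smulKerSC_shortExact (M : Type u) [AddCommGroup M] [Module R M] (y : R) :
    (smulKerSC (R := R) M y).ShortExact := by
  apply ModuleCat.shortComplex_shortExact
  · intro x
    change LinearMap.rangeRestrict (LinearMap.lsmul R M y) (x : M) = 0 ↔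
      (x : M) ∈ Set.range (LinearMap.ker (LinearMap.lsmul R M y)).subtype
    rw [Submodule.coe_subtype, Subtype.range_coe_subtype]
    constructor
    · intro hx
      exact congrArg Subtype.val hx
    · intro hx
      exact Subtype.ext hx
  · exact Submodule.injective_subtype _
  · exact LinearMap.surjective_rangeRestrict (LinearMap.lsmul R M y)

/-- Top local cohomology `H^n_m(M)` (`dim M ≤ n`, `n > 0`) is divisible by some element of `m`. -/
theorem exists_smul_surjective_top (n : ℕ) (hn : 0 < n) (M : Type u) [AddCommGroup M] [Module R M]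
    [Module.Finite R M] (h : Module.supportDim R M ≤ n) :
    ∃ y ∈ maximalIdeal R,
      ∀ z : (localCohomology (maximalIdeal R) n).obj (ModuleCat.of R M), ∃ z', y • z' = z := by
  by_cases hlt : Module.supportDim R M < n
  · haveI := subsingleton_of_supportDim_lt (maximalIdeal R) n M hlt
    exact ⟨0, Ideal.zero_mem _, fun z => ⟨0, Subsingleton.elim _ _⟩⟩
  have hdim : Module.supportDim R M = n := le_antisymm h (not_lt.1 hlt)
  have hpos : 0 < Module.supportDim R M := by
    rw [hdim]; exact_mod_cast hn
  obtain ⟨p, q, hpq⟩ := Order.krullDim_pos_iff.1 hpos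
  -- minimal primes of `Ann M`
  have hfin : (Module.annihilator R M).minimalPrimes.Finite :=
    Ideal.finite_minimalPrimes_of_isNoetherianRing R _
  let 𝔄 : Finset (Ideal R) := hfin.toFinset
  have h𝔄 : ∀ P ∈ 𝔄, P.IsPrime ∧ P ≠ maximalIdeal R := by
    intro P hP
    have hP' : P ∈ (Module.annihilator R M).minimalPrimes := hfin.mem_toFinset.1 hP
    refine ⟨hP'.1.1, ?_⟩
    rintro rfl
    have hp1 : Module.annihilator R M ≤ p.1.asIdeal := Module.mem_support_iff_of_finite.1 p.2
    have hp2 : p.1.asIdeal ≤ maximalIdeal R := IsLocalRing.le_maximalIdeal p.1.isPrime.ne_top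
    have hp3 : maximalIdeal R ≤ p.1.asIdeal := hP'.2 ⟨p.1.isPrime, hp1⟩ hp2
    have hq : q.1.asIdeal ≤ maximalIdeal R := IsLocalRing.le_maximalIdeal q.1.isPrime.ne_top
    have h3 : p.1 < q.1 := hpq
    exact absurd (hq.trans hp3) (not_le_of_gt h3)
  obtain ⟨y, hym, hy𝔄, -⟩ := SecRep.exists_mem_smul_surjective (R := R) (L := PUnit.{u + 1}) 𝔄 h𝔄
    (Subsingleton.elim _ _)
  refine ⟨y, hym, ?_⟩
  have hdimQ : Module.supportDim R (QuotSMulTop y M) + 1 ≤ Module.supportDim R M :=
    Module.supportDim_quotSMulTop_succ_le_of_notMem_minimalPrimes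
      (fun P hP => hy𝔄 P (hfin.mem_toFinset.2 hP))
  have hltQ : Module.supportDim R (QuotSMulTop y M) < n := by
    obtain ⟨k, rfl⟩ : ∃ k, n = k + 1 := ⟨n - 1, by omega⟩
    have h1 : Module.supportDim R (QuotSMulTop y M) + 1 ≤ ((k + 1 : ℕ) : WithBot ℕ∞) :=
      hdimQ.trans h
    exact lt_of_le_of_lt (withBot_le_of_add_one_le _ k h1) (by exact_mod_cast Nat.lt_succ_self k)
  haveI hQ : Subsingleton ((localCohomology (maximalIdeal R) n).obj
      (ModuleCat.of R (QuotSMulTop y M))) :=
    subsingleton_of_supportDim_lt (maximalIdeal R) n (QuotSMulTop y M) hltQ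
  -- the two short exact sequences
  let P : Submodule R M := LinearMap.range (LinearMap.lsmul R M y)
  have hPeq : P = y • (⊤ : Submodule R M) := by
    ext t
    rw [Submodule.mem_smul_pointwise_iff_exists]
    constructor
    · rintro ⟨s, rfl⟩
      exact ⟨s, trivial, rfl⟩
    · rintro ⟨s, -, rfl⟩
      exact ⟨s, rfl⟩
  let S1 := Groth.Agent.Lib.helper11.FinLenInd.subSC (ModuleCat.of R M) P
  have hS1 : S1.ShortExact := Groth.Agent.Lib.helper11.FinLenInd.subSC_shortExact _ _
  let S2 := smulKerSC (R := R) M y
  have hS2 : S2.ShortExact := smulKerSC_shortExact M y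
  haveI hQ' : Subsingleton ((localCohomology (maximalIdeal R) n).obj S1.X₃) := by
    have e : (M ⧸ P) ≃ₗ[R] QuotSMulTop y M := Submodule.quotEquivOfEq _ _ hPeq
    have hd : Module.supportDim R (M ⧸ P) < n := by
      rw [Module.supportDim_eq_of_equiv e]; exact hltQ
    exact subsingleton_of_supportDim_lt (maximalIdeal R) n (M ⧸ P) hd
  haveI hK : Subsingleton ((localCohomology (maximalIdeal R) (n + 1)).obj S2.X₁) := by
    have hd : Module.supportDim R (LinearMap.ker (LinearMap.lsmul R M y)) < ((n + 1 : ℕ) : WithBot ℕ∞) :=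
      lt_of_le_of_lt ((Module.supportDim_le_of_injective _ (Submodule.injective_subtype _)).trans h)
        (by exact_mod_cast Nat.lt_succ_self n)
    exact subsingleton_of_supportDim_lt (maximalIdeal R) (n + 1) _ hd
  intro z
  obtain ⟨w, hw⟩ := exact₂ (maximalIdeal R) n hS1 z (Subsingleton.elim _ _)
  obtain ⟨z', hz'⟩ : ∃ z' : (localCohomology (maximalIdeal R) n).obj (ModuleCat.of R M),
      ((localCohomology (maximalIdeal R) n).map S2.g).hom z' = w :=
    exact₃ (maximalIdeal R) n hS2 w (Subsingleton.elim _ _)
  refine ⟨z', ?_⟩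
  rw [smul_eq_map, ← hw, ← hz']
  have h3 : (localCohomology (maximalIdeal R) n).map (y • 𝟙 (ModuleCat.of R M)) =
      (localCohomology (maximalIdeal R) n).map S2.g ≫
        (localCohomology (maximalIdeal R) n).map S1.f := by
    rw [← Functor.map_comp]
    rfl
  rw [h3]
  rfl

/-- Top local cohomology `H^n_m(M)` (`dim M ≤ n`, `n > 0`) satisfies `m H = H`. -/
theorem smul_top_eq_top_top (n : ℕ) (hn : 0 < n) (M : Type u) [AddCommGroup M] [Module R M]
    [Module.Finite R M] (h : Module.supportDim R M ≤ n) :
    maximalIdeal R • (⊤ : Submodule R ((localCohomology (maximalIdeal R) n).obj (ModuleCat.of R M)))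
      = ⊤ := by
  obtain ⟨y, hy, hsurj⟩ := exists_smul_surjective_top n hn M h
  rw [eq_top_iff]
  intro z _
  obtain ⟨z', rfl⟩ := hsurj z
  exact Submodule.smul_mem_smul hy trivial

theorem withBot_eq_of_add_one_eq (a : WithBot ℕ∞) (i : ℕ)
    (h : a + 1 = ((i + 1 : ℕ) : WithBot ℕ∞)) : a = (i : WithBot ℕ∞) := by
  induction a using WithBot.recBotCoe with
  | bot =>
    rw [WithBot.bot_add] at h
    exact absurd h.symm (WithBot.natCast_ne_bot _)
  | coe d =>
    have h' : ((d + 1 : ℕ∞) : WithBot ℕ∞) = (((i + 1 : ℕ) : ℕ∞) : WithBot ℕ∞) := by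
      exact_mod_cast h
    have h2 : d + 1 = ((i + 1 : ℕ) : ℕ∞) := WithBot.coe_injective h'
    induction d using ENat.recTopCoe with
    | top =>
      rw [top_add] at h2
      exact absurd h2 (ENat.top_ne_coe _)
    | coe k =>
      have h3 : k + 1 = i + 1 := by exact_mod_cast h2
      have h4 : k = i := by omega
      rw [h4]
      rfl

section smulLES

variable {A : Type u} [CommRing A] (J : Ideal A) (n : ℕ) (N : ModuleCat.{u} A) (x : A)

/-- The map `H^n_J(N) → H^n_J(N/xN)`. -/
noncomputable def smulπ : (localCohomology J n).obj N →ₗ[A]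
    (localCohomology J n).obj (ModuleCat.of A (QuotSMulTop x N)) :=
  ((localCohomology J n).map (N.smulShortComplex x).g).hom

theorem smulπ_surjective (hreg : IsSMulRegular N x)
    (hsub : Subsingleton ((localCohomology J (n + 1)).obj N)) :
    Function.Surjective (smulπ J n N x) := by
  intro t
  have hS := hreg.smulShortComplex_shortExact
  haveI : Subsingleton ((localCohomology J (n + 1)).obj (N.smulShortComplex x).X₁) := hsub
  exact exact₃ J n hS t (Subsingleton.elim _ _)

theorem exists_smul_of_smulπ_eq_zero (hreg : IsSMulRegular N x)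
    (l : (localCohomology J n).obj N) (h : smulπ J n N x l = 0) :
    ∃ l' : (localCohomology J n).obj N, x • l' = l := by
  have hS := hreg.smulShortComplex_shortExact
  obtain ⟨l', hl'⟩ : ∃ l' : (localCohomology J n).obj N,
      ((localCohomology J n).map (N.smulShortComplex x).f).hom l' = l := exact₂ J n hS l h
  refine ⟨l', ?_⟩
  rw [smul_eq_map]
  exact hl'

theorem smulπ_smul (hreg : IsSMulRegular N x) (l' : (localCohomology J n).obj N) :
    smulπ J n N x (x • l') = 0 := by
  have hS := hreg.smulShortComplex_shortExact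
  rw [smul_eq_map]
  exact map_g_map_f J n hS l'

end smulLES

/-- The inductive step of the non-vanishing theorem, for an `m`-torsion-free module. -/
theorem nontrivial_succ_of_isTorsFree (n : ℕ)
    (ih : ∀ (M : Type u) [AddCommGroup M] [Module R M] [Module.Finite R M],
      Module.supportDim R M = n →
      Nontrivial ((localCohomology (maximalIdeal R) n).obj (ModuleCat.of R M)))
    (N : Type u) [AddCommGroup N] [Module R N] [Module.Finite R N]
    (hfree : IsTorsFree (maximalIdeal R) N)
    (hdim : Module.supportDim R N = ((n + 1 : ℕ) : WithBot ℕ∞)) :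
    Nontrivial ((localCohomology (maximalIdeal R) (n + 1)).obj (ModuleCat.of R N)) := by
  by_contra hcon
  rw [not_nontrivial_iff_subsingleton] at hcon
  haveI : IsArtinian R ((localCohomology (maximalIdeal R) n).obj (ModuleCat.of R N)) :=
    isArtinian_localCohomology n N
  -- dimension of the quotient by a regular element
  have hdimQ : ∀ x ∈ maximalIdeal R, IsSMulRegular N x →
      Module.supportDim R (QuotSMulTop x N) = n := by
    intro x hx hreg
    have h1 : Module.supportDim R (QuotSMulTop x N) + 1 = Module.supportDim R N :=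
      Module.supportDim_quotSMulTop_succ_eq_supportDim hreg hx
    rw [hdim] at h1
    exact withBot_eq_of_add_one_eq _ n h1
  -- no regular element of `m` acts surjectively on `L`
  have key : ∀ x ∈ maximalIdeal R, IsSMulRegular N x →
      ¬ (∀ l : (localCohomology (maximalIdeal R) n).obj (ModuleCat.of R N), ∃ l', x • l' = l) := by
    intro x hx hreg hsurj
    haveI hnt := ih (QuotSMulTop x N) (hdimQ x hx hreg)
    have : Subsingleton ((localCohomology (maximalIdeal R) n).obj
        (ModuleCat.of R (QuotSMulTop x N))) := by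
      refine subsingleton_of_forall_eq 0 (fun t => ?_)
      obtain ⟨l, rfl⟩ := smulπ_surjective (maximalIdeal R) n (ModuleCat.of R N) x hreg hcon t
      obtain ⟨l', rfl⟩ := hsurj l
      exact smulπ_smul (maximalIdeal R) n (ModuleCat.of R N) x hreg l'
    exact not_subsingleton _ this
  -- `L = m L`
  have hL : maximalIdeal R • (⊤ : Submodule R ((localCohomology (maximalIdeal R) n).obj
      (ModuleCat.of R N))) = ⊤ := by
    rcases Nat.eq_zero_or_pos n with rfl | hn
    · haveI := subsingleton_H0_of_isTorsFree (maximalIdeal R) (ModuleCat.of R N) hfree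
      exact Subsingleton.elim _ _
    · obtain ⟨x₀, hx₀, hreg₀⟩ := exists_regular_of_isTorsFree (maximalIdeal R) N hfree
      have hT := smul_top_eq_top_top n hn (QuotSMulTop x₀ N) (hdimQ x₀ hx₀ hreg₀).le
      have hπ := smulπ_surjective (maximalIdeal R) n (ModuleCat.of R N) x₀ hreg₀ hcon
      rw [eq_top_iff]
      intro l _
      have h1 : smulπ (maximalIdeal R) n (ModuleCat.of R N) x₀ l ∈
          maximalIdeal R • (⊤ : Submodule R ((localCohomology (maximalIdeal R) n).obj
            (ModuleCat.of R (QuotSMulTop x₀ N)))) := by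
        rw [hT]; trivial
      rw [← LinearMap.range_eq_top.2 hπ, ← Submodule.map_top, ← Submodule.map_smul''] at h1
      obtain ⟨l₁, hl₁, hl₁'⟩ := h1
      have h2 : smulπ (maximalIdeal R) n (ModuleCat.of R N) x₀ (l - l₁) = 0 := by
        rw [map_sub, hl₁', sub_self]
      obtain ⟨l₂, hl₂⟩ := exists_smul_of_smulπ_eq_zero (maximalIdeal R) n
        (ModuleCat.of R N) x₀ hreg₀ (l - l₁) h2
      have h3 : l = l₁ + x₀ • l₂ := by rw [hl₂]; abel
      rw [h3]
      exact add_mem hl₁ (Submodule.smul_mem_smul hx₀ trivial)
  -- associated primes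
  have hfin : (associatedPrimes R N).Finite := associatedPrimes.finite R N
  have h𝔄 : ∀ P ∈ hfin.toFinset, P.IsPrime ∧ P ≠ maximalIdeal R := by
    intro P hP
    have hP' : IsAssociatedPrime P N := hfin.mem_toFinset.1 hP
    refine ⟨hP'.isPrime, ?_⟩
    rintro rfl
    obtain ⟨-, z, hz⟩ := isAssociatedPrime_iff.1 hP'
    have hz0 : z = 0 := by
      apply hfree
      refine ⟨1, fun a ha => ?_⟩
      rw [pow_one, hz, Submodule.mem_colon_singleton] at ha
      exact (Submodule.mem_bot R).1 ha
    have htop : maximalIdeal R = ⊤ := by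
      rw [hz, hz0, eq_top_iff]
      intro a _
      rw [Submodule.mem_colon_singleton, smul_zero]
      exact Submodule.zero_mem _
    exact (IsLocalRing.maximalIdeal.isMaximal R).ne_top htop
  obtain ⟨x, hxm, hx𝔄, hsurj⟩ := SecRep.exists_mem_smul_surjective hfin.toFinset h𝔄 hL
  have hreg : IsSMulRegular N x := by
    by_contra hnr
    have : x ∈ ({r : R | IsSMulRegular N r}ᶜ : Set R) := hnr
    rw [← biUnion_associatedPrimes_eq_compl_regular R N] at this
    obtain ⟨P, hP, hxP⟩ := Set.mem_iUnion₂.1 this
    exact hx𝔄 P (hfin.mem_toFinset.2 hP) hxP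
  exact key x hxm hreg hsurj

/-- **Grothendieck's non-vanishing theorem**: `H^n_m(M) ≠ 0` for `n = dim Supp M`. -/
theorem nontrivial_of_supportDim_eq (n : ℕ) :
    ∀ (M : Type u) [AddCommGroup M] [Module R M] [Module.Finite R M],
      Module.supportDim R M = n →
      Nontrivial ((localCohomology (maximalIdeal R) n).obj (ModuleCat.of R M)) := by
  induction n with
  | zero =>
    intro M _ _ _ hM
    have h0 : Module.supportDim R M = 0 := by simpa using hM
    haveI : Nontrivial M := (Module.supportDim_ne_bot_iff_nontrivial R M).1 (by rw [h0]; simp)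
    have hsupp := support_of_supportDim_eq_zero (R := R) (N := M) h0
    obtain ⟨k, hk⟩ := exists_pow_le_annihilator (maximalIdeal R) M hsupp.le
    have hT : IsTors (maximalIdeal R) (ModuleCat.of R M) :=
      fun m => ⟨k, fun a ha => Module.mem_annihilator.1 (hk ha) m⟩
    exact (evEquivOfTors (maximalIdeal R) (ModuleCat.of R M) hT).symm.injective.nontrivial
  | succ n ih =>
    intro M _ _ _ hM
    have hpos : 0 < Module.supportDim R M := by
      rw [hM]; exact_mod_cast Nat.succ_pos n
    have hdimN : Module.supportDim R (M ⧸ gam (maximalIdeal R) M) = ((n + 1 : ℕ) : WithBot ℕ∞) :=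
      (supportDim_quotient_gam M hpos).trans hM
    have hb := bijective_map_mkQ_gam (maximalIdeal R) (n + 1) (by omega) M
    haveI := nontrivial_succ_of_isTorsFree n ih (M ⧸ gam (maximalIdeal R) M)
      (isTorsFree_quotient_gam _ (IsNoetherian.noetherian _) M) hdimN
    exact hb.2.nontrivial

end Groth.Agent.Lib.helper11.LCKit
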