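import Mathlib
import Groth.Agent.Lib.helper11.Ischebeck
import Groth.Agent.Lib.helper11.LCNonVanish
import Groth.Agent.S0320

/-!
# Regular sequences on Cohen–Macaulay modules (helper11)

For a finite module `M` over a Noetherian local ring with `dim M = depth M = d` and a list `as` of
elements of the maximal ideal: `as` is `M`-regular iff `dim M/(as)M = d - |as|`.
-/

set_option autoImplicit false

namespace Groth.Agent.Lib.helper11.CMRegular

open IsLocalRing RingTheory.Sequence Pointwise CategoryTheory Abelian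

universe u

variable {R : Type u} [CommRing R] [IsNoetherianRing R] [IsLocalRing R]

/-- Nakayama. -/
theorem smul_top_ne_top (M : Type u) [AddCommGroup M] [Module R M] [Module.Finite R M]
    [Nontrivial M] : maximalIdeal R • (⊤ : Submodule R M) ≠ ⊤ :=
  (Submodule.top_ne_ideal_smul_of_le_jacobson_annihilator
    (IsLocalRing.maximalIdeal_le_jacobson _)).symm

/-- `dim R/p ≤ dim N` for `p ∈ Supp N`. -/
theorem dim_quotient_le_supportDim (N : Type u) [AddCommGroup N] [Module R N] [Module.Finite R N]
    (p : PrimeSpectrum R) (hp : p ∈ Module.support R N) :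
    ringKrullDim (R ⧸ p.asIdeal) ≤ Module.supportDim R N := by
  have hle : Module.annihilator R N ≤ p.asIdeal := Module.mem_support_iff_of_finite.1 hp
  rw [Module.supportDim_eq_ringKrullDim_quotient_annihilator]
  exact ringKrullDim_le_of_surjective (Ideal.Quotient.factor hle)
    (Ideal.Quotient.factor_surjective hle)

/-- Associated primes of `M` have `dim R/p ≥ depth M`. -/
theorem depth_le_dim_of_mem_ass (M : Type u) [AddCommGroup M] [Module R M] [Module.Finite R M]
    (p : Ideal R) (hp : p ∈ associatedPrimes R M) :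
    ((LocCoh.depth R M : ℕ∞) : WithBot ℕ∞) ≤ ringKrullDim (R ⧸ p) := by
  haveI : p.IsPrime := hp.isPrime
  obtain ⟨-, g, hg⟩ := (isAssociatedPrime_iff_exists_injective_linearMap p M).1 hp
  haveI : Nontrivial (R ⧸ p) := Ideal.Quotient.nontrivial_iff.2 hp.isPrime.ne_top
  haveI : Nontrivial M := hg.nontrivial
  by_contra hlt
  rw [not_le] at hlt
  have h0 : (0 : WithBot ℕ∞) ≤ ringKrullDim (R ⧸ p) := ringKrullDim_nonneg_of_nontrivial
  obtain ⟨r, hr⟩ : ∃ r : ℕ, ringKrullDim (R ⧸ p) = r := by
    generalize ringKrullDim (R ⧸ p) = a at hlt h0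
    induction a using WithBot.recBotCoe with
    | bot => exact absurd h0 (by simp)
    | coe a =>
      induction a using ENat.recTopCoe with
      | top =>
        exfalso
        have : ((⊤ : ℕ∞) : WithBot ℕ∞) < ((LocCoh.depth R M : ℕ∞) : WithBot ℕ∞) := hlt
        rw [WithBot.coe_lt_coe] at this
        exact not_top_lt this
      | coe k => exact ⟨k, rfl⟩
  rw [hr] at hlt
  have hlt' : (r : ℕ∞) < LocCoh.depth R M := by
    have : ((r : ℕ∞) : WithBot ℕ∞) < ((LocCoh.depth R M : ℕ∞) : WithBot ℕ∞) := by
      exact_mod_cast hlt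
    exact WithBot.coe_lt_coe.1 this
  unfold LocCoh.depth LocCoh.idealDepth at hlt'
  rw [if_neg (smul_top_ne_top M)] at hlt'
  obtain ⟨rs, hrs⟩ := lt_iSup_iff.mp hlt'
  obtain ⟨⟨hreg, hmem⟩, hlen⟩ := lt_iSup_iff.mp hrs
  have hlen' : r < rs.length := by exact_mod_cast hlen
  have hreg' : IsRegular M rs := IsRegular.of_isWeaklyRegular_of_mem_maximalIdeal M hmem hreg
  have hsub := Groth.Agent.Lib.helper11.Ischebeck.ext_subsingleton_of_regular M (R ⧸ p) rs hmem
    hreg' r 0 (by rw [Module.supportDim_quotient_eq_ringKrullDim, hr]) (by omega)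
  -- but `Hom(R/p, M) ≠ 0`
  have hne : Ext.mk₀ (ModuleCat.ofHom g) ≠ 0 := by
    intro h0
    have h1 : ModuleCat.ofHom g = 0 := by
      have := congrArg (Ext.homEquiv₀) h0
      simpa using this
    have h2 : g 1 = 0 := by
      have := congrArg (fun φ => φ.hom (1 : R ⧸ p)) h1
      exact this
    exact one_ne_zero (hg (h2.trans (map_zero g).symm))
  exact hne (Subsingleton.elim _ _)

/-- On a CM module of dimension `d`, an element of `m` with `dim M/xM < d` is regular. -/
theorem isSMulRegular_of_dim_lt (M : Type u) [AddCommGroup M] [Module R M] [Module.Finite R M]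
    (d : ℕ) (hdim : Module.supportDim R M = d) (hdepth : LocCoh.depth R M = d) (x : R)
    (hlt : Module.supportDim R (QuotSMulTop x M) < (d : WithBot ℕ∞)) : IsSMulRegular M x := by
  by_contra hnr
  have : x ∈ ({r : R | IsSMulRegular M r}ᶜ : Set R) := hnr
  rw [← biUnion_associatedPrimes_eq_compl_regular R M] at this
  obtain ⟨p, hp, hxp⟩ := Set.mem_iUnion₂.1 this
  haveI : p.IsPrime := hp.isPrime
  have h1 := depth_le_dim_of_mem_ass M p hp
  rw [hdepth] at h1
  have hpS : (⟨p, hp.isPrime⟩ : PrimeSpectrum R) ∈ Module.support R (QuotSMulTop x M) := by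
    rw [Module.support_quotSMulTop]
    refine ⟨?_, ?_⟩
    · refine Module.mem_support_iff_of_finite.2 ?_
      have := IsAssociatedPrime.annihilator_le hp
      rwa [Submodule.annihilator_top] at this
    · rw [PrimeSpectrum.mem_zeroLocus, Set.singleton_subset_iff]
      exact hxp
  have h2 := dim_quotient_le_supportDim (QuotSMulTop x M) ⟨p, hp.isPrime⟩ hpS
  have h3 : ((d : ℕ∞) : WithBot ℕ∞) < (d : WithBot ℕ∞) := lt_of_le_of_lt (h1.trans h2) hlt
  exact absurd h3 (lt_irrefl _)

/-- Quotient of a CM module by a regular element of `m`. -/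
theorem quotSMulTop_CM (M : Type u) [AddCommGroup M] [Module R M] [Module.Finite R M]
    (d : ℕ) (hdim : Module.supportDim R M = d) (hdepth : LocCoh.depth R M = d) (x : R)
    (hx : x ∈ maximalIdeal R) (hreg : IsSMulRegular M x) :
    1 ≤ d ∧ Module.supportDim R (QuotSMulTop x M) = ((d - 1 : ℕ) : WithBot ℕ∞) ∧
      LocCoh.depth R (QuotSMulTop x M) = ((d - 1 : ℕ) : ℕ∞) := by
  haveI : Nontrivial M := by
    rw [← Module.supportDim_ne_bot_iff_nontrivial R, hdim]
    exact WithBot.natCast_ne_bot d
  have h1 : Module.supportDim R (QuotSMulTop x M) + 1 = Module.supportDim R M :=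
    Module.supportDim_quotSMulTop_succ_eq_supportDim hreg hx
  have h2 : LocCoh.idealDepth (maximalIdeal R) (QuotSMulTop x M) + 1 =
      LocCoh.idealDepth (maximalIdeal R) M :=
    Groth.Agent.S0320.result R (maximalIdeal R) M (smul_top_ne_top M) x hx hreg
  have h2' : LocCoh.depth R (QuotSMulTop x M) + 1 = (d : ℕ∞) := by
    rw [← hdepth]; exact h2
  have hd : 1 ≤ d := by
    by_contra hcon
    have hd0 : d = 0 := by omega
    rw [hd0] at h2'
    have : (1 : ℕ∞) ≤ LocCoh.depth R (QuotSMulTop x M) + 1 := le_add_self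
    rw [h2'] at this
    simp at this
  obtain ⟨k, rfl⟩ : ∃ k, d = k + 1 := ⟨d - 1, by omega⟩
  refine ⟨hd, ?_, ?_⟩
  · rw [hdim] at h1
    have := Groth.Agent.Lib.helper11.LCKit.withBot_eq_of_add_one_eq _ k h1
    simpa using this
  · have h3 : LocCoh.depth R (QuotSMulTop x M) + 1 = (k : ℕ∞) + 1 := by
      rw [h2']; push_cast; rfl
    have h4 : LocCoh.depth R (QuotSMulTop x M) = (k : ℕ∞) :=
      (ENat.add_left_injective_of_ne_top ENat.one_ne_top) h3
    simpa using h4

/-- `dim N ≤ dim N/(as)N + |as|` for `as ⊆ m`. -/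
theorem supportDim_le_quotient_add_length (as : List R) :
    ∀ (N : Type u) [AddCommGroup N] [Module R N] [Module.Finite R N],
      (∀ a ∈ as, a ∈ maximalIdeal R) →
      Module.supportDim R N ≤
        Module.supportDim R (N ⧸ Ideal.ofList as • (⊤ : Submodule R N)) + (as.length : ℕ) := by
  induction as with
  | nil =>
    intro N _ _ _ _
    have h0 : (Ideal.ofList ([] : List R) • (⊤ : Submodule R N)) = ⊥ := by
      rw [Ideal.ofList_nil, Submodule.bot_smul]
    rw [Module.supportDim_eq_of_equiv (Submodule.quotEquivOfEqBot _ h0)]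
    simp
  | cons x as ih =>
    intro N _ _ _ hmem
    have h1 := Module.supportDim_le_supportDim_quotSMulTop_succ (M := N)
      (hmem x List.mem_cons_self)
    have h2 := ih (QuotSMulTop x N) (fun a ha => hmem a (List.mem_cons_of_mem _ ha))
    rw [Module.supportDim_eq_of_equiv
      (Submodule.quotOfListConsSMulTopEquivQuotSMulTopInner N x as)]
    calc Module.supportDim R N ≤ Module.supportDim R (QuotSMulTop x N) + 1 := h1
      _ ≤ (Module.supportDim R (QuotSMulTop x N ⧸
            Ideal.ofList as • (⊤ : Submodule R (QuotSMulTop x N))) + (as.length : ℕ)) + 1 := by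
          gcongr
      _ = _ := by
          rw [List.length_cons, add_assoc]
          push_cast
          rfl

/-- **Regular sequences on a CM module**: `as ⊆ m` is `M`-regular iff `dim M/(as)M = d - |as|`. -/
theorem isWeaklyRegular_iff (as : List R) :
    ∀ (M : Type u) [AddCommGroup M] [Module R M] [Module.Finite R M] (d : ℕ),
      Module.supportDim R M = d → LocCoh.depth R M = d → (∀ a ∈ as, a ∈ maximalIdeal R) →
      (IsWeaklyRegular M as ↔ as.length ≤ d ∧
        Module.supportDim R (M ⧸ Ideal.ofList as • (⊤ : Submodule R M)) =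
          ((d - as.length : ℕ) : WithBot ℕ∞)) := by
  induction as with
  | nil =>
    intro M _ _ _ d hdim hdepth _
    have h0 : (Ideal.ofList ([] : List R) • (⊤ : Submodule R M)) = ⊥ := by
      rw [Ideal.ofList_nil, Submodule.bot_smul]
    constructor
    · intro _
      refine ⟨Nat.zero_le _, ?_⟩
      rw [Module.supportDim_eq_of_equiv (Submodule.quotEquivOfEqBot _ h0), hdim]
      simp
    · intro _
      exact IsWeaklyRegular.nil R M
  | cons x as ih =>
    intro M _ _ _ d hdim hdepth hmem
    have hx := hmem x List.mem_cons_self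
    have hmem' : ∀ a ∈ as, a ∈ maximalIdeal R := fun a ha => hmem a (List.mem_cons_of_mem _ ha)
    rw [isWeaklyRegular_cons_iff, Module.supportDim_eq_of_equiv
      (Submodule.quotOfListConsSMulTopEquivQuotSMulTopInner M x as), List.length_cons]
    constructor
    · rintro ⟨hreg, hw⟩
      obtain ⟨hd1, hdimQ, hdepthQ⟩ := quotSMulTop_CM M d hdim hdepth x hx hreg
      obtain ⟨hlen, hdimQQ⟩ := (ih (QuotSMulTop x M) (d - 1) hdimQ hdepthQ hmem').1 hw
      refine ⟨by omega, ?_⟩
      rw [hdimQQ]
      have : d - 1 - as.length = d - (as.length + 1) := by omega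
      rw [this]
    · rintro ⟨hlen, hdimQQ⟩
      have hL4 := supportDim_le_quotient_add_length as (QuotSMulTop x M) hmem'
      rw [hdimQQ] at hL4
      have hlt : Module.supportDim R (QuotSMulTop x M) < (d : WithBot ℕ∞) := by
        refine lt_of_le_of_lt hL4 ?_
        have : d - (as.length + 1) + as.length < d := by omega
        exact_mod_cast this
      have hreg := isSMulRegular_of_dim_lt M d hdim hdepth x hlt
      obtain ⟨hd1, hdimQ, hdepthQ⟩ := quotSMulTop_CM M d hdim hdepth x hx hreg
      refine ⟨hreg, (ih (QuotSMulTop x M) (d - 1) hdimQ hdepthQ hmem').2 ⟨by omega, ?_⟩⟩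
      rw [hdimQQ]
      have : d - 1 - as.length = d - (as.length + 1) := by omega
      rw [this]

end Groth.Agent.Lib.helper11.CMRegular
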