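import Mathlib
import Groth.Agent.Lib.helper11.LCKit3

/-!
# Annihilation of local cohomology of locally free modules (helper11)
-/

set_option autoImplicit false

namespace Groth.Agent.Lib.helper11.LCAnn

open CategoryTheory Limits Groth.Agent.Lib.helper11.LCKit

universe u

variable {R : Type u} [CommRing R]

/-- If `M_p` is free, then near `p` the module `M` is a retract of a free module up to a
multiplier `s ∉ p`. -/
theorem exists_factor_through_free [IsNoetherianRing R] (M : Type u) [AddCommGroup M] [Module R M]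
    [Module.Finite R M] (p : Ideal R) [p.IsPrime]
    [Module.Free (Localization.AtPrime p) (LocalizedModule p.primeCompl M)] :
    ∃ (s : R) (_ : s ∉ p) (r : ℕ) (ψ : M →ₗ[R] (Fin r → R)) (φ : (Fin r → R) →ₗ[R] M),
      φ ∘ₗ ψ = s • LinearMap.id := by
  classical
  haveI : Module.FinitePresentation R M := Module.finitePresentation_of_finite R M
  let S := p.primeCompl
  let Rp := Localization.AtPrime p
  let Mp := LocalizedModule S M
  let r := Module.finrank Rp Mp
  let b : Module.Basis (Fin r) Rp Mp := Module.finBasis Rp Mp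
  let α : Mp ≃ₗ[R] (Fin r → Rp) := b.equivFun.restrictScalars R
  let mk : M →ₗ[R] Mp := LocalizedModule.mkLinearMap S M
  let f₁ : (Fin r → R) →ₗ[R] (Fin r → Rp) :=
    LinearMap.pi fun j => Algebra.linearMap R Rp ∘ₗ LinearMap.proj j
  haveI : IsLocalizedModule S f₁ := IsLocalizedModule.pi S _
  obtain ⟨ψ, s₁, h₁⟩ := Module.FinitePresentation.exists_lift_of_isLocalizedModule S f₁
    (α.toLinearMap ∘ₗ mk)
  obtain ⟨φ, s₂, h₂⟩ := Module.FinitePresentation.exists_lift_of_isLocalizedModule S mk
    (α.symm.toLinearMap ∘ₗ f₁)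
  have h₃ : mk ∘ₗ (φ ∘ₗ ψ) = mk ∘ₗ (((s₁ : R) * (s₂ : R)) • LinearMap.id) := by
    rw [← LinearMap.comp_assoc, h₂]
    ext m
    have e1 : f₁ (ψ m) = s₁ • α (mk m) := LinearMap.congr_fun h₁ m
    simp only [LinearMap.comp_apply, LinearMap.smul_apply, LinearEquiv.coe_coe,
      LinearMap.id_apply]
    rw [e1]
    change (s₂ : R) • α.symm ((s₁ : R) • α (mk m)) = mk (((s₁ : R) * (s₂ : R)) • m)
    rw [LinearEquiv.map_smul, LinearEquiv.symm_apply_apply, LinearMap.map_smul, mul_smul,
      smul_comm]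
  obtain ⟨s₃, h₄⟩ := Module.Finite.exists_smul_of_comp_eq_of_isLocalizedModule S mk _ _ h₃
  refine ⟨(s₃ : R) * ((s₁ : R) * (s₂ : R)), ?_, r, ψ, (s₃ : R) • φ, ?_⟩
  · exact (S.mul_mem s₃.2 (S.mul_mem s₁.2 s₂.2))
  · rw [LinearMap.smul_comp]
    have : (s₃ : R) • (φ ∘ₗ ψ) = s₃ • (φ ∘ₗ ψ) := rfl
    rw [this, h₄, Submonoid.smul_def, smul_smul]

/-- If `M` is, up to `s`, a retract of `R^r`, then `s` kills `H^i_J(M)` whenever `H^i_J(R) = 0`. -/
theorem smul_eq_zero_of_factor (J : Ideal R) (i : ℕ) (M : Type u) [AddCommGroup M] [Module R M]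
    (s : R) (r : ℕ) (ψ : M →ₗ[R] (Fin r → R)) (φ : (Fin r → R) →ₗ[R] M)
    (h : φ ∘ₗ ψ = s • LinearMap.id) (hR : Subsingleton (LocCoh.H J i R))
    (x : LocCoh.H J i M) : s • x = 0 := by
  classical
  have hzero : ∀ z : LocCoh.H J i (Fin r → R), z = 0 := by
    intro z
    have hid : 𝟙 (ModuleCat.of R (Fin r → R)) =
        ∑ j : Fin r, ModuleCat.ofHom (LinearMap.proj (R := R) (φ := fun _ => R) j) ≫
          ModuleCat.ofHom (LinearMap.single R (fun _ => R) j) := by
      refine ModuleCat.hom_ext (LinearMap.ext fun w => ?_)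
      simp only [ModuleCat.hom_id, ModuleCat.hom_sum, ModuleCat.hom_comp, ModuleCat.hom_ofHom,
        LinearMap.id_apply, LinearMap.sum_apply, LinearMap.comp_apply, LinearMap.proj_apply,
        LinearMap.single_apply]
      exact (Finset.univ_sum_single w).symm
    have hz : z = ((localCohomology J i).map (𝟙 (ModuleCat.of R (Fin r → R)))).hom z := by
      rw [CategoryTheory.Functor.map_id]; rfl
    rw [hz, hid, Functor.map_sum, ModuleCat.hom_sum, LinearMap.sum_apply]
    apply Finset.sum_eq_zero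
    intro j _
    rw [Functor.map_comp, ModuleCat.hom_comp, LinearMap.comp_apply]
    have : ((localCohomology J i).map (ModuleCat.ofHom (LinearMap.proj (R := R)
        (φ := fun _ => R) j))).hom z = 0 := hR.elim _ _
    rw [this, map_zero]
  rw [smul_eq_map J i s x]
  have e : s • 𝟙 (ModuleCat.of R M) = ModuleCat.ofHom ψ ≫ ModuleCat.ofHom φ := by
    ext m : 2
    have := LinearMap.congr_fun h m
    simpa using this.symm
  rw [e, Functor.map_comp, ModuleCat.hom_comp, LinearMap.comp_apply,
    hzero (((localCohomology J i).map (ModuleCat.ofHom ψ)).hom x), map_zero]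

end Groth.Agent.Lib.helper11.LCAnn
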