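import Mathlib
import Groth.Agent.Lib.helper11.GlDimRegular

/-!
# Finite projective dimension over a regular ring (helper11)

The locus where a finite module has projective dimension `≤ n` is open, and over a regular ring
these loci cover the spectrum; quasi-compactness gives a uniform bound.
-/

set_option autoImplicit false

namespace Groth.Agent.Lib.helper11.RegularRingPD

open CategoryTheory

universe u

variable {A : Type u} [CommRing A]

/-- The locus of primes `p` at which `M_p` has projective dimension `≤ n`. -/
def pdLocus (M : ModuleCat.{u} A) (n : ℕ) : Set (PrimeSpectrum A) :=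
  {p | HasProjectiveDimensionLT (M.localizedModule p.asIdeal.primeCompl) (n + 1)}

theorem pdLocus_zero [IsNoetherianRing A] (M : ModuleCat.{u} A) [Module.Finite A M] :
    pdLocus M 0 = Module.freeLocus A M := by
  ext p
  simp only [pdLocus, Set.mem_ofPred_eq, zero_add, ← projective_iff_hasProjectiveDimensionLT_one]
  rw [← IsProjective.iff_projective]
  rw [Module.mem_freeLocus_of_isLocalization p (Localization.AtPrime p.asIdeal)
    (M.localizedModule p.asIdeal.primeCompl) (M.localizedModuleMkLinearMap p.asIdeal.primeCompl)]
  have : Module.Finite (Localization.AtPrime p.asIdeal)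
      (M.localizedModule p.asIdeal.primeCompl) :=
    Module.Finite.of_isLocalizedModule p.asIdeal.primeCompl
      (M.localizedModuleMkLinearMap p.asIdeal.primeCompl)
  constructor
  · intro h
    have : Module.Flat (Localization.AtPrime p.asIdeal)
        (M.localizedModule p.asIdeal.primeCompl) := Module.Flat.of_projective
    exact Module.free_of_flat_of_isLocalRing
  · intro h
    exact Module.Projective.of_free

theorem isOpen_pdLocus [IsNoetherianRing A] (n : ℕ) (M : ModuleCat.{u} A) [Module.Finite A M] :
    IsOpen (pdLocus M n) := by
  induction n generalizing M with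
  | zero =>
    rw [pdLocus_zero]
    have : Module.FinitePresentation A M := Module.finitePresentation_of_finite A M
    exact Module.isOpen_freeLocus
  | succ n ih =>
    rcases Module.exists_finite_presentation A M with ⟨P, _, _, _, _, f, surjf⟩
    let S := f.shortComplexKer
    have S_exact := LinearMap.shortExact_shortComplexKer surjf
    have proj := ModuleCat.projective_of_categoryTheory_projective S.X₂
    let Sp (p : PrimeSpectrum A) := S.map (ModuleCat.localizedModuleFunctor p.1.primeCompl)
    have Sp_exact (p : PrimeSpectrum A) : (Sp p).ShortExact :=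
      S_exact.map_of_exact (ModuleCat.localizedModuleFunctor p.asIdeal.primeCompl)
    have projp (p : PrimeSpectrum A) : Projective (Sp p).X₂ :=
      (ModuleCat.localizedModuleFunctor.{u} p.1.primeCompl).projective_obj_of_projective proj
    have key : pdLocus M (n + 1) = pdLocus (ModuleCat.of A (LinearMap.ker f)) n := by
      ext p
      exact (Sp_exact p).hasProjectiveDimensionLT_X₃_iff n (projp p)
    rw [key]
    exact ih _

theorem pdLocus_mono (M : ModuleCat.{u} A) {m n : ℕ} (h : m ≤ n) : pdLocus M m ⊆ pdLocus M n := by
  intro p hp
  simp only [pdLocus, Set.mem_ofPred_eq] at hp ⊢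
  exact hasProjectiveDimensionLT_of_ge _ (m + 1) (n + 1) (by omega)

/-- Over a regular ring, every finite module has finite projective dimension. -/
theorem exists_hasProjectiveDimensionLE [IsRegularRing A] (M : ModuleCat.{u} A)
    [Module.Finite A M] : ∃ d : ℕ, HasProjectiveDimensionLE M d := by
  have hcover : (Set.univ : Set (PrimeSpectrum A)) ⊆ ⋃ n, pdLocus M n := by
    intro p _
    have : IsRegularLocalRing (Localization.AtPrime p.asIdeal) :=
      IsRegularRing.isRegularLocalRing_localization p.asIdeal
    have hfin : ringKrullDim (Localization.AtPrime p.asIdeal) =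
        ((IsLocalRing.maximalIdeal (Localization.AtPrime p.asIdeal)).spanFinrank : ℕ) :=
      (IsRegularLocalRing.spanFinrank_maximalIdeal (R := Localization.AtPrime p.asIdeal)).symm
    refine Set.mem_iUnion.mpr
      ⟨(IsLocalRing.maximalIdeal (Localization.AtPrime p.asIdeal)).spanFinrank, ?_⟩
    exact Groth.Agent.Lib.helper11.GlDimRegular.hasProjectiveDimensionLT_of_isRegularLocalRing
      _ hfin (M.localizedModule p.asIdeal.primeCompl)
  obtain ⟨d, hd⟩ := isCompact_univ.elim_directed_cover (fun n => pdLocus M n)
    (fun n => isOpen_pdLocus n M) hcover
    (directed_of_isDirected_le fun m n h => pdLocus_mono M h)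
  refine ⟨d, ?_⟩
  rw [ModuleCat.hasProjectiveDimensionLE_iff_forall_primeSpectrum]
  intro p
  exact hd (Set.mem_univ p)

end Groth.Agent.Lib.helper11.RegularRingPD
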