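import Mathlib
import Groth.Agent.Lib.helper11.LCAnn
import Groth.Agent.Lib.helper11.RegularRingPD

/-!
# Annihilation of local cohomology below `grade - pd` (helper11)
-/

set_option autoImplicit false

namespace Groth.Agent.Lib.helper11.LCAnn

open CategoryTheory Limits Groth.Agent.Lib.helper11.LCKit

universe u

variable {R : Type u} [CommRing R] [IsNoetherianRing R]

/-- Local cohomology of a finite free module vanishes where that of the ring does. -/
theorem subsingleton_H_of_free (J : Ideal R) (i : ℕ) (P : Type u) [AddCommGroup P] [Module R P]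
    [Module.Free R P] [Module.Finite R P] (hR : Subsingleton (LocCoh.H J i R)) :
    Subsingleton (LocCoh.H J i P) := by
  classical
  let e : P ≃ₗ[R] (Fin (Fintype.card (Module.Free.ChooseBasisIndex R P)) → R) :=
    ((Module.Free.chooseBasis R P).reindex (Fintype.equivFin _)).equivFun
  refine ⟨fun x y => ?_⟩
  have h : e.symm.toLinearMap ∘ₗ e.toLinearMap = (1 : R) • LinearMap.id := by
    ext v; simp
  have hx := smul_eq_zero_of_factor J i P 1 _ e.toLinearMap e.symm.toLinearMap h hR x
  have hy := smul_eq_zero_of_factor J i P 1 _ e.toLinearMap e.symm.toLinearMap h hR y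
  rw [one_smul] at hx hy
  rw [hx, hy]

theorem exists_ann (p : Ideal R) [p.IsPrime] (h : ℕ) :
    ∀ (M : Type u) [AddCommGroup M] [Module R M] [Module.Finite R M],
      HasProjectiveDimensionLT ((ModuleCat.of R M).localizedModule p.primeCompl) (h + 1) →
      ∃ s : R, s ∉ p ∧ ∀ (b : Ideal R), b ≠ ⊤ → ∀ (i : ℕ),
        ((i + h : ℕ) : ℕ∞) < LocCoh.idealDepth b R → ∀ x : LocCoh.H b i M, s • x = 0 := by
  induction h with
  | zero =>
    intro M _ _ _ hpd
    rw [zero_add, ← projective_iff_hasProjectiveDimensionLT_one,
      ← IsProjective.iff_projective] at hpd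
    let e : ((ModuleCat.of R M).localizedModule p.primeCompl) ≃ₗ[Localization.AtPrime p]
        LocalizedModule p.primeCompl M :=
      Shrink.linearEquiv.{u} (Localization.AtPrime p) (LocalizedModule p.primeCompl M)
    haveI : Module.Projective (Localization.AtPrime p) (LocalizedModule p.primeCompl M) :=
      Module.Projective.of_equiv e
    haveI : Module.Flat (Localization.AtPrime p) (LocalizedModule p.primeCompl M) :=
      Module.Flat.of_projective
    haveI : Module.Free (Localization.AtPrime p) (LocalizedModule p.primeCompl M) :=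
      Module.free_of_flat_of_isLocalRing
    obtain ⟨s, hs, r, ψ, φ, hφψ⟩ := exists_factor_through_free M p
    refine ⟨s, hs, fun b hb i hi x => ?_⟩
    apply smul_eq_zero_of_factor b i M s r ψ φ hφψ
    apply subsingleton_of_lt_idealDepth b i R _ (by simpa using hi)
    rw [smul_eq_mul, Ideal.mul_top]
    exact hb
  | succ h ih =>
    intro M _ _ _ hpd
    rcases Module.exists_finite_presentation R M with ⟨P, _, _, _, _, f, surjf⟩
    let S := f.shortComplexKer
    have S_exact : S.ShortExact := LinearMap.shortExact_shortComplexKer surjf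
    have proj := ModuleCat.projective_of_categoryTheory_projective S.X₂
    let Sp := S.map (ModuleCat.localizedModuleFunctor p.primeCompl)
    have Sp_exact : Sp.ShortExact :=
      S_exact.map_of_exact (ModuleCat.localizedModuleFunctor p.primeCompl)
    have projp : Projective Sp.X₂ :=
      (ModuleCat.localizedModuleFunctor.{u} p.primeCompl).projective_obj_of_projective proj
    have hK : HasProjectiveDimensionLT
        ((ModuleCat.of R (LinearMap.ker f)).localizedModule p.primeCompl) (h + 1) :=
      (Sp_exact.hasProjectiveDimensionLT_X₃_iff h projp).mp hpd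
    obtain ⟨s, hs, hann⟩ := ih (LinearMap.ker f) hK
    refine ⟨s, hs, fun b hb i hi x => ?_⟩
    have hi1 : (((i + 1) + h : ℕ) : ℕ∞) < LocCoh.idealDepth b R := by
      have : i + 1 + h = i + (h + 1) := by omega
      rw [this]; exact hi
    have hi0 : (i : ℕ∞) < LocCoh.idealDepth b R := by
      refine lt_of_le_of_lt ?_ hi
      exact_mod_cast Nat.le_add_right i (h + 1)
    have hbR : b • (⊤ : Submodule R R) ≠ ⊤ := by
      rw [smul_eq_mul, Ideal.mul_top]; exact hb
    have hP : Subsingleton (LocCoh.H b i P) :=
      subsingleton_H_of_free b i P (subsingleton_of_lt_idealDepth b i R hbR hi0)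
    have hδ : (δ b i S_exact).hom (s • x) = 0 := by
      rw [map_smul]
      exact hann b hb (i + 1) hi1 _
    obtain ⟨x₂, hx₂⟩ := exact₃ b i S_exact (s • x) hδ
    rw [← hx₂, hP.elim x₂ 0, map_zero]

end Groth.Agent.Lib.helper11.LCAnn
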