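import Mathlib.Algebra.Category.ModuleCat.Monoidal.Basic
import Mathlib.Algebra.Category.ModuleCat.Monoidal.Closed
import Mathlib.Algebra.Category.ModuleCat.Abelian
import Mathlib.Algebra.Category.ModuleCat.Colimits
import Mathlib.CategoryTheory.Linear.LinearFunctor
import Mathlib.CategoryTheory.Limits.Preserves.Finite
import Mathlib.Algebra.Category.ModuleCat.Basic
import Mathlib.LinearAlgebra.TensorProduct.Basic
import Mathlib.LinearAlgebra.FreeModule.Basic
import Mathlib.Algebra.Homology.ShortComplex.ShortExact
import Mathlib.Algebra.Homology.ShortComplex.ModuleCat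
import Mathlib.LinearAlgebra.Finsupp.LinearCombination
import Mathlib.LinearAlgebra.Finsupp.VectorSpace
import Mathlib.LinearAlgebra.TensorProduct.RightExactness

set_option autoImplicit false
universe u

namespace Groth.Agent.Lib.helper11.EW

open CategoryTheory CategoryTheory.Limits MonoidalCategory

variable {A : Type u} [CommRing A] (T : ModuleCat.{u} A ⥤ ModuleCat.{u} A) [T.Additive] [T.Linear A]

/-- `θ_x : A → M`, `a ↦ a • x`, as a morphism. -/
noncomputable def theta {M : ModuleCat.{u} A} (x : M) : ModuleCat.of A A ⟶ M :=
  (ModuleCat.homLinearEquiv (S := A)).symm ((LinearMap.ringLmapEquivSelf A A M).symm x)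

/-- the comparison map `T(A) ⊗ M → T(M)`. -/
noncomputable def tM (M : ModuleCat.{u} A) :
    TensorProduct A (T.obj (ModuleCat.of A A)) M →ₗ[A] T.obj M :=
  TensorProduct.lift (LinearMap.flip
        ((ModuleCat.homLinearEquiv (S := A)).toLinearMap ∘ₗ Functor.mapLinearMap A T ∘ₗ
          (ModuleCat.homLinearEquiv (S := A)).symm.toLinearMap ∘ₗ
            (LinearMap.ringLmapEquivSelf A A M).symm.toLinearMap))

lemma tM_tmul (M : ModuleCat.{u} A) (y : T.obj (ModuleCat.of A A)) (x : M) :
    tM T M (y ⊗ₜ x) = (T.map (theta x)).hom y := by
  rfl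


lemma theta_apply {M : ModuleCat.{u} A} (x : M) (a : A) : (theta x).hom a = a • x := rfl

lemma theta_comp {M M' : ModuleCat.{u} A} (x : M) (g : M ⟶ M') :
    theta x ≫ g = theta (g.hom x) := by
  ext
  change g.hom ((1 : A) • x) = (1 : A) • g.hom x
  simp

/-- The comparison natural transformation `T(A) ⊗ - ⟶ T`. -/
noncomputable def tau : tensorLeft (T.obj (ModuleCat.of A A)) ⟶ T where
  app M := ModuleCat.ofHom (tM T M)
  naturality M M' g := by
    apply ModuleCat.MonoidalCategory.tensor_ext
    intro y x
    change (tM T M') ((T.obj (ModuleCat.of A A) ◁ g).hom (y ⊗ₜ x)) = (T.map g).hom (tM T M (y ⊗ₜ x))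
    rw [ModuleCat.MonoidalCategory.whiskerLeft_apply, tM_tmul, tM_tmul, ← theta_comp, T.map_comp]
    rfl

lemma tau_app_hom (M : ModuleCat.{u} A) : ((tau T).app M).hom = tM T M := rfl

lemma theta_one_smul (a : A) : theta (M := ModuleCat.of A A) a = a • 𝟙 (ModuleCat.of A A) := by
  ext
  change (1 : A) • a = a • (1 : A)
  simp

lemma tM_self_tmul (y : T.obj (ModuleCat.of A A)) (a : A) :
    tM T (ModuleCat.of A A) (y ⊗ₜ a) = a • y := by
  rw [tM_tmul, theta_one_smul, Functor.map_smul, T.map_id]
  rfl

lemma tM_self : tM T (ModuleCat.of A A) = (TensorProduct.rid A (T.obj (ModuleCat.of A A))).toLinearMap := by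
  apply TensorProduct.ext'
  intro y a
  rw [tM_self_tmul]
  simp

instance isIso_tau_app_self : IsIso ((tau T).app (ModuleCat.of A A)) := by
  have : (tau T).app (ModuleCat.of A A) =
      (TensorProduct.rid A (T.obj (ModuleCat.of A A))).toModuleIso.hom := by
    ext : 1
    exact tM_self T
  rw [this]
  infer_instance


section Coprod

variable [∀ J : Type u, PreservesColimitsOfShape (Discrete J) T]

/-- `tau` is an isomorphism on any coproduct of copies of `A`. -/
lemma isIso_tau_app_of_isColimit_cofan {J : Type u}
    (c : Cofan (fun _ : J => ModuleCat.of A A)) (hc : IsColimit c) :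
    IsIso ((tau T).app c.pt) := by
  have : IsIso (Functor.whiskerLeft (Discrete.functor fun _ : J => ModuleCat.of A A) (tau T)) := by
    apply (config := { allowSynthFailures := true }) NatIso.isIso_of_isIso_app
    intro X
    exact isIso_tau_app_self T
  exact isIso_app_coconePt_of_preservesColimit _ (tau T) c hc

end Coprod


section Free

/-- The cofan exhibiting a module with a basis as a coproduct of copies of `A`. -/
noncomputable def basisCofan {J : Type u} {L : ModuleCat.{u} A} (b : Module.Basis J A L) :
    Cofan (fun _ : J => ModuleCat.of A A) :=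
  Cofan.mk L (fun j => theta (b j))

noncomputable def basisCofanIsColimit {J : Type u} {L : ModuleCat.{u} A} (b : Module.Basis J A L) :
    IsColimit (basisCofan b) :=
  Cofan.IsColimit.mk _
    (fun t => ModuleCat.ofHom (b.constr A (fun j => (t.inj j).hom (1 : A))))
    (fun t j => by
      ext
      change (b.constr A (fun j => (t.inj j).hom (1 : A))) ((1 : A) • b j) = _
      simp)
    (fun t m hm => by
      ext : 1
      apply b.ext
      intro j
      have := congrArg (fun f => f.hom (1 : A)) (hm j)
      change m.hom ((1 : A) • b j) = _ at this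
      rw [one_smul] at this
      refine this.trans ?_
      change _ = (b.constr A (fun j => (t.inj j).hom (1 : A))) (b j)
      simp)

variable [∀ J : Type u, PreservesColimitsOfShape (Discrete J) T]

lemma isIso_tau_app_of_free (L : ModuleCat.{u} A) [Module.Free A L] : IsIso ((tau T).app L) :=
  isIso_tau_app_of_isColimit_cofan T (basisCofan (Module.Free.chooseBasis A L))
    (basisCofanIsColimit _)

lemma tM_bijective_of_free (L : ModuleCat.{u} A) [Module.Free A L] :
    Function.Bijective (tM T L) := by
  have := isIso_tau_app_of_free T L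
  exact ConcreteCategory.bijective_of_isIso ((tau T).app L)

end Free


section Presentation

variable (M : ModuleCat.{u} A)

/-- the free module on the elements of `M`. -/
noncomputable abbrev pres₀ : ModuleCat.{u} A := ModuleCat.of A (M →₀ A)

instance : Module.Free A (pres₀ M) := inferInstanceAs (Module.Free A (M →₀ A))

noncomputable def presπ : pres₀ M ⟶ M :=
  ModuleCat.ofHom (Finsupp.linearCombination A (id : M → M))

lemma presπ_surjective : Function.Surjective (presπ M).hom := by
  intro m
  exact ⟨Finsupp.single m 1, by simp [presπ]⟩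

noncomputable abbrev pres₁ : ModuleCat.{u} A :=
  ModuleCat.of A (LinearMap.ker (presπ M).hom →₀ A)

instance : Module.Free A (pres₁ M) :=
  inferInstanceAs (Module.Free A (LinearMap.ker (presπ M).hom →₀ A))

noncomputable def presf : pres₁ M ⟶ pres₀ M :=
  ModuleCat.ofHom (Finsupp.linearCombination A
    (fun k : LinearMap.ker (presπ M).hom => (k : (M →₀ A))))

lemma range_presf : LinearMap.range (presf M).hom = LinearMap.ker (presπ M).hom := by
  simp only [presf, ModuleCat.hom_ofHom]
  rw [Finsupp.range_linearCombination]
  apply le_antisymm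
  · rw [Submodule.span_le]
    rintro _ ⟨k, rfl⟩
    exact k.2
  · intro x hx
    exact Submodule.subset_span ⟨⟨x, hx⟩, rfl⟩

noncomputable def presComplex : ShortComplex (ModuleCat.{u} A) :=
  ShortComplex.moduleCatMkOfKerLERange (presf M) (presπ M) (by rw [range_presf])

lemma presComplex_exact : (presComplex M).Exact :=
  ShortComplex.Exact.moduleCat_of_range_eq_ker _ _ (range_presf M)

instance : Epi (presComplex M).g :=
  (ModuleCat.epi_iff_surjective _).mpr (presπ_surjective M)

noncomputable def presIsColimit :
    IsColimit (CokernelCofork.ofπ (presComplex M).g (presComplex M).zero) :=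
  (presComplex_exact M).gIsCokernel

end Presentation

section RightExact

variable [∀ J : Type u, PreservesColimitsOfShape (Discrete J) T]

/-- Eilenberg–Watts: for right exact `T` commuting with coproducts, `tau` is an isomorphism. -/
lemma isIso_tau_app_of_preservesFiniteColimits [PreservesFiniteColimits T] (M : ModuleCat.{u} A) :
    IsIso ((tau T).app M) := by
  have : IsIso (Functor.whiskerLeft (parallelPair (presComplex M).f 0) (tau T)) := by
    apply (config := { allowSynthFailures := true }) NatIso.isIso_of_isIso_app
    rintro (_ | _)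
    · exact isIso_tau_app_of_free T (pres₁ M)
    · exact isIso_tau_app_of_free T (pres₀ M)
  exact isIso_app_coconePt_of_preservesColimit _ (tau T) _ (presIsColimit M)

instance isIso_tau_of_preservesFiniteColimits [PreservesFiniteColimits T] : IsIso (tau T) := by
  apply (config := { allowSynthFailures := true }) NatIso.isIso_of_isIso_app
  exact isIso_tau_app_of_preservesFiniteColimits T

omit [T.Additive] [Functor.Linear A T] [∀ (J : Type u), PreservesColimitsOfShape (Discrete J) T] in
lemma preservesFiniteColimits_of_iso_tensorLeft {N : ModuleCat.{u} A} (e : T ≅ tensorLeft N) :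
    PreservesFiniteColimits T :=
  preservesFiniteColimits_of_natIso e.symm

lemma preservesFiniteColimits_iff_exists_iso :
    PreservesFiniteColimits T ↔ ∃ N : ModuleCat.{u} A, Nonempty (T ≅ tensorLeft N) := by
  constructor
  · intro _
    exact ⟨T.obj (ModuleCat.of A A), ⟨(asIso (tau T)).symm⟩⟩
  · rintro ⟨N, ⟨e⟩⟩
    exact preservesFiniteColimits_of_iso_tensorLeft T e

lemma preservesFiniteColimits_iff_bijective :
    PreservesFiniteColimits T ↔ ∀ M : ModuleCat.{u} A, Function.Bijective (tM T M) := by
  constructor
  · intro _ M
    have := isIso_tau_app_of_preservesFiniteColimits T M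
    exact ConcreteCategory.bijective_of_isIso ((tau T).app M)
  · intro h
    have : IsIso (tau T) := by
      apply (config := { allowSynthFailures := true }) NatIso.isIso_of_isIso_app
      intro M
      rw [ConcreteCategory.isIso_iff_bijective]
      exact h M
    exact preservesFiniteColimits_of_iso_tensorLeft T (asIso (tau T)).symm

end RightExact


section HalfExact

lemma tM_naturality {M M' : ModuleCat.{u} A} (g : M ⟶ M')
    (w : TensorProduct A (T.obj (ModuleCat.of A A)) M) :
    tM T M' (LinearMap.lTensor _ g.hom w) = (T.map g).hom (tM T M w) := by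
  have := congrArg (fun f => f.hom w) ((tau T).naturality g)
  exact this

variable [∀ J : Type u, PreservesColimitsOfShape (Discrete J) T]

/-- half-exact + all comparison maps surjective implies all comparison maps injective. -/
lemma tM_injective_of_halfExact
    (hhalf : ∀ S : ShortComplex (ModuleCat.{u} A), S.ShortExact → (S.map T).Exact)
    (hsurj : ∀ M : ModuleCat.{u} A, Function.Surjective (tM T M)) (M : ModuleCat.{u} A) :
    Function.Injective (tM T M) := by
  rw [injective_iff_map_eq_zero]
  intro z hz
  let π := (presπ M).hom
  have hπ : Function.Surjective π := presπ_surjective M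
  have hS := hhalf _ (LinearMap.shortExact_shortComplexKer hπ)
  rw [ShortComplex.moduleCat_exact_iff] at hS
  obtain ⟨w, rfl⟩ := LinearMap.lTensor_surjective (T.obj (ModuleCat.of A A)) hπ z
  have h1 : (T.map (ModuleCat.ofHom π)).hom (tM T (pres₀ M) w) = 0 := by
    rw [← tM_naturality]; exact hz
  obtain ⟨r, hr⟩ := hS (tM T (pres₀ M) w) h1
  obtain ⟨r', rfl⟩ := hsurj _ r
  have h2 : tM T (pres₀ M) (LinearMap.lTensor _ (LinearMap.ker π).subtype r') =
      tM T (pres₀ M) w := by
    rw [← hr]
    exact tM_naturality T (ModuleCat.ofHom (LinearMap.ker π).subtype) r'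
  have h3 := (tM_bijective_of_free T (pres₀ M)).1 h2
  rw [← h3, ← LinearMap.comp_apply, ← LinearMap.lTensor_comp]
  have : π ∘ₗ (LinearMap.ker π).subtype = 0 := by
    ext x
    exact x.2
  rw [this]
  simp

lemma preservesFiniteColimits_iff_halfExact_and_surjective :
    PreservesFiniteColimits T ↔
      (∀ S : ShortComplex (ModuleCat.{u} A), S.ShortExact → (S.map T).Exact) ∧
        ∀ M : ModuleCat.{u} A, Function.Surjective (tM T M) := by
  constructor
  · intro h
    refine ⟨fun S hS => ?_, fun M => ((preservesFiniteColimits_iff_bijective T).mp h M).2⟩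
    exact hS.exact.map_of_epi_of_preservesCokernel T hS.epi_g inferInstance
  · rintro ⟨hhalf, hsurj⟩
    rw [preservesFiniteColimits_iff_bijective]
    exact fun M => ⟨tM_injective_of_halfExact T hhalf hsurj M, hsurj M⟩

end HalfExact

end Groth.Agent.Lib.helper11.EW
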