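import Mathlib
import Groth.Agent.Lib.helper11.EilenbergWatts

/-!
# Eilenberg–Watts on finite modules (helper11)

For an additive `A`-linear endofunctor `T` of `ModuleCat A` over a Noetherian ring which is right
exact on short exact sequences of finite modules, the comparison map `T(A) ⊗ M → T(M)` is bijective
for every finite module `M`.  Also: the double dual functor `M ↦ Hom(Hom(M, K), E)` and its right
exactness for injective `E`.
-/

set_option autoImplicit false

universe u

namespace Groth.Agent.Lib.helper11.EW

open CategoryTheory CategoryTheory.Limits MonoidalCategory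

variable {A : Type u} [CommRing A] (T : ModuleCat.{u} A ⥤ ModuleCat.{u} A) [T.Additive] [T.Linear A]

/-- `tau` is an isomorphism on any finite coproduct of copies of `A` (additivity suffices). -/
lemma isIso_tau_app_of_isColimit_cofan_finite {J : Type u} [Finite J]
    (c : Cofan (fun _ : J => ModuleCat.of A A)) (hc : IsColimit c) :
    IsIso ((tau T).app c.pt) := by
  have : IsIso (Functor.whiskerLeft (Discrete.functor fun _ : J => ModuleCat.of A A) (tau T)) := by
    apply (config := { allowSynthFailures := true }) NatIso.isIso_of_isIso_app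
    intro X
    exact isIso_tau_app_self T
  exact isIso_app_coconePt_of_preservesColimit _ (tau T) c hc

lemma tM_bijective_of_finite_free (L : ModuleCat.{u} A) [Module.Free A L] [Module.Finite A L] :
    Function.Bijective (tM T L) := by
  haveI : Fintype (Module.Free.ChooseBasisIndex A L) := Module.Free.ChooseBasisIndex.fintype A L
  have : IsIso ((tau T).app L) :=
    isIso_tau_app_of_isColimit_cofan_finite T (basisCofan (Module.Free.chooseBasis A L))
      (basisCofanIsColimit _)
  exact ConcreteCategory.bijective_of_isIso ((tau T).app L)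

/-- right exactness on finite modules. -/
def RightExactOnFinite : Prop :=
  ∀ S : ShortComplex (ModuleCat.{u} A), S.ShortExact → Module.Finite A S.X₁ → Module.Finite A S.X₂ →
    Module.Finite A S.X₃ →
    (∀ x₂ : T.obj S.X₂, (T.map S.g).hom x₂ = 0 → ∃ x₁ : T.obj S.X₁, (T.map S.f).hom x₁ = x₂) ∧
      Function.Surjective (T.map S.g).hom

variable [IsNoetherianRing A]

lemma tM_surjective_of_finite (hT : RightExactOnFinite T) (M : ModuleCat.{u} A)
    [Module.Finite A M] : Function.Surjective (tM T M) := by
  obtain ⟨n, π, hπ⟩ := Module.Finite.exists_fin' A M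
  have hS := LinearMap.shortExact_shortComplexKer hπ
  haveI : Module.Finite A (LinearMap.ker π) := inferInstance
  have h := (hT _ hS (inferInstanceAs (Module.Finite A (LinearMap.ker π)))
    (inferInstanceAs (Module.Finite A (Fin n → A))) (inferInstanceAs (Module.Finite A M))).2
  intro z
  obtain ⟨z', rfl⟩ := h z
  obtain ⟨w, rfl⟩ := (tM_bijective_of_finite_free T (ModuleCat.of A (Fin n → A))).2 z'
  exact ⟨_, tM_naturality T (ModuleCat.ofHom π) w⟩

theorem tM_bijective_of_finite (hT : RightExactOnFinite T) (M : ModuleCat.{u} A)
    [Module.Finite A M] : Function.Bijective (tM T M) := by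
  refine ⟨?_, tM_surjective_of_finite T hT M⟩
  rw [injective_iff_map_eq_zero]
  intro z hz
  obtain ⟨n, π, hπ⟩ := Module.Finite.exists_fin' A M
  have hS := LinearMap.shortExact_shortComplexKer hπ
  haveI : Module.Finite A (LinearMap.ker π) := inferInstance
  have h := (hT _ hS (inferInstanceAs (Module.Finite A (LinearMap.ker π)))
    (inferInstanceAs (Module.Finite A (Fin n → A))) (inferInstanceAs (Module.Finite A M))).1
  obtain ⟨w, rfl⟩ := LinearMap.lTensor_surjective (T.obj (ModuleCat.of A A)) hπ z
  have h1 : (T.map (ModuleCat.ofHom π)).hom (tM T (ModuleCat.of A (Fin n → A)) w) = 0 := by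
    rw [← tM_naturality]; exact hz
  obtain ⟨r, hr⟩ := h (tM T (ModuleCat.of A (Fin n → A)) w) h1
  obtain ⟨r', rfl⟩ := tM_surjective_of_finite T hT (ModuleCat.of A (LinearMap.ker π)) r
  have h2 : tM T (ModuleCat.of A (Fin n → A)) (LinearMap.lTensor _ (LinearMap.ker π).subtype r') =
      tM T (ModuleCat.of A (Fin n → A)) w := by
    rw [← hr]
    exact tM_naturality T (ModuleCat.ofHom (LinearMap.ker π).subtype) r'
  have h3 := (tM_bijective_of_finite_free T (ModuleCat.of A (Fin n → A))).1 h2
  rw [← h3, ← LinearMap.comp_apply, ← LinearMap.lTensor_comp]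
  have : π ∘ₗ (LinearMap.ker π).subtype = 0 := by
    ext x
    exact x.2
  rw [this]
  simp

end Groth.Agent.Lib.helper11.EW
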