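import Mathlib
import Groth.Agent.Lib.helper11.EWFin

/-!
# The functor `M ↦ Hom(Hom(M, K), E)` (helper11)
-/

set_option autoImplicit false

universe u

namespace Groth.Agent.Lib.helper11.DDual

open CategoryTheory CategoryTheory.Limits Groth.Agent.Lib.helper11.EW

variable {A : Type u} [CommRing A] (K E : Type u) [AddCommGroup K] [Module A K]
  [AddCommGroup E] [Module A E]

section Plain

variable {X₁ X₂ X₃ : Type u} [AddCommGroup X₁] [Module A X₁] [AddCommGroup X₂] [Module A X₂]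
  [AddCommGroup X₃] [Module A X₃]

/-- the map `Hom(Hom(M, K), E) → Hom(Hom(N, K), E)` induced by `g : M → N`. -/
noncomputable def ddMap (g : X₁ →ₗ[A] X₂) :
    ((X₁ →ₗ[A] K) →ₗ[A] E) →ₗ[A] ((X₂ →ₗ[A] K) →ₗ[A] E) :=
  LinearMap.lcomp A E (LinearMap.lcomp A K g)

lemma ddMap_apply (g : X₁ →ₗ[A] X₂) (ψ : (X₁ →ₗ[A] K) →ₗ[A] E) (h : X₂ →ₗ[A] K) :
    ddMap K E g ψ h = ψ (h ∘ₗ g) := rfl

lemma ddMap_id : ddMap K E (LinearMap.id : X₁ →ₗ[A] X₁) = LinearMap.id := by
  ext ψ h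
  rfl

lemma ddMap_comp (f : X₁ →ₗ[A] X₂) (g : X₂ →ₗ[A] X₃) :
    ddMap K E (g ∘ₗ f) = ddMap K E g ∘ₗ ddMap K E f := by
  ext ψ h
  rfl

lemma ddMap_add (f g : X₁ →ₗ[A] X₂) : ddMap K E (f + g) = ddMap K E f + ddMap K E g := by
  ext ψ h
  change ψ (h ∘ₗ (f + g)) = ψ (h ∘ₗ f) + ψ (h ∘ₗ g)
  rw [LinearMap.comp_add, map_add]

lemma ddMap_smul (r : A) (f : X₁ →ₗ[A] X₂) : ddMap K E (r • f) = r • ddMap K E f := by
  ext ψ h
  change ψ (h ∘ₗ (r • f)) = r • ψ (h ∘ₗ f)
  rw [LinearMap.comp_smul, map_smul]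

variable [Module.Injective A E]

theorem ddMap_surjective (g : X₂ →ₗ[A] X₃) (hg : Function.Surjective g) :
    Function.Surjective (ddMap K E g) := by
  intro x₃
  let gs : (X₃ →ₗ[A] K) →ₗ[A] (X₂ →ₗ[A] K) := LinearMap.lcomp A K g
  have hgs : Function.Injective gs := by
    intro h₁ h₂ h
    apply LinearMap.ext
    intro y
    obtain ⟨x, rfl⟩ := hg y
    exact LinearMap.congr_fun h x
  obtain ⟨x₂, hx₂⟩ := Module.Injective.extension_property A E (X₃ →ₗ[A] K) (X₂ →ₗ[A] K)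
    gs hgs x₃
  refine ⟨x₂, ?_⟩
  apply LinearMap.ext
  intro h
  rw [ddMap_apply]
  exact LinearMap.congr_fun hx₂ h

theorem ddMap_exact (f : X₁ →ₗ[A] X₂) (g : X₂ →ₗ[A] X₃) (hex : Function.Exact f g)
    (hg : Function.Surjective g) (x₂ : (X₂ →ₗ[A] K) →ₗ[A] E) (hx₂ : ddMap K E g x₂ = 0) :
    ∃ x₁ : (X₁ →ₗ[A] K) →ₗ[A] E, ddMap K E f x₁ = x₂ := by
  let fs : (X₂ →ₗ[A] K) →ₗ[A] (X₁ →ₗ[A] K) := LinearMap.lcomp A K f
  have hker : LinearMap.ker fs ≤ LinearMap.ker x₂ := by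
    intro h hh
    rw [LinearMap.mem_ker] at hh ⊢
    have hle : LinearMap.ker g ≤ LinearMap.ker h := by
      intro y hy
      obtain ⟨x, rfl⟩ := (hex y).1 hy
      exact LinearMap.congr_fun hh x
    let h' : X₃ →ₗ[A] K := (LinearMap.ker g).liftQ h hle ∘ₗ
      (LinearMap.quotKerEquivOfSurjective g hg).symm.toLinearMap
    have hh' : h' ∘ₗ g = h := by
      ext y
      change (LinearMap.ker g).liftQ h hle
        ((LinearMap.quotKerEquivOfSurjective g hg).symm (g y)) = h y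
      have : (LinearMap.quotKerEquivOfSurjective g hg).symm (g y) =
          (Submodule.Quotient.mk y : X₂ ⧸ LinearMap.ker g) := by
        rw [LinearEquiv.symm_apply_eq]
        rfl
      rw [this]
      rfl
    have := LinearMap.congr_fun hx₂ h'
    rw [ddMap_apply, hh'] at this
    exact this
  let Q := (X₂ →ₗ[A] K) ⧸ LinearMap.ker fs
  let ι : Q →ₗ[A] (X₁ →ₗ[A] K) := (LinearMap.ker fs).liftQ fs le_rfl
  have hι : Function.Injective ι := by
    rw [← LinearMap.ker_eq_bot]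
    exact Submodule.ker_liftQ_eq_bot _ _ _ le_rfl
  let y : Q →ₗ[A] E := (LinearMap.ker fs).liftQ x₂ hker
  obtain ⟨x₁, hx₁⟩ := Module.Injective.extension_property A E Q (X₁ →ₗ[A] K) ι hι y
  refine ⟨x₁, ?_⟩
  apply LinearMap.ext
  intro h
  rw [ddMap_apply]
  exact LinearMap.congr_fun hx₁ (Submodule.Quotient.mk h)

end Plain

/-- `M ↦ Hom(Hom(M, K), E)` as a covariant functor. -/
noncomputable def ddual : ModuleCat.{u} A ⥤ ModuleCat.{u} A where
  obj M := ModuleCat.of A ((M →ₗ[A] K) →ₗ[A] E)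
  map {M N} g := ModuleCat.ofHom (ddMap K E g.hom)
  map_id M := by
    ext : 1
    exact ddMap_id K E
  map_comp f g := by
    ext : 1
    exact ddMap_comp K E f.hom g.hom

instance : (ddual (A := A) K E).Additive where
  map_add {M N f g} := by
    ext : 1
    exact ddMap_add K E f.hom g.hom

instance : (ddual (A := A) K E).Linear A where
  map_smul {M N} f r := by
    ext : 1
    exact ddMap_smul K E r f.hom

variable [Module.Injective A E]

theorem ddual_rightExactOnFinite [IsNoetherianRing A] : RightExactOnFinite (ddual (A := A) K E) := by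
  intro S hS _ _ _
  have hg : Function.Surjective S.g.hom := (ModuleCat.epi_iff_surjective _).1 hS.epi_g
  have hex := (ShortComplex.ShortExact.moduleCat_exact_iff_function_exact S).1 hS.exact
  exact ⟨fun x₂ hx₂ => ddMap_exact K E S.f.hom S.g.hom hex hg x₂ hx₂,
    ddMap_surjective K E S.g.hom hg⟩

/-- `Hom(K, E) ⊗ M ≃ Hom(Hom(M, K), E)` for finite `M` (Noetherian ring, injective `E`). -/
theorem nonempty_tensor_equiv [IsNoetherianRing A] (M : Type u) [AddCommGroup M] [Module A M]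
    [Module.Finite A M] :
    Nonempty (TensorProduct A (K →ₗ[A] E) M ≃ₗ[A] ((M →ₗ[A] K) →ₗ[A] E)) := by
  have hb := tM_bijective_of_finite (ddual (A := A) K E) (ddual_rightExactOnFinite K E)
    (ModuleCat.of A M)
  let e1 := LinearEquiv.ofBijective _ hb
  let e0 : ((A →ₗ[A] K) →ₗ[A] E) ≃ₗ[A] (K →ₗ[A] E) :=
    LinearEquiv.congrLeft E A (LinearMap.ringLmapEquivSelf A A K)
  exact ⟨(TensorProduct.congr e0.symm (LinearEquiv.refl A M)).trans e1⟩

end Groth.Agent.Lib.helper11.DDual
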