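import Mathlib
import Groth.Agent.Lib.helper11.LCTorsion
import Groth.Agent.Lib.helper11.EilenbergWatts
import Groth.Agent.Lib.helper11.DDual

/-!
# Local duality over a Cohen–Macaulay local ring with a canonical module (helper11)

Natural comparison of the two homological `δ`-functors `M ↦ H^{n-i}_m(M)` and
`M ↦ Hom(Ext^i(M, K), E)` on finite modules by dimension shifting.
-/

set_option autoImplicit false

namespace Groth.Agent.Lib.helper11.LocalDuality

open CategoryTheory Limits Opposite localCohomology Abelian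
open Groth.Agent.Lib.helper11.LCKit Groth.Agent.Lib.helper11.ExtBridge

universe u

variable {R : Type u} [CommRing R]

section DeltaNat

variable (J : Ideal R) (i : ℕ) {S S' : ShortComplex (ModuleCat.{u} R)} (hS : S.ShortExact)
  (hS' : S'.ShortExact) (φ : S ⟶ S')

/-- Naturality of the connecting homomorphism of local cohomology. -/
theorem δ_naturality (x : (localCohomology J i).obj S.X₃) :
    (δ J i hS').hom (((localCohomology J i).map φ.τ₃).hom x) =
      ((localCohomology J (i + 1)).map φ.τ₁).hom ((δ J i hS).hom x) := by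
  obtain ⟨k, y, rfl⟩ := exists_rep J i S.X₃ x
  rw [map_ιE, δ_ιE, δ_ιE, map_ιE]
  congr 1
  rw [Ext.comp_assoc_of_second_deg_zero, ← ShortComplex.ShortExact.extClass_naturality hS hS' φ,
    Ext.comp_assoc_of_third_deg_zero]

end DeltaNat

section Dual

variable (E : Type u) [AddCommGroup E] [Module R E]

/-- Dual exactness: a map killing the image of `f` factors through `g` when `f, g` is exact and
`E` is injective. -/
theorem exists_dual_factor [Module.Injective R E] {A B C : Type u} [AddCommGroup A] [Module R A]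
    [AddCommGroup B] [Module R B] [AddCommGroup C] [Module R C] (f : A →ₗ[R] B) (g : B →ₗ[R] C)
    (hex : ∀ b, g b = 0 → ∃ a, f a = b) (ψ : B →ₗ[R] E) (hψ : ∀ a, ψ (f a) = 0) :
    ∃ χ : C →ₗ[R] E, ∀ b, χ (g b) = ψ b := by
  have hker : LinearMap.ker g ≤ LinearMap.ker ψ := by
    intro b hb
    obtain ⟨a, rfl⟩ := hex b (LinearMap.mem_ker.1 hb)
    exact LinearMap.mem_ker.2 (hψ a)
  let ι : (B ⧸ LinearMap.ker g) →ₗ[R] C := (LinearMap.ker g).liftQ g le_rfl
  have hι : Function.Injective ι := by
    rw [← LinearMap.ker_eq_bot]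
    exact Submodule.ker_liftQ_eq_bot _ _ _ le_rfl
  let y : (B ⧸ LinearMap.ker g) →ₗ[R] E := (LinearMap.ker g).liftQ ψ hker
  obtain ⟨χ, hχ⟩ := Module.Injective.extension_property R E _ _ ι hι y
  refine ⟨χ, fun b => ?_⟩
  exact LinearMap.congr_fun hχ (Submodule.Quotient.mk b)

variable (K : ModuleCat.{u} R)

/-- Functoriality of `M ↦ Hom(Ext^i(M, K), E)`. -/
noncomputable def Umap (i : ℕ) {M M' : ModuleCat.{u} R} (f : M ⟶ M') :
    (Ext M K i →ₗ[R] E) →ₗ[R] (Ext M' K i →ₗ[R] E) :=
  LinearMap.lcomp R E (Ext.precompOfLinear (Ext.mk₀ f) R K (zero_add i))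

theorem Umap_apply (i : ℕ) {M M' : ModuleCat.{u} R} (f : M ⟶ M') (ψ : Ext M K i →ₗ[R] E)
    (x : Ext M' K i) : Umap E K i f ψ x = ψ ((Ext.mk₀ f).comp x (zero_add i)) := rfl

/-- The connecting map `Hom(Ext^{i+1}(X₃, K), E) → Hom(Ext^i(X₁, K), E)`. -/
noncomputable def Uδ (i : ℕ) {S : ShortComplex (ModuleCat.{u} R)} (hS : S.ShortExact) :
    (Ext S.X₃ K (i + 1) →ₗ[R] E) →ₗ[R] (Ext S.X₁ K i →ₗ[R] E) :=
  LinearMap.lcomp R E (Ext.precompOfLinear hS.extClass R K (add_comm 1 i))

theorem Uδ_apply (i : ℕ) {S : ShortComplex (ModuleCat.{u} R)} (hS : S.ShortExact)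
    (ψ : Ext S.X₃ K (i + 1) →ₗ[R] E) (x : Ext S.X₁ K i) :
    Uδ E K i hS ψ x = ψ (hS.extClass.comp x (add_comm 1 i)) := rfl

variable {S S' : ShortComplex (ModuleCat.{u} R)} (hS : S.ShortExact) (hS' : S'.ShortExact)

/-- `Uδ` is injective when `Ext^{i+1}(X₂, K) = 0`. -/
theorem Uδ_injective (i : ℕ) (h : Subsingleton (Ext S.X₂ K (i + 1))) :
    Function.Injective (Uδ E K i hS) := by
  rw [injective_iff_map_eq_zero]
  intro ψ hψ
  apply LinearMap.ext
  intro x₃
  obtain ⟨x₁, rfl⟩ := Ext.contravariant_sequence_exact₃ hS K x₃ (Subsingleton.elim _ _)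
    (add_comm 1 i)
  exact LinearMap.congr_fun hψ x₁

/-- `Umap f ∘ Uδ = 0`. -/
theorem Umap_Uδ (i : ℕ) (ψ : Ext S.X₃ K (i + 1) →ₗ[R] E) :
    Umap E K i S.f (Uδ E K i hS ψ) = 0 := by
  apply LinearMap.ext
  intro x
  rw [Umap_apply, Uδ_apply, hS.extClass_comp_assoc, map_zero, LinearMap.zero_apply]

/-- Exactness at `Hom(Ext^i(X₁, K), E)`. -/
theorem Uδ_exact [Module.Injective R E] (i : ℕ) (ψ : Ext S.X₁ K i →ₗ[R] E)
    (hψ : Umap E K i S.f ψ = 0) : ∃ χ, Uδ E K i hS χ = ψ := by
  obtain ⟨χ, hχ⟩ := exists_dual_factor E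
    (Ext.precompOfLinear (Ext.mk₀ S.f) R K (zero_add i))
    (Ext.precompOfLinear hS.extClass R K (add_comm 1 i))
    (fun b hb => Ext.contravariant_sequence_exact₁ hS K b (add_comm 1 i) hb) ψ
    (fun a => LinearMap.congr_fun hψ a)
  exact ⟨χ, LinearMap.ext hχ⟩

/-- Naturality of `Uδ`. -/
theorem Uδ_naturality (i : ℕ) (φ : S ⟶ S') (ψ : Ext S.X₃ K (i + 1) →ₗ[R] E) :
    Umap E K i φ.τ₁ (Uδ E K i hS ψ) = Uδ E K i hS' (Umap E K (i + 1) φ.τ₃ ψ) := by
  apply LinearMap.ext
  intro x
  rw [Umap_apply, Uδ_apply, Uδ_apply, Umap_apply]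
  congr 1
  rw [← Ext.comp_assoc _ _ _ (add_zero 1) (zero_add i) (by omega),
    ShortComplex.ShortExact.extClass_naturality hS hS' φ,
    Ext.comp_assoc _ _ _ (zero_add 1) (add_comm 1 i) (by omega)]

end Dual

section LinAlg

variable {X Y P Q : Type u} [AddCommGroup X] [Module R X] [AddCommGroup Y] [Module R Y]
  [AddCommGroup P] [Module R P] [AddCommGroup Q] [Module R Q]

/-- Two injections whose images correspond under an isomorphism have isomorphic sources. -/
noncomputable def equivOfRange (a : X →ₗ[R] P) (b : Y →ₗ[R] Q) (e : P ≃ₗ[R] Q)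
    (ha : Function.Injective a) (hb : Function.Injective b)
    (h : ∀ p, p ∈ LinearMap.range a ↔ e p ∈ LinearMap.range b) : X ≃ₗ[R] Y :=
  have heq : (LinearMap.range a).map (e : P →ₗ[R] Q) = LinearMap.range b := by
    ext q
    constructor
    · rintro ⟨p, hp, rfl⟩
      exact (h p).1 hp
    · intro hq
      refine ⟨e.symm q, (h _).2 ?_, ?_⟩
      · rw [e.apply_symm_apply]; exact hq
      · exact e.apply_symm_apply q
  (LinearEquiv.ofInjective a ha).trans
    ((e.submoduleMap (LinearMap.range a)).trans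
      ((LinearEquiv.ofEq _ _ heq).trans (LinearEquiv.ofInjective b hb).symm))

theorem equivOfRange_spec (a : X →ₗ[R] P) (b : Y →ₗ[R] Q) (e : P ≃ₗ[R] Q)
    (ha : Function.Injective a) (hb : Function.Injective b)
    (h : ∀ p, p ∈ LinearMap.range a ↔ e p ∈ LinearMap.range b) (x : X) :
    b (equivOfRange a b e ha hb h x) = e (a x) := by
  unfold equivOfRange
  simp only [LinearEquiv.trans_apply]
  set z := (LinearEquiv.ofEq _ _ _) ((e.submoduleMap (LinearMap.range a))
    ((LinearEquiv.ofInjective a ha) x)) with hz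
  have h1 : b ((LinearEquiv.ofInjective b hb).symm z) = z := by
    have := (LinearEquiv.ofInjective b hb).apply_symm_apply z
    exact congrArg Subtype.val this
  rw [h1, hz]
  rfl

end LinAlg

section Pres

variable [IsNoetherianRing R] (M : ModuleCat.{u} R) [Module.Finite R M]

/-- Rank of the chosen finite free cover. -/
noncomputable def presRank : ℕ := (Module.Finite.exists_fin' R M).choose

/-- The chosen finite free cover. -/
noncomputable def presπ : (Fin (presRank M) → R) →ₗ[R] M :=
  (Module.Finite.exists_fin' R M).choose_spec.choose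

theorem presπ_surjective : Function.Surjective (presπ M) :=
  (Module.Finite.exists_fin' R M).choose_spec.choose_spec

/-- The chosen presentation `0 → N → F → M → 0`. -/
noncomputable def presSC : ShortComplex (ModuleCat.{u} R) :=
  ShortComplex.mk (ModuleCat.ofHom (LinearMap.ker (presπ M)).subtype)
    (ModuleCat.ofHom (presπ M) : ModuleCat.of R (Fin (presRank M) → R) ⟶ M)
    (by ext x; exact LinearMap.mem_ker.1 x.2)

theorem presSC_shortExact : (presSC M).ShortExact :=
  LinearMap.shortExact_shortComplexKer (presπ_surjective M)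

theorem presSC_X₃ : (presSC M).X₃ = M := rfl

instance : Module.Finite R (presSC M).X₁ :=
  inferInstanceAs (Module.Finite R (LinearMap.ker (presπ M)))

instance : Module.Finite R (presSC M).X₂ :=
  inferInstanceAs (Module.Finite R (Fin (presRank M) → R))

instance : Module.Finite R (presSC M).X₃ :=
  inferInstanceAs (Module.Finite R M)

variable {M} {M' : ModuleCat.{u} R} [Module.Finite R M']

/-- Morphisms lift to the chosen presentations. -/
theorem exists_presHom (f : M ⟶ M') : ∃ φ : presSC M ⟶ presSC M', φ.τ₃ = f := by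
  obtain ⟨g, hg⟩ := Module.projective_lifting_property (presπ M') (f.hom ∘ₗ presπ M)
    (presπ_surjective M')
  have hker : ∀ x ∈ LinearMap.ker (presπ M), g x ∈ LinearMap.ker (presπ M') := by
    intro x hx
    rw [LinearMap.mem_ker] at hx ⊢
    have := LinearMap.congr_fun hg x
    rw [LinearMap.comp_apply] at this
    rw [this, LinearMap.comp_apply, hx, map_zero]
  refine ⟨{ τ₁ := ModuleCat.ofHom (g.restrict hker)
            τ₂ := ModuleCat.ofHom g
            τ₃ := f
            comm₁₂ := ?_
            comm₂₃ := ?_ }, rfl⟩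
  · ext x
    rfl
  · ext x
    exact LinearMap.congr_fun hg x

end Pres

section NatIso

variable (J : Ideal R) (E : Type u) [AddCommGroup E] [Module R E] (K : ModuleCat.{u} R)

/-- A natural isomorphism `H^j_J ≅ Hom(Ext^i(-, K), E)` on finite modules. -/
structure NatIso (j i : ℕ) where
  /-- the isomorphisms -/
  θ : ∀ (M : ModuleCat.{u} R) [Module.Finite R M],
    (localCohomology J j).obj M ≃ₗ[R] (Ext M K i →ₗ[R] E)
  nat : ∀ (M M' : ModuleCat.{u} R) [Module.Finite R M] [Module.Finite R M'] (f : M ⟶ M')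
    (x : (localCohomology J j).obj M),
    θ M' (((localCohomology J j).map f).hom x) = Umap E K i f (θ M x)

variable {J E K}
variable [IsNoetherianRing R] [Module.Injective R E]

section Step

variable {j i : ℕ} (N : NatIso J E K (j + 1) i)
  (hvan : ∀ k : ℕ, Subsingleton ((localCohomology J j).obj (ModuleCat.of R (Fin k → R))))
  (M : ModuleCat.{u} R) [Module.Finite R M]

include hvan in
theorem δ_pres_injective :
    Function.Injective (δ J j (presSC_shortExact M)).hom := by
  rw [injective_iff_map_eq_zero]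
  intro x hx
  haveI : Subsingleton ((localCohomology J j).obj (presSC M).X₂) := hvan _
  obtain ⟨y, rfl⟩ := exact₃ J j (presSC_shortExact M) x hx
  rw [Subsingleton.elim y 0, map_zero]

theorem Uδ_pres_injective :
    Function.Injective (Uδ E K i (presSC_shortExact M)) := by
  apply Uδ_injective
  haveI : Module.Projective R (presSC M).X₂ :=
    inferInstanceAs (Module.Projective R (Fin (presRank M) → R))
  haveI : Projective (presSC M).X₂ := (presSC M).X₂.projective_of_categoryTheory_projective
  exact subsingleton_of_forall_eq 0 (fun e => Ext.eq_zero_of_projective e)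

theorem range_corr (p : (localCohomology J (j + 1)).obj (presSC M).X₁) :
    p ∈ LinearMap.range (δ J j (presSC_shortExact M)).hom ↔
      N.θ (presSC M).X₁ p ∈ LinearMap.range (Uδ E K i (presSC_shortExact M)) := by
  have hnat := N.nat (presSC M).X₁ (presSC M).X₂ (presSC M).f p
  constructor
  · rintro ⟨x, rfl⟩
    obtain ⟨χ, hχ⟩ := Uδ_exact E K (presSC_shortExact M) i (N.θ (presSC M).X₁
      ((δ J j (presSC_shortExact M)).hom x)) (by
        rw [← hnat, map_f_δ, map_zero])
    exact ⟨χ, hχ⟩
  · rintro ⟨χ, hχ⟩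
    have h0 : ((localCohomology J (j + 1)).map (presSC M).f).hom p = 0 := by
      apply (N.θ (presSC M).X₂).injective
      rw [hnat, ← hχ, Umap_Uδ, map_zero]
    obtain ⟨x, hx⟩ := exact₁ J j (presSC_shortExact M) p h0
    exact ⟨x, hx⟩

/-- The shifted isomorphism at `M`. -/
noncomputable def stepθ : (localCohomology J j).obj M ≃ₗ[R] (Ext M K (i + 1) →ₗ[R] E) :=
  equivOfRange (δ J j (presSC_shortExact M)).hom (Uδ E K i (presSC_shortExact M))
    (N.θ (presSC M).X₁) (δ_pres_injective hvan M) (Uδ_pres_injective M) (range_corr N M)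

theorem stepθ_spec (x : (localCohomology J j).obj M) :
    Uδ E K i (presSC_shortExact M) (stepθ N hvan M x) =
      N.θ (presSC M).X₁ ((δ J j (presSC_shortExact M)).hom x) :=
  equivOfRange_spec _ _ _ _ _ _ x

/-- Dimension shifting for natural isomorphisms. -/
noncomputable def NatIso.step : NatIso J E K j (i + 1) where
  θ M _ := stepθ N hvan M
  nat M M' _ _ f x := by
    obtain ⟨φ, hφ⟩ := exists_presHom f
    subst hφ
    apply Uδ_pres_injective (E := E) (K := K) (i := i) M'
    have e1 := stepθ_spec N hvan M' (((localCohomology J j).map φ.τ₃).hom x)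
    have e2 := δ_naturality J j (presSC_shortExact M) (presSC_shortExact M') φ x
    have e3 := N.nat (presSC M).X₁ (presSC M').X₁ φ.τ₁ ((δ J j (presSC_shortExact M)).hom x)
    have e4 := stepθ_spec N hvan M x
    have e5 := Uδ_naturality E K (presSC_shortExact M) (presSC_shortExact M') i φ
      (stepθ N hvan M x)
    exact e1.trans ((congrArg (N.θ (presSC M').X₁) e2).trans
      (e3.trans ((congrArg (Umap E K i φ.τ₁) e4.symm).trans e5)))

end Step

end NatIso

end Groth.Agent.Lib.helper11.LocalDuality
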