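import Mathlib
import Groth.Agent.Lib.helper11.LocalDuality
import Groth.Agent.Lib.helper11.EWFin
import Groth.Agent.Lib.Helper2.LCEW

/-!
# Local duality: the base case and the iteration (helper11)
-/

set_option autoImplicit false

namespace Groth.Agent.Lib.helper11.LocalDuality

open CategoryTheory Limits Opposite localCohomology Abelian
open Groth.Agent.Lib.helper11.LCKit Groth.Agent.Lib.helper11.ExtBridge
open Groth.Agent.Lib.helper11.EW Groth.Agent.Lib.helper11.DDual Groth.Agent.Lib.Helper2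

universe u

variable {R : Type u} [CommRing R] [IsNoetherianRing R]

section Base

variable (J : Ideal R) (n : ℕ) (hcd : LCInj3.Cd J n) (E : Type u) [AddCommGroup E] [Module R E]
  [Module.Injective R E] (K : Type u) [AddCommGroup K] [Module R K]
  (eK : (K →ₗ[R] E) ≃ₗ[R] (localCohomology J n).obj (ModuleCat.of R R))

/-- `Ext^0(M, K) ≃ Hom(M, K)`. -/
noncomputable def extZero (M : ModuleCat.{u} R) :
    Ext M (ModuleCat.of R K) 0 ≃ₗ[R] (M →ₗ[R] K) :=
  (Ext.linearEquiv₀ (R := R)).trans (ModuleCat.homLinearEquiv (S := R))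

theorem extZero_mk₀ (M : ModuleCat.{u} R) (g : M ⟶ ModuleCat.of R K) :
    extZero K M (Ext.mk₀ g) = g.hom := by
  unfold extZero
  rw [LinearEquiv.trans_apply]
  have : (Ext.linearEquiv₀ (R := R)) (Ext.mk₀ g) = g := by
    apply (Ext.linearEquiv₀ (R := R)).symm.injective
    rw [LinearEquiv.symm_apply_apply]
    rfl
  rw [this]
  rfl

theorem extZero_comp {M M' : ModuleCat.{u} R} (f : M ⟶ M')
    (x : Ext M' (ModuleCat.of R K) 0) :
    extZero K M ((Ext.mk₀ f).comp x (zero_add 0)) = extZero K M' x ∘ₗ f.hom := by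
  obtain ⟨g, rfl⟩ : ∃ g, Ext.mk₀ g = x := ⟨_, Ext.mk₀_linearEquiv₀_apply (R := R) x⟩
  rw [Ext.mk₀_comp_mk₀, extZero_mk₀, extZero_mk₀]
  rfl

variable (M : ModuleCat.{u} R) [Module.Finite R M]

/-- `H^n_J(R) ⊗ M ≃ H^n_J(M)`. -/
noncomputable def e1 : TensorProduct R ((localCohomology J n).obj (ModuleCat.of R R)) M ≃ₗ[R]
    (localCohomology J n).obj M :=
  LinearEquiv.ofBijective (tM (localCohomology J n) M) (LCEW.lc_tM_bijective J n hcd M)

/-- `H^n_J(R) ≃ Hom(Hom(R, K), E)`. -/
noncomputable def e2 : (localCohomology J n).obj (ModuleCat.of R R) ≃ₗ[R]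
    (ddual (A := R) K E).obj (ModuleCat.of R R) :=
  eK.symm.trans (LinearEquiv.congrLeft E R (LinearMap.ringLmapEquivSelf R R K)).symm

/-- `Hom(Hom(R, K), E) ⊗ M ≃ Hom(Hom(M, K), E)`. -/
noncomputable def e3 : TensorProduct R ((ddual (A := R) K E).obj (ModuleCat.of R R)) M ≃ₗ[R]
    (ddual (A := R) K E).obj M :=
  LinearEquiv.ofBijective (tM (ddual (A := R) K E) M)
    (tM_bijective_of_finite (ddual (A := R) K E) (ddual_rightExactOnFinite K E) M)

/-- `Hom(Hom(M, K), E) ≃ Hom(Ext^0(M, K), E)`. -/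
noncomputable def e4 : ((M →ₗ[R] K) →ₗ[R] E) ≃ₗ[R] (Ext M (ModuleCat.of R K) 0 →ₗ[R] E) :=
  LinearEquiv.congrLeft E R (extZero K M).symm

theorem e4_apply (ψ : (M →ₗ[R] K) →ₗ[R] E) (x : Ext M (ModuleCat.of R K) 0) :
    e4 E K M ψ x = ψ (extZero K M x) := rfl

/-- The base isomorphism. -/
noncomputable def baseθ : (localCohomology J n).obj M ≃ₗ[R]
    (Ext M (ModuleCat.of R K) 0 →ₗ[R] E) :=
  (e1 J n hcd M).symm.trans ((TensorProduct.congr (e2 J n E K eK) (LinearEquiv.refl R M)).trans
    ((e3 E K M).trans (e4 E K M)))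

variable {M} {M' : ModuleCat.{u} R} [Module.Finite R M']

theorem e4_nat (f : M ⟶ M') (ψ : (M →ₗ[R] K) →ₗ[R] E) :
    e4 E K M' (ddMap K E f.hom ψ) = Umap E (ModuleCat.of R K) 0 f (e4 E K M ψ) := by
  apply LinearMap.ext
  intro y
  rw [e4_apply, ddMap_apply, Umap_apply, e4_apply, extZero_comp]

theorem congr_lTensor (f : M ⟶ M')
    (w : TensorProduct R ((localCohomology J n).obj (ModuleCat.of R R)) M) :
    (TensorProduct.congr (e2 J n E K eK) (LinearEquiv.refl R M'))
      (LinearMap.lTensor _ f.hom w) =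
      LinearMap.lTensor _ f.hom (TensorProduct.congr (e2 J n E K eK) (LinearEquiv.refl R M) w) := by
  induction w using TensorProduct.induction_on with
  | zero => simp
  | tmul a m => rfl
  | add a b ha hb => rw [map_add, map_add, ha, hb, map_add, map_add]

theorem baseθ_nat (f : M ⟶ M') (x : (localCohomology J n).obj M) :
    baseθ J n hcd E K eK M' (((localCohomology J n).map f).hom x) =
      Umap E (ModuleCat.of R K) 0 f (baseθ J n hcd E K eK M x) := by
  obtain ⟨w, rfl⟩ := (e1 J n hcd M).surjective x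
  have h1 : ((localCohomology J n).map f).hom (e1 J n hcd M w) =
      e1 J n hcd M' (LinearMap.lTensor _ f.hom w) :=
    (tM_naturality (localCohomology J n) f w).symm
  rw [h1]
  unfold baseθ
  simp only [LinearEquiv.trans_apply, LinearEquiv.symm_apply_apply]
  rw [congr_lTensor]
  have h3 : e3 E K M' (LinearMap.lTensor _ f.hom
      (TensorProduct.congr (e2 J n E K eK) (LinearEquiv.refl R M) w)) =
      ddMap K E f.hom (e3 E K M (TensorProduct.congr (e2 J n E K eK) (LinearEquiv.refl R M) w)) :=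
    tM_naturality (ddual (A := R) K E) f _
  rw [h3]
  exact e4_nat E K f _

/-- The base natural isomorphism `H^n_J ≅ Hom(Ext^0(-, K), E)`. -/
noncomputable def NatIso.base : NatIso J E (ModuleCat.of R K) n 0 where
  θ M _ := baseθ J n hcd E K eK M
  nat _ _ _ _ f x := baseθ_nat J n hcd E K eK f x

include hcd eK in
/-- Iteration: if `H^j_J` vanishes on finite free modules for `j < n` then
`H^{n-i}_J ≅ Hom(Ext^i(-, K), E)` naturally on finite modules, for all `i ≤ n`. -/
theorem nonempty_natIso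
    (hvan : ∀ j, j < n → ∀ k : ℕ,
      Subsingleton ((localCohomology J j).obj (ModuleCat.of R (Fin k → R)))) :
    ∀ i, i ≤ n → Nonempty (NatIso J E (ModuleCat.of R K) (n - i) i) := by
  intro i
  induction i with
  | zero => exact fun _ => ⟨NatIso.base J n hcd E K eK⟩
  | succ i ih =>
    intro hi
    obtain ⟨N⟩ := ih (by omega)
    obtain ⟨j, hj⟩ : ∃ j, n - i = j + 1 := ⟨n - i - 1, by omega⟩
    have hj' : n - (i + 1) = j := by omega
    rw [hj] at N
    rw [hj']
    exact ⟨NatIso.step N (hvan j (by omega))⟩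

end Base

section Free

/-- An additive functor vanishing on `R` vanishes on `R^k`. -/
theorem subsingleton_pi_of_subsingleton (T : ModuleCat.{u} R ⥤ ModuleCat.{u} R) [T.Additive]
    (h : Subsingleton (T.obj (ModuleCat.of R R))) (k : ℕ) :
    Subsingleton (T.obj (ModuleCat.of R (Fin k → R))) := by
  have hid : 𝟙 (ModuleCat.of R (Fin k → R)) =
      ∑ i : Fin k, ModuleCat.ofHom (LinearMap.proj (R := R) (φ := fun _ : Fin k => R) i) ≫
        ModuleCat.ofHom (LinearMap.single R (fun _ : Fin k => R) i) := by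
    apply ModuleCat.hom_ext
    apply LinearMap.ext
    intro x
    rw [ModuleCat.hom_sum, LinearMap.sum_apply]
    exact (LinearMap.sum_single_apply (φ := fun _ : Fin k => R) x).symm
  refine subsingleton_of_forall_eq 0 (fun x => ?_)
  have hx : x = (T.map (𝟙 (ModuleCat.of R (Fin k → R)))).hom x := by
    rw [T.map_id]; rfl
  rw [hx, hid, Functor.map_sum, ModuleCat.hom_sum, LinearMap.sum_apply]
  refine Finset.sum_eq_zero (fun i _ => ?_)
  rw [T.map_comp]
  change (T.map _).hom ((T.map _).hom x) = 0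
  rw [Subsingleton.elim ((T.map (ModuleCat.ofHom
    (LinearMap.proj (R := R) (φ := fun _ : Fin k => R) i))).hom x) 0, map_zero]

end Free

end Groth.Agent.Lib.helper11.LocalDuality
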