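import Mathlib

/-!
# Ext classes out of a finite module come from finitely generated submodules (helper11)

Over a noetherian ring `R`, for `N` finite, every `α ∈ Ext^i(N, M)` is the image of a class in
`Ext^i(N, M')` for a finitely generated submodule `M' ⊆ M`.
-/

set_option autoImplicit false

namespace Groth.Agent.Lib.helper11.ExtFG

open CategoryTheory Abelian

universe u

variable {R : Type u} [CommRing R] [IsNoetherianRing R]

theorem exists_fg_factor (i : ℕ) :
    ∀ (N : Type u) [AddCommGroup N] [Module R N] [Module.Finite R N] (M : ModuleCat.{u} R)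
      (α : Ext (ModuleCat.of R N) M i),
      ∃ (M' : Submodule R M), M'.FG ∧ ∃ α' : Ext (ModuleCat.of R N) (ModuleCat.of R M') i,
        α'.comp (Ext.mk₀ (ModuleCat.ofHom M'.subtype)) (add_zero i) = α := by
  induction i with
  | zero =>
    intro N _ _ _ M α
    obtain ⟨g, rfl⟩ := (Ext.homEquiv₀).symm.surjective α
    refine ⟨LinearMap.range g.hom, ?_, Ext.mk₀ (ModuleCat.ofHom g.hom.rangeRestrict), ?_⟩
    · rw [LinearMap.range_eq_map]
      exact (Module.Finite.fg_top).map _
    · rw [Ext.mk₀_comp_mk₀]
      rfl
  | succ i ih =>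
    intro N _ _ _ M α
    obtain ⟨n, f, hf⟩ := Module.Finite.exists_fin' R N
    let S := f.shortComplexKer
    have hS : S.ShortExact := LinearMap.shortExact_shortComplexKer hf
    haveI : Projective S.X₂ := by
      show Projective (ModuleCat.of R (Fin n → R))
      exact ModuleCat.projective_of_free (Pi.basisFun R (Fin n))
    have h0 : (Ext.mk₀ S.g).comp α (zero_add (i + 1)) = 0 := Ext.eq_zero_of_projective _
    obtain ⟨β, hβ⟩ := Ext.contravariant_sequence_exact₃ hS M α h0 (n₀ := i) (by omega)
    haveI : Module.Finite R (LinearMap.ker f) := inferInstance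
    obtain ⟨M', hM', β', hβ'⟩ := ih (LinearMap.ker f) M β
    refine ⟨M', hM', hS.extClass.comp β' (by omega), ?_⟩
    rw [Ext.comp_assoc_of_third_deg_zero, hβ']
    exact hβ

end Groth.Agent.Lib.helper11.ExtFG
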