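import Mathlib
import Groth.Agent.Lib.helper11.LCVanish
import Groth.Agent.Lib.helper11.ExtFG

/-!
# Grothendieck vanishing for arbitrary modules (helper11)
-/

set_option autoImplicit false

namespace Groth.Agent.Lib.helper11.LCKit

open CategoryTheory Limits Opposite localCohomology Abelian

universe u

variable {R : Type u} [CommRing R] [IsNoetherianRing R] (J : Ideal R)

/-- every element of `H^i_J(M)` comes from a finitely generated submodule. -/
theorem exists_fg_rep (i : ℕ) (M : ModuleCat.{u} R) (z : (localCohomology J i).obj M) :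
    ∃ (M' : Submodule R M), M'.FG ∧ ∃ z' : (localCohomology J i).obj (ModuleCat.of R M'),
      ((localCohomology J i).map (ModuleCat.ofHom M'.subtype)).hom z' = z := by
  obtain ⟨k, y, rfl⟩ := exists_rep J i M z
  obtain ⟨M', hM', y', hy'⟩ := Groth.Agent.Lib.helper11.ExtFG.exists_fg_factor i (R ⧸ J ^ k) M y
  refine ⟨M', hM', ιE J i (ModuleCat.of R M') k y', ?_⟩
  rw [map_ιE, hy']

theorem subsingleton_of_supportDim_lt' (i : ℕ) (M : Type u) [AddCommGroup M] [Module R M]
    (h : Module.supportDim R M < (i : WithBot ℕ∞)) :
    Subsingleton ((localCohomology J i).obj (ModuleCat.of R M)) := by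
  refine subsingleton_of_forall_eq 0 (fun z => ?_)
  obtain ⟨M', hM', z', rfl⟩ := exists_fg_rep J i (ModuleCat.of R M) z
  haveI : Module.Finite R M' := Module.Finite.iff_fg.2 hM'
  have hdim : Module.supportDim R M' < (i : WithBot ℕ∞) :=
    lt_of_le_of_lt (Module.supportDim_le_of_injective M'.subtype M'.injective_subtype) h
  haveI := subsingleton_of_supportDim_lt J i M' hdim
  rw [Subsingleton.elim z' 0]
  exact map_zero _

end Groth.Agent.Lib.helper11.LCKit
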