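import Mathlib
import Groth.Agent.Lib.helper11.LocalDualityBase
import Groth.Agent.Lib.helper11.LCKit2
import Groth.Agent.S0325

/-!
# Local duality over a Cohen–Macaulay local ring (helper11)
-/

set_option autoImplicit false

namespace Groth.Agent.Lib.helper11.LocalDuality

open CategoryTheory Limits Opposite localCohomology Abelian IsLocalRing
open Groth.Agent.Lib.helper11.LCKit Groth.Agent.Lib.helper11.ExtBridge
open Groth.Agent.Lib.Helper2

universe u

variable (R : Type u) [CommRing R] [IsNoetherianRing R] [IsLocalRing R]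

theorem cd_maximalIdeal (n : ℕ) (hn : ringKrullDim R = n) : LCInj3.Cd (maximalIdeal R) n := by
  intro N i hi
  exact Groth.Agent.S0325.result R (maximalIdeal R) n hn.le N i hi

theorem depth_eq_of_CM [hCM : LocCoh.IsCohenMacaulayLocalRing R] (n : ℕ)
    (hn : ringKrullDim R = n) : LocCoh.depth R R = n := by
  have h := hCM.supportDim_eq_depth
  rw [Module.supportDim_self_eq_ringKrullDim, hn] at h
  have h' : ((n : ℕ∞) : WithBot ℕ∞) = ((LocCoh.depth R R : ℕ∞) : WithBot ℕ∞) := by
    exact_mod_cast h
  exact (WithBot.coe_injective h').symm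

variable {R}

theorem subsingleton_free_of_lt_depth (n : ℕ) (hdepth : LocCoh.depth R R = n) (j : ℕ)
    (hj : j < n) (k : ℕ) :
    Subsingleton ((localCohomology (maximalIdeal R) j).obj (ModuleCat.of R (Fin k → R))) := by
  apply subsingleton_pi_of_subsingleton
  have hJX : maximalIdeal R • (⊤ : Submodule R R) ≠ ⊤ := by
    rw [smul_eq_mul, Ideal.mul_top]
    exact (IsLocalRing.maximalIdeal.isMaximal R).ne_top
  refine subsingleton_of_lt_idealDepth (maximalIdeal R) j R hJX ?_
  change (j : ℕ∞) < LocCoh.depth R R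
  rw [hdepth]
  exact_mod_cast hj

/-- Natural local duality over a CM local ring with canonical module `K`. -/
theorem nonempty_natIso_of_depth (n : ℕ) (hn : ringKrullDim R = n)
    (hdepth : LocCoh.depth R R = n) (E : Type u) [AddCommGroup E] [Module R E]
    [Module.Injective R E] (K : Type u) [AddCommGroup K] [Module R K]
    (eK : (K →ₗ[R] E) ≃ₗ[R] LocCoh.H (maximalIdeal R) n R) (i : ℕ) (hi : i ≤ n) :
    Nonempty (NatIso (maximalIdeal R) E (ModuleCat.of R K) (n - i) i) :=
  nonempty_natIso (maximalIdeal R) n (cd_maximalIdeal R n hn) E K eK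
    (fun j hj k => subsingleton_free_of_lt_depth n hdepth j hj k) i hi

/-- Local duality (existence of the isomorphism, in terms of `Abelian.Ext`). -/
theorem nonempty_equiv_of_depth (n : ℕ) (hn : ringKrullDim R = n)
    (hdepth : LocCoh.depth R R = n) (E : Type u) [AddCommGroup E] [Module R E]
    [Module.Injective R E] (K : Type u) [AddCommGroup K] [Module R K]
    (eK : (K →ₗ[R] E) ≃ₗ[R] LocCoh.H (maximalIdeal R) n R) (M : Type u) [AddCommGroup M]
    [Module R M] [Module.Finite R M] (i : ℕ) (hi : i ≤ n) :
    Nonempty (LocCoh.H (maximalIdeal R) (n - i) M ≃ₗ[R]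
      ((((_root_.Ext R (ModuleCat.{u} R) i).obj (op (ModuleCat.of R M))).obj (ModuleCat.of R K))
        →ₗ[R] E)) := by
  obtain ⟨N⟩ := nonempty_natIso_of_depth n hn hdepth E K eK i hi
  haveI : Module.Finite R (ModuleCat.of R M) := inferInstanceAs (Module.Finite R M)
  exact ⟨(N.θ (ModuleCat.of R M)).trans (LinearEquiv.congrLeft E R
    (extBridge (ModuleCat.of R M) (ModuleCat.of R K) i).symm)⟩

end Groth.Agent.Lib.helper11.LocalDuality
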