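import Mathlib
import Groth.Agent.Lib.helper11.LocalDualityCM
import Groth.Agent.Lib.helper11.InjDimKappa
import Groth.Agent.Lib.Helper26.Matlis
import Groth.Agent.S0321
import Groth.Agent.S7698
import Groth.Agent.Lib.helper11.LCVanish

/-!
# Consequences of local duality: injective dimension and depth of the canonical module (helper11)
-/

set_option autoImplicit false

namespace Groth.Agent.Lib.helper11.LocalDuality

open CategoryTheory Limits Opposite localCohomology Abelian IsLocalRing
open Groth.Agent.Lib.helper11.LCKit Groth.Agent.Lib.helper11.ExtBridge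
open Groth.Agent.Lib.Helper2

universe u

section General

variable {R : Type u} [CommRing R] [IsNoetherianRing R] {J : Ideal R} {E : Type u} [AddCommGroup E]
  [Module R E] [Module.Injective R E] {K : ModuleCat.{u} R}

/-- From `H^0_J ≅ Hom(Ext^i(-, K), E)` we get `Hom(Ext^{i+1}(M, K), E) = 0`. -/
theorem dual_ext_succ_subsingleton {i : ℕ} (N : NatIso J E K 0 i) (M : ModuleCat.{u} R)
    [Module.Finite R M] : Subsingleton (Ext M K (i + 1) →ₗ[R] E) := by
  refine subsingleton_of_forall_eq 0 (fun χ => ?_)
  have hinj := Uδ_pres_injective (E := E) (K := K) (i := i) M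
  have key : Uδ E K i (presSC_shortExact M) χ = 0 := by
    obtain ⟨z, hz⟩ := (N.θ (presSC M).X₁).surjective (Uδ E K i (presSC_shortExact M) χ)
    have h1 := N.nat (presSC M).X₁ (presSC M).X₂ (presSC M).f z
    rw [hz, Umap_Uδ] at h1
    have h2 : ((localCohomology J 0).map (presSC M).f).hom z = 0 := by
      apply (N.θ (presSC M).X₂).injective
      rw [h1, map_zero]
    have h3 : z = 0 := by
      apply map_f_injective_zero J (presSC_shortExact M)
      rw [h2, map_zero]
    rw [← hz, h3, map_zero]
  exact hinj (key.trans (map_zero (Uδ E K i (presSC_shortExact M))).symm)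

end General

section Local

variable {R : Type u} [CommRing R] [IsNoetherianRing R] [IsLocalRing R] {E : Type u}
  [AddCommGroup E] [Module R E] {f : ResidueField R →ₗ[R] E} (hf : InjHull.IsInjectiveHull f)

include hf in
/-- A module with zero Matlis dual is zero. -/
theorem subsingleton_of_dual_subsingleton (X : Type u) [AddCommGroup X] [Module R X]
    (h : Subsingleton (X →ₗ[R] E)) : Subsingleton X := by
  refine subsingleton_of_forall_eq 0 (fun x => ?_)
  by_contra hx
  obtain ⟨φ, hφ⟩ := Groth.Agent.Lib.Helper26.Matlis.exists_linearMap_apply_ne_zero hf hx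
  exact hφ (by rw [Subsingleton.elim φ 0, LinearMap.zero_apply])

/-- The residue field is `m`-torsion. -/
theorem isTors_residue : IsTors (maximalIdeal R) (ModuleCat.of R (R ⧸ maximalIdeal R)) := by
  intro x
  refine ⟨1, fun a ha => ?_⟩
  rw [pow_one] at ha
  obtain ⟨r, rfl⟩ := Ideal.Quotient.mk_surjective x
  change a • (Ideal.Quotient.mk (maximalIdeal R) r) = 0
  rw [Algebra.smul_def, Ideal.Quotient.algebraMap_eq, ← map_mul,
    Ideal.Quotient.eq_zero_iff_mem]
  exact Ideal.mul_mem_right _ _ ha

include hf in
/-- Properties of the canonical module of a CM local ring. -/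
theorem canonMod_properties (n : ℕ) (hn : ringKrullDim R = n) (hdepth : LocCoh.depth R R = n)
    (K : Type u) [AddCommGroup K] [Module R K] [Module.Finite R K]
    (eK : (K →ₗ[R] E) ≃ₗ[R] LocCoh.H (maximalIdeal R) n R) :
    HasInjectiveDimensionLT (ModuleCat.of R K) (n + 1) ∧
      ¬ HasInjectiveDimensionLT (ModuleCat.of R K) n ∧
      LocCoh.IsCohenMacaulayModule R K ∧ Module.supportDim R K = n := by
  haveI : Module.Injective R E := hf.isInjective
  have hN : ∀ i, i ≤ n → Nonempty (NatIso (maximalIdeal R) E (ModuleCat.of R K) (n - i) i) :=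
    fun i hi => nonempty_natIso_of_depth n hn hdepth E K eK i hi
  haveI hfink : Module.Finite R (ModuleCat.of R (R ⧸ maximalIdeal R)) :=
    inferInstanceAs (Module.Finite R (R ⧸ maximalIdeal R))
  -- Ext vanishing below `n`
  have hlow : ∀ i, i < n → Subsingleton
      (Ext (ModuleCat.of R (R ⧸ maximalIdeal R)) (ModuleCat.of R K) i) := by
    intro i hi
    obtain ⟨N⟩ := hN i hi.le
    apply subsingleton_of_dual_subsingleton hf
    haveI := subsingleton_of_isTors (maximalIdeal R) (n - i) (by omega)
      (ModuleCat.of R (R ⧸ maximalIdeal R)) isTors_residue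
    exact (N.θ (ModuleCat.of R (R ⧸ maximalIdeal R))).symm.toEquiv.subsingleton
  -- `Ext^n(k, K) ≠ 0`
  have htop : Nontrivial (Ext (ModuleCat.of R (R ⧸ maximalIdeal R)) (ModuleCat.of R K) n) := by
    obtain ⟨N⟩ := hN n le_rfl
    rw [Nat.sub_self] at N
    haveI : Nontrivial (R ⧸ maximalIdeal R) :=
      Ideal.Quotient.nontrivial_iff.2 (IsLocalRing.maximalIdeal.isMaximal R).ne_top
    haveI : Nontrivial ((localCohomology (maximalIdeal R) 0).obj
        (ModuleCat.of R (R ⧸ maximalIdeal R))) :=
      (evEquivOfTors (maximalIdeal R) _ isTors_residue).toEquiv.nontrivial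
    haveI : Nontrivial (Ext (ModuleCat.of R (R ⧸ maximalIdeal R)) (ModuleCat.of R K) n →ₗ[R] E) :=
      (N.θ (ModuleCat.of R (R ⧸ maximalIdeal R))).symm.toEquiv.nontrivial
    by_contra hcon
    rw [not_nontrivial_iff_subsingleton] at hcon
    haveI := hcon
    have : Subsingleton
        (Ext (ModuleCat.of R (R ⧸ maximalIdeal R)) (ModuleCat.of R K) n →ₗ[R] E) :=
      ⟨fun a b => LinearMap.ext fun x => by rw [Subsingleton.elim x 0, map_zero, map_zero]⟩
    exact not_subsingleton _ this
  -- (1)
  have h1 : HasInjectiveDimensionLT (ModuleCat.of R K) (n + 1) := by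
    apply Groth.Agent.Lib.helper11.InjDimKappa.hasInjectiveDimensionLT_of_ext_quotient n
    intro I
    obtain ⟨N⟩ := hN n le_rfl
    rw [Nat.sub_self] at N
    haveI : Module.Finite R (ModuleCat.of R (R ⧸ I)) := inferInstanceAs (Module.Finite R (R ⧸ I))
    exact subsingleton_of_dual_subsingleton hf _
      (dual_ext_succ_subsingleton N (ModuleCat.of R (R ⧸ I)))
  -- (2)
  have h2 : ¬ HasInjectiveDimensionLT (ModuleCat.of R K) n := by
    intro h
    obtain ⟨a, b, hab⟩ := htop.exists_pair_ne
    exact hab ((a.eq_zero_of_hasInjectiveDimensionLT n le_rfl).trans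
      (b.eq_zero_of_hasInjectiveDimensionLT n le_rfl).symm)
  -- `K ≠ 0`
  haveI hKnt : Nontrivial K := by
    by_contra hcon
    rw [not_nontrivial_iff_subsingleton] at hcon
    have hz : IsZero (ModuleCat.of R K) := ModuleCat.isZero_of_subsingleton _
    haveI := hz.hasInjectiveDimensionLT_zero
    exact h2 (hasInjectiveDimensionLT_of_ge (ModuleCat.of R K) 0 n (Nat.zero_le n))
  -- depth
  have h3 : LocCoh.depth R K = n := by
    have hge : (n : ℕ∞) ≤ LocCoh.idealDepth (maximalIdeal R) K :=
      (Groth.Agent.S0321.le_depth_iff R (maximalIdeal R) K n).2 hlow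
    have hlt : ¬ ((n + 1 : ℕ) : ℕ∞) ≤ LocCoh.idealDepth (maximalIdeal R) K := by
      intro h
      have := (Groth.Agent.S0321.le_depth_iff R (maximalIdeal R) K (n + 1)).1 h n
        (Nat.lt_succ_self n)
      exact not_subsingleton _ this
    change LocCoh.idealDepth (maximalIdeal R) K = n
    generalize LocCoh.idealDepth (maximalIdeal R) K = d at hge hlt
    induction d using ENat.recTopCoe with
    | top => exact absurd le_top hlt
    | coe d =>
      have h1 : n ≤ d := by exact_mod_cast hge
      have h2 : ¬ n + 1 ≤ d := by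
        intro h; exact hlt (by exact_mod_cast h)
      have : d = n := by omega
      rw [this]
  -- dimension
  have h4 : Module.supportDim R K = n := by
    apply le_antisymm
    · rw [← hn]
      exact Module.supportDim_le_ringKrullDim R K
    · by_contra hlt
      rw [not_le] at hlt
      obtain ⟨e⟩ := Groth.Agent.S7698.result R n hn E f hf K eK K
      haveI : Subsingleton (LocCoh.H (maximalIdeal R) n K) :=
        subsingleton_of_supportDim_lt (maximalIdeal R) n K hlt
      haveI : Subsingleton ((K →ₗ[R] K) →ₗ[R] E) := e.symm.toEquiv.subsingleton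
      haveI : Subsingleton (K →ₗ[R] K) := subsingleton_of_dual_subsingleton hf _ inferInstance
      obtain ⟨x, hx⟩ := exists_ne (0 : K)
      apply hx
      have := LinearMap.congr_fun (Subsingleton.elim (LinearMap.id : K →ₗ[R] K) 0) x
      simpa using this
  refine ⟨h1, h2, ?_, h4⟩
  unfold LocCoh.IsCohenMacaulayModule
  rw [h4, h3]
  rfl

end Local

end Groth.Agent.Lib.helper11.LocalDuality
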