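import Mathlib
import Groth.Agent.Lib.helper11.LocalDualityInj
import Groth.Agent.Lib.helper11.CMRegular
import Groth.Agent.Lib.helper11.ExtRegularLin
import Groth.Agent.S7692

/-!
# Regular sequences on the canonical module of a CM local ring (helper11)
-/

set_option autoImplicit false

namespace Groth.Agent.Lib.helper11.LocalDuality

open CategoryTheory Limits Opposite localCohomology Abelian IsLocalRing RingTheory.Sequence
open Groth.Agent.Lib.helper11.LCKit Groth.Agent.Lib.helper11.ExtBridge
open Groth.Agent.Lib.helper11.CMRegular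

universe u

variable {R : Type u} [CommRing R] [IsNoetherianRing R] [IsLocalRing R] {E : Type u}
  [AddCommGroup E] [Module R E] {f : ResidueField R →ₗ[R] E} (hf : InjHull.IsInjectiveHull f)

include hf in
/-- Over a CM local ring the canonical module has full support. -/
theorem support_canonMod (n : ℕ) (hn : ringKrullDim R = n) (hdepth : LocCoh.depth R R = n)
    (K : Type u) [AddCommGroup K] [Module R K] [Module.Finite R K]
    (eK : (K →ₗ[R] E) ≃ₗ[R] LocCoh.H (maximalIdeal R) n R) :
    Module.support R K = Set.univ := by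
  have hprop := canonMod_properties hf n hn hdepth K eK
  haveI hKnt : Nontrivial K := by
    rw [← Module.supportDim_ne_bot_iff_nontrivial R, hprop.2.2.2]
    exact WithBot.natCast_ne_bot n
  rw [Set.eq_univ_iff_forall]
  intro q
  rcases Nat.eq_zero_or_pos n with hn0 | hn0
  · -- dimension zero: `q` is the closed point
    have hle : ringKrullDim R ≤ (0 : ℕ) := by rw [hn, hn0]
    haveI : Ring.KrullDimLE 0 R := (Ring.krullDimLE_iff (n := 0)).2 hle
    have hq : q.asIdeal = maximalIdeal R :=
      IsLocalRing.eq_maximalIdeal (Ideal.isMaximal_of_isPrime q.asIdeal)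
    have : q = IsLocalRing.closedPoint R := PrimeSpectrum.ext hq
    rw [this]
    exact IsLocalRing.closedPoint_mem_support R K
  · obtain ⟨p, hp, hpq⟩ := Ideal.exists_minimalPrimes_le (bot_le : (⊥ : Ideal R) ≤ q.asIdeal)
    have hpass : p ∈ associatedPrimes R R := by
      apply Module.associatedPrimes.minimalPrimes_annihilator_subset_associatedPrimes R R
      have : Module.annihilator R R = ⊥ := Module.annihilator_eq_bot.2 inferInstance
      rw [this]
      exact hp
    haveI : p.IsPrime := hp.1.1
    have h1 := depth_le_dim_of_mem_ass R p hpass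
    rw [hdepth] at h1
    have h2 : ringKrullDim (R ⧸ p) ≤ n := by
      rw [← hn]; exact ringKrullDim_quotient_le p
    have hdim : ringKrullDim (R ⧸ p) = n := le_antisymm h2 (by exact_mod_cast h1)
    have hpK : p ∈ associatedPrimes R K := by
      rw [Groth.Agent.S7692.result R n hn E f hf K eK hn0]
      exact ⟨hp.1.1, hdim⟩
    have hpS : (⟨p, hp.1.1⟩ : PrimeSpectrum R) ∈ Module.support R K := by
      refine Module.mem_support_iff_of_finite.2 ?_
      have := IsAssociatedPrime.annihilator_le hpK
      rwa [Submodule.annihilator_top] at this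
    exact Module.mem_support_mono (p := ⟨p, hp.1.1⟩) (q := q) hpq hpS

omit [IsNoetherianRing R] [IsLocalRing R] in
/-- `Hom(R/I, X) ≃ X` when `I` kills `X`. -/
noncomputable def homQuotEquiv (I : Ideal R) (X : Type u) [AddCommGroup X] [Module R X]
    (hX : ∀ r ∈ I, ∀ x : X, r • x = 0) : ((R ⧸ I) →ₗ[R] X) ≃ₗ[R] X where
  toFun φ := φ 1
  map_add' _ _ := rfl
  map_smul' _ _ := rfl
  invFun x := Submodule.liftQ I (LinearMap.toSpanSingleton R X x) (by
    intro r hr
    rw [LinearMap.mem_ker, LinearMap.toSpanSingleton_apply]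
    exact hX r hr x)
  left_inv φ := by
    apply LinearMap.ext
    intro y
    obtain ⟨r, rfl⟩ := Ideal.Quotient.mk_surjective y
    change LinearMap.toSpanSingleton R X (φ 1) r = φ (Ideal.Quotient.mk I r)
    rw [LinearMap.toSpanSingleton_apply, ← map_smul]
    congr 1
    rw [Algebra.smul_def, mul_one]
    rfl
  right_inv x := by
    change LinearMap.toSpanSingleton R X x 1 = x
    rw [LinearMap.toSpanSingleton_apply, one_smul]

section Reg

variable (n : ℕ) (hn : ringKrullDim R = n) (hdepth : LocCoh.depth R R = n)
  (K : Type u) [AddCommGroup K] [Module R K] [Module.Finite R K]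
  (eK : (K →ₗ[R] E) ≃ₗ[R] LocCoh.H (maximalIdeal R) n R)
  (as : List R) (has : ∀ a ∈ as, a ∈ maximalIdeal R)

include hf hn hdepth eK in
theorem canonMod_dim_depth : Nontrivial K ∧ Module.supportDim R K = n ∧ LocCoh.depth R K = n := by
  have hprop := canonMod_properties hf n hn hdepth K eK
  have hKdim : Module.supportDim R K = n := hprop.2.2.2
  refine ⟨?_, hKdim, ?_⟩
  · rw [← Module.supportDim_ne_bot_iff_nontrivial R, hKdim]
    exact WithBot.natCast_ne_bot n
  · have := hprop.2.2.1
    unfold LocCoh.IsCohenMacaulayModule at this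
    rw [hKdim] at this
    have h' : ((n : ℕ∞) : WithBot ℕ∞) = ((LocCoh.depth R K : ℕ∞) : WithBot ℕ∞) := by
      exact_mod_cast this
    exact (WithBot.coe_injective h').symm

include hf hn hdepth eK has in
/-- Over a CM local ring, a sequence in `m` is `R`-regular iff it is `K`-regular. -/
theorem isRegular_iff_canonMod : IsRegular R as ↔ IsRegular K as := by
  obtain ⟨hKnt, hKdim, hKdepth⟩ := canonMod_dim_depth hf n hn hdepth K eK
  have hRdim : Module.supportDim R R = n := by
    rw [Module.supportDim_self_eq_ringKrullDim, hn]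
  rw [IsLocalRing.isRegular_iff_isWeaklyRegular_of_subset_maximalIdeal has,
    IsLocalRing.isRegular_iff_isWeaklyRegular_of_subset_maximalIdeal has,
    isWeaklyRegular_iff as R n hRdim hdepth has, isWeaklyRegular_iff as K n hKdim hKdepth has]
  have hsupp : Module.supportDim R (R ⧸ Ideal.ofList as • (⊤ : Submodule R R)) =
      Module.supportDim R (K ⧸ Ideal.ofList as • (⊤ : Submodule R K)) := by
    have hR : Module.support R R = Set.univ := by
      rw [Module.support_eq_zeroLocus, Module.annihilator_eq_bot.2 inferInstance]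
      simp
    unfold Module.supportDim
    rw [Module.support_quotient, Module.support_quotient, support_canonMod hf n hn hdepth K eK, hR]
  rw [hsupp]

include hf hn hdepth eK has in
/-- `K/(as)K` is a canonical module for `R/(as)` (in `R`-module form). -/
theorem canonMod_quotient (hreg : IsRegular R as) :
    Nonempty (((K ⧸ (Ideal.ofList as • (⊤ : Submodule R K))) →ₗ[R] E) ≃ₗ[R]
      LocCoh.H (maximalIdeal R) (n - as.length) (R ⧸ Ideal.ofList as)) := by
  haveI : Module.Injective R E := hf.isInjective
  have hKreg : IsRegular K as := (isRegular_iff_canonMod hf n hn hdepth K eK as has).1 hreg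
  have hRdim : Module.supportDim R R = n := by
    rw [Module.supportDim_self_eq_ringKrullDim, hn]
  have hlen : as.length ≤ n :=
    ((isWeaklyRegular_iff as R n hRdim hdepth has).1 hreg.toIsWeaklyRegular).1
  obtain ⟨N⟩ := nonempty_natIso_of_depth n hn hdepth E K eK as.length hlen
  haveI : Module.Finite R (ModuleCat.of R (R ⧸ Ideal.ofList as)) :=
    inferInstanceAs (Module.Finite R (R ⧸ Ideal.ofList as))
  have hkill : ∀ r ∈ Ideal.ofList as, ∀ y : R ⧸ Ideal.ofList as, r • y = 0 := by
    intro r hr y
    obtain ⟨b, rfl⟩ := Ideal.Quotient.mk_surjective y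
    rw [Algebra.smul_def, Ideal.Quotient.algebraMap_eq, ← map_mul, Ideal.Quotient.eq_zero_iff_mem]
    exact Ideal.mul_mem_right _ _ hr
  obtain ⟨rees⟩ := Groth.Agent.Lib.helper11.ExtRegular.hom_quotient_linearEquiv_ext R
    (R ⧸ Ideal.ofList as) (Ideal.ofList as) hkill as K hKreg.toIsWeaklyRegular
    (fun r hr => Ideal.subset_span hr)
  have hX : ∀ r ∈ Ideal.ofList as, ∀ x : K ⧸ (Ideal.ofList as • (⊤ : Submodule R K)),
      r • x = 0 := by
    intro r hr x
    obtain ⟨k, rfl⟩ := Submodule.mkQ_surjective _ x
    rw [← map_smul, Submodule.mkQ_apply, Submodule.Quotient.mk_eq_zero]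
    exact Submodule.smul_mem_smul hr trivial
  let ev := homQuotEquiv (Ideal.ofList as) (K ⧸ (Ideal.ofList as • (⊤ : Submodule R K))) hX
  exact ⟨(LinearEquiv.congrLeft E R (ev.symm ≪≫ₗ rees)).trans
    (N.θ (ModuleCat.of R (R ⧸ Ideal.ofList as))).symm⟩

end Reg

end Groth.Agent.Lib.helper11.LocalDuality
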