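import Mathlib
import Groth.Agent.Lib.helper11.LCKit3
import Groth.Agent.Lib.Helper2.LCInj1

/-!
# `Ext^n(-, G)` on finite `J`-torsion modules is represented by `H^n_J(G)` (helper11)

Let `R` be noetherian, `J` an ideal, `G` a module and `n` such that `Ext^n(-, G)` is left exact on
finite modules killed by a power of `J`.  Then `Ext^n(F, G) ≃ Hom(F, H^n_J(G))`, naturally in such `F`.
-/

set_option autoImplicit false

namespace Groth.Agent.Lib.helper11.ExtRep

open CategoryTheory Abelian Groth.Agent.Lib.helper11.LCKit Groth.Agent.Lib.Helper2.LCInj1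

universe u

variable {R : Type u} [CommRing R] (J : Ideal R)

/-- `F` is killed by `J^k`. -/
def KilledBy (k : ℕ) (F : Type u) [AddCommGroup F] [Module R F] : Prop :=
  ∀ a ∈ J ^ k, ∀ x : F, a • x = 0

/-- finite modules killed by a power of `J`. -/
def TF (F : Type u) [AddCommGroup F] [Module R F] : Prop :=
  Module.Finite R F ∧ ∃ k, KilledBy J k F

variable {J} in
lemma KilledBy.kills {k : ℕ} {F : Type u} [AddCommGroup F] [Module R F] (hF : KilledBy J k F)
    (x : F) : Kills J k x := fun a ha => hF a ha x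

variable {J} in
lemma KilledBy.mono {k l : ℕ} (h : k ≤ l) {F : Type u} [AddCommGroup F] [Module R F]
    (hF : KilledBy J k F) : KilledBy J l F :=
  fun a ha x => hF a (Ideal.pow_le_pow_right h ha) x

lemma killedBy_Q {k l : ℕ} (h : k ≤ l) : KilledBy J l (R ⧸ J ^ k) := by
  intro a ha x
  obtain ⟨b, rfl⟩ := Submodule.Quotient.mk_surjective _ x
  rw [← Submodule.Quotient.mk_smul, Submodule.Quotient.mk_eq_zero, smul_eq_mul]
  exact Ideal.mul_mem_right _ _ (Ideal.pow_le_pow_right h ha)

lemma tf_Q (k : ℕ) : TF J (R ⧸ J ^ k) := ⟨inferInstance, k, killedBy_Q J le_rfl⟩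

variable (G : ModuleCat.{u} R) (n : ℕ)

/-- precomposition with `f`, as a linear map on `Ext^n(-, G)`. -/
noncomputable def pre {F F' : ModuleCat.{u} R} (f : F' ⟶ F) : Ext F G n →ₗ[R] Ext F' G n where
  toFun e := (Ext.mk₀ f).comp e (zero_add n)
  map_add' a b := Ext.comp_add _ _ _ _
  map_smul' r a := by
    simp only [RingHom.id_apply]
    exact Ext.comp_smul _ _ _ _

lemma pre_apply {F F' : ModuleCat.{u} R} (f : F' ⟶ F) (e : Ext F G n) :
    pre G n f e = (Ext.mk₀ f).comp e (zero_add n) := rfl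

lemma pre_id (F : ModuleCat.{u} R) (e : Ext F G n) : pre G n (𝟙 F) e = e := by
  rw [pre_apply, Ext.mk₀_id_comp]

lemma pre_comp {F F' F'' : ModuleCat.{u} R} (f : F'' ⟶ F') (g : F' ⟶ F) (e : Ext F G n) :
    pre G n (f ≫ g) e = pre G n f (pre G n g e) := by
  rw [pre_apply, pre_apply, pre_apply, Ext.mk₀_comp_mk₀_assoc]

lemma pre_add {F F' : ModuleCat.{u} R} (f g : F' ⟶ F) (e : Ext F G n) :
    pre G n (f + g) e = pre G n f e + pre G n g e := by
  rw [pre_apply, pre_apply, pre_apply, Ext.mk₀_add, Ext.add_comp]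

lemma pre_zero {F F' : ModuleCat.{u} R} (e : Ext F G n) :
    pre G n (0 : F' ⟶ F) e = 0 := by
  rw [pre_apply, Ext.mk₀_zero, Ext.zero_comp]

lemma pre_smul {F F' : ModuleCat.{u} R} (r : R) (f : F' ⟶ F) (e : Ext F G n) :
    pre G n (r • f) e = r • pre G n f e := by
  rw [pre_apply, pre_apply, Ext.mk₀_smul, Ext.smul_comp]

lemma pre_sum {ι : Type*} (s : Finset ι) {F F' : ModuleCat.{u} R} (f : ι → (F' ⟶ F))
    (e : Ext F G n) : pre G n (∑ i ∈ s, f i) e = ∑ i ∈ s, pre G n (f i) e := by
  classical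
  induction s using Finset.induction_on with
  | empty => simp [pre_zero]
  | insert a s ha ih => rw [Finset.sum_insert ha, Finset.sum_insert ha, pre_add, ih]

/-- left exactness of `Ext^n(-, G)` on finite `J`-power torsion modules. -/
def LE : Prop :=
  ∀ (F F'' : ModuleCat.{u} R) (p : F ⟶ F''), Function.Surjective p.hom → TF J F →
    Function.Injective (pre G n p)

/-- kernel short complex of a surjection. -/
noncomputable def kerSC {F F'' : ModuleCat.{u} R} (p : F ⟶ F'') : ShortComplex (ModuleCat.{u} R) :=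
  ShortComplex.mk (ModuleCat.ofHom (LinearMap.ker p.hom).subtype) p (by
    ext x
    exact x.2)

lemma kerSC_shortExact {F F'' : ModuleCat.{u} R} (p : F ⟶ F'') (hp : Function.Surjective p.hom) :
    (kerSC p).ShortExact := by
  apply ModuleCat.shortComplex_shortExact
  · intro x
    change p.hom x = 0 ↔ x ∈ Set.range (LinearMap.ker p.hom).subtype
    simp only [Submodule.coe_subtype, Subtype.range_coe_subtype]
    rfl
  · exact (LinearMap.ker p.hom).injective_subtype
  · exact hp

lemma tf_ker [IsNoetherianRing R] {F F'' : ModuleCat.{u} R} (p : F ⟶ F'') (hF : TF J F) :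
    TF J (LinearMap.ker p.hom) := by
  obtain ⟨hfin, k, hk⟩ := hF
  haveI := hfin
  refine ⟨inferInstance, k, fun a ha x => ?_⟩
  apply Subtype.ext
  rw [Submodule.coe_smul, hk a ha x.1]
  rfl

theorem LE_of_vanishing [IsNoetherianRing R]
    (hvan : ∀ F' : ModuleCat.{u} R, TF J F' → ∀ i : ℕ, i + 1 = n → Subsingleton (Ext F' G i)) :
    LE J G n := by
  intro F F'' p hp hF
  rw [injective_iff_map_eq_zero]
  intro e he
  have hS := kerSC_shortExact p hp
  rcases n with _ | i
  · haveI : Epi p := (ModuleCat.epi_iff_surjective p).mpr hp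
    have := Ext.precomp_mk₀_injective_of_epi G p
    refine this (he.trans ?_)
    exact (Ext.comp_zero (Ext.mk₀ p) G 0 0 (zero_add 0)).symm
  · obtain ⟨x₁, hx₁⟩ := Ext.contravariant_sequence_exact₃ hS G e he (n₀ := i) (by omega)
    haveI : Subsingleton (Ext (kerSC p).X₁ G i) :=
      hvan (ModuleCat.of R (LinearMap.ker p.hom)) (tf_ker J p hF) i rfl
    rw [← hx₁, Subsingleton.elim x₁ 0]
    exact Ext.comp_zero _ _ _ _ _

section Step1

variable {J G n}

theorem ιE_injective (hLE : LE J G n) (k : ℕ) : Function.Injective (ιE J n G k) := by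
  rw [injective_iff_map_eq_zero]
  intro y hy
  obtain ⟨l, h, hl⟩ := (ιE_eq_zero_iff J n G y).mp hy
  have hsurj : Function.Surjective (tr J h).hom := by
    intro x
    obtain ⟨b, rfl⟩ := Submodule.Quotient.mk_surjective _ x
    exact ⟨Submodule.Quotient.mk b, rfl⟩
  exact (injective_iff_map_eq_zero _).mp (hLE _ _ (tr J h) hsurj (tf_Q J l)) y hl

end Step1


section Step2

lemma toE_add (k : ℕ) {E : ModuleCat.{u} R} (x y : E) (hx : Kills J k x) (hy : Kills J k y)
    (hxy : Kills J k (x + y)) : toE J k (x + y) hxy = toE J k x hx + toE J k y hy := by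
  apply hom_ext_Q
  rw [ModuleCat.hom_add, LinearMap.add_apply, toE_one, toE_one, toE_one]

lemma toE_smul (k : ℕ) {E : ModuleCat.{u} R} (a : R) (x : E) (hx : Kills J k x)
    (hax : Kills J k (a • x)) : toE J k (a • x) hax = a • toE J k x hx := by
  apply hom_ext_Q
  rw [ModuleCat.hom_smul, LinearMap.smul_apply, toE_one, toE_one]

/-- The comparison map `Ext^n(F, G) → Hom(F, Ext^n(R/J^k, G))` for `F` killed by `J^k`. -/
noncomputable def Ψ (k : ℕ) (F : ModuleCat.{u} R) (hF : KilledBy J k F) :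
    Ext F G n →ₗ[R] (F →ₗ[R] Ext (Q J k) G n) where
  toFun e :=
    { toFun := fun x => pre G n (toE J k x (hF.kills x)) e
      map_add' := fun x y => by
        rw [← pre_add]
        congr 2
        exact toE_add J k x y _ _ _
      map_smul' := fun a x => by
        rw [RingHom.id_apply, ← pre_smul]
        congr 2
        exact toE_smul J k a x _ _ }
  map_add' e e' := by
    ext x
    exact map_add (pre G n (toE J k x (hF.kills x))) e e'
  map_smul' a e := by
    ext x
    exact map_smul (pre G n (toE J k x (hF.kills x))) a e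

lemma Ψ_apply (k : ℕ) (F : ModuleCat.{u} R) (hF : KilledBy J k F) (e : Ext F G n) (x : F) :
    Ψ J G n k F hF e x = pre G n (toE J k x (hF.kills x)) e := rfl

lemma Ψ_nat (k : ℕ) {F F' : ModuleCat.{u} R} (hF : KilledBy J k F) (hF' : KilledBy J k F')
    (f : F' ⟶ F) (e : Ext F G n) (x' : F') :
    Ψ J G n k F' hF' (pre G n f e) x' = Ψ J G n k F hF e (f.hom x') := by
  rw [Ψ_apply, Ψ_apply, ← pre_comp]
  congr 2
  exact toE_comp J x' _ f _

lemma toE_mk_one (k : ℕ) (h : Kills J k (Submodule.Quotient.mk 1 : R ⧸ J ^ k)) :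
    toE J k (E := Q J k) (Submodule.Quotient.mk 1) h = 𝟙 (Q J k) := by
  apply hom_ext_Q
  rw [toE_one]
  rfl

lemma Ψ_Q_one (k : ℕ) (hQ : KilledBy J k (Q J k)) (e : Ext (Q J k) G n) :
    Ψ J G n k (Q J k) hQ e (Submodule.Quotient.mk 1) = e := by
  rw [Ψ_apply, toE_mk_one, pre_id]

lemma linearMap_Q_ext {k : ℕ} {X : Type*} [AddCommGroup X] [Module R X]
    (φ ψ : (R ⧸ J ^ k) →ₗ[R] X) (h : φ (Submodule.Quotient.mk 1) = ψ (Submodule.Quotient.mk 1)) :
    φ = ψ := by
  apply Submodule.linearMap_qext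
  ext
  simpa using h

theorem Ψ_Q_bijective (k : ℕ) (hQ : KilledBy J k (Q J k)) :
    Function.Bijective (Ψ J G n k (Q J k) hQ) := by
  constructor
  · intro e e' h
    have := congrArg (fun φ => φ (Submodule.Quotient.mk 1 : R ⧸ J ^ k)) h
    dsimp only at this
    rwa [Ψ_Q_one, Ψ_Q_one] at this
  · intro φ
    refine ⟨φ (Submodule.Quotient.mk 1), ?_⟩
    apply linearMap_Q_ext
    rw [Ψ_Q_one]

end Step2

section Step3

/-- the free `R/J^k`-module of rank `r`. -/
abbrev P (r k : ℕ) : ModuleCat.{u} R := ModuleCat.of R (Fin r → R ⧸ J ^ k)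

/-- inclusions of the summands. -/
noncomputable def inc (r k : ℕ) (i : Fin r) : Q J k ⟶ P J r k :=
  ModuleCat.ofHom (LinearMap.single R (fun _ : Fin r => R ⧸ J ^ k) i)

/-- projections to the summands. -/
noncomputable def prj (r k : ℕ) (i : Fin r) : P J r k ⟶ Q J k :=
  ModuleCat.ofHom (LinearMap.proj (R := R) (φ := fun _ : Fin r => R ⧸ J ^ k) i)

lemma sum_inc_prj_apply (r k : ℕ) (c : P J r k) :
    ∑ i, (inc J r k i).hom ((prj J r k i).hom c) = c := by
  change ∑ i, Pi.single i (c i) = c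
  exact Finset.univ_sum_single c

lemma sum_prj_inc (r k : ℕ) : ∑ i, prj J r k i ≫ inc J r k i = 𝟙 (P J r k) := by
  refine ModuleCat.hom_ext (LinearMap.ext fun c => ?_)
  rw [ModuleCat.hom_sum, LinearMap.sum_apply]
  simp only [ModuleCat.hom_comp, LinearMap.comp_apply]
  rw [sum_inc_prj_apply]
  rfl

lemma killedBy_P (r k : ℕ) : KilledBy J k (P J r k) := by
  intro a ha c
  funext i
  exact killedBy_Q J le_rfl a ha (c i)

lemma tf_P (r k : ℕ) : TF J (P J r k) := ⟨inferInstance, k, killedBy_P J r k⟩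

theorem Ψ_P_bijective (r k : ℕ) (hP : KilledBy J k (P J r k)) :
    Function.Bijective (Ψ J G n k (P J r k) hP) := by
  have hQ : KilledBy J k (Q J k) := killedBy_Q J le_rfl
  have hQb := Ψ_Q_bijective J G n k hQ
  constructor
  · rw [injective_iff_map_eq_zero]
    intro e he
    have h1 : ∀ i, pre G n (inc J r k i) e = 0 := by
      intro i
      apply hQb.1
      rw [map_zero]
      refine LinearMap.ext fun x => ?_
      rw [Ψ_nat J G n k hP hQ, he]
      rfl
    have h2 := pre_id G n (P J r k) e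
    rw [← sum_prj_inc, pre_sum] at h2
    rw [← h2]
    apply Finset.sum_eq_zero
    intro i _
    rw [pre_comp, h1 i, map_zero]
  · intro φ
    choose ei hei using fun i : Fin r => hQb.2 (φ ∘ₗ (inc J r k i).hom)
    refine ⟨∑ i, pre G n (prj J r k i) (ei i), ?_⟩
    refine LinearMap.ext fun x => ?_
    rw [map_sum, LinearMap.sum_apply]
    have h3 : ∀ i, Ψ J G n k (P J r k) hP (pre G n (prj J r k i) (ei i)) x =
        φ ((inc J r k i).hom ((prj J r k i).hom x)) := by
      intro i
      rw [Ψ_nat J G n k hQ hP, hei i]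
      rfl
    rw [Finset.sum_congr rfl (fun i _ => h3 i), ← map_sum, sum_inc_prj_apply]

theorem exists_cover (k : ℕ) (F : ModuleCat.{u} R) (hfin : Module.Finite R F)
    (hF : KilledBy J k F) : ∃ (r : ℕ) (q : P J r k ⟶ F), Function.Surjective q.hom := by
  classical
  obtain ⟨r, f, hf⟩ := Module.Finite.exists_fin' R F
  let x : Fin r → F := fun i => f (fun j => if i = j then 1 else 0)
  refine ⟨r, ∑ i, prj J r k i ≫ toE J k (x i) (hF.kills _), ?_⟩
  intro y
  obtain ⟨a, rfl⟩ := hf y
  refine ⟨fun i => Submodule.Quotient.mk (a i), ?_⟩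
  rw [ModuleCat.hom_sum, LinearMap.sum_apply, LinearMap.pi_apply_eq_sum_univ f a]
  apply Finset.sum_congr rfl
  intro i _
  rw [ModuleCat.hom_comp, LinearMap.comp_apply]
  exact toE_apply J k (x i) _ (a i)

variable {J G n}

theorem Ψ_injective (hLE : LE J G n) (k : ℕ) (F : ModuleCat.{u} R) (hfin : Module.Finite R F)
    (hF : KilledBy J k F) : Function.Injective (Ψ J G n k F hF) := by
  obtain ⟨r, q, hq⟩ := exists_cover J k F hfin hF
  rw [injective_iff_map_eq_zero]
  intro e he
  have h1 : pre G n q e = 0 := by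
    apply (Ψ_P_bijective J G n r k (killedBy_P J r k)).1
    rw [map_zero]
    refine LinearMap.ext fun x => ?_
    rw [Ψ_nat J G n k hF (killedBy_P J r k), he]
    rfl
  exact (injective_iff_map_eq_zero _).mp (hLE _ _ q hq (tf_P J r k)) e h1

theorem Ψ_bijective [IsNoetherianRing R] (hLE : LE J G n) (k : ℕ) (F : ModuleCat.{u} R)
    (hfin : Module.Finite R F) (hF : KilledBy J k F) : Function.Bijective (Ψ J G n k F hF) := by
  refine ⟨Ψ_injective hLE k F hfin hF, ?_⟩
  intro φ
  obtain ⟨r, q, hq⟩ := exists_cover J k F hfin hF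
  have hP := killedBy_P J r k
  obtain ⟨eP, heP⟩ := (Ψ_P_bijective J G n r k hP).2 (φ ∘ₗ q.hom)
  have hS := kerSC_shortExact q hq
  have hKfin : Module.Finite R (LinearMap.ker q.hom) := (tf_ker J q (tf_P J r k)).1
  have hK : KilledBy J k (ModuleCat.of R (LinearMap.ker q.hom)) := by
    intro a ha x
    apply Subtype.ext
    rw [Submodule.coe_smul, hP a ha x.1]
    rfl
  let j : ModuleCat.of R (LinearMap.ker q.hom) ⟶ P J r k :=
    ModuleCat.ofHom (LinearMap.ker q.hom).subtype
  have h1 : pre G n j eP = 0 := by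
    refine (injective_iff_map_eq_zero _).mp
      (Ψ_injective hLE k (ModuleCat.of R (LinearMap.ker q.hom)) hKfin hK) _ ?_
    refine LinearMap.ext fun x => ?_
    rw [Ψ_nat J G n k hP hK j, heP]
    change φ (q.hom x.1) = 0
    rw [x.2, map_zero]
  obtain ⟨e, he⟩ := Ext.contravariant_sequence_exact₂ hS G eP h1
  refine ⟨e, ?_⟩
  refine LinearMap.ext fun y => ?_
  obtain ⟨c, rfl⟩ := hq y
  have h2 := Ψ_nat J G n k hF hP q e c
  change pre G n q e = eP at he
  rw [he, heP] at h2
  exact h2.symm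

end Step3

section Step4

variable {J G n}

lemma smul_X_eq_zero (k : ℕ) (a : R) (ha : a ∈ J ^ k) (y : Ext (Q J k) G n) : a • y = 0 := by
  have h1 : a • 𝟙 (Q J k) = 0 := by
    apply hom_ext_Q
    rw [ModuleCat.hom_smul, LinearMap.smul_apply, ModuleCat.hom_zero, LinearMap.zero_apply]
    exact killedBy_Q J le_rfl a ha _
  have h2 := pre_smul G n a (𝟙 (Q J k)) y
  rw [h1, pre_zero, pre_id] at h2
  exact h2.symm

theorem exists_of_killed [IsNoetherianRing R] (hLE : LE J G n) (k : ℕ)
    (h : (localCohomology J n).obj G) (hh : ∀ a ∈ J ^ k, a • h = 0) :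
    ∃ y : Ext (Q J k) G n, ιE J n G k y = h := by
  obtain ⟨l₀, y₀, hy₀⟩ := exists_rep J n G h
  have hkl : k ≤ max k l₀ := le_max_left _ _
  have hl₀l : l₀ ≤ max k l₀ := le_max_right _ _
  generalize max k l₀ = l at hkl hl₀l
  set y : Ext (Q J l) G n := pre G n (tr J hl₀l) y₀ with hydef
  have hy : ιE J n G l y = h := by
    rw [← hy₀]
    exact ιE_tr J n G hl₀l y₀
  have hky : ∀ a ∈ J ^ k, a • y = 0 := by
    intro a ha
    apply ιE_injective hLE l
    rw [map_smul, hy, hh a ha, map_zero]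
  have hQkl : KilledBy J l (Q J k) := killedBy_Q J hkl
  let φ : (R ⧸ J ^ k) →ₗ[R] Ext (Q J l) G n :=
    Submodule.liftQ (J ^ k) (LinearMap.toSpanSingleton R _ y) (by
      intro a ha
      rw [LinearMap.mem_ker, LinearMap.toSpanSingleton_apply]
      exact hky a ha)
  have hφ1 : φ (Submodule.Quotient.mk 1) = y := by
    change Submodule.liftQ (J ^ k) (LinearMap.toSpanSingleton R _ y) _ (Submodule.Quotient.mk 1) = y
    rw [Submodule.liftQ_apply, LinearMap.toSpanSingleton_apply, one_smul]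
  obtain ⟨e, he⟩ := (Ψ_bijective hLE l (Q J k) inferInstance hQkl).2 φ
  refine ⟨e, ?_⟩
  have h1 := congrArg (fun ψ => ψ (Submodule.Quotient.mk 1 : R ⧸ J ^ k)) he
  dsimp only at h1
  rw [hφ1, Ψ_apply] at h1
  have h2 : toE J l (E := Q J k) (Submodule.Quotient.mk 1) (hQkl.kills _) = tr J hkl := by
    apply hom_ext_Q
    rw [toE_one]
    rfl
  rw [h2] at h1
  rw [← hy, ← h1]
  exact (ιE_tr J n G hkl e).symm

end Step4

section Step5

/-- The comparison map `Ext^n(F, G) → Hom(F, H^n_J(G))` for `F` killed by `J^k`. -/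
noncomputable def Φ (k : ℕ) (F : ModuleCat.{u} R) (hF : KilledBy J k F) :
    Ext F G n →ₗ[R] (F →ₗ[R] (localCohomology J n).obj G) :=
  (LinearMap.compRight R (ιE J n G k)) ∘ₗ Ψ J G n k F hF

lemma Φ_apply (k : ℕ) (F : ModuleCat.{u} R) (hF : KilledBy J k F) (e : Ext F G n) (x : F) :
    Φ J G n k F hF e x = ιE J n G k (pre G n (toE J k x (hF.kills x)) e) := rfl

lemma Φ_mono {k l : ℕ} (h : k ≤ l) (F : ModuleCat.{u} R) (hF : KilledBy J k F) :
    Φ J G n l F (hF.mono h) = Φ J G n k F hF := by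
  refine LinearMap.ext fun e => LinearMap.ext fun x => ?_
  rw [Φ_apply, Φ_apply]
  have h1 := tr_toE J h x (hF.kills x)
  have h2 : toE J l x ((hF.mono h).kills x) = tr J h ≫ toE J k x (hF.kills x) := h1.symm
  rw [h2, pre_comp]
  exact ιE_tr J n G h _

lemma Φ_nat (k : ℕ) {F F' : ModuleCat.{u} R} (hF : KilledBy J k F) (hF' : KilledBy J k F')
    (f : F' ⟶ F) (e : Ext F G n) (x' : F') :
    Φ J G n k F' hF' (pre G n f e) x' = Φ J G n k F hF e (f.hom x') := by
  change ιE J n G k (Ψ J G n k F' hF' (pre G n f e) x') = ιE J n G k (Ψ J G n k F hF e (f.hom x'))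
  rw [Ψ_nat J G n k hF hF']

variable {J G n}

theorem Φ_bijective [IsNoetherianRing R] (hLE : LE J G n) (k : ℕ) (F : ModuleCat.{u} R)
    (hfin : Module.Finite R F) (hF : KilledBy J k F) : Function.Bijective (Φ J G n k F hF) := by
  have hΨ := Ψ_bijective hLE k F hfin hF
  have hι := ιE_injective hLE k
  constructor
  · rw [injective_iff_map_eq_zero]
    intro e he
    apply hΨ.1
    rw [map_zero]
    refine LinearMap.ext fun x => ?_
    apply hι
    rw [LinearMap.zero_apply, map_zero]
    exact congrArg (fun ψ => ψ x) he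
  · intro ψ
    have hmem : ∀ x : F, ψ x ∈ LinearMap.range (ιE J n G k) := by
      intro x
      obtain ⟨y, hy⟩ := exists_of_killed hLE k (ψ x) (fun a ha => by
        rw [← map_smul, hF a ha x, map_zero])
      exact ⟨y, hy⟩
    let φ : F →ₗ[R] Ext (Q J k) G n :=
      (LinearEquiv.ofInjective (ιE J n G k) hι).symm.toLinearMap ∘ₗ
        (ψ.codRestrict (LinearMap.range (ιE J n G k)) hmem)
    have hφ : ∀ x, ιE J n G k (φ x) = ψ x := by
      intro x
      have := LinearEquiv.apply_symm_apply (LinearEquiv.ofInjective (ιE J n G k) hι)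
        (ψ.codRestrict (LinearMap.range (ιE J n G k)) hmem x)
      exact congrArg Subtype.val this
    obtain ⟨e, he⟩ := hΨ.2 φ
    refine ⟨e, ?_⟩
    refine LinearMap.ext fun x => ?_
    change ιE J n G k (Ψ J G n k F hF e x) = ψ x
    rw [he, hφ]

/-- **Representability**: if `Ext^n(-, G)` is left exact on finite `J`-power torsion modules then
`Ext^n(F, G) ≃ Hom(F, H^n_J(G))` naturally in such `F`. -/
theorem exists_natural_equiv [IsNoetherianRing R] (hLE : LE J G n) :
    ∃ Φ' : ∀ (F : ModuleCat.{u} R), TF J F →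
        (Ext F G n ≃ₗ[R] (F →ₗ[R] (localCohomology J n).obj G)),
      ∀ (F F' : ModuleCat.{u} R) (hF : TF J F) (hF' : TF J F') (f : F' ⟶ F) (e : Ext F G n)
        (x' : F'), Φ' F' hF' (pre G n f e) x' = Φ' F hF e (f.hom x') := by
  refine ⟨fun F hF => LinearEquiv.ofBijective (Φ J G n hF.2.choose F hF.2.choose_spec)
    (Φ_bijective hLE _ F hF.1 _), ?_⟩
  intro F F' hF hF' f e x'
  simp only [LinearEquiv.ofBijective_apply]
  have h1 := Φ_mono J G n (le_max_left hF.2.choose hF'.2.choose) F hF.2.choose_spec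
  have h2 := Φ_mono J G n (le_max_right hF.2.choose hF'.2.choose) F' hF'.2.choose_spec
  rw [← h1, ← h2]
  exact Φ_nat J G n _ _ _ f e x'

end Step5

end Groth.Agent.Lib.helper11.ExtRep
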