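import Mathlib
import Groth.Agent.Lib.helper11.ExtRep

/-!
# `Ext^n(F, G) ≃ Hom(F, H^n_J(G))` in terms of the old `Ext` functor and supports (helper11)
-/

set_option autoImplicit false

namespace Groth.Agent.Lib.helper11.ExtRep

open CategoryTheory Opposite Groth.Agent.Lib.helper11.LCKit Groth.Agent.Lib.helper11.ExtBridge

universe u

variable {R : Type u} [CommRing R] [IsNoetherianRing R] (J : Ideal R)

theorem tf_iff_support (F : Type u) [AddCommGroup F] [Module R F] [Module.Finite R F] :
    TF J F ↔ Module.support R F ⊆ PrimeSpectrum.zeroLocus (J : Set R) := by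
  constructor
  · rintro ⟨-, k, hk⟩
    have hle : J ^ k ≤ Module.annihilator R F := by
      intro a ha
      rw [Module.mem_annihilator]
      exact hk a ha
    rw [Module.support_eq_zeroLocus]
    intro p hp
    have h1 : p ∈ PrimeSpectrum.zeroLocus ((J ^ k : Ideal R) : Set R) :=
      PrimeSpectrum.zeroLocus_anti_mono hle hp
    rcases Nat.eq_zero_or_pos k with rfl | hk0
    · rw [pow_zero, Ideal.one_eq_top, PrimeSpectrum.zeroLocus_empty_iff_eq_top.mpr rfl] at h1
      exact absurd h1 (Set.notMem_empty _)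
    · rwa [PrimeSpectrum.zeroLocus_pow J hk0.ne'] at h1
  · intro h
    rw [Module.support_eq_zeroLocus, PrimeSpectrum.zeroLocus_subset_zeroLocus_iff] at h
    obtain ⟨k, hk⟩ := Ideal.exists_pow_le_of_le_radical_of_fg h (IsNoetherian.noetherian J)
    exact ⟨inferInstance, k, fun a ha x => Module.mem_annihilator.mp (hk ha) x⟩

/-- S5174 form. -/
theorem nonempty_equiv_old (G : Type u) [AddCommGroup G] [Module R G] (n : ℕ)
    (hvan : ∀ (F' : Type u) [AddCommGroup F'] [Module R F'], Module.Finite R F' →
      Module.support R F' ⊆ PrimeSpectrum.zeroLocus (J : Set R) → ∀ i : ℕ, i + 1 = n →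
      Subsingleton (((Ext R (ModuleCat.{u} R) i).obj (op (ModuleCat.of R F'))).obj
        (ModuleCat.of R G)))
    (F : Type u) [AddCommGroup F] [Module R F] [Module.Finite R F]
    (hF : Module.support R F ⊆ PrimeSpectrum.zeroLocus (J : Set R)) :
    Nonempty ((((Ext R (ModuleCat.{u} R) n).obj (op (ModuleCat.of R F))).obj (ModuleCat.of R G))
      ≃ₗ[R] (F →ₗ[R] LocCoh.H J n G)) := by
  have hLE : LE J (ModuleCat.of R G) n := by
    apply LE_of_vanishing
    intro F' hF' i hi
    haveI := hF'.1
    have h1 := hvan F' hF'.1 ((tf_iff_support J F').mp hF') i hi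
    exact (extBridge (ModuleCat.of R F') (ModuleCat.of R G) i).symm.toEquiv.subsingleton
  obtain ⟨Φ', -⟩ := exists_natural_equiv hLE
  exact ⟨(extBridge (ModuleCat.of R F) (ModuleCat.of R G) n).trans
    (Φ' (ModuleCat.of R F) ((tf_iff_support J F).mpr hF))⟩

end Groth.Agent.Lib.helper11.ExtRep
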