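import Mathlib
import Groth.Agent.Lib.helper11.ExtRepOld
import Groth.Agent.Lib.helper11.GorensteinLocal
import Groth.Agent.Lib.helper11.Ischebeck
import Groth.Agent.Lib.helper11.CMRegular
import Groth.Agent.Lib.helper11.CanonRegular
import Groth.Agent.Lib.helper11.ExtRegularLin
import Groth.Agent.Lib.helper11.FinLenInd
import Groth.Agent.Lib.Helper26.HullCriterion
import Groth.Agent.Lib.Helper26.MatlisComplete
import Groth.Agent.Lib.Helper7.SupportDimParams
import Groth.Agent.Lib.Helper2.ChiLocal2

/-!
# `H^n_m(R)` is an injective hull of the residue field for Gorenstein local `R` (helper11)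
-/

set_option autoImplicit false

namespace Groth.Agent.Lib.helper11.GorHull

open CategoryTheory Abelian IsLocalRing RingTheory.Sequence
open Groth.Agent.Lib.helper11.LCKit Groth.Agent.Lib.helper11.ExtRep

universe u

section Exactness

variable {R : Type u} [CommRing R] (G : ModuleCat.{u} R) (n : ℕ)

/-- additivity of the length of `Ext^n(-, G)` on a short exact sequence with vanishing
neighbouring `Ext` groups. -/
theorem length_ext_add {S : ShortComplex (ModuleCat.{u} R)} (hS : S.ShortExact)
    (h₁ : ∀ i, i + 1 = n → Subsingleton (Ext S.X₁ G i))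
    (h₃ : Subsingleton (Ext S.X₃ G (n + 1))) :
    Module.length R (Ext S.X₂ G n) =
      Module.length R (Ext S.X₃ G n) + Module.length R (Ext S.X₁ G n) := by
  refine Module.length_eq_add_of_exact (pre G n S.g) (pre G n S.f) ?_ ?_ ?_
  · rw [injective_iff_map_eq_zero]
    intro e he
    rcases n with _ | i
    · haveI : Epi S.g := hS.epi_g
      have := Ext.precomp_mk₀_injective_of_epi G S.g
      refine this (he.trans ?_)
      exact (Ext.comp_zero (Ext.mk₀ S.g) G 0 0 (zero_add 0)).symm
    · obtain ⟨x₁, hx₁⟩ := Ext.contravariant_sequence_exact₃ hS G e he (n₀ := i) (by omega)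
      haveI := h₁ i rfl
      rw [← hx₁, Subsingleton.elim x₁ 0]
      exact Ext.comp_zero _ _ _ _ _
  · intro x₁
    obtain ⟨x₂, hx₂⟩ := Ext.contravariant_sequence_exact₁ hS G x₁ (n₁ := n + 1) (by omega)
      (Subsingleton.elim _ _)
    exact ⟨x₂, hx₂⟩
  · intro x₂
    constructor
    · intro h
      obtain ⟨x₃, hx₃⟩ := Ext.contravariant_sequence_exact₂ hS G x₂ h
      exact ⟨x₃, hx₃⟩
    · rintro ⟨x₃, rfl⟩
      rw [← pre_comp, S.zero, pre_zero]

/-- isomorphic modules have isomorphic `Ext`. -/
noncomputable def extCongr {M N : ModuleCat.{u} R} (e : M ≅ N) : Ext M G n ≃ₗ[R] Ext N G n :=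
  LinearEquiv.ofLinear (pre G n e.inv) (pre G n e.hom)
    (by
      refine LinearMap.ext fun x => ?_
      rw [LinearMap.comp_apply, ← pre_comp, e.inv_hom_id, pre_id]
      rfl)
    (by
      refine LinearMap.ext fun x => ?_
      rw [LinearMap.comp_apply, ← pre_comp, e.hom_inv_id, pre_id]
      rfl)

lemma subsingleton_ext_of_subsingleton (M : ModuleCat.{u} R) [Subsingleton M] :
    Subsingleton (Ext M G n) := by
  refine ⟨fun a b => ?_⟩
  have h0 : 𝟙 M = 0 := by
    refine ModuleCat.hom_ext (LinearMap.ext fun x => Subsingleton.elim _ _)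
  have ha := pre_id G n M a
  have hb := pre_id G n M b
  rw [h0, pre_zero] at ha hb
  rw [← ha, ← hb]

variable [IsLocalRing R]

/-- If `Ext^i(M, G) = 0` for `i ≠ n` and all `M` of finite length then
`length Ext^n(M, G) = length Ext^n(k, G) * length M`. -/
theorem length_ext_eq
    (hvan : ∀ M : ModuleCat.{u} R, Module.length R M ≠ ⊤ → ∀ i, i ≠ n → Subsingleton (Ext M G i)) :
    ∀ M : ModuleCat.{u} R, Module.length R M ≠ ⊤ →
      Module.length R (Ext M G n) =
        Module.length R (Ext (ModuleCat.of R (ResidueField R)) G n) * Module.length R M := by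
  apply FinLenInd.finiteLength_induction
  · intro M hM
    haveI := subsingleton_ext_of_subsingleton G n M
    rw [Module.length_eq_zero (M := Ext M G n), Module.length_eq_zero (M := M), mul_zero]
  · intro S hS ⟨e⟩ hlen hfin IH
    have h1fin : Module.length R S.X₁ ≠ ⊤ := by
      intro h
      rw [h, top_add] at hlen
      exact hfin hlen
    have hk1 : Module.length R (ModuleCat.of R (ResidueField R)) = 1 := by
      haveI : IsSimpleModule R (R ⧸ maximalIdeal R) :=
        isSimpleModule_iff_quot_maximal.mpr ⟨maximalIdeal R, inferInstance, ⟨LinearEquiv.refl _ _⟩⟩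
      exact Module.length_eq_one R (R ⧸ maximalIdeal R)
    have h3len : Module.length R S.X₃ = 1 := by
      rw [← hk1]
      exact e.toLinearEquiv.length_eq
    have h3fin : Module.length R S.X₃ ≠ ⊤ := by
      rw [h3len]
      exact ENat.one_ne_top
    have hadd := length_ext_add G n hS (fun i hi => hvan S.X₁ h1fin i (by omega))
      (hvan S.X₃ h3fin (n + 1) (by omega))
    rw [hadd, IH, (extCongr G n e).length_eq, hlen, mul_add, mul_one, add_comm]

end Exactness

section Gor

variable {R : Type u} [CommRing R]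

lemma enat_eq_one (a r : ℕ∞) (h0 : a ≠ 0) (ht : a ≠ ⊤) (h : a = r * a) : r = 1 := by
  obtain ⟨a', rfl⟩ := ENat.ne_top_iff_exists.mp ht
  rcases eq_or_ne r ⊤ with rfl | hr
  · rw [ENat.top_mul h0] at h
    exact absurd h ht
  · obtain ⟨r', rfl⟩ := ENat.ne_top_iff_exists.mp hr
    have h' : a' = r' * a' := by exact_mod_cast h
    have ha' : a' ≠ 0 := by
      rintro rfl
      exact h0 rfl
    have : r' = 1 := by
      have h2 : 1 * a' = r' * a' := by rw [one_mul]; exact h'
      exact (Nat.eq_of_mul_eq_mul_right (Nat.pos_of_ne_zero ha') h2).symm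
    rw [this]
    rfl

/-- local cohomology is power torsion. -/
theorem isPowerTorsion_H (J : Ideal R) (G : ModuleCat.{u} R) (n : ℕ) :
    LocCoh.IsPowerTorsion J ((localCohomology J n).obj G) := by
  intro h
  obtain ⟨k, y, rfl⟩ := exists_rep J n G h
  refine ⟨k, fun a ha => ?_⟩
  rw [← map_smul, smul_X_eq_zero k a ha y, map_zero]

variable [IsNoetherianRing R] [IsLocalRing R]

lemma finite_of_length_ne_top (M : Type u) [AddCommGroup M] [Module R M]
    (h : Module.length R M ≠ ⊤) : Module.Finite R M := by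
  have h1 := Module.length_ne_top_iff.mp h
  obtain ⟨hN, -⟩ := isFiniteLength_iff_isNoetherian_isArtinian.mp h1
  infer_instance

lemma supportDim_le_zero_of_length_ne_top (M : Type u) [AddCommGroup M] [Module R M]
    (h : Module.length R M ≠ ⊤) : Module.supportDim R M ≤ 0 := by
  haveI := finite_of_length_ne_top M h
  exact Groth.Agent.Lib.Helper7.SuppDimParams.supportDim_le_zero_of_isFiniteLength
    (Module.length_ne_top_iff.mp h)

lemma length_ne_top_of_tf (F : Type u) [AddCommGroup F] [Module R F]
    (hF : TF (maximalIdeal R) F) : Module.length R F ≠ ⊤ := by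
  haveI := hF.1
  rw [Module.length_ne_top_iff]
  apply Groth.Agent.Lib.Helper2.ChiLocal2.isFiniteLength_of_support_subset
  intro q hq
  have h1 := (tf_iff_support (maximalIdeal R) F).mp hF hq
  rw [PrimeSpectrum.mem_zeroLocus] at h1
  exact ((IsLocalRing.maximalIdeal.isMaximal R).eq_of_le q.2.ne_top h1).symm

open Groth.Agent.Lib.Helper21.DepthKit in
theorem gor_vanishing (hG : ∃ k : ℕ, HasInjectiveDimensionLT (ModuleCat.of R R) k) (n : ℕ)
    (hn : ringKrullDim R = n) (M : ModuleCat.{u} R) (hM : Module.length R M ≠ ⊤) (i : ℕ)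
    (hi : i ≠ n) : Subsingleton (Ext M (ModuleCat.of R R) i) := by
  obtain ⟨hinj, -, hdepth⟩ := GorensteinLocal.gorenstein_main hG n hn
  haveI := finite_of_length_ne_top M hM
  rcases Nat.lt_or_gt_of_ne hi with h | h
  · obtain ⟨rs, hlen, hmem, hreg⟩ :=
      (natCast_le_depth_iff (A := R) (M := R) n).mp (by rw [hdepth])
    have hreg' : IsRegular R rs := IsRegular.of_isWeaklyRegular_of_mem_maximalIdeal R hmem hreg
    exact Ischebeck.ext_subsingleton_of_regular R M rs hmem hreg' 0 i
      (by simpa using supportDim_le_zero_of_length_ne_top M hM) (by omega)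
  · haveI := hinj
    exact HasInjectiveDimensionLT.subsingleton (ModuleCat.of R R) (n + 1) i (by omega) M

open Groth.Agent.Lib.Helper21.DepthKit Groth.Agent.Lib.helper11.LocalDuality in
/-- `Ext^n(k, R)` has length one for a Gorenstein local ring of dimension `n`. -/
theorem gor_type_one (hG : ∃ k : ℕ, HasInjectiveDimensionLT (ModuleCat.of R R) k) (n : ℕ)
    (hn : ringKrullDim R = n) :
    Module.length R (Ext (ModuleCat.of R (ResidueField R)) (ModuleCat.of R R) n) = 1 := by
  obtain ⟨hinj, -, hdepth⟩ := GorensteinLocal.gorenstein_main hG n hn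
  obtain ⟨rs, hlen, hmem, hreg⟩ :=
    (natCast_le_depth_iff (A := R) (M := R) n).mp (by rw [hdepth])
  subst hlen
  have hle : Ideal.ofList rs ≤ maximalIdeal R := by
    unfold Ideal.ofList
    rw [Ideal.span_le]
    intro r hr
    exact hmem r hr
  have hX : ∀ r ∈ Ideal.ofList rs, ∀ x : R ⧸ (Ideal.ofList rs • (⊤ : Submodule R R)),
      r • x = 0 := by
    intro r hr x
    obtain ⟨k, rfl⟩ := Submodule.mkQ_surjective _ x
    rw [← map_smul, Submodule.mkQ_apply, Submodule.Quotient.mk_eq_zero]
    exact Submodule.smul_mem_smul hr trivial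
  have hN : ∀ r ∈ Ideal.ofList rs, ∀ x : R ⧸ Ideal.ofList rs, r • x = 0 := by
    intro r hr x
    obtain ⟨k, rfl⟩ := Ideal.Quotient.mk_surjective x
    rw [← Ideal.Quotient.mk_eq_mk, ← Submodule.Quotient.mk_smul, Submodule.Quotient.mk_eq_zero,
      smul_eq_mul]
    exact Ideal.mul_mem_right _ _ hr
  obtain ⟨rees⟩ := Groth.Agent.Lib.helper11.ExtRegular.hom_quotient_linearEquiv_ext R
    (R ⧸ Ideal.ofList rs) (Ideal.ofList rs) hN rs R hreg (fun r hr => Ideal.subset_span hr)
  let ev := homQuotEquiv (Ideal.ofList rs) (R ⧸ (Ideal.ofList rs • (⊤ : Submodule R R))) hX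
  have heq : (Ideal.ofList rs • (⊤ : Submodule R R)) = Ideal.ofList rs := by
    rw [smul_eq_mul, Ideal.mul_top]
  let eq : (R ⧸ (Ideal.ofList rs • (⊤ : Submodule R R))) ≃ₗ[R] (R ⧸ Ideal.ofList rs) :=
    Submodule.quotEquivOfEq _ _ heq
  have hlenExt : Module.length R (Ext (ModuleCat.of R (R ⧸ Ideal.ofList rs)) (ModuleCat.of R R)
      rs.length) = Module.length R (R ⧸ Ideal.ofList rs) :=
    ((rees.symm.trans ev).trans eq).length_eq
  have hdim := ((Groth.Agent.Lib.helper11.CMRegular.isWeaklyRegular_iff rs R rs.length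
    (by rw [Module.supportDim_self_eq_ringKrullDim, hn]) hdepth hmem).mp hreg).2
  rw [Nat.sub_self] at hdim
  have hfl : Module.length R (R ⧸ Ideal.ofList rs) ≠ ⊤ := by
    rw [← eq.length_eq, Module.length_ne_top_iff]
    apply Groth.Agent.Lib.Helper7.SuppDimParams.isFiniteLength_of_supportDim_le_zero
    rw [hdim]
    rfl
  have hne0 : Module.length R (R ⧸ Ideal.ofList rs) ≠ 0 := by
    rw [Ne, Module.length_eq_zero_iff, not_subsingleton_iff_nontrivial,
      Ideal.Quotient.nontrivial_iff]
    intro h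
    rw [h] at hle
    exact (IsLocalRing.maximalIdeal.isMaximal R).ne_top (top_le_iff.mp hle)
  have hform := length_ext_eq (ModuleCat.of R R) rs.length
    (fun M hM i hi => gor_vanishing hG rs.length hn M hM i hi)
    (ModuleCat.of R (R ⧸ Ideal.ofList rs)) hfl
  rw [hlenExt] at hform
  exact enat_eq_one _ _ hne0 hfl hform

/-- **`H^n_m(R)` is an injective hull of `k`** for a Gorenstein local ring of dimension `n`. -/
theorem exists_hull (hG : ∃ k : ℕ, HasInjectiveDimensionLT (ModuleCat.of R R) k) (n : ℕ)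
    (hn : ringKrullDim R = n) :
    ∃ g : ResidueField R →ₗ[R] LocCoh.H (maximalIdeal R) n R, InjHull.IsInjectiveHull g := by
  have hvanFL : ∀ M : ModuleCat.{u} R, Module.length R M ≠ ⊤ → ∀ i, i ≠ n →
      Subsingleton (Ext M (ModuleCat.of R R) i) :=
    fun M hM i hi => gor_vanishing hG n hn M hM i hi
  have hLE : LE (maximalIdeal R) (ModuleCat.of R R) n :=
    LE_of_vanishing _ _ _ (fun F' hF' i hi =>
      hvanFL F' (length_ne_top_of_tf F' hF') i (by omega))
  obtain ⟨Φ', -⟩ := exists_natural_equiv hLE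
  have hlenF := length_ext_eq (ModuleCat.of R R) n hvanFL
  have hr := gor_type_one hG n hn
  apply Groth.Agent.Lib.Helper26.HullCriterion.exists_hull_of_lengths R _
    (isPowerTorsion_H (maximalIdeal R) (ModuleCat.of R R) n)
  intro t
  have h1 := (Φ' (Q (maximalIdeal R) t) (tf_Q (maximalIdeal R) t)).length_eq
  have h2 := hlenF (Q (maximalIdeal R) t) (length_ne_top_of_tf _ (tf_Q (maximalIdeal R) t))
  rw [hr, one_mul] at h2
  exact h2.symm.trans h1

end Gor

end Groth.Agent.Lib.helper11.GorHull
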