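import Mathlib
import Groth.Prelude.Def_CAlgX

/-!
# An `H_1`-regular sequence is quasi-regular (helper11)

Bottom-up Koszul argument on the graded components of a polynomial in the kernel of
evaluation at `f`.
-/

set_option autoImplicit false

namespace Groth.Agent.Lib.helper11.H1QR

open MvPolynomial CAlgX

universe u

variable {R : Type u} [CommRing R] {c : ℕ} (f : Fin c → R)

theorem degree_sub_single {σ : Type*} [DecidableEq σ] (m : σ →₀ ℕ) (i : σ) (hi : i ∈ m.support) :
    m.degree = (m - Finsupp.single i 1).degree + 1 := by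
  have h1 : Finsupp.single i 1 ≤ m := by
    rw [Finsupp.single_le_iff]
    exact Nat.one_le_iff_ne_zero.mpr (Finsupp.mem_support_iff.mp hi)
  have h2 : m = (m - Finsupp.single i 1) + Finsupp.single i 1 := (tsub_add_cancel_of_le h1).symm
  conv_lhs => rw [h2]
  rw [map_add, Finsupp.degree_single]

theorem hc_succ_X_mul {σ : Type*} [DecidableEq σ] (i : σ) (p : MvPolynomial σ R) (d : ℕ) :
    homogeneousComponent (d + 1) (X i * p) = X i * homogeneousComponent d p := by
  ext m
  rw [coeff_homogeneousComponent, coeff_X_mul', coeff_X_mul', coeff_homogeneousComponent]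
  by_cases hi : i ∈ m.support
  · rw [if_pos hi, if_pos hi]
    have := degree_sub_single m i hi
    by_cases hd : m.degree = d + 1
    · rw [if_pos hd, if_pos (by omega)]
    · rw [if_neg hd, if_neg (by omega)]
  · rw [if_neg hi, if_neg hi]
    simp

theorem hc_zero_X_mul {σ : Type*} [DecidableEq σ] (i : σ) (p : MvPolynomial σ R) :
    homogeneousComponent 0 (X i * p) = 0 := by
  ext m
  rw [coeff_homogeneousComponent, coeff_X_mul', coeff_zero]
  by_cases hi : i ∈ m.support
  · have := degree_sub_single m i hi
    rw [if_neg (by omega)]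
  · rw [if_neg hi]
    simp

/-- the kernel of evaluation at `f` is generated by the `X i - C (f i)`. -/
theorem ker_eval (p : MvPolynomial (Fin c) R) :
    ∃ g : Fin c → MvPolynomial (Fin c) R,
      p - C (eval f p) = ∑ i, (X i - C (f i)) * g i := by
  induction p using MvPolynomial.induction_on with
  | C a => exact ⟨fun _ => 0, by simp⟩
  | add p q hp hq =>
    obtain ⟨gp, hgp⟩ := hp
    obtain ⟨gq, hgq⟩ := hq
    refine ⟨fun i => gp i + gq i, ?_⟩
    rw [map_add, map_add]
    calc p + q - (C (eval f p) + C (eval f q))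
        = (p - C (eval f p)) + (q - C (eval f q)) := by ring
      _ = ∑ i, (X i - C (f i)) * (gp i + gq i) := by
        rw [hgp, hgq, ← Finset.sum_add_distrib]
        exact Finset.sum_congr rfl (fun i _ => by ring)
  | mul_X p i₀ hp =>
    obtain ⟨g, hg⟩ := hp
    refine ⟨fun i => g i * X i₀ + if i = i₀ then C (eval f p) else 0, ?_⟩
    rw [map_mul, eval_X, map_mul]
    have h1 : ∑ i, (X i - C (f i)) * (g i * X i₀ + if i = i₀ then C (eval f p) else 0) =
        (∑ i, (X i - C (f i)) * g i) * X i₀ + (X i₀ - C (f i₀)) * C (eval f p) := by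
      rw [Finset.sum_mul]
      have h2 : ∑ i, (X i - C (f i)) * (if i = i₀ then C (eval f p) else 0) =
          (X i₀ - C (f i₀)) * C (eval f p) := by
        rw [Finset.sum_eq_single i₀]
        · rw [if_pos rfl]
        · intro b _ hb
          rw [if_neg hb, mul_zero]
        · intro h
          exact absurd (Finset.mem_univ _) h
      rw [← h2, ← Finset.sum_add_distrib]
      exact Finset.sum_congr rfl (fun i _ => by ring)
    rw [h1, ← hg]
    ring

/-- `H_1`-regularity gives alternating coefficient matrices. -/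
theorem h1_ring (hf : IsH1Regular f) (v : Fin c → R) (hv : ∑ i, v i * f i = 0) :
    ∃ r : Fin c → Fin c → R, ∀ k, v k = ∑ j, (r k j - r j k) * f j := by
  have hmem := hf v hv
  have hset : {w : Fin c → R | ∃ i j : Fin c, w = Pi.single i (f j) - Pi.single j (f i)} =
      Set.range (fun p : Fin c × Fin c => (Pi.single p.1 (f p.2) - Pi.single p.2 (f p.1) :
        Fin c → R)) := by
    ext w
    constructor
    · rintro ⟨i, j, rfl⟩
      exact ⟨(i, j), rfl⟩
    · rintro ⟨⟨i, j⟩, rfl⟩
      exact ⟨i, j, rfl⟩
  rw [hset, Submodule.mem_span_range_iff_exists_fun] at hmem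
  obtain ⟨cf, hcf⟩ := hmem
  refine ⟨fun i j => cf (i, j), fun k => ?_⟩
  rw [← hcf, Finset.sum_apply, Fintype.sum_prod_type]
  have h1 : ∀ i j : Fin c, (cf (i, j) • (Pi.single i (f j) - Pi.single j (f i) : Fin c → R)) k =
      (if k = i then cf (i, j) * f j else 0) - (if k = j then cf (i, j) * f i else 0) := by
    intro i j
    rw [Pi.smul_apply, Pi.sub_apply, smul_eq_mul, mul_sub, Pi.single_apply, Pi.single_apply,
      mul_ite, mul_ite, mul_zero]
  simp only [h1]
  rw [Finset.sum_congr rfl (fun i _ => Finset.sum_sub_distrib _ _), Finset.sum_sub_distrib]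
  have h2 : ∑ i, ∑ j, (if k = i then cf (i, j) * f j else 0) = ∑ j, cf (k, j) * f j := by
    rw [Finset.sum_eq_single k]
    · exact Finset.sum_congr rfl (fun j _ => if_pos rfl)
    · intro b _ hb
      exact Finset.sum_eq_zero (fun j _ => if_neg (Ne.symm hb))
    · intro h
      exact absurd (Finset.mem_univ _) h
  have h3 : ∑ i, ∑ j, (if k = j then cf (i, j) * f i else 0) = ∑ i, cf (i, k) * f i := by
    refine Finset.sum_congr rfl (fun i _ => ?_)
    rw [Finset.sum_eq_single k]
    · exact if_pos rfl
    · intro b _ hb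
      exact if_neg (Ne.symm hb)
    · intro h
      exact absurd (Finset.mem_univ _) h
  rw [h2, h3, ← Finset.sum_sub_distrib]
  exact Finset.sum_congr rfl (fun j _ => by ring)

theorem h1_poly (hf : IsH1Regular f) (h : Fin c → MvPolynomial (Fin c) R)
    (hh : ∑ i, C (f i) * h i = 0) :
    ∃ r : Fin c → Fin c → MvPolynomial (Fin c) R,
      ∀ k, h k = ∑ j, C (f j) * (r k j - r j k) := by
  classical
  have h1 : ∀ m : Fin c →₀ ℕ, ∃ r : Fin c → Fin c → R,
      ∀ k, coeff m (h k) = ∑ j, (r k j - r j k) * f j := by
    intro m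
    apply h1_ring f hf (fun i => coeff m (h i))
    have := congrArg (coeff m) hh
    rw [coeff_sum, coeff_zero] at this
    rw [← this]
    exact Finset.sum_congr rfl (fun i _ => by rw [coeff_C_mul, mul_comm])
  choose rr hrr using h1
  let S : Finset (Fin c →₀ ℕ) := Finset.univ.biUnion (fun i => (h i).support)
  refine ⟨fun k j => ∑ m ∈ S, monomial m (rr m k j), fun k => ?_⟩
  ext m'
  have hc : ∀ k j, coeff m' (∑ m ∈ S, monomial m (rr m k j)) =
      if m' ∈ S then rr m' k j else 0 := by
    intro k j
    rw [coeff_sum]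
    simp only [coeff_monomial]
    rw [Finset.sum_ite_eq' S m']
  rw [coeff_sum]
  simp only [coeff_C_mul, coeff_sub, hc]
  by_cases hm : m' ∈ S
  · simp only [if_pos hm]
    rw [hrr m' k]
    exact Finset.sum_congr rfl (fun j _ => by ring)
  · simp only [if_neg hm, sub_zero, mul_zero, Finset.sum_const_zero]
    by_contra hne
    apply hm
    rw [Finset.mem_biUnion]
    exact ⟨k, Finset.mem_univ _, mem_support_iff.mpr hne⟩

theorem swap_sum_zero (a : Fin c → Fin c → MvPolynomial (Fin c) R) :
    ∑ k, ∑ i, (a i k - a k i) * X i * X k = (0 : MvPolynomial (Fin c) R) := by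
  have h1 : ∑ k, ∑ i, a k i * X i * X k = ∑ k, ∑ i, a i k * X i * X k := by
    rw [Finset.sum_comm]
    exact Finset.sum_congr rfl (fun k _ => Finset.sum_congr rfl (fun i _ => by ring))
  have h2 : ∑ k, ∑ i, (a i k - a k i) * X i * X k =
      ∑ k, ∑ i, a i k * X i * X k - ∑ k, ∑ i, a k i * X i * X k := by
    rw [← Finset.sum_sub_distrib]
    refine Finset.sum_congr rfl (fun k _ => ?_)
    rw [← Finset.sum_sub_distrib]
    exact Finset.sum_congr rfl (fun i _ => by ring)
  rw [h2, h1, sub_self]

theorem main (hf : IsH1Regular f) : IsQuasiRegular f := by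
  classical
  intro n P hP hPJ d
  obtain ⟨H, hH, hHP⟩ := (Ideal.mem_span_pow_iff_exists_isHomogeneous f _).mp hPJ
  obtain ⟨g, hg⟩ := ker_eval f (P - H)
  rw [map_sub, hHP, sub_self, map_zero, sub_zero] at hg
  -- component identity
  have hcomp : ∀ e, homogeneousComponent e (P - H) =
      ∑ i, homogeneousComponent e (X i * g i) - ∑ i, C (f i) * homogeneousComponent e (g i) := by
    intro e
    rw [hg, map_sum, ← Finset.sum_sub_distrib]
    refine Finset.sum_congr rfl (fun i _ => ?_)
    rw [sub_mul, map_sub, homogeneousComponent_C_mul]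
  have hP' : ∀ e, homogeneousComponent e P = if e = n then P else 0 :=
    fun e => homogeneousComponent_of_mem hP
  have hH' : ∀ e, homogeneousComponent e H = if e = n + 1 then H else 0 :=
    fun e => homogeneousComponent_of_mem hH
  have hlt : ∀ e, e < n → homogeneousComponent e (P - H) = 0 := by
    intro e he
    rw [map_sub, hP', hH', if_neg (by omega), if_neg (by omega), sub_zero]
  have hn : homogeneousComponent n (P - H) = P := by
    rw [map_sub, hP', hH', if_pos rfl, if_neg (by omega), sub_zero]
  -- the Koszul induction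
  have K : ∀ e, e ≤ n → ∃ a : Fin c → Fin c → MvPolynomial (Fin c) R,
      ∑ i, homogeneousComponent e (X i * g i) = ∑ i, ∑ j, (a i j - a j i) * C (f j) * X i := by
    intro e
    induction e with
    | zero =>
      intro _
      refine ⟨fun _ _ => 0, ?_⟩
      rw [Finset.sum_eq_zero (fun i _ => hc_zero_X_mul i (g i))]
      simp
    | succ e ih =>
      intro he
      obtain ⟨a, ha⟩ := ih (by omega)
      have h0 := hlt e (by omega)
      rw [hcomp e, sub_eq_zero, ha] at h0
      have hrel : ∑ k, C (f k) * (homogeneousComponent e (g k) - ∑ i, (a i k - a k i) * X i) = 0 := by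
        have h1 : ∑ k, C (f k) * (homogeneousComponent e (g k) - ∑ i, (a i k - a k i) * X i) =
            ∑ k, C (f k) * homogeneousComponent e (g k) -
              ∑ k, ∑ i, (a i k - a k i) * C (f k) * X i := by
          rw [← Finset.sum_sub_distrib]
          refine Finset.sum_congr rfl (fun k _ => ?_)
          rw [mul_sub, Finset.mul_sum]
          congr 1
          exact Finset.sum_congr rfl (fun i _ => by ring)
        rw [h1, ← h0, Finset.sum_comm, sub_self]
      obtain ⟨r, hr⟩ := h1_poly f hf _ hrel
      refine ⟨r, ?_⟩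
      have h2 : ∀ k, homogeneousComponent e (g k) =
          ∑ j, C (f j) * (r k j - r j k) + ∑ i, (a i k - a k i) * X i := by
        intro k
        rw [← hr k]
        ring
      calc ∑ k, homogeneousComponent (e + 1) (X k * g k)
          = ∑ k, X k * homogeneousComponent e (g k) :=
            Finset.sum_congr rfl (fun k _ => hc_succ_X_mul k (g k) e)
        _ = ∑ k, ∑ j, (r k j - r j k) * C (f j) * X k +
              ∑ k, ∑ i, (a i k - a k i) * X i * X k := by
            rw [← Finset.sum_add_distrib]
            refine Finset.sum_congr rfl (fun k _ => ?_)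
            rw [h2 k, mul_add, Finset.mul_sum, Finset.mul_sum]
            congr 1
            · exact Finset.sum_congr rfl (fun j _ => by ring)
            · exact Finset.sum_congr rfl (fun i _ => by ring)
        _ = ∑ k, ∑ j, (r k j - r j k) * C (f j) * X k := by
            rw [swap_sum_zero, add_zero]
  obtain ⟨a, ha⟩ := K n le_rfl
  have hPeq : P = ∑ i, ∑ j, C (f j) * ((a i j - a j i) * X i) -
      ∑ i, C (f i) * homogeneousComponent n (g i) := by
    rw [← hn, hcomp n, ha]
    congr 1
    exact Finset.sum_congr rfl (fun i _ => Finset.sum_congr rfl (fun j _ => by ring))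
  rw [hPeq, coeff_sub, coeff_sum, coeff_sum]
  refine Ideal.sub_mem _ (Ideal.sum_mem _ (fun i _ => ?_)) (Ideal.sum_mem _ (fun i _ => ?_))
  · rw [coeff_sum]
    refine Ideal.sum_mem _ (fun j _ => ?_)
    rw [coeff_C_mul]
    exact Ideal.mul_mem_right _ _ (Ideal.subset_span ⟨j, rfl⟩)
  · rw [coeff_C_mul]
    exact Ideal.mul_mem_right _ _ (Ideal.subset_span ⟨i, rfl⟩)

end Groth.Agent.Lib.helper11.H1QR
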