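import Mathlib
import Groth.Agent.Lib.helper19.RegularLocalQuot
import Groth.Agent.Lib.Helper21.CatKit

/-!
# Counting generators of the maximal ideal through a quotient (helper11)
-/

set_option autoImplicit false

namespace Groth.Agent.Lib.helper11.RegularCounting

open IsLocalRing Groth.Agent.Lib.helper19

universe u

variable {R : Type u} [CommRing R] [IsLocalRing R] [IsNoetherianRing R]

/-- `embdim R ≤ μ(I) + embdim (R/I)`. -/
theorem spanFinrank_maximalIdeal_le_add (I : Ideal R) [IsLocalRing (R ⧸ I)] :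
    (maximalIdeal R).spanFinrank ≤ I.spanFinrank + (maximalIdeal (R ⧸ I)).spanFinrank := by
  obtain ⟨l, hl, hl'⟩ := exists_list_ofList_eq (maximalIdeal (R ⧸ I))
  obtain ⟨l₀, hl₀, hl₀'⟩ := exists_list_ofList_eq I
  have h1 := comap_mk_maximalIdeal I
  rw [← hl', comap_mk_ofList] at h1
  have h2 : maximalIdeal R = Ideal.ofList (l₀ ++ l.map (quotLift _)) := by
    rw [Ideal.ofList_append, hl₀', ← h1, sup_comm]
  rw [h2]
  refine (spanFinrank_ofList_le _).trans ?_
  simp [hl, hl₀]

omit [IsLocalRing R] [IsNoetherianRing R] in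
/-- `ht p + dim R/p ≤ dim R`. -/
theorem height_add_ringKrullDim_quotient_le (p : Ideal R) [hp : p.IsPrime] :
    ((p.height : ℕ∞) : WithBot ℕ∞) + ringKrullDim (R ⧸ p) ≤ ringKrullDim R := by
  let P : PrimeSpectrum R := ⟨p, hp⟩
  haveI : Nonempty (PrimeSpectrum R) := ⟨P⟩
  have h1 : ringKrullDim (R ⧸ p) = (Order.coheight P : ℕ∞) :=
    Groth.Agent.Lib.Helper21.CatKit.ringKrullDim_quotient_eq_coheight P
  have h2 : p.height = Order.height P := PrimeSpectrum.height_eq_orderHeight P
  rw [h1, h2, ringKrullDim, Order.krullDim_eq_iSup_height_add_coheight_of_nonempty,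
    ← WithBot.coe_add, WithBot.coe_le_coe]
  exact le_iSup (fun a : PrimeSpectrum R => Order.height a + Order.coheight a) P

end Groth.Agent.Lib.helper11.RegularCounting
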