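import Mathlib
import Groth.Agent.S10834
import Groth.Agent.S6880
import Groth.Agent.Lib.Helper21.DepthKit6

/-!
# Dimension formula and depth of a regular local ring (helper11)
-/

set_option autoImplicit false

namespace Groth.Agent.Lib.helper11.RegularDim

open IsLocalRing Module

universe u

variable {R : Type u} [CommRing R]

/-- `dim R = ht p + dim R/p` in a regular local ring. -/
theorem ringKrullDim_eq_height_add [IsRegularLocalRing R] (p : Ideal R) [hp : p.IsPrime] :
    ringKrullDim R = ((p.height : ℕ∞) : WithBot ℕ∞) + ringKrullDim (R ⧸ p) := by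
  have hCM := Groth.Agent.S10834.isCM_of_isRegularLocalRing R
  have hsupp : (⟨p, hp⟩ : PrimeSpectrum R) ∈ Module.support R R := by
    rw [Module.support_eq_zeroLocus]
    simp [Module.annihilator_eq_bot.mpr inferInstance]
  obtain ⟨-, h⟩ := Groth.Agent.Lib.Helper21.DepthKit.isCM_localizedModule_and_dim hCM ⟨p, hp⟩ hsupp
  have h1 : supportDim R R = ringKrullDim R := supportDim_self_eq_ringKrullDim R
  have h2 : supportDim R (R ⧸ (p • (⊤ : Submodule R R))) = ringKrullDim (R ⧸ p) := by
    have : (p • (⊤ : Submodule R R)) = p := by simp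
    rw [this]
    exact supportDim_quotient_eq_ringKrullDim p
  have h3 : supportDim (Localization.AtPrime p) (LocalizedModule p.primeCompl R) =
      ((p.height : ℕ∞) : WithBot ℕ∞) := by
    rw [supportDim_eq_of_equiv (Groth.Agent.S6880.locSelfEquiv p), supportDim_self_eq_ringKrullDim,
      IsLocalization.AtPrime.ringKrullDim_eq_height p]
  rw [h1, h2, h3] at h
  rw [h, add_comm]

/-- `depth R = dim R` for a regular local ring. -/
theorem depth_self [IsRegularLocalRing R] :
    ((LocCoh.depth R R : ℕ∞) : WithBot ℕ∞) = ringKrullDim R := by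
  have hCM := Groth.Agent.S10834.isCM_of_isRegularLocalRing R
  unfold LocCoh.IsCohenMacaulayModule at hCM
  rw [← hCM, supportDim_self_eq_ringKrullDim]

end Groth.Agent.Lib.helper11.RegularDim
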