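import Mathlib
import Groth.Agent.Lib.Helper26.Matlis

/-!
# Artinian modules killed by a power of the maximal ideal have finite length (helper11)
-/

set_option autoImplicit false

namespace Groth.Agent.Lib.helper11.FinLenArt

open IsLocalRing

universe u v

variable {R : Type u} [CommRing R]

theorem isNoetherian_of_isArtinian_of_pow_le (m : Ideal R) [hm : m.IsMaximal] :
    ∀ (n : ℕ) (N : Type v) [AddCommGroup N] [Module R N] [IsArtinian R N],
      m ^ n ≤ Module.annihilator R N → IsNoetherian R N := by
  intro n
  induction n with
  | zero =>
    intro N _ _ _ h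
    rw [pow_zero, Ideal.one_eq_top, top_le_iff, Module.annihilator_eq_top_iff] at h
    infer_instance
  | succ n ih =>
    intro N _ _ _ h
    let N₁ : Submodule R N := m • ⊤
    rw [isNoetherian_iff_submodule_quotient N₁]
    constructor
    · apply ih N₁
      intro a ha
      rw [Module.mem_annihilator]
      rintro ⟨x, hx⟩
      apply Subtype.ext
      change a • x = 0
      refine Submodule.smul_induction_on hx ?_ ?_
      · intro b hb y _
        rw [← mul_smul]
        have : a * b ∈ m ^ (n + 1) := by
          rw [pow_succ]
          exact Ideal.mul_mem_mul ha hb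
        exact Module.mem_annihilator.mp (h this) y
      · intro y z hy hz
        rw [smul_add, hy, hz, add_zero]
    · have htors : Module.IsTorsionBySet R (N ⧸ N₁) (m : Set R) := by
        intro x a
        obtain ⟨y, rfl⟩ := Submodule.Quotient.mk_surjective _ x
        change (a : R) • Submodule.Quotient.mk y = 0
        rw [← Submodule.Quotient.mk_smul, Submodule.Quotient.mk_eq_zero]
        exact Submodule.smul_mem_smul a.2 Submodule.mem_top
      letI : Field (R ⧸ m) := Ideal.Quotient.field m
      letI := htors.module
      haveI : IsSemisimpleModule R (N ⧸ N₁) :=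
        (htors.semilinearMap.isSemisimpleModule_iff_of_bijective Function.bijective_id).2
          inferInstance
      have htfae := IsSemisimpleModule.finite_tfae (R := R) (M := N ⧸ N₁)
      have h12 : IsNoetherian R (N ⧸ N₁) ↔ IsArtinian R (N ⧸ N₁) := htfae.out 1 2
      exact h12.mpr inferInstance

variable [IsNoetherianRing R] [IsLocalRing R]

theorem exists_pow_le_annihilator_of_isFiniteLength (N : Type u) [AddCommGroup N] [Module R N]
    (hN : IsFiniteLength R N) : ∃ n : ℕ, maximalIdeal R ^ n ≤ Module.annihilator R N := by
  induction hN with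
  | of_subsingleton =>
    refine ⟨0, ?_⟩
    rw [Module.annihilator_eq_top_iff.mpr inferInstance]
    exact le_top
  | @of_simple_quotient N _ _ N' _ _ ih =>
    obtain ⟨n, hn⟩ := ih
    refine ⟨n + 1, ?_⟩
    rw [pow_succ]
    intro a ha
    rw [Module.mem_annihilator]
    intro x
    refine Submodule.mul_induction_on ha ?_ ?_
    · intro b hb c hc
      have h1 : c • x ∈ N' := by
        rw [← Submodule.Quotient.mk_eq_zero, Submodule.Quotient.mk_smul]
        exact Groth.Agent.Lib.Helper26.Matlis.smul_eq_zero_of_isSimpleModule hc _
      have h2 := Module.mem_annihilator.mp (hn hb) ⟨c • x, h1⟩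
      rw [mul_smul]
      exact congrArg Subtype.val h2
    · intro b c hb hc
      rw [add_smul, hb, hc, add_zero]

theorem isFiniteLength_iff_le_radical_annihilator (N : Type u) [AddCommGroup N] [Module R N]
    [IsArtinian R N] :
    IsFiniteLength R N ↔ maximalIdeal R ≤ (Module.annihilator R N).radical := by
  constructor
  · intro h
    obtain ⟨n, hn⟩ := exists_pow_le_annihilator_of_isFiniteLength N h
    intro x hx
    exact ⟨n, hn (Ideal.pow_mem_pow hx n)⟩
  · intro h
    obtain ⟨n, hn⟩ := Ideal.exists_pow_le_of_le_radical_of_fg h
      (IsNoetherian.noetherian (maximalIdeal R))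
    rw [isFiniteLength_iff_isNoetherian_isArtinian]
    exact ⟨isNoetherian_of_isArtinian_of_pow_le (maximalIdeal R) n N hn, inferInstance⟩

end Groth.Agent.Lib.helper11.FinLenArt
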