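import Mathlib
import Groth.Prelude.Def_CAlg
import Groth.Agent.S0343
import Groth.Agent.Lib.Helper5.GorIso
import Groth.Agent.Lib.Helper21.DepthKit12

/-!
# Gorenstein local rings modulo regular sequences (helper11)
-/

set_option autoImplicit false

namespace Groth.Agent.Lib.helper11.GorRegQuot

open IsLocalRing RingTheory.Sequence Pointwise

universe u

/-- `A/(x)` as a module over itself is weakly regular for the image of `rs` iff `A/xA` is. -/
theorem isWeaklyRegular_quotient_span_singleton {A : Type u} [CommRing A] (x : A) (rs : List A)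
    (h : IsWeaklyRegular (QuotSMulTop x A) (rs.map (Ideal.Quotient.mk (Ideal.span {x})))) :
    IsWeaklyRegular (A ⧸ Ideal.span {x}) (rs.map (Ideal.Quotient.mk (Ideal.span {x}))) := by
  have heq : (x • (⊤ : Submodule A A)) = Ideal.span {x} := by
    rw [← Submodule.ideal_span_singleton_smul, smul_eq_mul, Ideal.mul_top]
  let e : QuotSMulTop x A ≃ₗ[A] (A ⧸ Ideal.span {x}) := Submodule.quotEquivOfEq _ _ heq
  refine (e.toAddEquiv.isWeaklyRegular_congr (List.forall₂_same.mpr fun r _ z => ?_)).1 h
  obtain ⟨a, rfl⟩ := Ideal.Quotient.mk_surjective r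
  have h1 : (Ideal.Quotient.mk (Ideal.span {x}) a) • z = a • z := by
    rw [← Ideal.Quotient.algebraMap_eq, algebraMap_smul]
  have h2 : (Ideal.Quotient.mk (Ideal.span {x}) a) • (e.toAddEquiv z) = a • (e.toAddEquiv z) := by
    rw [← Ideal.Quotient.algebraMap_eq, algebraMap_smul]
  rw [h1, h2]
  exact e.map_smul a z

/-- A Gorenstein local ring modulo a regular sequence is a Gorenstein local ring. -/
theorem isGorensteinLocalRing_quotient_ofList : ∀ (n : ℕ) (A : Type u) [CommRing A]
    [LocCoh.IsGorensteinLocalRing A] (xs : List A), xs.length = n →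
    (∀ x ∈ xs, x ∈ maximalIdeal A) → IsWeaklyRegular A xs →
    LocCoh.IsGorensteinLocalRing (A ⧸ Ideal.ofList xs) := by
  intro n
  induction n with
  | zero =>
    intro A _ _ xs hlen _ _
    obtain rfl := List.length_eq_zero_iff.1 hlen
    have e : A ≃+* (A ⧸ Ideal.ofList ([] : List A)) :=
      (RingEquiv.quotientBot A).symm.trans (Ideal.quotEquivOfEq Ideal.ofList_nil.symm)
    exact Groth.Agent.Lib.Helper5.GorIso.isGorensteinLocalRing_of_ringEquiv e
  | succ n ih =>
    intro A _ hA xs hlen hm hreg
    match xs, hlen, hm, hreg with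
    | x :: rest, hlen, hm, hreg =>
      have hx : x ∈ maximalIdeal A := hm x List.mem_cons_self
      rw [isWeaklyRegular_cons_iff'] at hreg
      obtain ⟨hxreg, hrest⟩ := hreg
      haveI hA' : LocCoh.IsGorensteinLocalRing (A ⧸ Ideal.span {x}) :=
        (Groth.Agent.S0343.result A x hx hxreg).1 hA
      have hrest' := isWeaklyRegular_quotient_span_singleton x rest hrest
      have hm' : ∀ y ∈ rest.map (Ideal.Quotient.mk (Ideal.span {x})),
          y ∈ maximalIdeal (A ⧸ Ideal.span {x}) := by
        intro y hy
        obtain ⟨z, hz, rfl⟩ := List.mem_map.1 hy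
        have hz' : z ∈ maximalIdeal A := hm z (List.mem_cons_of_mem _ hz)
        rw [← Groth.Agent.Lib.Helper21.DepthKit.map_maximalIdeal_of_surjective
          (R := A) (S := A ⧸ Ideal.span {x}) Ideal.Quotient.mk_surjective]
        exact Ideal.mem_map_of_mem _ hz'
      have key := ih (A ⧸ Ideal.span {x}) (rest.map (Ideal.Quotient.mk (Ideal.span {x})))
        (by rw [List.length_map]; simpa using hlen) hm' hrest'
      have e : ((A ⧸ Ideal.span {x}) ⧸
          Ideal.ofList (rest.map (Ideal.Quotient.mk (Ideal.span {x})))) ≃+*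
          (A ⧸ Ideal.ofList (x :: rest)) :=
        (Ideal.quotEquivOfEq (Ideal.map_ofList _ _).symm).trans
          ((DoubleQuot.quotQuotEquivQuotSup (Ideal.span {x}) (Ideal.ofList rest)).trans
            (Ideal.quotEquivOfEq (Ideal.ofList_cons x rest).symm))
      exact Groth.Agent.Lib.Helper5.GorIso.isGorensteinLocalRing_of_ringEquiv e

end Groth.Agent.Lib.helper11.GorRegQuot
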