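import Mathlib
import Groth.Prelude.Def_CAlg
import Groth.Agent.Lib.helper11.GorRegQuot
import Groth.Agent.S10918
import Groth.Agent.S0342

/-!
# Complete intersections in regular rings are Gorenstein (helper11)
-/

set_option autoImplicit false

namespace Groth.Agent.Lib.helper11.CIGor

open IsLocalRing RingTheory.Sequence

universe u

section LocQuot

variable {R : Type u} [CommRing R] (I : Ideal R) (Q : Ideal (R ⧸ I)) [Q.IsPrime]

theorem algebraMapSubmonoid_primeCompl_comap :
    Algebra.algebraMapSubmonoid (R ⧸ I) (Q.comap (Ideal.Quotient.mk I)).primeCompl =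
      Q.primeCompl := by
  ext x
  constructor
  · rintro ⟨y, hy, rfl⟩
    exact hy
  · intro hx
    obtain ⟨y, rfl⟩ := Ideal.Quotient.mk_surjective x
    exact ⟨y, hx, rfl⟩

/-- `(R/I)_Q ≃ R_q / I R_q` where `q` is the preimage of `Q`. -/
noncomputable def locQuotRingEquiv :
    Localization.AtPrime Q ≃+*
      (Localization.AtPrime (Q.comap (Ideal.Quotient.mk I)) ⧸
        I.map (algebraMap R (Localization.AtPrime (Q.comap (Ideal.Quotient.mk I))))) := by
  haveI h1 : IsLocalization (Algebra.algebraMapSubmonoid (R ⧸ I)
      (Q.comap (Ideal.Quotient.mk I)).primeCompl)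
      (Localization.AtPrime (Q.comap (Ideal.Quotient.mk I)) ⧸
        I.map (algebraMap R (Localization.AtPrime (Q.comap (Ideal.Quotient.mk I))))) :=
    inferInstance
  rw [algebraMapSubmonoid_primeCompl_comap] at h1
  exact (IsLocalization.algEquiv Q.primeCompl (Localization.AtPrime Q) _).toRingEquiv

end LocQuot

/-- In a regular ring, an ideal generated by `c` elements of height `≥ c` has Gorenstein quotient. -/
theorem isGorensteinRing_quotient_of_height (R : Type u) [CommRing R] [IsRegularRing R]
    (xs : List R) (hht : (xs.length : ℕ∞) ≤ (Ideal.ofList xs).height) :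
    LocCoh.IsGorensteinRing (R ⧸ Ideal.ofList xs) := by
  refine { isGorensteinLocalRing_localization := fun Q hQ => ?_ }
  set q := Q.comap (Ideal.Quotient.mk (Ideal.ofList xs)) with hq
  haveI : q.IsPrime := Ideal.comap_isPrime _ _
  haveI : IsRegularLocalRing (Localization.AtPrime q) :=
    IsRegularRing.isRegularLocalRing_localization q
  haveI hG : LocCoh.IsGorensteinLocalRing (Localization.AtPrime q) :=
    Groth.Agent.S0342.result _
  have hmq : ∀ x ∈ xs, x ∈ q := by
    intro x hx
    have hxI : x ∈ Ideal.ofList xs := Ideal.subset_span hx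
    rw [hq, Ideal.mem_comap, Ideal.Quotient.eq_zero_iff_mem.2 hxI]
    exact Q.zero_mem
  have hm : ∀ y ∈ xs.map (algebraMap R (Localization.AtPrime q)),
      y ∈ maximalIdeal (Localization.AtPrime q) := by
    intro y hy
    obtain ⟨x, hx, rfl⟩ := List.mem_map.1 hy
    exact (IsLocalization.AtPrime.to_map_mem_maximal_iff _ q x).2 (hmq x hx)
  have hhtL : ((xs.map (algebraMap R (Localization.AtPrime q))).length : ℕ∞) ≤
      (Ideal.ofList (xs.map (algebraMap R (Localization.AtPrime q)))).height := by
    rw [List.length_map, ← Ideal.map_ofList]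
    exact hht.trans (Groth.Agent.S10918.height_le_height_map q _)
  have hCM := Groth.Agent.S10834.isCM_of_isRegularLocalRing (Localization.AtPrime q)
  obtain ⟨-, h2⟩ := Groth.Agent.S10918.isCM_quot_of_height hCM _ hm hhtL
  have hreg := Groth.Agent.Lib.Helper21.DepthKit.isWeaklyRegular_of_supportDim_drop _
    (Localization.AtPrime q) hCM hm h2
  have key := GorRegQuot.isGorensteinLocalRing_quotient_ofList _ (Localization.AtPrime q)
    (xs.map (algebraMap R (Localization.AtPrime q))) rfl hm hreg
  have e := (locQuotRingEquiv (Ideal.ofList xs) Q).trans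
    (Ideal.quotEquivOfEq (Ideal.map_ofList (algebraMap R (Localization.AtPrime q)) xs))
  exact Groth.Agent.Lib.Helper5.GorIso.isGorensteinLocalRing_of_ringEquiv e.symm

end Groth.Agent.Lib.helper11.CIGor
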