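import Mathlib
import Groth.Agent.Lib.Helper21.CatKit

/-!
# Chains of primes and dimensions of quotients (helper11)
-/

set_option autoImplicit false

namespace Groth.Agent.Lib.helper11.DimChain

universe u

variable {R : Type u} [CommRing R]

theorem ringKrullDim_quotient_mono {I J : Ideal R} (h : I ≤ J) :
    ringKrullDim (R ⧸ J) ≤ ringKrullDim (R ⧸ I) :=
  ringKrullDim_le_of_surjective (Ideal.Quotient.factor h) (Ideal.Quotient.factor_surjective h)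

/-- a chain of length `k` in `V(J)` starts at a prime `Q ⊇ J` with `dim R/Q ≥ k`. -/
theorem exists_prime_le_dim_quotient (J : Ideal R) (k : ℕ)
    (hk : (k : WithBot ℕ∞) ≤ ringKrullDim (R ⧸ J)) :
    ∃ Q : PrimeSpectrum R, J ≤ Q.asIdeal ∧ (k : WithBot ℕ∞) ≤ ringKrullDim (R ⧸ Q.asIdeal) := by
  rw [ringKrullDim_quotient] at hk
  obtain ⟨l, hl⟩ := Order.le_krullDim_iff.1 hk
  refine ⟨l.head.1, ?_, ?_⟩
  · have := l.head.2
    rw [PrimeSpectrum.mem_zeroLocus] at this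
    exact this
  · rw [Groth.Agent.Lib.Helper21.CatKit.ringKrullDim_quotient_eq_coheight]
    let l' : LTSeries (PrimeSpectrum R) := l.map Subtype.val (fun _ _ h => h)
    have h1 : (l'.length : ℕ∞) ≤ Order.coheight l.head.1 :=
      Order.length_le_coheight (p := l') (by rw [LTSeries.head_map])
    have h2 : l'.length = k := by rw [LTSeries.map_length, hl]
    rw [h2] at h1
    exact_mod_cast h1

/-- some minimal prime of `I` has the dimension of `R/I`. -/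
theorem exists_minimalPrimes_dim_eq (I : Ideal R) (d : ℕ) (hd : ringKrullDim (R ⧸ I) = d) :
    ∃ Q ∈ I.minimalPrimes, ringKrullDim (R ⧸ Q) = d := by
  obtain ⟨Q, hIQ, hQ⟩ := exists_prime_le_dim_quotient I d hd.ge
  obtain ⟨Q', hQ', hle⟩ := Ideal.exists_minimalPrimes_le hIQ
  refine ⟨Q', hQ', le_antisymm ?_ ?_⟩
  · rw [← hd]
    exact ringKrullDim_quotient_mono hQ'.1.2
  · exact hQ.trans (ringKrullDim_quotient_mono hle)

/-- a prime `Q ⊇ I` with `dim R/Q = dim R/I` is minimal over `I`. -/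
theorem mem_minimalPrimes_of_dim_eq (I : Ideal R) (k : ℕ) (hk : ringKrullDim (R ⧸ I) ≤ k)
    (Q : Ideal R) [hQp : Q.IsPrime] (hIQ : I ≤ Q) (hQ : ringKrullDim (R ⧸ Q) = k) :
    Q ∈ I.minimalPrimes := by
  refine ⟨⟨hQp, hIQ⟩, ?_⟩
  rintro Q' ⟨hQ'p, hIQ'⟩ hle
  by_contra hnle
  have hlt : (⟨Q', hQ'p⟩ : PrimeSpectrum R) < ⟨Q, hQp⟩ := lt_of_le_not_ge hle hnle
  have h1 := Order.coheight_add_one_le hlt
  have h2 : ringKrullDim (R ⧸ Q') = (Order.coheight (⟨Q', hQ'p⟩ : PrimeSpectrum R) : ℕ∞) :=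
    Groth.Agent.Lib.Helper21.CatKit.ringKrullDim_quotient_eq_coheight ⟨Q', hQ'p⟩
  have h3 : ringKrullDim (R ⧸ Q) = (Order.coheight (⟨Q, hQp⟩ : PrimeSpectrum R) : ℕ∞) :=
    Groth.Agent.Lib.Helper21.CatKit.ringKrullDim_quotient_eq_coheight ⟨Q, hQp⟩
  have h4 : ringKrullDim (R ⧸ Q') ≤ k := (ringKrullDim_quotient_mono hIQ').trans hk
  rw [h2] at h4
  rw [h3] at hQ
  have h5 : Order.coheight (⟨Q, hQp⟩ : PrimeSpectrum R) = (k : ℕ∞) := by exact_mod_cast hQ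
  have h6 : Order.coheight (⟨Q', hQ'p⟩ : PrimeSpectrum R) ≤ (k : ℕ∞) := by exact_mod_cast h4
  rw [h5] at h1
  have h7 : ((k + 1 : ℕ) : ℕ∞) ≤ (k : ℕ∞) := by
    push_cast
    exact h1.trans h6
  have : k + 1 ≤ k := by exact_mod_cast h7
  omega

/-- the dimension drops when dividing by an element avoiding the top-dimensional primes. -/
theorem dim_quotient_sup_span_lt (I : Ideal R) (k : ℕ) (hk : ringKrullDim (R ⧸ I) ≤ k) (y : R)
    (hy : ∀ Q : PrimeSpectrum R, I ≤ Q.asIdeal → ringKrullDim (R ⧸ Q.asIdeal) = k →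
      y ∉ Q.asIdeal) :
    ringKrullDim (R ⧸ (I ⊔ Ideal.span {y})) < k := by
  by_contra hnlt
  rw [not_lt] at hnlt
  obtain ⟨Q, hJQ, hQ⟩ := exists_prime_le_dim_quotient (I ⊔ Ideal.span {y}) k hnlt
  have hIQ : I ≤ Q.asIdeal := le_sup_left.trans hJQ
  have hyQ : y ∈ Q.asIdeal := hJQ (Ideal.mem_sup_right (Ideal.mem_span_singleton_self y))
  exact hy Q hIQ (le_antisymm ((ringKrullDim_quotient_mono hIQ).trans hk) hQ) hyQ

/-- prime avoidance: an element of `p` dropping the dimension of `R/I`. -/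
theorem exists_mem_dim_quotient_lt [IsNoetherianRing R] (I : Ideal R) (k : ℕ)
    (hk : ringKrullDim (R ⧸ I) ≤ k) (p : Ideal R)
    (hp : ∀ Q : PrimeSpectrum R, I ≤ Q.asIdeal → ringKrullDim (R ⧸ Q.asIdeal) = k →
      ¬ p ≤ Q.asIdeal) :
    ∃ y ∈ p, ringKrullDim (R ⧸ (I ⊔ Ideal.span {y})) < k := by
  classical
  have hfin : (I.minimalPrimes).Finite := Ideal.finite_minimalPrimes_of_isNoetherianRing R I
  let 𝔅 : Finset (Ideal R) := hfin.toFinset.filter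
    (fun Q => ringKrullDim (R ⧸ Q) = k)
  have h𝔅 : ∀ P ∈ 𝔅, P.IsPrime ∧ I ≤ P ∧ ringKrullDim (R ⧸ P) = k := by
    intro P hP
    have h1 := Finset.mem_filter.1 hP
    have h2 : P ∈ I.minimalPrimes := hfin.mem_toFinset.1 h1.1
    exact ⟨h2.1.1, h2.1.2, h1.2⟩
  have hnot : ¬ ((p : Set R) ⊆ ⋃ P ∈ (𝔅 : Set (Ideal R)), (P : Set R)) := by
    intro hsub
    obtain ⟨P, hP, hpP⟩ := (Ideal.subset_union_prime (s := 𝔅) (f := id) ⊥ ⊥
      (fun P hP _ _ => (h𝔅 P hP).1)).1 hsub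
    obtain ⟨hPp, hIP, hPk⟩ := h𝔅 P hP
    exact hp ⟨P, hPp⟩ hIP hPk hpP
  rw [Set.not_subset] at hnot
  obtain ⟨y, hyp, hy⟩ := hnot
  refine ⟨y, hyp, dim_quotient_sup_span_lt I k hk y ?_⟩
  intro Q hIQ hQ hyQ
  apply hy
  have hmin : Q.asIdeal ∈ I.minimalPrimes :=
    mem_minimalPrimes_of_dim_eq I k hk Q.asIdeal hIQ hQ
  have hmem : Q.asIdeal ∈ 𝔅 := Finset.mem_filter.2 ⟨hfin.mem_toFinset.2 hmin, hQ⟩
  exact Set.mem_biUnion (show Q.asIdeal ∈ (𝔅 : Set (Ideal R)) from hmem) hyQ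

end Groth.Agent.Lib.helper11.DimChain
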