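import Mathlib

/-!
# Minimal presentations over a local ring; finite projective dimension in depth zero (helper11)
-/

set_option autoImplicit false

namespace Groth.Agent.Lib.helper11.MinimalPres

open CategoryTheory IsLocalRing TensorProduct

universe u

variable {R : Type u} [CommRing R] [IsLocalRing R]

/-- A minimal free cover: a surjection from a finite free module whose kernel lies in `𝔪 F`. -/
theorem exists_minimal_cover (M : Type u) [AddCommGroup M] [Module R M] [Module.Finite R M] :
    ∃ (n : ℕ) (f : (Fin n → R) →ₗ[R] M), Function.Surjective f ∧
      LinearMap.ker f ≤ (maximalIdeal R) • (⊤ : Submodule R (Fin n → R)) := by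
  classical
  let k := ResidueField R
  let n := Module.finrank k (k ⊗[R] M)
  let b : Module.Basis (Fin n) k (k ⊗[R] M) := Module.finBasis k (k ⊗[R] M)
  have hsurj : Function.Surjective (TensorProduct.mk R k M 1) :=
    TensorProduct.mk_surjective R M k Ideal.Quotient.mk_surjective
  choose v hv using fun i => hsurj (b i)
  have hspan : Submodule.span R (Set.range v) = ⊤ :=
    span_eq_top_of_tmul_eq_basis v b hv
  let f : (Fin n → R) →ₗ[R] M := Fintype.linearCombination R v
  refine ⟨n, f, ?_, ?_⟩
  · rw [← LinearMap.range_eq_top, Fintype.range_linearCombination, hspan]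
  · intro c hc
    rw [LinearMap.mem_ker] at hc
    have h1 : ∑ i, (residue R (c i)) • b i = 0 := by
      have h2 : (TensorProduct.mk R k M 1) (f c) = 0 := by rw [hc, map_zero]
      rw [Fintype.linearCombination_apply, map_sum] at h2
      rw [← h2]
      refine Finset.sum_congr rfl fun i _ => ?_
      rw [map_smul, hv i]
      rfl
    have h3 : ∀ i, residue R (c i) = 0 := by
      have := Fintype.linearIndependent_iff.mp b.linearIndependent _ h1
      exact this
    have h4 : ∀ i, c i ∈ maximalIdeal R := fun i => by
      have := h3 i
      rwa [residue_eq_zero_iff] at this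
    have h5 : c = ∑ i, c i • (Pi.single i (1 : R) : Fin n → R) := by
      ext j
      simp [Finset.sum_apply, Pi.single_apply]
    rw [h5]
    exact Submodule.sum_mem _ fun i _ => Submodule.smul_mem_smul (h4 i) Submodule.mem_top

/-- In depth zero (some `a ≠ 0` is killed by `𝔪`), a finite module of finite projective dimension
is free. -/
theorem free_of_hasProjectiveDimensionLT_of_depth_zero [IsNoetherianRing R] (a : R) (ha : a ≠ 0)
    (ham : ∀ t ∈ maximalIdeal R, a * t = 0) :
    ∀ (n : ℕ) (M : Type u) [AddCommGroup M] [Module R M] [Module.Finite R M],
      HasProjectiveDimensionLT (ModuleCat.of R M) n → Module.Free R M := by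
  intro n
  induction n with
  | zero =>
    intro M _ _ _ h
    have hz : Limits.IsZero (ModuleCat.of R M) := isZero_of_hasProjectiveDimensionLT_zero _
    haveI : Subsingleton M := ModuleCat.subsingleton_of_isZero hz
    exact Module.Free.of_subsingleton R M
  | succ n ih =>
    intro M _ _ _ h
    rcases n with _ | n
    · rw [zero_add, ← projective_iff_hasProjectiveDimensionLT_one,
        ← IsProjective.iff_projective] at h
      haveI : Module.Flat R M := Module.Flat.of_projective
      exact Module.free_of_flat_of_isLocalRing
    · obtain ⟨r, f, hf, hker⟩ := exists_minimal_cover (R := R) M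
      let S := f.shortComplexKer
      have hS : S.ShortExact := LinearMap.shortExact_shortComplexKer hf
      have proj : Projective S.X₂ := ModuleCat.projective_of_categoryTheory_projective S.X₂
      have hK : HasProjectiveDimensionLT (ModuleCat.of R (LinearMap.ker f)) (n + 1) :=
        (hS.hasProjectiveDimensionLT_X₃_iff n proj).mp h
      haveI hfree : Module.Free R (LinearMap.ker f) := ih (LinearMap.ker f) hK
      have hbot : LinearMap.ker f = ⊥ := by
        by_contra hne
        let b := Module.Free.chooseBasis R (LinearMap.ker f)
        have hnonempty : Nonempty (Module.Free.ChooseBasisIndex R (LinearMap.ker f)) := by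
          by_contra hempty
          rw [not_nonempty_iff] at hempty
          have hsub : Subsingleton (LinearMap.ker f) :=
            ⟨fun y z => b.repr.injective (Subsingleton.elim _ _)⟩
          exact hne ((Submodule.subsingleton_iff_eq_bot).mp hsub)
        obtain ⟨i0⟩ := hnonempty
        have hkill : ∀ y ∈ (maximalIdeal R) • (⊤ : Submodule R (Fin r → R)), a • y = 0 := by
          intro y hy
          refine Submodule.smul_induction_on hy ?_ ?_
          · intro t ht z _
            rw [smul_smul, ham t ht, zero_smul]
          · intro y z hy hz
            rw [smul_add, hy, hz, add_zero]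
        have h1 : a • (b i0) = 0 := by
          apply Subtype.ext
          rw [Submodule.coe_smul, Submodule.coe_zero]
          exact hkill _ (hker (b i0).2)
        have h2 : b.repr (a • b i0) = 0 := by rw [h1, map_zero]
        rw [map_smul, b.repr_self, Finsupp.smul_single, smul_eq_mul, mul_one,
          Finsupp.single_eq_zero] at h2
        exact ha h2
      have hinj : Function.Injective f := LinearMap.ker_eq_bot.mp hbot
      exact Module.Free.of_equiv (LinearEquiv.ofBijective f ⟨hinj, hf⟩)

end Groth.Agent.Lib.helper11.MinimalPres
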