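import Mathlib
import Groth.Agent.Lib.helper11.MinimalPres
import Groth.Agent.Lib.helper11.ExtRegular
import Groth.Agent.Lib.helper11.ExtShift
import Groth.Agent.S0321

/-!
# The Auslander–Buchsbaum formula (helper11)
-/

set_option autoImplicit false

namespace Groth.Agent.Lib.helper11.ABFormula

open CategoryTheory Abelian IsLocalRing Groth.Agent.Lib.helper11.ExtShift

universe u

variable {R : Type u} [CommRing R]

section Z

variable (X : ModuleCat.{u} R) (K F : Type u) [AddCommGroup K] [Module R K] [AddCommGroup F]
  [Module R F] (t : ℕ)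

/-- Linear maps inducing zero on `Ext^t(X, -)`. -/
def Z : Submodule R (K →ₗ[R] F) where
  carrier := {φ | ∀ x : Ext X (ModuleCat.of R K) t,
    x.comp (Ext.mk₀ (ModuleCat.ofHom φ)) (add_zero t) = 0}
  zero_mem' := by
    intro x
    rw [ModuleCat.ofHom_zero, Ext.mk₀_zero, Ext.comp_zero]
  add_mem' := by
    intro φ ψ hφ hψ x
    rw [ModuleCat.ofHom_add, Ext.mk₀_add, Ext.comp_add, hφ x, hψ x, add_zero]
  smul_mem' := by
    intro r φ hφ x
    have : ModuleCat.ofHom (r • φ) = r • ModuleCat.ofHom φ := rfl
    rw [this, Ext.mk₀_smul, Ext.comp_smul, hφ x, smul_zero]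

variable {X K F t}

theorem mem_Z_iff (φ : K →ₗ[R] F) : φ ∈ Z X K F t ↔ ∀ x : Ext X (ModuleCat.of R K) t,
    x.comp (Ext.mk₀ (ModuleCat.ofHom φ)) (add_zero t) = 0 := Iff.rfl

theorem comp_mem_Z {K' : Type u} [AddCommGroup K'] [Module R K'] (φ : K →ₗ[R] F)
    (hφ : φ ∈ Z X K F t) (c : K' →ₗ[R] K) : φ ∘ₗ c ∈ Z X K' F t := by
  intro x
  rw [ModuleCat.ofHom_comp, ← Ext.mk₀_comp_mk₀, ← Ext.comp_assoc_of_third_deg_zero]
  exact hφ _

theorem toSpanSingleton_mem_Z (I : Ideal R) (hI : ∀ r ∈ I, ∀ n : X, r • n = 0) (y : F)
    (hy : y ∈ I • (⊤ : Submodule R F)) : LinearMap.toSpanSingleton R F y ∈ Z X R F t := by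
  refine Submodule.smul_induction_on hy ?_ ?_
  · intro r hr f _ x
    have h1 : LinearMap.toSpanSingleton R F (r • f) = r • LinearMap.toSpanSingleton R F f := by
      ext
      simp [smul_comm]
    have h2 : ModuleCat.ofHom (r • LinearMap.toSpanSingleton R F f) =
        r • ModuleCat.ofHom (LinearMap.toSpanSingleton R F f) := rfl
    rw [h1, h2, Ext.mk₀_smul, Ext.comp_smul]
    exact ExtRegular.smul_ext_eq_zero R r (hI r hr) _
  · intro y z hy hz
    have h1 : LinearMap.toSpanSingleton R F (y + z) =
        LinearMap.toSpanSingleton R F y + LinearMap.toSpanSingleton R F z := by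
      ext
      simp
    rw [h1]
    exact Submodule.add_mem _ hy hz

/-- A map from a finite free module with image in `I • F` kills `Ext^t(X, -)` when `I` kills `X`. -/
theorem mem_Z_of_forall_mem [Module.Free R K] [Module.Finite R K] (I : Ideal R)
    (hI : ∀ r ∈ I, ∀ n : X, r • n = 0) (i : K →ₗ[R] F)
    (hi : ∀ y, i y ∈ I • (⊤ : Submodule R F)) : i ∈ Z X K F t := by
  classical
  let b := Module.Free.chooseBasis R K
  have h1 : i = ∑ l, (LinearMap.toSpanSingleton R F (i (b l))) ∘ₗ (b.coord l) := by
    apply b.ext
    intro l'
    rw [LinearMap.sum_apply]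
    simp only [LinearMap.comp_apply, LinearMap.toSpanSingleton_apply, Module.Basis.coord_apply,
      Module.Basis.repr_self]
    rw [Finset.sum_eq_single l']
    · simp
    · intro l _ hl
      rw [Finsupp.single_eq_of_ne hl, zero_smul]
    · intro h
      exact absurd (Finset.mem_univ l') h
  rw [h1]
  exact Submodule.sum_mem _ fun l _ =>
    comp_mem_Z _ (toSpanSingleton_mem_Z I hI _ (hi _)) _

end Z

section Main

open Groth.Agent.S0319 Groth.Agent.S0321

variable [IsLocalRing R] [IsNoetherianRing R]

/-- `Ext^i(k, -)` vanishing on a finite free nonzero module is equivalent to vanishing on `R`. -/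
theorem subsingleton_ext_free_iff (X : ModuleCat.{u} R) (F : Type u) [AddCommGroup F] [Module R F]
    [Module.Finite R F] [Module.Free R F] [Nontrivial F] (i : ℕ) :
    Subsingleton (Ext X (ModuleCat.of R F) i) ↔ Subsingleton (Ext X (ModuleCat.of R R) i) := by
  classical
  let b := Module.Free.chooseBasis R F
  constructor
  · intro h
    obtain ⟨l0⟩ : Nonempty (Module.Free.ChooseBasisIndex R F) := by
      by_contra hempty
      rw [not_nonempty_iff] at hempty
      have hsub : Subsingleton F := ⟨fun y z => b.repr.injective (Subsingleton.elim _ _)⟩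
      exact not_subsingleton _ hsub
    refine ⟨fun x y => ?_⟩
    suffices hz : ∀ z : Ext X (ModuleCat.of R R) i, z = 0 by rw [hz x, hz y]
    intro z
    have h1 : (b.coord l0) ∘ₗ (LinearMap.toSpanSingleton R F (b l0)) = LinearMap.id := by
      ext
      simp
    have h2 : z = (z.comp (Ext.mk₀ (ModuleCat.ofHom (LinearMap.toSpanSingleton R F (b l0))))
        (add_zero i)).comp (Ext.mk₀ (ModuleCat.ofHom (b.coord l0))) (add_zero i) := by
      rw [Ext.comp_assoc_of_third_deg_zero, Ext.mk₀_comp_mk₀, ← ModuleCat.ofHom_comp, h1,
        ModuleCat.ofHom_id, Ext.comp_mk₀_id]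
    rw [h2, Subsingleton.elim (z.comp _ _) 0, Ext.zero_comp]
  · intro h
    refine ⟨fun x y => ?_⟩
    suffices hz : ∀ z : Ext X (ModuleCat.of R F) i, z = 0 by rw [hz x, hz y]
    intro z
    have h1 : (LinearMap.id : F →ₗ[R] F) =
        ∑ l, (LinearMap.toSpanSingleton R F (b l)) ∘ₗ (b.coord l) := by
      apply b.ext
      intro l'
      rw [LinearMap.sum_apply]
      simp only [LinearMap.comp_apply, LinearMap.toSpanSingleton_apply, Module.Basis.coord_apply,
        Module.Basis.repr_self, LinearMap.id_apply]
      rw [Finset.sum_eq_single l']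
      · simp
      · intro l _ hl
        rw [Finsupp.single_eq_of_ne hl, zero_smul]
      · intro h
        exact absurd (Finset.mem_univ l') h
    have h2 : (LinearMap.id : F →ₗ[R] F) ∈ Z X F F i := by
      rw [h1]
      refine Submodule.sum_mem _ fun l _ => ?_
      intro x
      rw [ModuleCat.ofHom_comp, ← Ext.mk₀_comp_mk₀, ← Ext.comp_assoc_of_third_deg_zero,
        Subsingleton.elim (x.comp _ _) 0, Ext.zero_comp]
    have h3 := h2 z
    rwa [ModuleCat.ofHom_id, Ext.comp_mk₀_id] at h3

theorem A_free_iff (F : Type u) [AddCommGroup F] [Module R F] [Module.Finite R F]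
    [Module.Free R F] [Nontrivial F] (j : ℕ) :
    A R (maximalIdeal R) F j ↔ A R (maximalIdeal R) R j :=
  forall₂_congr fun i _ => subsingleton_ext_free_iff _ F i

open Groth.Agent.Lib.helper11.MinimalPres in
/-- **Auslander–Buchsbaum**, Ext-vanishing form. -/
theorem ab_aux (e : ℕ) : ∀ (M : Type u) [AddCommGroup M] [Module R M] [Module.Finite R M]
    [Nontrivial M], HasProjectiveDimensionLT (ModuleCat.of R M) (e + 1) →
    ¬ HasProjectiveDimensionLT (ModuleCat.of R M) e →
    ∀ j, A R (maximalIdeal R) M j ↔ A R (maximalIdeal R) R (j + e) := by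
  induction e with
  | zero =>
    intro M _ _ _ _ h _ j
    rw [zero_add, ← projective_iff_hasProjectiveDimensionLT_one,
      ← IsProjective.iff_projective] at h
    haveI : Module.Flat R M := Module.Flat.of_projective
    haveI : Module.Free R M := Module.free_of_flat_of_isLocalRing
    exact A_free_iff M j
  | succ n ih =>
    intro M _ _ _ _ h hnot j
    obtain ⟨r, f, hf, hker⟩ := exists_minimal_cover (R := R) M
    let S := f.shortComplexKer
    have hS : S.ShortExact := LinearMap.shortExact_shortComplexKer hf
    have proj : Projective S.X₂ := ModuleCat.projective_of_categoryTheory_projective S.X₂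
    have hK1 : HasProjectiveDimensionLT (ModuleCat.of R (LinearMap.ker f)) (n + 1) :=
      (hS.hasProjectiveDimensionLT_X₃_iff n proj).mp h
    have hK2 : ¬ HasProjectiveDimensionLT (ModuleCat.of R (LinearMap.ker f)) n := by
      intro hK
      rcases n with _ | n
      · have hz : Limits.IsZero (ModuleCat.of R (LinearMap.ker f)) :=
          isZero_of_hasProjectiveDimensionLT_zero _
        haveI : Subsingleton (LinearMap.ker f) := ModuleCat.subsingleton_of_isZero hz
        have hinj : Function.Injective f :=
          LinearMap.ker_eq_bot.mp (Submodule.subsingleton_iff_eq_bot.mp inferInstance)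
        haveI : Module.Projective R M :=
          Module.Projective.of_equiv (LinearEquiv.ofBijective f ⟨hinj, hf⟩)
        apply hnot
        rw [zero_add, ← projective_iff_hasProjectiveDimensionLT_one,
          ← IsProjective.iff_projective]
        infer_instance
      · exact hnot ((hS.hasProjectiveDimensionLT_X₃_iff n proj).mpr hK)
    haveI hKnt : Nontrivial (LinearMap.ker f) := by
      by_contra hcon
      rw [not_nontrivial_iff_subsingleton] at hcon
      haveI := (ModuleCat.isZero_of_subsingleton
        (ModuleCat.of R (LinearMap.ker f))).hasProjectiveDimensionLT_zero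
      exact hK2 (hasProjectiveDimensionLT_of_ge _ 0 n (by omega))
    haveI hFnt : Nontrivial (Fin r → R) := hf.nontrivial
    have ihK := ih (LinearMap.ker f) hK1 hK2
    have hF : ∀ j, A R (maximalIdeal R) (Fin r → R) j ↔ A R (maximalIdeal R) R j :=
      fun j => A_free_iff _ j
    constructor
    · -- D(M, j) ⇒ D(R, j + n + 1)
      intro hM
      have hKj : A R (maximalIdeal R) (LinearMap.ker f) (j + 1) := by
        intro i
        induction i using Nat.strong_induction_on with
        | _ i ihi =>
          intro hi
          rcases n with _ | n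
          · -- crux: the kernel is free and contained in `𝔪 F`
            rw [zero_add, ← projective_iff_hasProjectiveDimensionLT_one,
              ← IsProjective.iff_projective] at hK1
            haveI : Module.Flat R (LinearMap.ker f) := Module.Flat.of_projective
            haveI : Module.Free R (LinearMap.ker f) := Module.free_of_flat_of_isLocalRing
            have hZ : (LinearMap.ker f).subtype ∈
                Z (ModuleCat.of R (R ⧸ maximalIdeal R)) (LinearMap.ker f) (Fin r → R) i := by
              apply mem_Z_of_forall_mem (maximalIdeal R)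
              · intro t ht y
                obtain ⟨y', rfl⟩ := Ideal.Quotient.mk_surjective y
                show t • (Ideal.Quotient.mk (maximalIdeal R)) y' = 0
                rw [← Ideal.Quotient.mk_eq_mk, ← Submodule.Quotient.mk_smul,
                  Submodule.Quotient.mk_eq_zero]
                exact Ideal.mul_mem_right _ _ ht
              · intro y
                exact hker y.2
            refine ⟨fun x y => ?_⟩
            suffices hz : ∀ z : Ext (ModuleCat.of R (R ⧸ maximalIdeal R))
                (ModuleCat.of R (LinearMap.ker f)) i, z = 0 by rw [hz x, hz y]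
            intro z
            have hz0 : z.comp (Ext.mk₀ S.f) (add_zero i) = 0 := hZ z
            cases i with
            | zero =>
              have := hS.mono_f
              apply Ext.postcomp_mk₀_injective_of_mono _ S.f
              show z.comp (Ext.mk₀ S.f) (add_zero 0) = (0 : Ext _ _ 0).comp (Ext.mk₀ S.f) (add_zero 0)
              rw [hz0, Ext.zero_comp]
            | succ i₀ =>
              obtain ⟨x₃, rfl⟩ := Ext.covariant_sequence_exact₁ _ hS z hz0 rfl
              have : Subsingleton (Ext (ModuleCat.of R (R ⧸ maximalIdeal R)) S.X₃ i₀) :=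
                hM i₀ (by omega)
              rw [Subsingleton.elim x₃ 0, Ext.zero_comp]
          · have hKi : A R (maximalIdeal R) (LinearMap.ker f) i := fun i' hi' =>
              ihi i' hi' (by omega)
            have hRi : A R (maximalIdeal R) R (i + (n + 1)) := (ihK i).mp hKi
            have hFi : A R (maximalIdeal R) (Fin r → R) (i + 1) :=
              (hF (i + 1)).mpr fun i' hi' => hRi i' (by omega)
            exact sub1 _ hS i (hFi i (by omega)) fun i₀ hi₀ => hM i₀ (by omega)
      have := (ihK (j + 1)).mp hKj
      intro i hi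
      exact this i (by omega)
    · -- D(R, j + n + 1) ⇒ D(M, j)
      intro hR i hi
      have hFi : A R (maximalIdeal R) (Fin r → R) j :=
        (hF j).mpr fun i' hi' => hR i' (by omega)
      have hKi : A R (maximalIdeal R) (LinearMap.ker f) (j + 1) :=
        (ihK (j + 1)).mpr fun i' hi' => hR i' (by omega)
      exact sub3 _ hS i (hFi i hi) (hKi (i + 1) (by omega))

theorem enat_eq_add_of_forall {a b : ℕ∞} {e : ℕ}
    (h : ∀ j : ℕ, (j : ℕ∞) ≤ a ↔ ((j + e : ℕ) : ℕ∞) ≤ b) : b = e + a := by
  induction a using ENat.recTopCoe with
  | top =>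
    have hb : b = ⊤ := by
      rw [ENat.eq_top_iff_forall_ge]
      intro m
      exact le_trans (by exact_mod_cast Nat.le_add_right m e) ((h m).mp le_top)
    rw [hb]; simp
  | coe n =>
    induction b using ENat.recTopCoe with
    | top =>
      have := (h (n + 1)).mpr le_top
      norm_cast at this
      omega
    | coe m =>
      have h1 := (h n).mp le_rfl
      have h2 := (h (n + 1)).not.mp (by norm_cast; omega)
      norm_cast at h1 h2 ⊢
      omega

/-- **Auslander–Buchsbaum formula**. -/
theorem depth_eq_add_depth (M : Type u) [AddCommGroup M] [Module R M] [Module.Finite R M]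
    [Nontrivial M] (e : ℕ) (h : HasProjectiveDimensionLT (ModuleCat.of R M) (e + 1))
    (hnot : ¬ HasProjectiveDimensionLT (ModuleCat.of R M) e) :
    LocCoh.depth R R = e + LocCoh.depth R M := by
  apply enat_eq_add_of_forall
  intro j
  unfold LocCoh.depth
  rw [le_depth_iff, le_depth_iff]
  exact ab_aux e M h hnot j

end Main

end Groth.Agent.Lib.helper11.ABFormula
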