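import Mathlib
import Groth.Agent.Lib.helper11.LCKit3

/-!
# Local cohomology at the depth: injectivity of `Ext^n(R/J^k, M) → H^n_J(M)` (helper11)
-/

set_option autoImplicit false

namespace Groth.Agent.Lib.helper11.LCKit

open CategoryTheory Limits Abelian

universe u

variable {R : Type u} [CommRing R] (J : Ideal R)

/-- The kernel of `R/J^l → R/J^k` is killed by `J^l`. -/
theorem pow_smul_top_ker_tr {k l : ℕ} (h : k ≤ l) :
    (J ^ l) • (⊤ : Submodule R (LinearMap.ker (tr J h).hom)) = ⊥ := by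
  rw [eq_bot_iff]
  intro x hx
  refine Submodule.smul_induction_on hx ?_ ?_
  · intro r hr n _
    rw [Submodule.mem_bot]
    apply Subtype.ext
    obtain ⟨n, hn⟩ := n
    obtain ⟨a, rfl⟩ := Ideal.Quotient.mk_surjective n
    change r • (Ideal.Quotient.mk (J ^ l) a) = 0
    have : r • (Ideal.Quotient.mk (J ^ l) a) = Ideal.Quotient.mk (J ^ l) (r * a) := rfl
    rw [this, Ideal.Quotient.eq_zero_iff_mem]
    exact Ideal.mul_mem_right _ _ hr
  · intro a b ha hb
    exact Submodule.add_mem _ ha hb

theorem tr_surjective {k l : ℕ} (h : k ≤ l) : Function.Surjective (tr J h).hom := by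
  intro x
  obtain ⟨a, rfl⟩ := Ideal.Quotient.mk_surjective x
  exact ⟨Ideal.Quotient.mk (J ^ l) a, rfl⟩

/-- If `M` has a weakly regular sequence of length `n` in `J`, the transition maps
`Ext^n(R/J^k, M) → Ext^n(R/J^l, M)` are injective. -/
theorem tr_comp_injective (X : Type u) [AddCommGroup X] [Module R X] (rs : List R)
    (hreg : RingTheory.Sequence.IsWeaklyRegular X rs) (hmem : ∀ r ∈ rs, r ∈ J)
    {k l : ℕ} (h : k ≤ l) (y : Ext (Q J k) (ModuleCat.of R X) rs.length)
    (hy : (Ext.mk₀ (tr J h)).comp y (zero_add _) = 0) : y = 0 := by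
  let S := (tr J h).hom.shortComplexKer
  have hS : S.ShortExact := LinearMap.shortExact_shortComplexKer (tr_surjective J h)
  rcases Nat.eq_zero_or_pos rs.length with h0 | hpos
  · haveI : Epi (tr J h) := (ModuleCat.epi_iff_surjective _).mpr (tr_surjective J h)
    have hinj := Ext.precomp_mk₀_injective_of_epi (ModuleCat.of R X) (tr J h)
    generalize rs.length = n at *
    subst h0
    apply hinj
    rw [map_zero]
    exact hy
  · obtain ⟨n₀, hn₀⟩ : ∃ n₀, 1 + n₀ = rs.length := ⟨rs.length - 1, by omega⟩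
    obtain ⟨x₁, hx₁⟩ := Ext.contravariant_sequence_exact₃ hS (ModuleCat.of R X) y hy hn₀
    have hx0 : x₁ = 0 :=
      Groth.Agent.Lib.helper11.ExtRegular.ext_eq_zero_of_regular R (LinearMap.ker (tr J h).hom) J l
        (pow_smul_top_ker_tr J h) rs X hreg hmem n₀ (by omega) x₁
    rw [← hx₁, hx0, Ext.comp_zero]

/-- With a weakly regular sequence of length `n` in `J`, `Ext^n(R/J^k, M) → H^n_J(M)` is
injective. -/
theorem ιE_injective (X : Type u) [AddCommGroup X] [Module R X] (rs : List R)
    (hreg : RingTheory.Sequence.IsWeaklyRegular X rs) (hmem : ∀ r ∈ rs, r ∈ J) (k : ℕ) :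
    Function.Injective (ιE J rs.length (ModuleCat.of R X) k) := by
  rw [injective_iff_map_eq_zero]
  intro y hy
  rw [ιE_eq_zero_iff] at hy
  obtain ⟨l, hkl, hl⟩ := hy
  exact tr_comp_injective J X rs hreg hmem hkl y hl

end Groth.Agent.Lib.helper11.LCKit
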