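import Mathlib
import Groth.Prelude.Def_W4bk5brsh16IT
import Groth.Agent.Lib.helper11.LCKit

/-!
# Elementwise API for the ideal transform `D_I = colim_n Hom(I^n, -)` (helper11)

* `ιD I M k : (P I k ⟶ M) →ₗ[R] DT`, `ιD_inc`, `exists_rep`, `ιD_eq_zero_iff`, `map_ιD`, `toDT_eq`
-/

set_option autoImplicit false

namespace Groth.Agent.Lib.helper11.DTKit

open CategoryTheory Limits Opposite localCohomology LocCoh Groth.Agent.Lib.helper11.LCKit

universe u

variable {R : Type u} [CommRing R] (I : Ideal R)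

/-- The diagram defining the ideal transform. -/
noncomputable abbrev Dg : ℕᵒᵖᵒᵖ ⥤ ModuleCat.{u} R ⥤ ModuleCat.{u} R := transformDiagram I

/-- `I^k` as an object of `ModuleCat R`. -/
abbrev P (k : ℕ) : ModuleCat.{u} R := ModuleCat.of R ((I ^ k : Ideal R))

/-- The inclusion `I^l → I^k` for `k ≤ l`. -/
def inc {k l : ℕ} (h : k ≤ l) : P I l ⟶ P I k :=
  ModuleCat.ofHom (Submodule.inclusion (Ideal.pow_le_pow_right h))

variable (M : ModuleCat.{u} R)

lemma Dg_map_apply {k l : ℕ} (h : k ≤ l) (f : P I k ⟶ M) :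
    (((Dg I).map (homOp h)).app M).hom f = inc I h ≫ f := rfl

/-- The evaluated colimit cocone. -/
noncomputable def evalCocone : Cocone (Dg I ⋙ (evaluation _ _).obj M) :=
  ((evaluation (ModuleCat.{u} R) (ModuleCat.{u} R)).obj M).mapCocone (colimit.cocone (Dg I))

noncomputable def evalCoconeIsColimit : IsColimit (evalCocone I M) :=
  isColimitOfPreserves _ (colimit.isColimit (Dg I))

/-- The canonical map `Hom(I^k, M) → D_I(M)`. -/
noncomputable def ιD (k : ℕ) : (P I k ⟶ M) →ₗ[R] (idealTransform I).obj M :=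
  ((colimit.ι (Dg I) (op (op k))).app M).hom

theorem ιD_inc {k l : ℕ} (h : k ≤ l) (f : P I k ⟶ M) :
    ιD I M l (inc I h ≫ f) = ιD I M k f := by
  have hw := colimit.w (Dg I) (homOp h)
  have hw' : ((Dg I).map (homOp h)).app M ≫ (colimit.ι (Dg I) (op (op l))).app M =
      (colimit.ι (Dg I) (op (op k))).app M := by
    rw [← NatTrans.comp_app, hw]
  show ((colimit.ι (Dg I) (op (op l))).app M).hom ((((Dg I).map (homOp h)).app M).hom f) = _
  rw [← ModuleCat.comp_apply, hw']
  rfl

theorem exists_rep (x : (idealTransform I).obj M) :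
    ∃ (k : ℕ) (f : P I k ⟶ M), ιD I M k f = x := by
  obtain ⟨j, y, hy⟩ := Concrete.isColimit_exists_rep _ (evalCoconeIsColimit I M) x
  exact ⟨j.unop.unop, y, hy⟩

theorem ιD_eq_zero_iff {k : ℕ} (f : P I k ⟶ M) :
    ιD I M k f = 0 ↔ ∃ (l : ℕ) (h : k ≤ l), inc I h ≫ f = 0 := by
  constructor
  · intro hy
    have h0 : ((colimit.ι (Dg I) (op (op k))).app M).hom (0 : ((Dg I).obj (op (op k))).obj M)
        = 0 := map_zero _
    have := Concrete.isColimit_exists_of_rep_eq (Dg I ⋙ (evaluation _ _).obj M)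
      (evalCoconeIsColimit I M) (i := op (op k)) (j := op (op k)) f 0 (hy.trans h0.symm)
    obtain ⟨j, a, g, hfg⟩ := this
    have hkl : k ≤ j.unop.unop := leOfHom a.unop.unop
    refine ⟨j.unop.unop, hkl, ?_⟩
    have hf : a = homOp hkl := Subsingleton.elim _ _
    have hz : (ConcreteCategory.hom ((Dg I ⋙ (evaluation _ _).obj M).map g))
        (0 : ((Dg I).obj (op (op k))).obj M) = 0 := map_zero _
    rw [hz, hf] at hfg
    exact hfg
  · rintro ⟨l, h, hl⟩
    rw [← ιD_inc I M h f, hl, map_zero]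

variable {M} {N : ModuleCat.{u} R}

theorem map_ιD (g : M ⟶ N) {k : ℕ} (f : P I k ⟶ M) :
    ((idealTransform I).map g).hom (ιD I M k f) = ιD I N k (f ≫ g) := by
  have hn := (colimit.ι (Dg I) (op (op k))).naturality g
  have : ((colimit.ι (Dg I) (op (op k))).app N).hom
      ((((Dg I).obj (op (op k))).map g).hom f) =
      ((colimit (Dg I)).map g).hom (((colimit.ι (Dg I) (op (op k))).app M).hom f) := by
    rw [← ModuleCat.comp_apply, ← ModuleCat.comp_apply, hn]
  exact this.symm

/-- the map `r ↦ r • m` on `I^k`. -/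
def smulMap (k : ℕ) (M : Type u) [AddCommGroup M] [Module R M] (m : M) :
    P I k ⟶ ModuleCat.of R M :=
  ModuleCat.ofHom (((LinearMap.lsmul R M).domRestrict (I ^ k)).flip m)

theorem toDT_eq (M : Type u) [AddCommGroup M] [Module R M] (m : M) :
    toDT I M m = ιD I (ModuleCat.of R M) 0 (smulMap I 0 M m) := rfl

theorem toDT_eq' (M : Type u) [AddCommGroup M] [Module R M] (m : M) (k : ℕ) :
    toDT I M m = ιD I (ModuleCat.of R M) k (smulMap I k M m) := by
  rw [toDT_eq, ← ιD_inc I _ (Nat.zero_le k)]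
  rfl

end Groth.Agent.Lib.helper11.DTKit
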