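import Mathlib
import Groth.Agent.Lib.helper11.DTKit
import Groth.Agent.Lib.helper11.LCKit3

/-!
# `D_I(M)/η(M) ≅ H^1_I(M)` (helper11)
-/

set_option autoImplicit false

namespace Groth.Agent.Lib.helper11.DTKit

open CategoryTheory Limits Opposite localCohomology LocCoh Abelian
  Groth.Agent.Lib.helper11.LCKit

universe u

variable {R : Type u} [CommRing R] (I : Ideal R)

/-- The short complex `0 → I^k → R → R/I^k → 0`. -/
noncomputable def SK (k : ℕ) : ShortComplex (ModuleCat.{u} R) :=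
  ShortComplex.mk (ModuleCat.ofHom (I ^ k : Ideal R).subtype)
    (ModuleCat.ofHom (I ^ k : Ideal R).mkQ) (by
    ext x
    exact (Submodule.Quotient.mk_eq_zero _).2 x.2)

theorem SK_shortExact (k : ℕ) : (SK I k).ShortExact := by
  apply ModuleCat.shortComplex_shortExact
  · intro x
    change (I ^ k : Ideal R).mkQ x = 0 ↔ x ∈ Set.range (I ^ k : Ideal R).subtype
    simp only [Submodule.mkQ_apply, Submodule.Quotient.mk_eq_zero, Submodule.coe_subtype,
      Subtype.range_coe_subtype]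
    rfl
  · exact (I ^ k : Ideal R).injective_subtype
  · exact (I ^ k : Ideal R).mkQ_surjective

/-- the morphism of short complexes `SK l ⟶ SK k` for `k ≤ l`. -/
noncomputable def SKmap {k l : ℕ} (h : k ≤ l) : SK I l ⟶ SK I k where
  τ₁ := inc I h
  τ₂ := 𝟙 _
  τ₃ := tr I h
  comm₁₂ := by
    ext x
    rfl
  comm₂₃ := by
    ext x
    rfl

/-- The extension class `e_k ∈ Ext^1(R/I^k, I^k)`. -/
noncomputable def eK (k : ℕ) : Ext (Q I k) (P I k) 1 := (SK_shortExact I k).extClass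

theorem eK_naturality {k l : ℕ} (h : k ≤ l) :
    (eK I l).comp (Ext.mk₀ (inc I h)) (add_zero 1) =
      (Ext.mk₀ (tr I h)).comp (eK I k) (zero_add 1) :=
  ShortComplex.ShortExact.extClass_naturality (SK_shortExact I l) (SK_shortExact I k) (SKmap I h)

variable (M : ModuleCat.{u} R)

/-- `θ_k : Hom(I^k, M) → Ext^1(R/I^k, M)`. -/
noncomputable def θ (k : ℕ) : (P I k ⟶ M) →ₗ[R] Ext (Q I k) M 1 where
  toFun f := (eK I k).comp (Ext.mk₀ f) (add_zero 1)
  map_add' f g := by rw [Ext.mk₀_add, Ext.comp_add]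
  map_smul' r f := by rw [Ext.mk₀_smul, Ext.comp_smul]; rfl

theorem θ_inc {k l : ℕ} (h : k ≤ l) (f : P I k ⟶ M) :
    θ I M l (inc I h ≫ f) = (Ext.mk₀ (tr I h)).comp (θ I M k f) (zero_add 1) := by
  show (eK I l).comp (Ext.mk₀ (inc I h ≫ f)) (add_zero 1) =
    (Ext.mk₀ (tr I h)).comp ((eK I k).comp (Ext.mk₀ f) (add_zero 1)) (zero_add 1)
  rw [← Ext.mk₀_comp_mk₀, ← Ext.comp_assoc_of_third_deg_zero, eK_naturality,
    Ext.comp_assoc_of_third_deg_zero]

theorem θ_surjective (k : ℕ) : Function.Surjective (θ I M k) := by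
  intro y
  haveI : Projective (SK I k).X₂ := by
    show Projective (ModuleCat.of R R)
    exact ModuleCat.projective_of_free (Module.Basis.singleton Unit R)
  have h0 : (Ext.mk₀ (SK I k).g).comp y (zero_add 1) = 0 := Ext.eq_zero_of_projective _
  obtain ⟨x₁, hx₁⟩ := Ext.contravariant_sequence_exact₃ (SK_shortExact I k) M y h0 (n₀ := 0) rfl
  obtain ⟨f, rfl⟩ := (Ext.homEquiv₀).symm.surjective x₁
  exact ⟨f, hx₁⟩

theorem eq_smulMap_of_θ_eq_zero (M : Type u) [AddCommGroup M] [Module R M] (k : ℕ)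
    (f : P I k ⟶ ModuleCat.of R M) (h : θ I (ModuleCat.of R M) k f = 0) :
    ∃ m : M, f = smulMap I k M m := by
  obtain ⟨x₂, hx₂⟩ := Ext.contravariant_sequence_exact₁ (SK_shortExact I k) (ModuleCat.of R M)
    (Ext.mk₀ f) (n₁ := 1) rfl h
  obtain ⟨g, rfl⟩ := (Ext.homEquiv₀).symm.surjective x₂
  change (Ext.mk₀ (SK I k).f).comp (Ext.mk₀ g) (zero_add 0) = Ext.mk₀ f at hx₂
  rw [Ext.mk₀_comp_mk₀] at hx₂
  have hfg : (SK I k).f ≫ g = f := (Ext.homEquiv₀).symm.injective hx₂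
  refine ⟨g.hom (1 : R), ?_⟩
  rw [← hfg]
  refine ModuleCat.hom_ext (LinearMap.ext fun x => ?_)
  obtain ⟨x, hx⟩ := x
  show g.hom x = x • g.hom (1 : R)
  rw [← map_smul]
  congr 1
  exact (mul_one x).symm

theorem θ_smulMap (M : Type u) [AddCommGroup M] [Module R M] (k : ℕ) (m : M) :
    θ I (ModuleCat.of R M) k (smulMap I k M m) = 0 := by
  let g : (SK I k).X₂ ⟶ ModuleCat.of R M :=
    ModuleCat.ofHom (LinearMap.toSpanSingleton R M m)
  have : smulMap I k M m = (SK I k).f ≫ g := by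
    ext x
    rfl
  have key : ∀ g : (SK I k).X₂ ⟶ ModuleCat.of R M,
      (SK_shortExact I k).extClass.comp (Ext.mk₀ ((SK I k).f ≫ g)) (add_zero 1) = 0 := by
    intro g
    rw [← Ext.mk₀_comp_mk₀, ← Ext.comp_assoc_of_third_deg_zero,
      (SK_shortExact I k).extClass_comp, Ext.zero_comp]
  show (eK I k).comp (Ext.mk₀ (smulMap I k M m)) (add_zero 1) = 0
  rw [this]
  exact key g

/-- The cocone defining `Θ : D_I(M) → H^1_I(M)`. -/
noncomputable def ΘCocone : Cocone (Dg I ⋙ (evaluation _ _).obj M) where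
  pt := (localCohomology I 1).obj M
  ι :=
    { app := fun j => ModuleCat.ofHom (ιE I 1 M j.unop.unop ∘ₗ θ I M j.unop.unop)
      naturality := by
        intro j j' a
        have hkl : j.unop.unop ≤ j'.unop.unop := leOfHom a.unop.unop
        have hf : a = homOp hkl := Subsingleton.elim _ _
        subst hf
        ext f
        show ιE I 1 M j'.unop.unop (θ I M j'.unop.unop (inc I hkl ≫ f)) =
          ιE I 1 M j.unop.unop (θ I M j.unop.unop f)
        rw [θ_inc, ιE_tr] }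

/-- `Θ : D_I(M) → H^1_I(M)`. -/
noncomputable def Θ : (idealTransform I).obj M →ₗ[R] (localCohomology I 1).obj M :=
  ((evalCoconeIsColimit I M).desc (ΘCocone I M)).hom

theorem Θ_ιD (k : ℕ) (f : P I k ⟶ M) : Θ I M (ιD I M k f) = ιE I 1 M k (θ I M k f) := by
  have h := (evalCoconeIsColimit I M).fac (ΘCocone I M) (op (op k))
  have h2 := congrArg (fun φ => φ.hom f) h
  exact h2

theorem Θ_surjective : Function.Surjective (Θ I M) := by
  intro x
  obtain ⟨k, y, rfl⟩ := Groth.Agent.Lib.helper11.LCKit.exists_rep I 1 M x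
  obtain ⟨f, rfl⟩ := θ_surjective I M k y
  exact ⟨ιD I M k f, Θ_ιD I M k f⟩

theorem ker_Θ (M : Type u) [AddCommGroup M] [Module R M] :
    LinearMap.ker (Θ I (ModuleCat.of R M)) = LinearMap.range (toDT I M) := by
  apply le_antisymm
  · intro x hx
    rw [LinearMap.mem_ker] at hx
    obtain ⟨k, f, rfl⟩ := exists_rep I (ModuleCat.of R M) x
    rw [Θ_ιD, ιE_eq_zero_iff] at hx
    obtain ⟨l, hkl, hl⟩ := hx
    rw [← θ_inc] at hl
    obtain ⟨m, hm⟩ := eq_smulMap_of_θ_eq_zero I M l _ hl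
    refine ⟨m, ?_⟩
    rw [toDT_eq' I M m l, ← hm, ιD_inc]
  · rintro x ⟨m, rfl⟩
    rw [LinearMap.mem_ker, toDT_eq, Θ_ιD, θ_smulMap, map_zero]

/-- S11591. -/
theorem nonempty_quotient_equiv (M : Type u) [AddCommGroup M] [Module R M] :
    Nonempty ((DT I M ⧸ LinearMap.range (toDT I M)) ≃ₗ[R] LocCoh.H I 1 M) :=
  ⟨(Submodule.quotEquivOfEq _ _ (ker_Θ I M).symm).trans
    ((Θ I (ModuleCat.of R M)).quotKerEquivOfSurjective (Θ_surjective I (ModuleCat.of R M)))⟩

end Groth.Agent.Lib.helper11.DTKit
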