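import Mathlib
import Groth.Agent.Lib.helper11.LCVanish

/-!
# Local cohomology and localization at an element (helper11)

* `subsingleton_of_leftInverse_smul` : `H^i_J(M) = 0` if some `x ∈ J` acts on `M` with a left
  inverse.
* `subsingleton_localizedModule_powers` : `H^i_J(M_a) = 0` for `a ∈ J`
* `bijective_map_of_surjective_of_isTors_ker` : `f` surjective with torsion kernel induces
  bijections on `H^i`, `i > 0`.
* `h1Equiv` : `M_a / im(M) ≃ H^1_{(a)}(M)`.
-/

set_option autoImplicit false

namespace Groth.Agent.Lib.helper11.LCKit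

open CategoryTheory Limits Opposite localCohomology Abelian

universe u

variable {R : Type u} [CommRing R] (J : Ideal R) (i : ℕ)

/-- If `x ∈ J` acts on `M` with a left inverse, `H^i_J(M) = 0`. -/
theorem subsingleton_of_leftInverse_smul (M : ModuleCat.{u} R) (x : R) (hx : x ∈ J)
    (g : M ⟶ M) (hg : (x • 𝟙 M) ≫ g = 𝟙 M) :
    Subsingleton ((localCohomology J i).obj M) := by
  apply subsingleton_of_smul_injective J i M x hx
  intro z hz
  rw [smul_eq_map] at hz
  have h1 : ((localCohomology J i).map ((x • 𝟙 M) ≫ g)).hom z = z := by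
    rw [hg, CategoryTheory.Functor.map_id]
    rfl
  rw [Functor.map_comp, ModuleCat.comp_apply, hz, map_zero] at h1
  exact h1.symm

/-- `H^i_J(M_a) = 0` for `a ∈ J`. -/
theorem subsingleton_localizedModule_powers (a : R) (ha : a ∈ J) (M : Type u) [AddCommGroup M]
    [Module R M] :
    Subsingleton ((localCohomology J i).obj
      (ModuleCat.of R (LocalizedModule (Submonoid.powers a) M))) := by
  have hu := IsLocalizedModule.map_units (LocalizedModule.mkLinearMap (Submonoid.powers a) M)
    (⟨a, Submonoid.mem_powers a⟩ : Submonoid.powers a)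
  obtain ⟨u, hu⟩ := hu
  let g : LocalizedModule (Submonoid.powers a) M →ₗ[R] LocalizedModule (Submonoid.powers a) M :=
    (u⁻¹ : (Module.End R (LocalizedModule (Submonoid.powers a) M))ˣ).1
  apply subsingleton_of_leftInverse_smul J i _ a ha (ModuleCat.ofHom g)
  ext m
  show g (a • m) = m
  have h1 : (u : Module.End R (LocalizedModule (Submonoid.powers a) M)) m = a • m := by
    rw [hu]
    rfl
  rw [← h1]
  show ((u⁻¹ : (Module.End R (LocalizedModule (Submonoid.powers a) M))ˣ).1 * u.1) m = m
  rw [Units.inv_mul]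
  rfl

/-- A surjection with `J`-torsion kernel induces bijections on `H^i_J`, `i > 0`. -/
theorem bijective_map_of_surjective_of_isTors_ker [IsNoetherianRing R] (hi : 0 < i)
    {M N : Type u} [AddCommGroup M] [Module R M] [AddCommGroup N] [Module R N]
    (f : M →ₗ[R] N) (hf : Function.Surjective f) (hK : IsTors J (LinearMap.ker f)) :
    Function.Bijective ((localCohomology J i).map (ModuleCat.ofHom f)).hom := by
  let S := f.shortComplexKer
  have hS : S.ShortExact := LinearMap.shortExact_shortComplexKer hf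
  have hv : ∀ j, 0 < j → Subsingleton ((localCohomology J j).obj S.X₁) :=
    fun j hj => subsingleton_of_isTors J j hj S.X₁ hK
  change Function.Bijective ((localCohomology J i).map S.g).hom
  constructor
  · rw [injective_iff_map_eq_zero]
    intro x hx
    obtain ⟨x₁, rfl⟩ := exact₂ J i hS x hx
    haveI := hv i hi
    rw [Subsingleton.elim x₁ 0]
    exact map_zero _
  · intro x₃
    haveI := hv (i + 1) (by omega)
    exact exact₃ J i hS x₃ (Subsingleton.elim _ _)

section H1

variable [IsNoetherianRing R] (a : R) (M : Type u) [AddCommGroup M] [Module R M]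

local notation "Ma" => LocalizedModule (Submonoid.powers a) M
local notation "φ" => LocalizedModule.mkLinearMap (Submonoid.powers a) M

theorem isTors_ker_mkLinearMap : IsTors (Ideal.span {a}) (LinearMap.ker φ) := by
  rintro ⟨m, hm⟩
  rw [LinearMap.mem_ker] at hm
  obtain ⟨⟨s, k, rfl⟩, hs⟩ := (IsLocalizedModule.eq_zero_iff (Submonoid.powers a) φ).1 hm
  refine ⟨k, fun b hb => Subtype.ext ?_⟩
  rw [Ideal.span_singleton_pow, Ideal.mem_span_singleton'] at hb
  obtain ⟨r, rfl⟩ := hb
  show (r * a ^ k) • m = 0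
  rw [mul_smul]
  have : a ^ k • m = 0 := hs
  rw [this, smul_zero]

theorem isTors_coker_mkLinearMap :
    IsTors (Ideal.span {a}) (Ma ⧸ LinearMap.range φ) := by
  intro c
  obtain ⟨y, rfl⟩ := Submodule.Quotient.mk_surjective _ c
  obtain ⟨⟨m, ⟨s, k, rfl⟩⟩, hs⟩ := IsLocalizedModule.surj (Submonoid.powers a) φ y
  refine ⟨k, fun b hb => ?_⟩
  rw [Ideal.span_singleton_pow, Ideal.mem_span_singleton'] at hb
  obtain ⟨r, rfl⟩ := hb
  rw [← Submodule.Quotient.mk_smul, Submodule.Quotient.mk_eq_zero, mul_smul]
  have : a ^ k • y = φ m := hs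
  rw [this, ← map_smul]
  exact ⟨r • m, rfl⟩

/-- `M_a / im(M) ≃ H^1_{(a)}(M)`. -/
theorem nonempty_h1Equiv :
    Nonempty ((Ma ⧸ LinearMap.range φ) ≃ₗ[R]
      (localCohomology (Ideal.span {a}) 1).obj (ModuleCat.of R M)) := by
  set J := Ideal.span {a} with hJ
  have haJ : a ∈ J := Ideal.mem_span_singleton_self a
  -- step 1: `C ≃ H^0(C)`
  let C := Ma ⧸ LinearMap.range φ
  have e1 : (localCohomology J 0).obj (ModuleCat.of R C) ≃ₗ[R] C :=
    evEquivOfTors J (ModuleCat.of R C) (isTors_coker_mkLinearMap a M)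
  -- step 2: `H^0(C) ≃ H^1(im)`
  let S := Groth.Agent.Lib.helper11.FinLenInd.subSC (ModuleCat.of R Ma) (LinearMap.range φ)
  have hS : S.ShortExact := Groth.Agent.Lib.helper11.FinLenInd.subSC_shortExact _ _
  have h0 : ∀ j, Subsingleton ((localCohomology J j).obj S.X₂) :=
    fun j => subsingleton_localizedModule_powers J j a haJ M
  have hδ : Function.Bijective (δ J 0 hS).hom := by
    constructor
    · rw [injective_iff_map_eq_zero]
      intro x hx
      obtain ⟨x₂, rfl⟩ := exact₃ J 0 hS x hx
      haveI := h0 0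
      rw [Subsingleton.elim x₂ 0]
      exact map_zero _
    · intro x₁
      haveI := h0 (0 + 1)
      exact exact₁ J 0 hS x₁ (Subsingleton.elim _ _)
  let e2 : (localCohomology J 0).obj S.X₃ ≃ₗ[R] (localCohomology J (0 + 1)).obj S.X₁ :=
    LinearEquiv.ofBijective (δ J 0 hS).hom hδ
  -- step 3: `H^1(M) ≃ H^1(im)`
  let ψ : M →ₗ[R] LinearMap.range φ := LinearMap.rangeRestrict φ
  have hb := bijective_map_of_surjective_of_isTors_ker J 1 (by omega) ψ
    (LinearMap.surjective_rangeRestrict _) (by
      have : LinearMap.ker ψ = LinearMap.ker φ := LinearMap.ker_rangeRestrict _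
      rw [this]
      exact isTors_ker_mkLinearMap a M)
  let e3 := LinearEquiv.ofBijective _ hb
  exact ⟨(e1.symm.trans e2).trans e3.symm⟩

end H1

end Groth.Agent.Lib.helper11.LCKit
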