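import Mathlib
import Groth.Agent.Lib.helper11.DTH1
import Groth.Agent.Lib.helper11.LCLoc

/-!
# `Γ_I(D_I M) = 0 = H^1_I(D_I M)` and `H^i_I(M) ≅ H^i_I(D_I M)` for `i > 1` (helper11)
-/

set_option autoImplicit false

namespace Groth.Agent.Lib.helper11.DTKit

open CategoryTheory Limits Opposite localCohomology LocCoh Abelian
  Groth.Agent.Lib.helper11.LCKit

universe u

variable {R : Type u} [CommRing R] (I : Ideal R) (M : Type u) [AddCommGroup M] [Module R M]

theorem smul_ιD_eq_toDT (k : ℕ) (f : P I k ⟶ ModuleCat.of R M) (a : R) (ha : a ∈ I ^ k) :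
    a • ιD I (ModuleCat.of R M) k f = toDT I M (f.hom ⟨a, ha⟩) := by
  rw [toDT_eq' I M _ k, ← map_smul]
  congr 1
  refine ModuleCat.hom_ext (LinearMap.ext fun b => ?_)
  show a • f.hom b = (b : R) • f.hom ⟨a, ha⟩
  have h1 : f.hom (a • b) = a • f.hom b := map_smul _ _ _
  have h2 : f.hom ((b : R) • (⟨a, ha⟩ : (I ^ k : Ideal R))) = (b : R) • f.hom ⟨a, ha⟩ :=
    map_smul _ _ _
  have h3 : a • b = (b : R) • (⟨a, ha⟩ : (I ^ k : Ideal R)) := Subtype.ext (mul_comm _ _)
  rw [← h1, ← h2, h3]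

theorem toDT_eq_zero_iff (m : M) : toDT I M m = 0 ↔ ∃ l : ℕ, ∀ a ∈ I ^ l, a • m = 0 := by
  rw [toDT_eq, ιD_eq_zero_iff]
  constructor
  · rintro ⟨l, h, hl⟩
    refine ⟨l, fun a ha => ?_⟩
    have := congrArg (fun φ => φ.hom (⟨a, ha⟩ : (I ^ l : Ideal R))) hl
    exact this
  · rintro ⟨l, hl⟩
    refine ⟨l, Nat.zero_le l, ?_⟩
    refine ModuleCat.hom_ext (LinearMap.ext fun b => ?_)
    exact hl b.1 b.2

variable [IsNoetherianRing R]

/-- `D_I(M)` has no `I`-power torsion. -/
theorem isTorsFree_DT : IsTorsFree I (DT I M) := by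
  classical
  intro x hx
  obtain ⟨n, hn⟩ := hx
  obtain ⟨k, f, rfl⟩ := exists_rep I (ModuleCat.of R M) x
  obtain ⟨s, hs⟩ := (IsNoetherian.noetherian (I ^ n) : (I ^ n).FG)
  -- common stage killing `a • f` for the generators
  have h2 : ∀ t : Finset R, (∀ a ∈ t, a ∈ I ^ n) →
      ∃ l : ℕ, k ≤ l ∧ ∀ a ∈ t, ∀ (b : R) (hb : b ∈ I ^ l) (hb' : b ∈ I ^ k),
        a • f.hom ⟨b, hb'⟩ = 0 := by
    intro t
    induction t using Finset.induction_on with
    | empty => exact fun _ => ⟨k, le_rfl, fun a ha => by simp at ha⟩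
    | insert c t hc ih =>
      intro ht
      obtain ⟨l2, hkl2, hl2⟩ := ih (fun a ha => ht a (Finset.mem_insert_of_mem ha))
      have hc0 : ιD I (ModuleCat.of R M) k (c • f) = 0 := by
        rw [map_smul]
        exact hn c (ht c (Finset.mem_insert_self c t))
      obtain ⟨l1, hkl1, hl1⟩ := (ιD_eq_zero_iff I _ _).1 hc0
      refine ⟨max l1 l2, le_max_of_le_left hkl1, fun a ha b hb hb' => ?_⟩
      rcases Finset.mem_insert.1 ha with rfl | ha
      · have hb1 : b ∈ I ^ l1 := Ideal.pow_le_pow_right (le_max_left l1 l2) hb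
        have := congrArg (fun φ => φ.hom (⟨b, hb1⟩ : (I ^ l1 : Ideal R))) hl1
        exact this
      · exact hl2 a ha b (Ideal.pow_le_pow_right (le_max_right l1 l2) hb) hb'
  obtain ⟨l, hkl, hl⟩ := h2 s (fun a ha => by rw [← hs]; exact Ideal.subset_span ha)
  -- all of `I^n` kills `f(I^l)`
  have h3 : ∀ a ∈ I ^ n, ∀ (b : R) (hb : b ∈ I ^ l) (hb' : b ∈ I ^ k), a • f.hom ⟨b, hb'⟩ = 0 := by
    intro a ha b hb hb'
    rw [← hs] at ha
    refine Submodule.span_induction ?_ ?_ ?_ ?_ ha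
    · intro a ha
      exact hl a ha b hb hb'
    · exact zero_smul _ _
    · intro x y _ _ hx hy
      rw [add_smul, hx, hy, add_zero]
    · intro r x _ hx
      rw [smul_eq_mul, mul_smul, hx, smul_zero]
  -- `f` vanishes on `I^(l+n)`
  have hle : I ^ l * I ^ n ≤ I ^ k := Ideal.mul_le_left.trans (Ideal.pow_le_pow_right hkl)
  have h4 : ∀ c (hc : c ∈ I ^ l * I ^ n), f.hom ⟨c, hle hc⟩ = 0 := by
    intro c hc
    refine Submodule.mul_induction_on' (C := fun c hc => f.hom ⟨c, hle hc⟩ = 0) ?_ ?_ hc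
    · intro b hb a ha
      have hb' : b ∈ I ^ k := Ideal.pow_le_pow_right hkl hb
      have : (⟨b * a, hle (Ideal.mul_mem_mul hb ha)⟩ : (I ^ k : Ideal R)) =
          a • (⟨b, hb'⟩ : (I ^ k : Ideal R)) := Subtype.ext (mul_comm _ _)
      rw [this, map_smul]
      exact h3 a ha b hb hb'
    · intro x hx y hy hx0 hy0
      have : (⟨x + y, hle (add_mem hx hy)⟩ : (I ^ k : Ideal R)) = ⟨x, hle hx⟩ + ⟨y, hle hy⟩ := rfl
      rw [this, map_add, hx0, hy0, add_zero]
  rw [ιD_eq_zero_iff]
  refine ⟨l + n, by omega, ?_⟩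
  refine ModuleCat.hom_ext (LinearMap.ext fun c => ?_)
  have hc : (c : R) ∈ I ^ l * I ^ n := by
    rw [← pow_add]
    exact c.2
  exact h4 c.1 hc

/-- The short exact sequence `0 → η(M) → D_I(M) → D_I(M)/η(M) → 0`. -/
noncomputable abbrev S2 : ShortComplex (ModuleCat.{u} R) :=
  Groth.Agent.Lib.helper11.FinLenInd.subSC (ModuleCat.of R (DT I M)) (LinearMap.range (toDT I M))

theorem S2_shortExact : (S2 I M).ShortExact :=
  Groth.Agent.Lib.helper11.FinLenInd.subSC_shortExact _ _

theorem isTors_coker : IsTors I (DT I M ⧸ LinearMap.range (toDT I M)) := by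
  intro c
  obtain ⟨d, rfl⟩ := Submodule.Quotient.mk_surjective _ c
  obtain ⟨k, f, rfl⟩ := exists_rep I (ModuleCat.of R M) d
  refine ⟨k, fun a ha => ?_⟩
  rw [← Submodule.Quotient.mk_smul, Submodule.Quotient.mk_eq_zero, smul_ιD_eq_toDT I M k f a ha]
  exact ⟨_, rfl⟩

theorem isTors_ker_toDT : IsTors I (LinearMap.ker (toDT I M)) := by
  rintro ⟨m, hm⟩
  obtain ⟨l, hl⟩ := (toDT_eq_zero_iff I M m).1 hm
  exact ⟨l, fun a ha => Subtype.ext (hl a ha)⟩

/-- S11598. -/
theorem bijective_map_toDT (i : ℕ) (hi : 1 < i) :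
    Function.Bijective ((localCohomology I i).map (ModuleCat.ofHom (toDT I M))).hom := by
  let q : M →ₗ[R] LinearMap.range (toDT I M) := LinearMap.rangeRestrict (toDT I M)
  have hq := bijective_map_of_surjective_of_isTors_ker I i (by omega) q
    (LinearMap.surjective_rangeRestrict _) (by
      have : LinearMap.ker q = LinearMap.ker (toDT I M) := LinearMap.ker_rangeRestrict _
      rw [this]
      exact isTors_ker_toDT I M)
  have hS := S2_shortExact I M
  have hC : ∀ j, 0 < j → Subsingleton ((localCohomology I j).obj (S2 I M).X₃) :=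
    fun j hj => subsingleton_of_isTors I j hj (S2 I M).X₃ (isTors_coker I M)
  have hf : Function.Bijective ((localCohomology I i).map (S2 I M).f).hom := by
    obtain ⟨j, rfl⟩ : ∃ j, i = j + 1 := ⟨i - 1, by omega⟩
    constructor
    · rw [injective_iff_map_eq_zero]
      intro x hx
      obtain ⟨x₃, rfl⟩ := exact₁ I j hS x hx
      haveI := hC j (by omega)
      rw [Subsingleton.elim x₃ 0]
      exact map_zero _
    · intro x₂
      haveI := hC (j + 1) (by omega)
      exact exact₂ I (j + 1) hS x₂ (Subsingleton.elim _ _)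
  have hcomp : (localCohomology I i).map (ModuleCat.ofHom (toDT I M)) =
      (localCohomology I i).map (ModuleCat.ofHom q) ≫ (localCohomology I i).map (S2 I M).f := by
    rw [← Functor.map_comp]
    rfl
  rw [hcomp]
  exact hf.comp hq

/-- `H^1_I(D_I M) = 0`. -/
theorem subsingleton_H1_DT :
    Subsingleton ((localCohomology I 1).obj (ModuleCat.of R (DT I M))) := by
  have hS := S2_shortExact I M
  let q : M →ₗ[R] LinearMap.range (toDT I M) := LinearMap.rangeRestrict (toDT I M)
  have hq := bijective_map_of_surjective_of_isTors_ker I 1 (by omega) q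
    (LinearMap.surjective_rangeRestrict _) (by
      have : LinearMap.ker q = LinearMap.ker (toDT I M) := LinearMap.ker_rangeRestrict _
      rw [this]
      exact isTors_ker_toDT I M)
  -- `δ : H^0(C) → H^1(B)` is surjective
  have hδ : Function.Surjective (δ I 0 hS).hom := by
    intro z
    obtain ⟨w, rfl⟩ := hq.2 z
    obtain ⟨k, y, rfl⟩ := Groth.Agent.Lib.helper11.LCKit.exists_rep I 1 (ModuleCat.of R M) w
    obtain ⟨f, rfl⟩ := θ_surjective I (ModuleCat.of R M) k y
    -- the element `d = ιD k f` and its class `c`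
    let d : DT I M := ιD I (ModuleCat.of R M) k f
    have hc : ∀ a ∈ I ^ k,
        a • (Submodule.Quotient.mk d : DT I M ⧸ LinearMap.range (toDT I M)) = 0 := by
      intro a ha
      rw [← Submodule.Quotient.mk_smul, Submodule.Quotient.mk_eq_zero, smul_ιD_eq_toDT I M k f a ha]
      exact ⟨_, rfl⟩
    let gc : Q I k ⟶ (S2 I M).X₃ := ModuleCat.ofHom
      (Submodule.liftQ (I ^ k) (LinearMap.toSpanSingleton R
        (DT I M ⧸ LinearMap.range (toDT I M)) (Submodule.Quotient.mk d)) (by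
        intro a ha
        rw [LinearMap.mem_ker, LinearMap.toSpanSingleton_apply]
        exact hc a ha))
    -- the morphism of short exact sequences
    let τ : SK I k ⟶ S2 I M :=
      { τ₁ := f ≫ ModuleCat.ofHom q
        τ₂ := ModuleCat.ofHom (LinearMap.toSpanSingleton R (DT I M) d)
        τ₃ := gc
        comm₁₂ := by
          refine ModuleCat.hom_ext (LinearMap.ext fun a => ?_)
          obtain ⟨a, ha⟩ := a
          show toDT I M (f.hom ⟨a, ha⟩) = a • d
          exact (smul_ιD_eq_toDT I M k f a ha).symm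
        comm₂₃ := by
          refine ModuleCat.hom_ext (LinearMap.ext fun r => ?_)
          rfl }
    have hnat := ShortComplex.ShortExact.extClass_naturality (SK_shortExact I k) hS τ
    refine ⟨ιE I 0 (S2 I M).X₃ k (Ext.mk₀ gc), ?_⟩
    rw [δ_ιE, map_ιE]
    congr 1
    show (Ext.mk₀ gc).comp hS.extClass _ = ((eK I k).comp (Ext.mk₀ f) (add_zero 1)).comp
      (Ext.mk₀ (ModuleCat.ofHom q)) (add_zero 1)
    rw [Ext.comp_assoc_of_third_deg_zero, Ext.mk₀_comp_mk₀]
    exact hnat.symm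
  refine subsingleton_of_forall_eq 0 (fun x₂ => ?_)
  haveI := subsingleton_of_isTors I 1 (by omega) (S2 I M).X₃ (isTors_coker I M)
  obtain ⟨x₁, rfl⟩ := exact₂ I 1 hS x₂ (Subsingleton.elim _ _)
  obtain ⟨x₃, rfl⟩ := hδ x₁
  exact map_f_δ I 0 hS x₃

end Groth.Agent.Lib.helper11.DTKit
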