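import Mathlib
import Groth.Agent.Lib.helper11.DTH2

/-!
# `Ext^i(I^k, M) ≅ Ext^{i+1}(R/I^k, M)` for `i ≥ 1`, naturally (helper11)
-/

set_option autoImplicit false

namespace Groth.Agent.Lib.helper11.DTKit

open CategoryTheory Limits Opposite localCohomology LocCoh Abelian
  Groth.Agent.Lib.helper11.LCKit

universe u

variable {R : Type u} [CommRing R] (I : Ideal R) (M : ModuleCat.{u} R)

/-- `θ_k^i : Ext^i(I^k, M) → Ext^{i+1}(R/I^k, M)`, the connecting map. -/
noncomputable def θn (i k : ℕ) : Ext (P I k) M i →ₗ[R] Ext (Q I k) M (i + 1) where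
  toFun x := (eK I k).comp x (add_comm 1 i)
  map_add' x y := by rw [Ext.comp_add]
  map_smul' r x := by rw [Ext.comp_smul]; rfl

theorem θn_apply (i k : ℕ) (x : Ext (P I k) M i) :
    θn I M i k x = (eK I k).comp x (add_comm 1 i) := rfl

theorem θn_inc (i : ℕ) {k l : ℕ} (h : k ≤ l) (x : Ext (P I k) M i) :
    θn I M i l ((Ext.mk₀ (inc I h)).comp x (zero_add i)) =
      (Ext.mk₀ (tr I h)).comp (θn I M i k x) (zero_add (i + 1)) := by
  rw [θn_apply, θn_apply]
  rw [← Ext.comp_assoc (eK I l) (Ext.mk₀ (inc I h)) x (add_zero 1) (zero_add i)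
    (show 1 + 0 + i = i + 1 by omega), eK_naturality,
    Ext.comp_assoc (Ext.mk₀ (tr I h)) (eK I k) x (zero_add 1) (add_comm 1 i)
    (show 0 + 1 + i = i + 1 by omega)]

variable {M} in
theorem θn_comp (i k : ℕ) {N : ModuleCat.{u} R} (g : M ⟶ N) (x : Ext (P I k) M i) :
    θn I N i k (x.comp (Ext.mk₀ g) (add_zero i)) =
      (θn I M i k x).comp (Ext.mk₀ g) (add_zero (i + 1)) := by
  rw [θn_apply, θn_apply]
  rw [Ext.comp_assoc (eK I k) x (Ext.mk₀ g) (add_comm 1 i) (add_zero i)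
    (show 1 + i + 0 = i + 1 by omega)]

theorem θn_bijective (i k : ℕ) (hi : 1 ≤ i) : Function.Bijective (θn I M i k) := by
  haveI : Projective (SK I k).X₂ := by
    show Projective (ModuleCat.of R R)
    exact ModuleCat.projective_of_free (Module.Basis.singleton Unit R)
  obtain ⟨j, rfl⟩ : ∃ j, i = j + 1 := ⟨i - 1, by omega⟩
  constructor
  · rw [injective_iff_map_eq_zero]
    intro x hx
    obtain ⟨x₂, hx₂⟩ := Ext.contravariant_sequence_exact₁ (SK_shortExact I k) M x
      (add_comm 1 (j + 1)) hx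
    have h2 : x₂ = 0 := Ext.eq_zero_of_projective x₂
    rw [← hx₂, h2, Ext.comp_zero]
    rfl
  · intro y
    have h0 : (Ext.mk₀ (SK I k).g).comp y (zero_add (j + 1 + 1)) = 0 := Ext.eq_zero_of_projective _
    obtain ⟨x₁, hx₁⟩ := Ext.contravariant_sequence_exact₃ (SK_shortExact I k) M y h0
      (n₀ := j + 1) (add_comm 1 (j + 1))
    exact ⟨x₁, hx₁⟩

end Groth.Agent.Lib.helper11.DTKit
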