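import Mathlib
import Groth.Agent.Lib.helper11.DTExt

/-!
# `D_I(e)` is bijective when `ker e`, `coker e` are `I`-power torsion (helper11)
-/

set_option autoImplicit false

namespace Groth.Agent.Lib.helper11.DTKit

open CategoryTheory Limits Opposite localCohomology LocCoh Abelian
  Groth.Agent.Lib.helper11.LCKit

universe u

variable {R : Type u} [CommRing R] (I : Ideal R)

section general

variable {M : ModuleCat.{u} R}

/-- If `I^n` kills all values of `f : I^k → M` then `f` vanishes on `I^(k+n)`. -/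
theorem inc_comp_eq_zero_of_kill {k n : ℕ} (f : P I k ⟶ M)
    (h : ∀ a ∈ I ^ n, ∀ b : (I ^ k : Ideal R), a • f.hom b = 0) :
    inc I (Nat.le_add_right k n) ≫ f = 0 := by
  have hle : I ^ k * I ^ n ≤ I ^ k := Ideal.mul_le_left
  have h4 : ∀ c (hc : c ∈ I ^ k * I ^ n), f.hom ⟨c, hle hc⟩ = 0 := by
    intro c hc
    refine Submodule.mul_induction_on' (C := fun c hc => f.hom ⟨c, hle hc⟩ = 0) ?_ ?_ hc
    · intro b hb a ha
      have : (⟨b * a, hle (Ideal.mul_mem_mul hb ha)⟩ : (I ^ k : Ideal R)) =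
          a • (⟨b, hb⟩ : (I ^ k : Ideal R)) := Subtype.ext (mul_comm _ _)
      rw [this, map_smul]
      exact h a ha ⟨b, hb⟩
    · intro x hx y hy hx0 hy0
      have : (⟨x + y, hle (add_mem hx hy)⟩ : (I ^ k : Ideal R)) = ⟨x, hle hx⟩ + ⟨y, hle hy⟩ := rfl
      rw [this, map_add, hx0, hy0, add_zero]
  refine ModuleCat.hom_ext (LinearMap.ext fun c => ?_)
  have hc : (c : R) ∈ I ^ k * I ^ n := by
    rw [← pow_add]
    exact c.2
  exact h4 c.1 hc

/-- More generally, if `I^n` sends all values of `f : I^k → M` into a submodule `N`, then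
`f` sends `I^(k+n)` into `N`. -/
theorem mem_of_smul_mem {k n : ℕ} (f : P I k ⟶ M) (N : Submodule R M)
    (h : ∀ a ∈ I ^ n, ∀ b : (I ^ k : Ideal R), a • f.hom b ∈ N)
    (c : (I ^ (k + n) : Ideal R)) : (inc I (Nat.le_add_right k n) ≫ f).hom c ∈ N := by
  have hle : I ^ k * I ^ n ≤ I ^ k := Ideal.mul_le_left
  have h4 : ∀ c (hc : c ∈ I ^ k * I ^ n), f.hom ⟨c, hle hc⟩ ∈ N := by
    intro c hc
    refine Submodule.mul_induction_on' (C := fun c hc => f.hom ⟨c, hle hc⟩ ∈ N) ?_ ?_ hc
    · intro b hb a ha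
      have : (⟨b * a, hle (Ideal.mul_mem_mul hb ha)⟩ : (I ^ k : Ideal R)) =
          a • (⟨b, hb⟩ : (I ^ k : Ideal R)) := Subtype.ext (mul_comm _ _)
      rw [this, map_smul]
      exact h a ha ⟨b, hb⟩
    · intro x hx y hy hx0 hy0
      have : (⟨x + y, hle (add_mem hx hy)⟩ : (I ^ k : Ideal R)) = ⟨x, hle hx⟩ + ⟨y, hle hy⟩ := rfl
      rw [this, map_add]
      exact N.add_mem hx0 hy0
  have hc : (c : R) ∈ I ^ k * I ^ n := by
    rw [← pow_add]
    exact c.2
  exact h4 c.1 hc

variable [IsNoetherianRing R]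

/-- If every value of `f : I^k → M` is sent into `N` by some power of `I`, then a single
power works for all values. -/
theorem exists_pow_smul_mem {k : ℕ} (f : P I k ⟶ M) (N : Submodule R M)
    (h : ∀ b : (I ^ k : Ideal R), ∃ n : ℕ, ∀ a ∈ I ^ n, a • f.hom b ∈ N) :
    ∃ n : ℕ, ∀ a ∈ I ^ n, ∀ b : (I ^ k : Ideal R), a • f.hom b ∈ N := by
  classical
  obtain ⟨s, hs⟩ := (IsNoetherian.noetherian (⊤ : Submodule R (I ^ k : Ideal R)) :
    (⊤ : Submodule R (I ^ k : Ideal R)).FG)
  have h2 : ∀ t : Finset (I ^ k : Ideal R), ∃ n : ℕ, ∀ b ∈ t, ∀ a ∈ I ^ n, a • f.hom b ∈ N := by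
    intro t
    induction t using Finset.induction_on with
    | empty => exact ⟨0, fun b hb => by simp at hb⟩
    | insert c t hc ih =>
      obtain ⟨n1, hn1⟩ := ih
      obtain ⟨n2, hn2⟩ := h c
      refine ⟨max n1 n2, fun b hb a ha => ?_⟩
      rcases Finset.mem_insert.1 hb with rfl | hb
      · exact hn2 a (Ideal.pow_le_pow_right (le_max_right n1 n2) ha)
      · exact hn1 b hb a (Ideal.pow_le_pow_right (le_max_left n1 n2) ha)
  obtain ⟨n, hn⟩ := h2 s
  refine ⟨n, fun a ha b => ?_⟩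
  have hb : b ∈ Submodule.span R (s : Set (I ^ k : Ideal R)) := by rw [hs]; trivial
  refine Submodule.span_induction ?_ ?_ ?_ ?_ hb
  · intro x hx
    exact hn x hx a ha
  · rw [map_zero, smul_zero]
    exact N.zero_mem
  · intro x y _ _ hx hy
    rw [map_add, smul_add]
    exact N.add_mem hx hy
  · intro r x _ hx
    rw [map_smul, smul_comm]
    exact N.smul_mem r hx

/-- Classes in `Ext^1(I^k, K)` with `K` torsion die on restriction to some `I^l`. -/
theorem exists_restrict_ext_eq_zero {K : ModuleCat.{u} R} (hK : IsTors I K) {k : ℕ}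
    (x : Ext (P I k) K 1) :
    ∃ (l : ℕ) (h : k ≤ l), (Ext.mk₀ (inc I h)).comp x (zero_add 1) = 0 := by
  haveI := subsingleton_of_isTors I 2 (by omega) K hK
  have h0 : ιE I 2 K k (θn I K 1 k x) = 0 := Subsingleton.elim _ _
  obtain ⟨l, hkl, hl⟩ := (ιE_eq_zero_iff I 2 K _).1 h0
  refine ⟨l, hkl, ?_⟩
  rw [← θn_inc] at hl
  apply (θn_bijective I K 1 l le_rfl).1
  rw [hl, map_zero]

end general

section maps

variable [IsNoetherianRing R] {M N : ModuleCat.{u} R} (e : M ⟶ N)

theorem map_injective_of_isTors_ker (hker : IsTors I (LinearMap.ker e.hom)) :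
    Function.Injective ((idealTransform I).map e).hom := by
  rw [injective_iff_map_eq_zero]
  intro x hx
  obtain ⟨k, f, rfl⟩ := exists_rep I M x
  rw [map_ιD, ιD_eq_zero_iff] at hx
  obtain ⟨l, hkl, hl⟩ := hx
  -- `f' = f|_{I^l}` has values in `ker e`
  let f' : P I l ⟶ M := inc I hkl ≫ f
  have hf' : ∀ b, f'.hom b ∈ LinearMap.ker e.hom := by
    intro b
    have := congrArg (fun φ => φ.hom b) hl
    exact this
  have h1 : ∀ b : (I ^ l : Ideal R), ∃ n : ℕ, ∀ a ∈ I ^ n, a • f'.hom b ∈ (⊥ : Submodule R M) := by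
    intro b
    obtain ⟨n, hn⟩ := hker ⟨f'.hom b, hf' b⟩
    refine ⟨n, fun a ha => ?_⟩
    have := congrArg Subtype.val (hn a ha)
    exact this
  obtain ⟨n, hn⟩ := exists_pow_smul_mem I f' ⊥ h1
  have h2 := inc_comp_eq_zero_of_kill I f' (n := n) (fun a ha b => hn a ha b)
  rw [← ιD_inc I M hkl f, ← ιD_inc I M (Nat.le_add_right l n) (inc I hkl ≫ f)]
  show ιD I M (l + n) (inc I (Nat.le_add_right l n) ≫ f') = 0
  rw [h2, map_zero]

theorem map_surjective_of_surjective_of_isTors_ker (hsurj : Function.Surjective e.hom)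
    (hker : IsTors I (LinearMap.ker e.hom)) :
    Function.Surjective ((idealTransform I).map e).hom := by
  intro y
  obtain ⟨k, g, rfl⟩ := exists_rep I N y
  -- the short exact sequence `0 → ker e → M → N → 0`
  let S : ShortComplex (ModuleCat.{u} R) :=
    ShortComplex.mk (ModuleCat.ofHom (LinearMap.ker e.hom).subtype) e (by
      ext x
      exact x.2)
  have hS : S.ShortExact := by
    apply ModuleCat.shortComplex_shortExact
    · intro x
      change e.hom x = 0 ↔ x ∈ Set.range (LinearMap.ker e.hom).subtype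
      simp only [Submodule.coe_subtype, Subtype.range_coe_subtype]
      rfl
    · exact (LinearMap.ker e.hom).injective_subtype
    · exact hsurj
  obtain ⟨l, hkl, hl⟩ := exists_restrict_ext_eq_zero I (K := S.X₁) hker
    ((Ext.mk₀ g).comp hS.extClass (zero_add 1))
  have h3 : (Ext.mk₀ (inc I hkl ≫ g)).comp hS.extClass (zero_add 1) = 0 := by
    rw [← Ext.mk₀_comp_mk₀, Ext.comp_assoc_of_second_deg_zero]
    exact hl
  obtain ⟨x₂, hx₂⟩ := Ext.covariant_sequence_exact₃ (P I l) hS (Ext.mk₀ (inc I hkl ≫ g))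
    (zero_add 1) h3
  obtain ⟨f, rfl⟩ := (Ext.homEquiv₀).symm.surjective x₂
  change (Ext.mk₀ f).comp (Ext.mk₀ e) (add_zero 0) = Ext.mk₀ (inc I hkl ≫ g) at hx₂
  rw [Ext.mk₀_comp_mk₀] at hx₂
  have hfe : f ≫ e = inc I hkl ≫ g := (Ext.homEquiv₀).symm.injective hx₂
  refine ⟨ιD I M l f, ?_⟩
  rw [map_ιD, hfe, ιD_inc]

theorem map_surjective_of_isTors_ker_coker (hker : IsTors I (LinearMap.ker e.hom))
    (hcoker : IsTors I (N ⧸ LinearMap.range e.hom)) :
    Function.Surjective ((idealTransform I).map e).hom := by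
  intro y
  obtain ⟨k, g, rfl⟩ := exists_rep I N y
  have h1 : ∀ b : (I ^ k : Ideal R), ∃ n : ℕ, ∀ a ∈ I ^ n,
      a • g.hom b ∈ LinearMap.range e.hom := by
    intro b
    obtain ⟨n, hn⟩ := hcoker (Submodule.Quotient.mk (g.hom b))
    refine ⟨n, fun a ha => ?_⟩
    have := hn a ha
    rwa [← Submodule.Quotient.mk_smul, Submodule.Quotient.mk_eq_zero] at this
  obtain ⟨n, hn⟩ := exists_pow_smul_mem I g _ h1
  have h2 := mem_of_smul_mem I g _ hn
  -- factor through the range
  let g' : P I (k + n) ⟶ ModuleCat.of R (LinearMap.range e.hom) :=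
    ModuleCat.ofHom (LinearMap.codRestrict _ (inc I (Nat.le_add_right k n) ≫ g).hom h2)
  let q : M ⟶ ModuleCat.of R (LinearMap.range e.hom) := ModuleCat.ofHom e.hom.rangeRestrict
  let ι : ModuleCat.of R (LinearMap.range e.hom) ⟶ N := ModuleCat.ofHom (LinearMap.range e.hom).subtype
  have hqι : q ≫ ι = e := by
    ext x
    rfl
  have hg' : g' ≫ ι = inc I (Nat.le_add_right k n) ≫ g := by
    ext x
    rfl
  have hq : Function.Surjective ((idealTransform I).map q).hom := by
    apply map_surjective_of_surjective_of_isTors_ker I q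
    · exact LinearMap.surjective_rangeRestrict _
    · have : LinearMap.ker q.hom = LinearMap.ker e.hom := LinearMap.ker_rangeRestrict _
      rw [this]
      exact hker
  obtain ⟨x, hx⟩ := hq (ιD I _ (k + n) g')
  refine ⟨x, ?_⟩
  rw [← hqι, Functor.map_comp, ModuleCat.comp_apply, hx, map_ιD, hg', ιD_inc]

theorem map_bijective_of_isTors_ker_coker (hker : IsTors I (LinearMap.ker e.hom))
    (hcoker : IsTors I (N ⧸ LinearMap.range e.hom)) :
    Function.Bijective ((idealTransform I).map e).hom :=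
  ⟨map_injective_of_isTors_ker I e hker, map_surjective_of_isTors_ker_coker I e hker hcoker⟩

end maps

end Groth.Agent.Lib.helper11.DTKit
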