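import Mathlib

/-!
# Serre–Grothendieck formula, I: Euler characteristic of a long exact sequence of finite length
modules (pure algebra).
-/

set_option autoImplicit false

namespace Groth.Agent.Lib.helper11.SG1

universe u v

variable (S : Type u) [Ring S]

/-- the length of a module as a rational number (zero when infinite) -/
noncomputable def L (X : Type v) [AddCommGroup X] [Module S X] : ℚ :=
  ((Module.length S X).toNat : ℚ)

variable {S}

theorem L_of_subsingleton (X : Type v) [AddCommGroup X] [Module S X] [Subsingleton X] :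
    L S X = 0 := by
  unfold L
  rw [Module.length_eq_zero]
  simp

theorem L_congr {X Y : Type v} [AddCommGroup X] [Module S X] [AddCommGroup Y] [Module S Y]
    (e : X ≃ₗ[S] Y) : L S X = L S Y := by
  unfold L
  rw [LinearEquiv.length_eq e]

theorem L_eq_of_exact {N M P : Type v} [AddCommGroup N] [Module S N] [AddCommGroup M] [Module S M]
    [AddCommGroup P] [Module S P] (f : N →ₗ[S] M) (g : M →ₗ[S] P) (hf : Function.Injective f)
    (hg : Function.Surjective g) (H : Function.Exact f g) (hM : IsFiniteLength S M) :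
    L S M = L S N + L S P := by
  unfold L
  have h := Module.length_eq_add_of_exact f g hf hg H
  have hM' : Module.length S M ≠ ⊤ := Module.length_ne_top_iff.2 hM
  have hN : Module.length S N ≠ ⊤ := by
    intro hN
    rw [hN, top_add] at h
    exact hM' h
  have hP : Module.length S P ≠ ⊤ := by
    intro hP
    rw [hP, add_top] at h
    exact hM' h
  rw [h, ENat.toNat_add hN hP]
  push_cast
  rfl

theorem L_ker_add_range {X Y : Type v} [AddCommGroup X] [Module S X] [AddCommGroup Y] [Module S Y]
    (f : X →ₗ[S] Y) (hX : IsFiniteLength S X) :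
    L S X = L S (LinearMap.ker f) + L S (LinearMap.range f) := by
  refine L_eq_of_exact (LinearMap.ker f).subtype f.rangeRestrict (Submodule.subtype_injective _)
    f.surjective_rangeRestrict ?_ hX
  rw [LinearMap.exact_iff, LinearMap.ker_rangeRestrict, Submodule.range_subtype]

theorem L_eq_of_submodule_eq {X : Type v} [AddCommGroup X] [Module S X] {P Q : Submodule S X}
    (h : P = Q) : L S P = L S Q := by
  rw [h]

section Euler

variable {A B C : ℕ → Type v} [∀ i, AddCommGroup (A i)] [∀ i, Module S (A i)]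
  [∀ i, AddCommGroup (B i)] [∀ i, Module S (B i)] [∀ i, AddCommGroup (C i)] [∀ i, Module S (C i)]
  (f : ∀ i, A i →ₗ[S] B i) (g : ∀ i, B i →ₗ[S] C i) (h : ∀ i, C i →ₗ[S] A (i + 1))

theorem telescope (a b c r : ℕ → ℚ) (h0 : a 0 - b 0 + c 0 = r 0)
    (hs : ∀ i, a (i + 1) - b (i + 1) + c (i + 1) = r i + r (i + 1)) (D : ℕ) :
    ∑ i ∈ Finset.range (D + 1), (-1 : ℚ) ^ i * (a i - b i + c i) = (-1) ^ D * r D := by
  induction D with
  | zero => simp [h0]
  | succ D ih =>
    rw [Finset.sum_range_succ, ih, hs D, pow_succ]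
    ring

/-- Euler characteristic of a long exact sequence `0 → A₀ → B₀ → C₀ → A₁ → …` of finite length
modules vanishing beyond `D`. -/
theorem euler (hA : ∀ i, IsFiniteLength S (A i)) (hB : ∀ i, IsFiniteLength S (B i))
    (hC : ∀ i, IsFiniteLength S (C i)) (hf0 : Function.Injective (f 0))
    (hfg : ∀ i, LinearMap.range (f i) = LinearMap.ker (g i))
    (hgh : ∀ i, LinearMap.range (g i) = LinearMap.ker (h i))
    (hhf : ∀ i, LinearMap.range (h i) = LinearMap.ker (f (i + 1)))
    (D : ℕ) (hD : Subsingleton (A (D + 1))) :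
    ∑ i ∈ Finset.range (D + 1), (-1 : ℚ) ^ i * L S (B i) =
      ∑ i ∈ Finset.range (D + 1), (-1 : ℚ) ^ i * L S (A i) +
        ∑ i ∈ Finset.range (D + 1), (-1 : ℚ) ^ i * L S (C i) := by
  have hB' : ∀ i, L S (B i) = L S (LinearMap.range (f i)) + L S (LinearMap.range (g i)) := by
    intro i
    rw [L_ker_add_range (g i) (hB i), L_eq_of_submodule_eq (hfg i)]
  have hC' : ∀ i, L S (C i) = L S (LinearMap.range (g i)) + L S (LinearMap.range (h i)) := by
    intro i
    rw [L_ker_add_range (h i) (hC i), L_eq_of_submodule_eq (hgh i)]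
  have hA' : ∀ i, L S (A (i + 1)) =
      L S (LinearMap.range (h i)) + L S (LinearMap.range (f (i + 1))) := by
    intro i
    rw [L_ker_add_range (f (i + 1)) (hA (i + 1)), L_eq_of_submodule_eq (hhf i)]
  have hA0 : L S (A 0) = L S (LinearMap.range (f 0)) := by
    rw [L_ker_add_range (f 0) (hA 0)]
    have : LinearMap.ker (f 0) = ⊥ := LinearMap.ker_eq_bot.2 hf0
    rw [L_eq_of_submodule_eq this]
    haveI : Subsingleton (⊥ : Submodule S (A 0)) := inferInstance
    rw [L_of_subsingleton, zero_add]
  have key := telescope (fun i => L S (A i)) (fun i => L S (B i)) (fun i => L S (C i))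
    (fun i => L S (LinearMap.range (h i)))
    (by rw [hA0, hB' 0, hC' 0]; ring)
    (fun i => by rw [hA' i, hB' (i + 1), hC' (i + 1)]; ring) D
  have hr : L S (LinearMap.range (h D)) = 0 := by
    haveI : Subsingleton (LinearMap.range (h D)) :=
      ⟨fun x y => Subtype.ext (Subsingleton.elim (x : A (D + 1)) y)⟩
    exact L_of_subsingleton _
  rw [hr, mul_zero] at key
  have : ∑ i ∈ Finset.range (D + 1), (-1 : ℚ) ^ i * (L S (A i) - L S (B i) + L S (C i)) =
      ∑ i ∈ Finset.range (D + 1), (-1 : ℚ) ^ i * L S (A i) -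
        ∑ i ∈ Finset.range (D + 1), (-1 : ℚ) ^ i * L S (B i) +
        ∑ i ∈ Finset.range (D + 1), (-1 : ℚ) ^ i * L S (C i) := by
    rw [← Finset.sum_sub_distrib, ← Finset.sum_add_distrib]
    exact Finset.sum_congr rfl fun i _ => by ring
  rw [this] at key
  linarith

end Euler

end Groth.Agent.Lib.helper11.SG1
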