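import Groth.Agent.Lib.helper11.DRankFlat2

/-!
# Bounded below flat complexes over a reduced local ring (helper11)
-/

set_option autoImplicit false
universe u

namespace Groth.Agent.Lib.helper11.DRankFlat

open CategoryTheory CategoryTheory.Limits CohIII TensorProduct MonoidalCategory
open Groth.Agent.Lib.helper11 Groth.Agent.Lib.helper11.FibDim Groth.Agent.Lib.helper11.DRank

attribute [-instance] CategoryTheory.ShortComplex.hasHomology_of_preserves

variable {A : Type u} [CommRing A] {ι : Type} {c : ComplexShape ι}
variable (P : HomologicalComplex (ModuleCat.{u} A) c)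

lemma isZero_TFun_obj (q : ι) (h : IsZero (P.X q)) (M : ModuleCat.{u} A) :
    IsZero ((TFun P q).obj M) := by
  have h1 : IsZero ((tensorObj P M).X q) := Functor.map_isZero (tensorRight M) h
  exact ShortComplex.isZero_homology_of_isZero_X₂ ((tensorObj P M).sc q) h1

lemma exact_of_isZero (q : ι) (h : IsZero (P.X q)) :
    (TFun P q).PreservesMonomorphisms ∧ (TFun P q).PreservesEpimorphisms :=
  ⟨⟨fun {M N} f _ => (isZero_TFun_obj P q h M).mono _⟩,
    ⟨fun {M N} f _ => (isZero_TFun_obj P q h N).epi _⟩⟩

/-- the inductive step. -/
theorem exact_of_prev_mono [IsLocalRing A] [IsReduced A] (hP : ∀ i, Module.Flat A (P.X i))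
    (q j : ι) (hqj : c.Rel q j) (hm : (TFun P j).PreservesMonomorphisms)
    (hfp : Module.FinitePresentation A (T P q (ModuleCat.of A A)))
    (h : ∀ x : PrimeSpectrum A, x.asIdeal ∈ minimalPrimes A →
      dRank P q x = dRank P q (IsLocalRing.closedPoint A)) :
    (TFun P q).PreservesMonomorphisms ∧ (TFun P q).PreservesEpimorphisms := by
  have he : (TFun P q).PreservesEpimorphisms :=
    (TFunBasic.preservesEpi_iff_preservesMono P hP q j hqj).mpr hm
  refine ⟨?_, he⟩
  have hfp' : Module.FinitePresentation A (P.homology q) :=
    Module.FinitePresentation.of_equiv (TAEquiv P q)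
  have hfree : Module.Free A (P.homology q) := by
    apply RedFree.free_of_fibDim_minimalPrimes
    intro y hy
    rw [← dRank_eq_fibDim_homology P hP q j hqj he, ← dRank_eq_fibDim_homology P hP q j hqj he]
    exact h y hy
  exact preservesMono_of_flat_homology P hP q he inferInstance

end Groth.Agent.Lib.helper11.DRankFlat
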