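import Groth.Agent.Lib.helper11.TFunBasic
import Groth.Agent.Lib.helper11.EilenbergWatts
import Mathlib.Algebra.Homology.ShortComplex.PreservesHomology

/-!
# Eilenberg–Watts for `T_p(M) = H_p(P ⊗ M)` (helper11)
-/

set_option autoImplicit false
universe u

namespace Groth.Agent.Lib.helper11.TFunEW

open CategoryTheory CategoryTheory.Limits MonoidalCategory CohIII
open Groth.Agent.Lib.helper11

attribute [-instance] CategoryTheory.ShortComplex.hasHomology_of_preserves

variable {A : Type u} [CommRing A] {ι : Type} {c : ComplexShape ι}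
variable (P : HomologicalComplex (ModuleCat.{u} A) c) (p : ι)

/-- `T_p(M)` is the homology of `(P.sc p).map (tensorRight M)`. -/
lemma TFun_obj_eq (M : ModuleCat.{u} A) :
    (TFun P p).obj M = ((P.sc p).map (tensorRight M)).homology := rfl

lemma TFun_map_eq {M N : ModuleCat.{u} A} (g : M ⟶ N) :
    (TFun P p).map g =
      ShortComplex.homologyMap ((P.sc p).mapNatTrans ((tensoringRight (ModuleCat.{u} A)).map g)) :=
  rfl

section Flat

variable (L : ModuleCat.{u} A) [Module.Flat A L]

instance tensorRight_preservesFiniteColimits (L : ModuleCat.{u} A) :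
    PreservesFiniteColimits (tensorRight L) :=
  preservesFiniteColimits_of_natIso (BraidedCategory.tensorLeftIsoTensorRight L)

instance : (tensorRight L).PreservesHomology := inferInstance

instance : Module.Flat A (ModuleCat.of A A) := inferInstanceAs (Module.Flat A A)

lemma TFun_map_theta (x : L) :
    (TFun P p).map (EW.theta x) =
      ((P.sc p).mapHomologyIso (tensorRight (ModuleCat.of A A))).hom ≫
        ((P.sc p).homology ◁ EW.theta x) ≫
          ((P.sc p).mapHomologyIso (tensorRight L)).inv := by
  rw [TFun_map_eq, ShortComplex.homologyMap_mapNatTrans]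
  rfl

lemma whiskerLeft_theta_apply (H : ModuleCat.{u} A) (x : L)
    (w : TensorProduct A H (ModuleCat.of A A)) :
    (H ◁ EW.theta x).hom w = (TensorProduct.rid A H w) ⊗ₜ[A] x := by
  induction w using TensorProduct.induction_on with
  | zero => simp
  | tmul h a =>
    rw [ModuleCat.MonoidalCategory.whiskerLeft_apply, EW.theta_apply, TensorProduct.rid_tmul,
      TensorProduct.smul_tmul]
  | add w₁ w₂ h₁ h₂ => rw [map_add, h₁, h₂, map_add, TensorProduct.add_tmul]

/-- `t_L` is bijective for flat `L` (no assumption on `P`). -/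
theorem tM_bijective_of_flat : Function.Bijective (EW.tM (TFun P p) L) := by
  let isoA := (P.sc p).mapHomologyIso (tensorRight (ModuleCat.of A A))
  let isoL := (P.sc p).mapHomologyIso (tensorRight L)
  let e1 : (TFun P p).obj (ModuleCat.of A A) ≃ₗ[A] (P.sc p).homology :=
    isoA.toLinearEquiv ≪≫ₗ TensorProduct.rid A (P.sc p).homology
  let e : TensorProduct A ((TFun P p).obj (ModuleCat.of A A)) L ≃ₗ[A] (TFun P p).obj L :=
    (TensorProduct.congr e1 (LinearEquiv.refl A L)) ≪≫ₗ isoL.symm.toLinearEquiv
  have : EW.tM (TFun P p) L = e.toLinearMap := by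
    apply TensorProduct.ext'
    intro y x
    rw [EW.tM_tmul, TFun_map_theta]
    change isoL.inv.hom (((P.sc p).homology ◁ EW.theta x).hom (isoA.hom.hom y)) = _
    rw [whiskerLeft_theta_apply]
    rfl
  rw [this]
  exact e.bijective

end Flat

section Generic

/-! Generic Eilenberg–Watts arguments with the hypothesis "`t_L` bijective for free `L`" instead of
commutation with direct sums. -/

variable (T : ModuleCat.{u} A ⥤ ModuleCat.{u} A) [T.Additive] [T.Linear A]
  (hfree : ∀ L : ModuleCat.{u} A, Module.Free A L → Function.Bijective (EW.tM T L))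

include hfree in
lemma tM_surjective_of_preservesEpi [T.PreservesEpimorphisms] (M : ModuleCat.{u} A) :
    Function.Surjective (EW.tM T M) := by
  intro z
  have : Epi (EW.presπ M) := (ModuleCat.epi_iff_surjective _).mpr (EW.presπ_surjective M)
  have hepi : Epi (T.map (EW.presπ M)) := inferInstance
  rw [ModuleCat.epi_iff_surjective] at hepi
  obtain ⟨z', rfl⟩ := hepi z
  obtain ⟨w, rfl⟩ := (hfree (EW.pres₀ M) inferInstance).2 z'
  exact ⟨_, EW.tM_naturality T (EW.presπ M) w⟩

include hfree in
lemma tM_injective_of_halfExact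
    (hhalf : ∀ S : ShortComplex (ModuleCat.{u} A), S.ShortExact → (S.map T).Exact)
    (hsurj : ∀ M : ModuleCat.{u} A, Function.Surjective (EW.tM T M)) (M : ModuleCat.{u} A) :
    Function.Injective (EW.tM T M) := by
  rw [injective_iff_map_eq_zero]
  intro z hz
  let π := (EW.presπ M).hom
  have hπ : Function.Surjective π := EW.presπ_surjective M
  have hS := hhalf _ (LinearMap.shortExact_shortComplexKer hπ)
  rw [ShortComplex.moduleCat_exact_iff] at hS
  obtain ⟨w, rfl⟩ := LinearMap.lTensor_surjective (T.obj (ModuleCat.of A A)) hπ z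
  have h1 : (T.map (ModuleCat.ofHom π)).hom (EW.tM T (EW.pres₀ M) w) = 0 := by
    rw [← EW.tM_naturality]; exact hz
  obtain ⟨r, hr⟩ := hS (EW.tM T (EW.pres₀ M) w) h1
  obtain ⟨r', rfl⟩ := hsurj _ r
  have h2 : EW.tM T (EW.pres₀ M) (LinearMap.lTensor _ (LinearMap.ker π).subtype r') =
      EW.tM T (EW.pres₀ M) w := by
    rw [← hr]
    exact EW.tM_naturality T (ModuleCat.ofHom (LinearMap.ker π).subtype) r'
  have h3 := (hfree (EW.pres₀ M) inferInstance).1 h2
  rw [← h3, ← LinearMap.comp_apply, ← LinearMap.lTensor_comp]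
  have : π ∘ₗ (LinearMap.ker π).subtype = 0 := by
    ext x
    exact x.2
  rw [this]
  simp

lemma isIso_tau_of_bijective (h : ∀ M : ModuleCat.{u} A, Function.Bijective (EW.tM T M)) :
    IsIso (EW.tau T) := by
  apply (config := { allowSynthFailures := true }) NatIso.isIso_of_isIso_app
  intro M
  rw [ConcreteCategory.isIso_iff_bijective]
  exact h M

end Generic

section Main

variable (hP : ∀ i, Module.Flat A (P.X i))

include hP in
/-- If `T_p` preserves epimorphisms (and `P` is flat) then all `t_M` are bijective. -/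
theorem tM_bijective_of_preservesEpi [(TFun P p).PreservesEpimorphisms] (M : ModuleCat.{u} A) :
    Function.Bijective (EW.tM (TFun P p) M) := by
  have hfree : ∀ L : ModuleCat.{u} A, Module.Free A L →
      Function.Bijective (EW.tM (TFun P p) L) := fun L _ => tM_bijective_of_flat P p L
  have hsurj := tM_surjective_of_preservesEpi (TFun P p) hfree
  exact ⟨tM_injective_of_halfExact (TFun P p) hfree
    (fun S hS => TFunBasic.TFun_halfExact P hP S hS p) hsurj M, hsurj M⟩

include hP in
/-- If `T_p` preserves epimorphisms (and `P` is flat) then `T_p ≅ T_p(A) ⊗ -`. -/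
noncomputable def isoTensorLeft [(TFun P p).PreservesEpimorphisms] :
    TFun P p ≅ tensorLeft ((TFun P p).obj (ModuleCat.of A A)) :=
  haveI := isIso_tau_of_bijective (TFun P p) (tM_bijective_of_preservesEpi P p hP)
  (asIso (EW.tau (TFun P p))).symm

include hP in
theorem preservesEpi_iff_exists_iso :
    (TFun P p).PreservesEpimorphisms ↔
      ∃ N : ModuleCat.{u} A, Nonempty (TFun P p ≅ tensorLeft N) := by
  constructor
  · intro h
    exact ⟨_, ⟨isoTensorLeft P p hP⟩⟩
  · rintro ⟨N, ⟨e⟩⟩
    haveI : (tensorLeft N).PreservesEpimorphisms :=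
      Functor.preservesEpimorphisms_of_adjunction (ihom.adjunction N)
    exact Functor.PreservesEpimorphisms.of_iso e.symm

end Main

end Groth.Agent.Lib.helper11.TFunEW
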