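import Groth.Agent.Lib.helper11.DRankFlat3
import Groth.Agent.Lib.helper11.TFunEW

/-!
# Vanishing of `T_p` by induction along an exact flat complex (helper11)
-/

set_option autoImplicit false
universe u

namespace Groth.Agent.Lib.helper11.TFunZero

open CategoryTheory CategoryTheory.Limits CohIII TensorProduct MonoidalCategory
open Groth.Agent.Lib.helper11 Groth.Agent.Lib.helper11.DRankFlat

attribute [-instance] CategoryTheory.ShortComplex.hasHomology_of_preserves

variable {A : Type u} [CommRing A] {ι : Type} {c : ComplexShape ι}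
variable (P : HomologicalComplex (ModuleCat.{u} A) c)

/-- a functor with zero values is exact. -/
lemma exact_of_forall_isZero (q : ι) (h : ∀ M : ModuleCat.{u} A, IsZero ((TFun P q).obj M)) :
    (TFun P q).PreservesMonomorphisms ∧ (TFun P q).PreservesEpimorphisms :=
  ⟨⟨fun {M N} f _ => (h M).mono _⟩, ⟨fun {M N} f _ => (h N).epi _⟩⟩

/-- If `T_q = 0` for the successor `q` of `p` and `H_p(P) = 0` then `T_p = 0`. -/
theorem isZero_TFun_obj_of_rel (hP : ∀ i, Module.Flat A (P.X i)) (p q : ι) (hpq : c.Rel p q)
    (hq : ∀ M : ModuleCat.{u} A, IsZero ((TFun P q).obj M)) (hp : IsZero (P.homology p))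
    (M : ModuleCat.{u} A) : IsZero ((TFun P p).obj M) := by
  have hm := (exact_of_forall_isZero P q hq).1
  haveI he : (TFun P p).PreservesEpimorphisms :=
    (TFunBasic.preservesEpi_iff_preservesMono P hP p q hpq).mpr hm
  have e := (TFunEW.isoTensorLeft P p hP).app M
  have h0 : IsZero ((TFun P p).obj (ModuleCat.of A A)) := by
    have hs : Subsingleton (P.homology p) := ModuleCat.subsingleton_of_isZero hp
    have : Subsingleton ((TFun P p).obj (ModuleCat.of A A)) :=
      (TAEquiv P p).toEquiv.subsingleton
    exact ModuleCat.isZero_of_subsingleton _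
  have h1 : IsZero ((tensorLeft ((TFun P p).obj (ModuleCat.of A A))).obj M) :=
    Functor.map_isZero (tensorRight M) h0
  exact IsZero.of_iso h1 e

/-- right exactness from vanishing of the next functor. -/
theorem preservesEpi_of_rel (hP : ∀ i, Module.Flat A (P.X i)) (p q : ι) (hpq : c.Rel p q)
    (hq : ∀ M : ModuleCat.{u} A, IsZero ((TFun P q).obj M)) :
    (TFun P p).PreservesEpimorphisms :=
  (TFunBasic.preservesEpi_iff_preservesMono P hP p q hpq).mpr (exact_of_forall_isZero P q hq).1

end Groth.Agent.Lib.helper11.TFunZero
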