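import Groth.Agent.Lib.helper11.ConeBasic
import Groth.Agent.Lib.helper11.TFunZero
import Groth.Agent.Lib.helper11.DRankFlat3

/-!
# Quasi-isomorphisms and acyclicity of the mapping cone (helper11)
-/

set_option autoImplicit false
universe v u

namespace Groth.Agent.Lib.helper11.ConeQis

open CategoryTheory CategoryTheory.Limits CochainComplex HomologicalComplex

section General

variable {C : Type u} [Category.{v} C] [Abelian C]

/-- A morphism of cochain complexes is a quasi-isomorphism iff its mapping cone is acyclic. -/
theorem quasiIso_iff_exactAt_mappingCone {K L : CochainComplex C ℤ} (φ : K ⟶ L) :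
    QuasiIso φ ↔ ∀ n : ℤ, (mappingCone φ).ExactAt n := by
  rw [← HomologicalComplex.mem_quasiIso_iff, ← HomotopyCategory.quotient_map_mem_quasiIso_iff,
    HomotopyCategory.quasiIso_eq_trW_subcategoryAcyclic,
    ← HomotopyCategory.quotient_obj_mem_subcategoryAcyclic_iff_exactAt]
  exact (HomotopyCategory.subcategoryAcyclic C).trW_iff_of_distinguished
    (mappingCone.triangleh φ) (HomotopyCategory.mappingCone_triangleh_distinguished φ)

end General

section Mod

open CohIII Groth.Agent.Lib.helper11

attribute [-instance] CategoryTheory.ShortComplex.hasHomology_of_preserves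

variable {A : Type u} [CommRing A]

/-- An acyclic bounded above complex of flat modules stays acyclic after tensoring. -/
theorem isZero_TFun_of_acyclic (Q : CochainComplex (ModuleCat.{u} A) ℤ)
    (hflat : ∀ i, Module.Flat A (Q.X i)) (b : ℤ) (hb : ∀ i, b < i → IsZero (Q.X i))
    (hac : ∀ i, IsZero (Q.homology i)) (p : ℤ) (M : ModuleCat.{u} A) :
    IsZero ((TFun Q p).obj M) := by
  have hT : ∀ (n : ℕ) (M : ModuleCat.{u} A), IsZero ((TFun Q (b + 1 - (n : ℤ))).obj M) := by
    intro n
    induction n with
    | zero =>
      intro M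
      simp only [Nat.cast_zero, sub_zero]
      exact DRankFlat.isZero_TFun_obj Q (b + 1) (hb _ (by omega)) M
    | succ n ih =>
      intro M
      have hrel : (ComplexShape.up ℤ).Rel (b + 1 - ((n + 1 : ℕ) : ℤ)) (b + 1 - (n : ℤ)) := by
        change b + 1 - ((n + 1 : ℕ) : ℤ) + 1 = b + 1 - (n : ℤ)
        push_cast
        ring
      exact TFunZero.isZero_TFun_obj_of_rel Q hflat _ _ hrel ih (hac _) M
  by_cases hp : p ≤ b + 1
  · have h1 : p = b + 1 - ((b + 1 - p).toNat : ℤ) := by
      rw [Int.toNat_of_nonneg (by omega)]
      ring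
    rw [h1]
    exact hT _ M
  · exact DRankFlat.isZero_TFun_obj Q p (hb _ (by omega)) M

end Mod

end Groth.Agent.Lib.helper11.ConeQis
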