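import Groth.Agent.Lib.helper11.TFunEW
import Mathlib.Algebra.Homology.ShortComplex.ModuleCat
import Mathlib.RingTheory.LocalRing.Module
import Mathlib.RingTheory.Noetherian.Basic

/-!
# Exactness of `T_p` (helper11)
-/

set_option autoImplicit false
universe u

namespace Groth.Agent.Lib.helper11.TFunExact

open CategoryTheory CategoryTheory.Limits MonoidalCategory CohIII
open Groth.Agent.Lib.helper11

attribute [-instance] CategoryTheory.ShortComplex.hasHomology_of_preserves

variable {A : Type u} [CommRing A] {ι : Type} {c : ComplexShape ι}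

lemma tensorLeft_preservesEpi (N : ModuleCat.{u} A) : (tensorLeft N).PreservesEpimorphisms :=
  Functor.preservesEpimorphisms_of_adjunction (ihom.adjunction N)

lemma flat_iff_preservesMono_tensorLeft (N : ModuleCat.{u} A) :
    Module.Flat A N ↔ (tensorLeft N).PreservesMonomorphisms := by
  constructor
  · intro h
    infer_instance
  · intro h
    rw [Module.Flat.iff_lTensor_preserves_injective_linearMap]
    intro N₁ N₂ _ _ _ _ f hf
    have h1 : Mono (ModuleCat.ofHom f) := (ModuleCat.mono_iff_injective _).mpr hf
    have h2 : Mono ((tensorLeft N).map (ModuleCat.ofHom f)) := inferInstance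
    rw [ModuleCat.mono_iff_injective] at h2
    exact h2

variable (P : HomologicalComplex (ModuleCat.{u} A) c) (p : ι)

/-- S4496. -/
theorem exact_iff_exists_flat_iso (hP : ∀ i, Module.Flat A (P.X i)) :
    ((TFun P p).PreservesMonomorphisms ∧ (TFun P p).PreservesEpimorphisms) ↔
      ∃ N : ModuleCat.{u} A, Module.Flat A N ∧ Nonempty (TFun P p ≅ tensorLeft N) := by
  constructor
  · rintro ⟨hm, he⟩
    refine ⟨_, ?_, ⟨TFunEW.isoTensorLeft P p hP⟩⟩
    rw [flat_iff_preservesMono_tensorLeft]
    exact Functor.PreservesMonomorphisms.of_iso (TFunEW.isoTensorLeft P p hP)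
  · rintro ⟨N, hN, ⟨e⟩⟩
    have h1 := (flat_iff_preservesMono_tensorLeft N).1 hN
    have h2 := tensorLeft_preservesEpi N
    exact ⟨Functor.PreservesMonomorphisms.of_iso e.symm,
      Functor.PreservesEpimorphisms.of_iso e.symm⟩

/-- If `T_p` preserves epis, then it preserves monos iff `T_p(A)` is flat. -/
theorem preservesMono_iff_flat (hP : ∀ i, Module.Flat A (P.X i))
    [(TFun P p).PreservesEpimorphisms] :
    (TFun P p).PreservesMonomorphisms ↔ Module.Flat A ((TFun P p).obj (ModuleCat.of A A)) := by
  rw [flat_iff_preservesMono_tensorLeft]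
  exact Functor.PreservesMonomorphisms.iso_iff (TFunEW.isoTensorLeft P p hP)

/-- Finiteness of homology of a short complex of modules with finite middle term over a
Noetherian ring. -/
lemma finite_homology [IsNoetherianRing A] (S : ShortComplex (ModuleCat.{u} A))
    [Module.Finite A S.X₂] : Module.Finite A S.homology := by
  have : IsNoetherian A S.X₂ := isNoetherian_of_isNoetherianRing_of_finite A S.X₂
  have : Module.Finite A S.moduleCatLeftHomologyData.H := by
    change Module.Finite A (LinearMap.ker S.g.hom ⧸ LinearMap.range S.moduleCatToCycles)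
    infer_instance
  exact Module.Finite.equiv S.moduleCatHomologyIso.symm.toLinearEquiv

lemma finite_TFun_obj [IsNoetherianRing A] [Module.Finite A (P.X p)] (M : ModuleCat.{u} A)
    [Module.Finite A M] : Module.Finite A ((TFun P p).obj M) := by
  have : Module.Finite A ((P.sc p).map (tensorRight M)).X₂ := by
    change Module.Finite A (TensorProduct A (P.X p) M)
    infer_instance
  exact finite_homology ((P.sc p).map (tensorRight M))

/-- S2410. -/
theorem exact_iff_preservesEpi_and_free [IsNoetherianRing A] [IsLocalRing A]
    (hP : ∀ i, Module.Finite A (P.X i) ∧ Module.Flat A (P.X i)) :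
    ((TFun P p).PreservesMonomorphisms ∧ (TFun P p).PreservesEpimorphisms) ↔
      ((TFun P p).PreservesEpimorphisms ∧
        Module.Free A ((TFun P p).obj (ModuleCat.of A A))) := by
  have hP' : ∀ i, Module.Flat A (P.X i) := fun i => (hP i).2
  have := (hP p).1
  have hfin : Module.Finite A ((TFun P p).obj (ModuleCat.of A A)) :=
    haveI : Module.Finite A (ModuleCat.of A A) := inferInstanceAs (Module.Finite A A)
    finite_TFun_obj P p (ModuleCat.of A A)
  constructor
  · rintro ⟨hm, he⟩
    refine ⟨he, ?_⟩
    have := (preservesMono_iff_flat P p hP').1 hm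
    exact Module.free_of_flat_of_isLocalRing
  · rintro ⟨he, hfree⟩
    refine ⟨?_, he⟩
    rw [preservesMono_iff_flat P p hP']
    infer_instance

end Groth.Agent.Lib.helper11.TFunExact
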