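import Groth.Agent.Lib.helper11.DRankFlat
import Groth.Agent.Lib.helper11.TFunExact

/-!
# `dRank` of a flat complex, continued (helper11)
-/

set_option autoImplicit false
universe u

namespace Groth.Agent.Lib.helper11.DRankFlat

open CategoryTheory CategoryTheory.Limits CohIII TensorProduct MonoidalCategory
open Groth.Agent.Lib.helper11 Groth.Agent.Lib.helper11.FibDim Groth.Agent.Lib.helper11.DRank

attribute [-instance] CategoryTheory.ShortComplex.hasHomology_of_preserves

variable {A : Type u} [CommRing A] {ι : Type} {c : ComplexShape ι}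
variable (P : HomologicalComplex (ModuleCat.{u} A) c)

/-- `T_p(A) ≃ H_p(P)`. -/
noncomputable def TAEquiv (p : ι) : (T P p (ModuleCat.of A A)) ≃ₗ[A] P.homology p :=
  ((P.sc p).mapHomologyIso (tensorRight (ModuleCat.of A A))).toLinearEquiv ≪≫ₗ
    TensorProduct.rid A (P.sc p).homology

theorem flat_homology_of_exact (hP : ∀ i, Module.Flat A (P.X i)) (p : ι)
    (hm : (TFun P p).PreservesMonomorphisms) (he : (TFun P p).PreservesEpimorphisms) :
    Module.Flat A (P.homology p) := by
  have h : Module.Flat A (T P p (ModuleCat.of A A)) :=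
    (TFunExact.preservesMono_iff_flat P p hP).mp hm
  exact Module.Flat.of_linearEquiv (TAEquiv P p).symm

theorem preservesMono_of_flat_homology (hP : ∀ i, Module.Flat A (P.X i)) (p : ι)
    (he : (TFun P p).PreservesEpimorphisms) (h : Module.Flat A (P.homology p)) :
    (TFun P p).PreservesMonomorphisms := by
  rw [TFunExact.preservesMono_iff_flat P p hP]
  have h' : Module.Flat A (T P p (ModuleCat.of A A)) :=
    Module.Flat.of_linearEquiv (TAEquiv P p)
  exact h'

/-- local constancy of `dRank` when `T_p` is exact and `T_p(A)` finitely presented. -/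
theorem dRank_const_of_exact_flat (hP : ∀ i, Module.Flat A (P.X i)) (p j : ι) (hpj : c.Rel p j)
    (hm : (TFun P p).PreservesMonomorphisms) (he : (TFun P p).PreservesEpimorphisms)
    (hfp : Module.FinitePresentation A (T P p (ModuleCat.of A A))) (x : PrimeSpectrum A) :
    ∃ U : Set (PrimeSpectrum A), IsOpen U ∧ x ∈ U ∧ ∀ y ∈ U, dRank P p y = dRank P p x := by
  have hflat := flat_homology_of_exact P hP p hm he
  have hfp' : Module.FinitePresentation A (P.homology p) :=
    Module.FinitePresentation.of_equiv (TAEquiv P p)
  obtain ⟨U, hU, hxU, hc⟩ := exists_open_fibDim_eq (N := P.homology p) x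
  refine ⟨U, hU, hxU, fun y hy => ?_⟩
  rw [dRank_eq_fibDim_homology P hP p j hpj he, dRank_eq_fibDim_homology P hP p j hpj he]
  exact hc y hy

end Groth.Agent.Lib.helper11.DRankFlat
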