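import Mathlib

/-!
# helper11 — TFunCorep1: the kernel functor `M ↦ ker(φ ⊗ M)` of a map of finite projective modules is
corepresentable (linear algebra part of EGA III 7.4.x)

For `φ : W → N` with `W`, `N` finite projective, `ker(φ ⊗ M) ≃ Hom(Q, M)` with
`Q = coker(φ^∨ : N^∨ → W^∨)`, naturally in `M`.
-/

set_option autoImplicit false

open TensorProduct Module

namespace Groth.Agent.Lib.helper11.TFunCorep1

universe u

variable {R : Type u} [CommRing R]

section Theta

variable (W M : Type u) [AddCommGroup W] [AddCommGroup M] [Module R W] [Module R M]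
  [Module.Finite R W] [Module.Projective R W]

/-- `W ⊗ M ≃ Hom(W^∨, M)` for `W` finite projective. -/
noncomputable def θ : W ⊗[R] M ≃ₗ[R] (Dual R W →ₗ[R] M) :=
  (TensorProduct.congr (evalEquiv R W) (LinearEquiv.refl R M)) ≪≫ₗ
    dualTensorHomEquiv R (Dual R W) M

lemma θ_tmul (w : W) (m : M) (f : Dual R W) : θ W M (w ⊗ₜ m) f = f w • m := by
  simp [θ]

variable {M} in
lemma θ_lTensor {M' : Type u} [AddCommGroup M'] [Module R M'] (g : M →ₗ[R] M') (t : W ⊗[R] M) :
    θ W M' (g.lTensor W t) = g ∘ₗ θ W M t := by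
  induction t using TensorProduct.induction_on with
  | zero => simp
  | tmul w m =>
    ext f
    rw [LinearMap.lTensor_tmul, θ_tmul, LinearMap.comp_apply, θ_tmul, map_smul]
  | add s t hs ht => rw [map_add, map_add, hs, ht, map_add, LinearMap.comp_add]

end Theta

section Main

variable {W N : Type u} [AddCommGroup W] [AddCommGroup N] [Module R W] [Module R N]
  [Module.Finite R W] [Module.Projective R W] [Module.Finite R N] [Module.Projective R N]
  (φ : W →ₗ[R] N) (M : Type u) [AddCommGroup M] [Module R M]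

lemma θ_rTensor (t : W ⊗[R] M) : θ N M (φ.rTensor M t) = θ W M t ∘ₗ φ.dualMap := by
  induction t using TensorProduct.induction_on with
  | zero => simp
  | tmul w m =>
    ext f
    rw [LinearMap.rTensor_tmul, θ_tmul, LinearMap.comp_apply, θ_tmul, LinearMap.dualMap_apply]
  | add s t hs ht => rw [map_add, map_add, hs, ht, map_add, LinearMap.add_comp]

/-- the corepresenting module `coker(φ^∨)`. -/
abbrev Q : Type u := Dual R W ⧸ LinearMap.range φ.dualMap

instance : Module.Finite R (Q φ) := inferInstance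

lemma range_le_ker (t : W ⊗[R] M) (ht : φ.rTensor M t = 0) :
    LinearMap.range φ.dualMap ≤ LinearMap.ker (θ W M t) := by
  rintro _ ⟨f, rfl⟩
  rw [LinearMap.mem_ker, ← LinearMap.comp_apply, ← θ_rTensor, ht, map_zero, LinearMap.zero_apply]

/-- `ker(φ ⊗ M) → Hom(Q, M)`. -/
noncomputable def corep (t : W ⊗[R] M) (ht : φ.rTensor M t = 0) : Q φ →ₗ[R] M :=
  (LinearMap.range φ.dualMap).liftQ (θ W M t) (range_le_ker φ M t ht)

lemma corep_mk (t : W ⊗[R] M) (ht : φ.rTensor M t = 0) (f : Dual R W) :
    corep φ M t ht (Submodule.Quotient.mk f) = θ W M t f := rfl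

lemma corep_comp_mkQ (t : W ⊗[R] M) (ht : φ.rTensor M t = 0) :
    corep φ M t ht ∘ₗ (LinearMap.range φ.dualMap).mkQ = θ W M t := rfl

lemma corep_injective (t : W ⊗[R] M) (ht : φ.rTensor M t = 0) (h : corep φ M t ht = 0) : t = 0 := by
  have h1 : θ W M t = 0 := by
    rw [← corep_comp_mkQ φ M t ht, h, LinearMap.zero_comp]
  exact (θ W M).injective (h1.trans (map_zero _).symm)

lemma corep_surjective (u : Q φ →ₗ[R] M) :
    ∃ (t : W ⊗[R] M) (ht : φ.rTensor M t = 0), corep φ M t ht = u := by
  let h : Dual R W →ₗ[R] M := u ∘ₗ (LinearMap.range φ.dualMap).mkQ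
  refine ⟨(θ W M).symm h, ?_, ?_⟩
  · apply (θ N M).injective
    rw [θ_rTensor, LinearEquiv.apply_symm_apply, map_zero]
    ext f
    change u (Submodule.Quotient.mk (φ.dualMap f)) = 0
    have h0 : (Submodule.Quotient.mk (φ.dualMap f) : Q φ) = 0 :=
      (Submodule.Quotient.mk_eq_zero _).mpr (LinearMap.mem_range_self _ f)
    rw [h0, map_zero]
  · apply LinearMap.ext
    intro q
    obtain ⟨f, rfl⟩ := Submodule.Quotient.mk_surjective _ q
    rw [corep_mk, LinearEquiv.apply_symm_apply]
    rfl

lemma corep_add (t t' : W ⊗[R] M) (ht : φ.rTensor M t = 0) (ht' : φ.rTensor M t' = 0) :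
    corep φ M (t + t') (by rw [map_add, ht, ht', add_zero]) = corep φ M t ht + corep φ M t' ht' := by
  apply LinearMap.ext
  intro q
  obtain ⟨f, rfl⟩ := Submodule.Quotient.mk_surjective _ q
  rw [LinearMap.add_apply, corep_mk, corep_mk, corep_mk, map_add, LinearMap.add_apply]

lemma corep_smul (a : R) (t : W ⊗[R] M) (ht : φ.rTensor M t = 0) :
    corep φ M (a • t) (by rw [map_smul, ht, smul_zero]) = a • corep φ M t ht := by
  apply LinearMap.ext
  intro q
  obtain ⟨f, rfl⟩ := Submodule.Quotient.mk_surjective _ q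
  rw [LinearMap.smul_apply, corep_mk, corep_mk, map_smul, LinearMap.smul_apply]

variable {M} in
lemma corep_lTensor {M' : Type u} [AddCommGroup M'] [Module R M'] (g : M →ₗ[R] M')
    (t : W ⊗[R] M) (ht : φ.rTensor M t = 0) (ht' : φ.rTensor M' (g.lTensor W t) = 0) :
    corep φ M' (g.lTensor W t) ht' = g ∘ₗ corep φ M t ht := by
  apply LinearMap.ext
  intro q
  obtain ⟨f, rfl⟩ := Submodule.Quotient.mk_surjective _ q
  rw [corep_mk, θ_lTensor, LinearMap.comp_apply, LinearMap.comp_apply, corep_mk]

end Main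

end Groth.Agent.Lib.helper11.TFunCorep1
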