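import Groth.Agent.Lib.helper11.TFunExact

/-!
# `T_p` preserves monos iff `opcycles` is flat (helper11)
-/

set_option autoImplicit false
universe u

namespace Groth.Agent.Lib.helper11.TFunOpcycles

open CategoryTheory CategoryTheory.Limits MonoidalCategory CohIII
open Groth.Agent.Lib.helper11

attribute [-instance] CategoryTheory.ShortComplex.hasHomology_of_preserves

variable {A : Type u} [CommRing A] {ι : Type} {c : ComplexShape ι}

lemma opcyclesMap_comp_fromOpcycles {K L : HomologicalComplex (ModuleCat.{u} A) c} (φ : K ⟶ L)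
    (i j : ι) :
    HomologicalComplex.opcyclesMap φ i ≫ L.fromOpcycles i j = K.fromOpcycles i j ≫ φ.f j := by
  rw [← cancel_epi (K.pOpcycles i), HomologicalComplex.p_opcyclesMap_assoc,
    HomologicalComplex.p_fromOpcycles, HomologicalComplex.p_fromOpcycles_assoc, φ.comm]

variable (P : HomologicalComplex (ModuleCat.{u} A) c) (p : ι)

/-- `opcycles P ⊗ M` is a cokernel of `d ⊗ M`. -/
noncomputable def isColimitTensor (M : ModuleCat.{u} A) :=
  CokernelCofork.mapIsColimit _ (P.opcyclesIsCokernel (c.prev p) p rfl) (tensorRight M)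

/-- `opcycles (P ⊗ M) ≅ opcycles P ⊗ M`. -/
noncomputable def opcyclesIso (M : ModuleCat.{u} A) :
    (tensorObj P M).opcycles p ≅ P.opcycles p ⊗ M :=
  IsColimit.coconePointUniqueUpToIso ((tensorObj P M).opcyclesIsCokernel (c.prev p) p rfl)
    (isColimitTensor P p M)

lemma pOpcycles_opcyclesIso_hom (M : ModuleCat.{u} A) :
    (tensorObj P M).pOpcycles p ≫ (opcyclesIso P p M).hom = P.pOpcycles p ▷ M :=
  IsColimit.comp_coconePointUniqueUpToIso_hom
    ((tensorObj P M).opcyclesIsCokernel (c.prev p) p rfl) (isColimitTensor P p M)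
    WalkingParallelPair.one

lemma opcyclesIso_naturality {M N : ModuleCat.{u} A} (g : M ⟶ N) :
    HomologicalComplex.opcyclesMap (tensorMap P g) p ≫ (opcyclesIso P p N).hom =
      (opcyclesIso P p M).hom ≫ (P.opcycles p ◁ g) := by
  rw [← cancel_epi ((tensorObj P M).pOpcycles p), HomologicalComplex.p_opcyclesMap_assoc,
    pOpcycles_opcyclesIso_hom, reassoc_of% (pOpcycles_opcyclesIso_hom P p M)]
  exact whisker_exchange (P.pOpcycles p) g

lemma mono_opcyclesMap_iff {M N : ModuleCat.{u} A} (g : M ⟶ N) :
    Mono (HomologicalComplex.opcyclesMap (tensorMap P g) p) ↔ Mono (P.opcycles p ◁ g) := by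
  have h := opcyclesIso_naturality P p g
  constructor
  · intro hm
    have : P.opcycles p ◁ g = (opcyclesIso P p M).inv ≫
        HomologicalComplex.opcyclesMap (tensorMap P g) p ≫ (opcyclesIso P p N).hom := by
      rw [h, Iso.inv_hom_id_assoc]
    rw [this]
    infer_instance
  · intro hm
    have : HomologicalComplex.opcyclesMap (tensorMap P g) p =
        (opcyclesIso P p M).hom ≫ (P.opcycles p ◁ g) ≫ (opcyclesIso P p N).inv := by
      rw [← reassoc_of% h, Iso.hom_inv_id, Category.comp_id]
    rw [this]
    infer_instance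

/-- S2375 for a general complex shape. -/
theorem preservesMono_iff_flat_opcycles (hP : ∀ i, Module.Flat A (P.X i)) :
    (TFun P p).PreservesMonomorphisms ↔ Module.Flat A (P.opcycles p) := by
  rw [TFunExact.flat_iff_preservesMono_tensorLeft]
  constructor
  · intro hT
    refine ⟨fun {M N} g hg => ?_⟩
    change Mono (P.opcycles p ◁ g)
    rw [← mono_opcyclesMap_iff]
    have hj := hP (c.next p)
    have hmono : Mono ((tensorMap P g).f (c.next p)) := by
      rw [TFunBasic.tensorMap_f]
      exact inferInstanceAs (Mono ((tensorLeft (P.X (c.next p))).map g))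
    have hTg : Mono (HomologicalComplex.homologyMap (tensorMap P g) p) :=
      inferInstanceAs (Mono ((TFun P p).map g))
    apply Preadditive.mono_of_cancel_zero
    intro W k hk
    have h1 : k ≫ (tensorObj P M).fromOpcycles p (c.next p) = 0 := by
      rw [← cancel_mono ((tensorMap P g).f (c.next p)), Category.assoc, zero_comp,
        ← opcyclesMap_comp_fromOpcycles, reassoc_of% hk, zero_comp]
    let hK := (tensorObj P M).homologyIsKernel p (c.next p) rfl
    let l : W ⟶ (tensorObj P M).homology p := hK.lift (KernelFork.ofι k h1)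
    have hl : l ≫ (tensorObj P M).homologyι p = k := Fork.IsLimit.lift_ι hK
    have h2 : l ≫ HomologicalComplex.homologyMap (tensorMap P g) p = 0 := by
      rw [← cancel_mono ((tensorObj P N).homologyι p), Category.assoc, zero_comp,
        HomologicalComplex.homologyι_naturality, reassoc_of% hl, hk]
    have h3 : l = 0 := by
      rw [← cancel_mono (HomologicalComplex.homologyMap (tensorMap P g) p), h2, zero_comp]
    rw [← hl, h3, zero_comp]
  · intro hQ
    refine ⟨fun {M N} g hg => ?_⟩
    have h1 : Mono (P.opcycles p ◁ g) := inferInstanceAs (Mono ((tensorLeft (P.opcycles p)).map g))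
    rw [← mono_opcyclesMap_iff] at h1
    change Mono (HomologicalComplex.homologyMap (tensorMap P g) p)
    have h2 : HomologicalComplex.homologyMap (tensorMap P g) p ≫ (tensorObj P N).homologyι p =
        (tensorObj P M).homologyι p ≫ HomologicalComplex.opcyclesMap (tensorMap P g) p :=
      HomologicalComplex.homologyι_naturality _ _
    have h3 : Mono (HomologicalComplex.homologyMap (tensorMap P g) p ≫
        (tensorObj P N).homologyι p) := by
      rw [h2]
      exact mono_comp _ _
    exact mono_of_mono _ ((tensorObj P N).homologyι p)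

end Groth.Agent.Lib.helper11.TFunOpcycles
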