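import Mathlib
import Groth.Agent.Lib.helper11.TFunCorep1
import Groth.Agent.Lib.helper11.TFunOpcycles

/-!
# helper11 — TFunCorep2: `T_p` left exact ⇒ `T_p ≅ Hom(Q, -)` (EGA III 7.4.x), any complex shape.
-/

set_option autoImplicit false

open CategoryTheory CategoryTheory.Limits MonoidalCategory CohIII Opposite

namespace Groth.Agent.Lib.helper11.TFunCorep2

universe u

open Groth.Agent.Lib.helper11

variable {A : Type u} [CommRing A] {ι : Type} {c : ComplexShape ι}
variable (P : HomologicalComplex (ModuleCat.{u} A) c) (p : ι)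

/-- `φ : W = opcycles_p(P) → P_j`, `j = next p`. -/
noncomputable abbrev φ : P.opcycles p ⟶ P.X (c.next p) := P.fromOpcycles p (c.next p)

/-- `ι_M : T_p(M) ⟶ W ⊗ M`. -/
noncomputable def ιM (M : ModuleCat.{u} A) : T P p M ⟶ P.opcycles p ⊗ M :=
  (tensorObj P M).homologyι p ≫ (TFunOpcycles.opcyclesIso P p M).hom

lemma fromOpcycles_tensor (M : ModuleCat.{u} A) :
    (tensorObj P M).fromOpcycles p (c.next p) =
      (TFunOpcycles.opcyclesIso P p M).hom ≫ (φ P p ▷ M) := by
  have hpure : (P.pOpcycles p ▷ M) ≫ (φ P p ▷ M) = (P.d p (c.next p)) ▷ M := by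
    rw [← comp_whiskerRight, HomologicalComplex.p_fromOpcycles]
  have h1 : (tensorObj P M).pOpcycles p ≫ (TFunOpcycles.opcyclesIso P p M).hom ≫ (φ P p ▷ M) =
      (P.d p (c.next p)) ▷ M :=
    (Category.assoc _ _ _).symm.trans
      ((congrArg (fun f => f ≫ (φ P p ▷ M)) (TFunOpcycles.pOpcycles_opcyclesIso_hom P p M)).trans hpure)
  rw [← cancel_epi ((tensorObj P M).pOpcycles p), HomologicalComplex.p_fromOpcycles]
  exact h1.symm

lemma ιM_comp (M : ModuleCat.{u} A) : ιM P p M ≫ (φ P p ▷ M) = 0 := by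
  have h1 := (tensorObj P M).homologyι_comp_fromOpcycles p (c.next p)
  have h2 : (tensorObj P M).homologyι p ≫ (TFunOpcycles.opcyclesIso P p M).hom ≫ (φ P p ▷ M) = 0 :=
    (congrArg (fun f => (tensorObj P M).homologyι p ≫ f) (fromOpcycles_tensor P p M).symm).trans h1
  exact (Category.assoc _ _ _).trans h2

lemma ιM_naturality {M N : ModuleCat.{u} A} (g : M ⟶ N) :
    (TFun P p).map g ≫ ιM P p N = ιM P p M ≫ (P.opcycles p ◁ g) := by
  unfold ιM
  change HomologicalComplex.homologyMap (tensorMap P g) p ≫ _ = _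
  rw [← Category.assoc, HomologicalComplex.homologyι_naturality, Category.assoc,
    TFunOpcycles.opcyclesIso_naturality, Category.assoc]

lemma ιM_injective (M : ModuleCat.{u} A) : Function.Injective (ιM P p M).hom := by
  rw [← ModuleCat.mono_iff_injective]
  unfold ιM
  infer_instance

lemma ιM_exact (M : ModuleCat.{u} A) (t : (P.opcycles p ⊗ M : ModuleCat.{u} A))
    (ht : (φ P p ▷ M).hom t = 0) : ∃ x, (ιM P p M).hom x = t := by
  let S : ShortComplex (ModuleCat.{u} A) :=
    ShortComplex.mk ((tensorObj P M).homologyι p) ((tensorObj P M).fromOpcycles p (c.next p))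
      ((tensorObj P M).homologyι_comp_fromOpcycles p (c.next p))
  have hS : S.Exact := ShortComplex.exact_of_f_is_kernel S
    ((tensorObj P M).homologyIsKernel p (c.next p) rfl)
  rw [ShortComplex.moduleCat_exact_iff] at hS
  let t' := (TFunOpcycles.opcyclesIso P p M).inv.hom t
  have ht' : S.g.hom t' = 0 := by
    change ((tensorObj P M).fromOpcycles p (c.next p)).hom t' = 0
    rw [fromOpcycles_tensor]
    change (φ P p ▷ M).hom ((TFunOpcycles.opcyclesIso P p M).hom.hom
      ((TFunOpcycles.opcyclesIso P p M).inv.hom t)) = 0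
    have : (TFunOpcycles.opcyclesIso P p M).hom.hom ((TFunOpcycles.opcyclesIso P p M).inv.hom t) = t := by
      rw [← LinearMap.comp_apply, ← ModuleCat.hom_comp, Iso.inv_hom_id]
      rfl
    rw [this, ht]
  obtain ⟨x, hx⟩ := hS t' ht'
  refine ⟨x, ?_⟩
  change (TFunOpcycles.opcyclesIso P p M).hom.hom (((tensorObj P M).homologyι p).hom x) = t
  have hx' : ((tensorObj P M).homologyι p).hom x = t' := hx
  rw [hx']
  change (TFunOpcycles.opcyclesIso P p M).hom.hom ((TFunOpcycles.opcyclesIso P p M).inv.hom t) = t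
  rw [← LinearMap.comp_apply, ← ModuleCat.hom_comp, Iso.inv_hom_id]
  rfl

end Groth.Agent.Lib.helper11.TFunCorep2
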