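import Mathlib
import Groth.Agent.Lib.helper11.TFunCorep2

/-!
# helper11 — TFunCorep3: `T_p ≅ Hom(Q, -)` when `opcycles_p P` and `P_{next p}` are finite projective.
-/

set_option autoImplicit false

open CategoryTheory CategoryTheory.Limits MonoidalCategory CohIII Opposite

namespace Groth.Agent.Lib.helper11.TFunCorep3

universe u

open Groth.Agent.Lib.helper11 TFunCorep1 TFunCorep2

variable {A : Type u} [CommRing A] {ι : Type} {c : ComplexShape ι}
variable (P : HomologicalComplex (ModuleCat.{u} A) c) (p : ι)
variable [Module.Finite A (P.opcycles p)] [Module.Projective A (P.opcycles p)]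
  [Module.Finite A (P.X (c.next p))] [Module.Projective A (P.X (c.next p))]

/-- the corepresenting module -/
noncomputable abbrev Qm : ModuleCat.{u} A := ModuleCat.of A (Q (φ P p).hom)

instance : Module.Finite A (Qm P p) := inferInstanceAs (Module.Finite A (Q (φ P p).hom))

lemma ιM_mem (M : ModuleCat.{u} A) (x : T P p M) :
    (φ P p).hom.rTensor M ((ιM P p M).hom x) = 0 := by
  have := congrArg (fun f => f.hom x) (ιM_comp P p M)
  exact this

lemma corep_congr (M : ModuleCat.{u} A) {t t' : TensorProduct A (P.opcycles p) M}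
    (h : t = t') (ht : (φ P p).hom.rTensor M t = 0) (ht' : (φ P p).hom.rTensor M t' = 0) :
    corep (φ P p).hom M t ht = corep (φ P p).hom M t' ht' := by
  subst h
  rfl

/-- `β_M : T_p(M) → Hom(Q, M)`. -/
noncomputable def β (M : ModuleCat.{u} A) : T P p M →ₗ[A] (Qm P p ⟶ M) where
  toFun x := ModuleCat.ofHom (corep (φ P p).hom M ((ιM P p M).hom x) (ιM_mem P p M x))
  map_add' x y := by
    apply ModuleCat.hom_ext
    rw [ModuleCat.hom_add, ModuleCat.hom_ofHom, ModuleCat.hom_ofHom, ModuleCat.hom_ofHom,
      ← corep_add]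
    exact corep_congr P p M (map_add _ x y) _ _
  map_smul' a x := by
    apply ModuleCat.hom_ext
    rw [RingHom.id_apply, ModuleCat.hom_smul, ModuleCat.hom_ofHom, ModuleCat.hom_ofHom, ← corep_smul]
    exact corep_congr P p M (map_smul _ a x) _ _

lemma β_injective (M : ModuleCat.{u} A) : Function.Injective (β P p M) := by
  rw [injective_iff_map_eq_zero]
  intro x hx
  have h1 : corep (φ P p).hom M ((ιM P p M).hom x) (ιM_mem P p M x) = 0 := by
    have := congrArg ModuleCat.Hom.hom hx
    exact this
  have h2 := corep_injective (φ P p).hom M _ _ h1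
  exact ιM_injective P p M (h2.trans (map_zero _).symm)

lemma β_surjective (M : ModuleCat.{u} A) : Function.Surjective (β P p M) := by
  intro u
  obtain ⟨t, ht, hu⟩ := corep_surjective (φ P p).hom M u.hom
  obtain ⟨x, hx⟩ := ιM_exact P p M t ht
  refine ⟨x, ?_⟩
  apply ModuleCat.hom_ext
  change corep (φ P p).hom M ((ιM P p M).hom x) (ιM_mem P p M x) = u.hom
  rw [← hu]
  exact corep_congr P p M hx _ _

lemma β_naturality {M N : ModuleCat.{u} A} (g : M ⟶ N) (x : T P p M) :
    β P p N (((TFun P p).map g).hom x) = β P p M x ≫ g := by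
  apply ModuleCat.hom_ext
  change corep (φ P p).hom N ((ιM P p N).hom (((TFun P p).map g).hom x)) (ιM_mem P p N _) =
    g.hom ∘ₗ corep (φ P p).hom M ((ιM P p M).hom x) (ιM_mem P p M x)
  have h1 : (ιM P p N).hom (((TFun P p).map g).hom x) =
      g.hom.lTensor (P.opcycles p) ((ιM P p M).hom x) := by
    have := congrArg (fun f => f.hom x) (ιM_naturality P p g)
    exact this
  have h2 : (φ P p).hom.rTensor N (g.hom.lTensor (P.opcycles p) ((ιM P p M).hom x)) = 0 := by
    rw [← h1]
    exact ιM_mem P p N _
  rw [← corep_lTensor (φ P p).hom g.hom _ (ιM_mem P p M x) h2]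
  exact corep_congr P p N h1 _ _

/-- **corepresentability**: `T_p ≅ Hom(Q, -)`. -/
noncomputable def corepIso : TFun P p ≅ (linearCoyoneda A (ModuleCat.{u} A)).obj (op (Qm P p)) :=
  NatIso.ofComponents
    (fun M => (LinearEquiv.ofBijective (β P p M) ⟨β_injective P p M, β_surjective P p M⟩).toModuleIso)
    (by
      intro M N g
      apply ModuleCat.hom_ext
      apply LinearMap.ext
      intro x
      exact β_naturality P p g x)

end Groth.Agent.Lib.helper11.TFunCorep3
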