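import Mathlib
import Groth.Agent.Lib.helper11.TFunCorep3

/-!
# helper11 — TFunCorep4: S2376 in general shape:
`T_p` left exact ⇔ corepresentable, and the corepresenting module is finite (Noetherian base).
-/

set_option autoImplicit false

open CategoryTheory CategoryTheory.Limits MonoidalCategory CohIII Opposite

namespace Groth.Agent.Lib.helper11.TFunCorep4

universe u

open Groth.Agent.Lib.helper11

variable {A : Type u} [CommRing A]

/-- `Hom(Q, -)` preserves monomorphisms. -/
lemma preservesMono_linearCoyoneda (Q : ModuleCat.{u} A) :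
    ((linearCoyoneda A (ModuleCat.{u} A)).obj (op Q)).PreservesMonomorphisms := by
  refine ⟨fun {M N} g hg => ?_⟩
  rw [ModuleCat.mono_iff_injective]
  intro u v huv
  have h : u ≫ g = v ≫ g := huv
  exact (cancel_mono g).mp h

/-- Yoneda: corepresenting objects are isomorphic. -/
lemma nonempty_iso_of_linearCoyoneda_iso {Q Q' : ModuleCat.{u} A}
    (e : (linearCoyoneda A (ModuleCat.{u} A)).obj (op Q) ≅
      (linearCoyoneda A (ModuleCat.{u} A)).obj (op Q')) : Nonempty (Q ≅ Q') := by
  let a : Q' ⟶ Q := (e.hom.app Q).hom (𝟙 Q)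
  let b : Q ⟶ Q' := (e.inv.app Q').hom (𝟙 Q')
  have ha : ∀ (M : ModuleCat.{u} A) (u : Q ⟶ M), (e.hom.app M).hom u = a ≫ u := by
    intro M u
    have := congrArg (fun f => f.hom (𝟙 Q)) (e.hom.naturality u)
    simp only [ModuleCat.hom_comp, LinearMap.comp_apply] at this
    have h2 : (((linearCoyoneda A (ModuleCat.{u} A)).obj (op Q)).map u).hom (𝟙 Q) = u :=
      Category.id_comp u
    rw [h2] at this
    exact this
  have hb : ∀ (M : ModuleCat.{u} A) (v : Q' ⟶ M), (e.inv.app M).hom v = b ≫ v := by
    intro M v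
    have := congrArg (fun f => f.hom (𝟙 Q')) (e.inv.naturality v)
    simp only [ModuleCat.hom_comp, LinearMap.comp_apply] at this
    have h2 : (((linearCoyoneda A (ModuleCat.{u} A)).obj (op Q')).map v).hom (𝟙 Q') = v :=
      Category.id_comp v
    rw [h2] at this
    exact this
  have h1 : b ≫ a = 𝟙 Q := by
    rw [← hb Q a]
    have := congrArg (fun f => f.hom (𝟙 Q)) (e.hom_inv_id_app Q)
    simp only [ModuleCat.hom_comp, LinearMap.comp_apply] at this
    exact this
  have h2 : a ≫ b = 𝟙 Q' := by
    rw [← ha Q' b]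
    have := congrArg (fun f => f.hom (𝟙 Q')) (e.inv_hom_id_app Q')
    simp only [ModuleCat.hom_comp, LinearMap.comp_apply] at this
    exact this
  exact ⟨⟨b, a, h1, h2⟩⟩

variable [IsNoetherianRing A] {ι : Type} {c : ComplexShape ι}
variable (P : HomologicalComplex (ModuleCat.{u} A) c) (p : ι)

lemma finite_opcycles [Module.Finite A (P.X p)] : Module.Finite A (P.opcycles p) := by
  have hs : Function.Surjective (P.pOpcycles p).hom :=
    (ModuleCat.epi_iff_surjective _).mp inferInstance
  exact Module.Finite.of_surjective (P.pOpcycles p).hom hs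

/-- left exact ⇒ corepresentable by a finite module. -/
theorem exists_corep_of_preservesMono (hflat : ∀ i, Module.Flat A (P.X i))
    [Module.Finite A (P.X p)] [Module.Finite A (P.X (c.next p))]
    (h : (TFun P p).PreservesMonomorphisms) :
    ∃ Q : ModuleCat.{u} A, Module.Finite A Q ∧
      Nonempty (TFun P p ≅ (linearCoyoneda A (ModuleCat.{u} A)).obj (op Q)) := by
  have h1 : Module.Flat A (P.opcycles p) :=
    (TFunOpcycles.preservesMono_iff_flat_opcycles P p hflat).mp h
  have h2 : Module.Finite A (P.opcycles p) := finite_opcycles P p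
  have h3 : Module.FinitePresentation A (P.opcycles p) :=
    Module.finitePresentation_of_finite A _
  have h4 : Module.Projective A (P.opcycles p) := Module.Flat.projective_of_finitePresentation
  have h5 : Module.Flat A (P.X (c.next p)) := hflat _
  have h6 : Module.FinitePresentation A (P.X (c.next p)) :=
    Module.finitePresentation_of_finite A _
  have h7 : Module.Projective A (P.X (c.next p)) := Module.Flat.projective_of_finitePresentation
  exact ⟨TFunCorep3.Qm P p, inferInstance, ⟨TFunCorep3.corepIso P p⟩⟩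

/-- **S2376** (any complex shape). -/
theorem preservesMono_iff_corep (hP : ∀ i, Module.Finite A (P.X i) ∧ Module.Flat A (P.X i)) :
    ((TFun P p).PreservesMonomorphisms ↔
      ∃ Q : ModuleCat.{u} A,
        Nonempty (TFun P p ≅ (linearCoyoneda A (ModuleCat.{u} A)).obj (op Q))) ∧
    ∀ Q : ModuleCat.{u} A,
      Nonempty (TFun P p ≅ (linearCoyoneda A (ModuleCat.{u} A)).obj (op Q)) →
        Module.Finite A Q := by
  have hflat : ∀ i, Module.Flat A (P.X i) := fun i => (hP i).2
  have := (hP p).1
  have := (hP (c.next p)).1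
  have hmono : ∀ Q : ModuleCat.{u} A,
      Nonempty (TFun P p ≅ (linearCoyoneda A (ModuleCat.{u} A)).obj (op Q)) →
        (TFun P p).PreservesMonomorphisms := by
    rintro Q ⟨e⟩
    have := preservesMono_linearCoyoneda Q
    exact Functor.preservesMonomorphisms.of_iso e.symm
  refine ⟨⟨fun h => ?_, fun ⟨Q, hQ⟩ => hmono Q hQ⟩, fun Q hQ => ?_⟩
  · obtain ⟨Q, -, hQ⟩ := exists_corep_of_preservesMono P p hflat h
    exact ⟨Q, hQ⟩
  · obtain ⟨Q₀, hfin, ⟨e₀⟩⟩ := exists_corep_of_preservesMono P p hflat (hmono Q hQ)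
    obtain ⟨e⟩ := hQ
    obtain ⟨i⟩ := nonempty_iso_of_linearCoyoneda_iso (e₀.symm ≪≫ e)
    exact Module.Finite.equiv i.toLinearEquiv

end Groth.Agent.Lib.helper11.TFunCorep4
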