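import Mathlib
import Groth.Agent.Lib.helper11.LCArtinian
import Groth.Agent.Lib.helper11.LCGammaFree

/-!
# Finiteness of local cohomology via annihilators (Faltings) (helper11)

* `exists_pow_kills_of_finite` : a finite `H^i_I(M)` is killed by a power of `I`
* `finite_of_kills` : if `J` with `I ≤ rad J` kills `H^i_I(M)` for `i ≤ n` (`M` finite) then these
  are finite.
-/

set_option autoImplicit false

namespace Groth.Agent.Lib.helper11.LCKit

open CategoryTheory Limits Opposite localCohomology Abelian

universe u

variable {R : Type u} [CommRing R] (I : Ideal R)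

/-- A finite module all of whose elements are killed by a power of `I` is killed by a power. -/
theorem exists_pow_kills_of_finite (T : Type*) [AddCommGroup T] [Module R T] [Module.Finite R T]
    (h : ∀ z : T, ∃ k : ℕ, ∀ a ∈ I ^ k, a • z = 0) :
    ∃ k : ℕ, ∀ a ∈ I ^ k, ∀ z : T, a • z = 0 := by
  classical
  obtain ⟨s, hs⟩ := (Module.Finite.fg_top : (⊤ : Submodule R T).FG)
  have h2 : ∀ t : Finset T, ∃ N : ℕ, ∀ z ∈ t, ∀ a ∈ I ^ N, a • z = 0 := by
    intro t
    induction t using Finset.induction_on with
    | empty => exact ⟨0, fun z hz => by simp at hz⟩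
    | insert c t hc ih =>
      obtain ⟨N1, hN1⟩ := h c
      obtain ⟨N2, hN2⟩ := ih
      refine ⟨N1 + N2, fun z hz a ha => ?_⟩
      rcases Finset.mem_insert.1 hz with rfl | hz
      · exact hN1 a (Ideal.pow_le_pow_right (Nat.le_add_right N1 N2) ha)
      · exact hN2 z hz a (Ideal.pow_le_pow_right (Nat.le_add_left N2 N1) ha)
  obtain ⟨N, hN⟩ := h2 s
  refine ⟨N, fun a ha z => ?_⟩
  have hz : z ∈ Submodule.span R (s : Set T) := by rw [hs]; exact Submodule.mem_top
  refine Submodule.span_induction ?_ ?_ ?_ ?_ hz
  · intro y hy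
    exact hN y hy a ha
  · exact smul_zero a
  · intro x y _ _ hx hy
    rw [smul_add, hx, hy, add_zero]
  · intro r x _ hx
    rw [smul_comm, hx, smul_zero]

variable [IsNoetherianRing R]

theorem isTorsFree_of_le_radical (J : Ideal R) (hIJ : I ≤ J.radical) (N : Type*) [AddCommGroup N]
    [Module R N] (h : IsTorsFree I N) : IsTorsFree J N := by
  intro y hy
  obtain ⟨k, hk⟩ := hy
  obtain ⟨m, hm⟩ := Ideal.exists_pow_le_of_le_radical_of_fg hIJ (IsNoetherian.noetherian I)
  apply h
  refine ⟨m * k, fun a ha => hk a ?_⟩
  rw [pow_mul] at ha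
  exact Ideal.pow_right_mono hm k ha

/-- Faltings-type criterion, the nontrivial direction. -/
theorem finite_of_kills (n : ℕ) :
    ∀ (M : Type u) [AddCommGroup M] [Module R M] [Module.Finite R M] (J : Ideal R),
      I ≤ J.radical →
      (∀ i, i ≤ n → ∀ a ∈ J, ∀ x : (localCohomology I i).obj (ModuleCat.of R M), a • x = 0) →
      ∀ i, i ≤ n → Module.Finite R ((localCohomology I i).obj (ModuleCat.of R M)) := by
  induction n with
  | zero =>
    intro M _ _ _ J _ _ i hi
    obtain rfl : i = 0 := by omega
    exact Module.Finite.of_injective (ev I (ModuleCat.of R M)) (ev_injective I (ModuleCat.of R M))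
  | succ n ih =>
    intro M _ _ _ J hIJ hkill i hi
    rcases Nat.lt_or_ge i (n + 1) with hlt | hge
    · exact ih M J hIJ (fun j hj => hkill j (by omega)) i (by omega)
    obtain rfl : i = n + 1 := by omega
    -- pass to `N = M/Γ`
    let N := M ⧸ gam I M
    have hb : ∀ j, 0 < j → Function.Bijective
        ((localCohomology I j).map (ModuleCat.ofHom (gam I M).mkQ)).hom :=
      fun j hj => bijective_map_mkQ_gam I j hj M
    have hNfree : IsTorsFree I N := isTorsFree_quotient_gam I (IsNoetherian.noetherian _) M
    have hkillN : ∀ j, j ≤ n + 1 → ∀ a ∈ J,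
        ∀ x : (localCohomology I j).obj (ModuleCat.of R N), a • x = 0 := by
      intro j hj a ha x
      rcases Nat.eq_zero_or_pos j with rfl | hjpos
      · haveI := subsingleton_H0_of_isTorsFree I (ModuleCat.of R N) hNfree
        exact Subsingleton.elim _ _
      · obtain ⟨y, rfl⟩ := (hb j hjpos).2 x
        rw [← map_smul, hkill j hj a ha y, map_zero]
    suffices hfin : Module.Finite R ((localCohomology I (n + 1)).obj (ModuleCat.of R N)) by
      exact Module.Finite.of_injective _ (hb (n + 1) (by omega)).1
    obtain ⟨x, hxJ, hreg⟩ := exists_regular_of_isTorsFree J N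
      (isTorsFree_of_le_radical I J hIJ N hNfree)
    have hS := IsSMulRegular.smulShortComplex_shortExact (M := ModuleCat.of R N) hreg
    let S := (ModuleCat.of R N).smulShortComplex x
    -- `δ : H^n(N/xN) → H^{n+1}(N)` is surjective
    have hδsurj : ∀ j, j ≤ n → Function.Surjective (δ I j hS).hom := by
      intro j hj x₁
      apply exact₁ I j hS x₁
      have : ((localCohomology I (j + 1)).map S.f).hom x₁ = x • x₁ := (smul_eq_map I (j + 1) x x₁).symm
      rw [this]
      exact hkillN (j + 1) (by omega) x hxJ x₁
    -- `J * J` kills `H^j(N/xN)` for `j ≤ n`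
    have hkillQ : ∀ j, j ≤ n → ∀ c ∈ J * J,
        ∀ z : (localCohomology I j).obj S.X₃, c • z = 0 := by
      intro j hj c hc z
      refine Submodule.mul_induction_on hc ?_ ?_
      · intro a ha b hb'
        have h1 : (δ I j hS).hom (b • z) = 0 := by
          rw [map_smul]
          exact hkillN (j + 1) (by omega) b hb' _
        obtain ⟨w, hw⟩ := exact₃ I j hS (b • z) h1
        rw [mul_smul]
        have hw' : b • z = ((localCohomology I j).map S.g).hom w := hw.symm
        rw [hw', ← map_smul]
        have h0 : a • w = 0 := hkillN j (by omega) a ha w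
        rw [h0, map_zero]
      · intro c d hc hd
        rw [add_smul, hc, hd, add_zero]
    have hrad2 : I ≤ (J * J).radical := by
      rw [Ideal.radical_mul, inf_idem]
      exact hIJ
    haveI : Module.Finite R ((localCohomology I n).obj S.X₃) :=
      ih (QuotSMulTop x N) (J * J) hrad2 hkillQ n le_rfl
    exact Module.Finite.of_surjective (δ I n hS).hom (hδsurj n le_rfl)

end Groth.Agent.Lib.helper11.LCKit
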