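import Mathlib
import Groth.Agent.Lib.helper11.ExtBC
import Groth.Agent.Lib.helper11.GorHull

/-!
# Localisation of `Ext^c(M, S)` as an explicit equivalence (helper11)
-/

set_option autoImplicit false

namespace Groth.Agent.Lib.helper11.ExtLocEquiv

open CategoryTheory Abelian TensorProduct
open Groth.Agent.Lib.helper11.ExtRep

universe u

section Right

variable {R : Type u} [CommRing R] (M : ModuleCat.{u} R) (n : ℕ)

/-- postcomposition on `Ext^n(M, -)`. -/
noncomputable def post {G G' : ModuleCat.{u} R} (g : G ⟶ G') : Ext M G n →ₗ[R] Ext M G' n where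
  toFun e := e.comp (Ext.mk₀ g) (add_zero n)
  map_add' a b := Ext.add_comp _ _ _ _
  map_smul' r a := by
    simp only [RingHom.id_apply]
    exact Ext.smul_comp _ _ _ _

lemma post_apply {G G' : ModuleCat.{u} R} (g : G ⟶ G') (e : Ext M G n) :
    post M n g e = e.comp (Ext.mk₀ g) (add_zero n) := rfl

lemma post_id (G : ModuleCat.{u} R) (e : Ext M G n) : post M n (𝟙 G) e = e := by
  rw [post_apply, Ext.comp_mk₀_id]

lemma post_comp {G G' G'' : ModuleCat.{u} R} (g : G ⟶ G') (g' : G' ⟶ G'') (e : Ext M G n) :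
    post M n (g ≫ g') e = post M n g' (post M n g e) := by
  rw [post_apply, post_apply, post_apply, Ext.comp_assoc_of_third_deg_zero, Ext.mk₀_comp_mk₀]

/-- isomorphic second arguments give isomorphic `Ext`. -/
noncomputable def extCongrRight {G G' : ModuleCat.{u} R} (e : G ≅ G') :
    Ext M G n ≃ₗ[R] Ext M G' n :=
  LinearEquiv.ofLinear (post M n e.hom) (post M n e.inv)
    (by
      refine LinearMap.ext fun x => ?_
      rw [LinearMap.comp_apply, ← post_comp, e.inv_hom_id, post_id]
      rfl)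
    (by
      refine LinearMap.ext fun x => ?_
      rw [LinearMap.comp_apply, ← post_comp, e.hom_inv_id, post_id]
      rfl)

end Right

section Loc

variable (S : Type u) [CommRing S] [IsNoetherianRing S] (A : Type u) [CommRing A] [Algebra S A]
  [Module.Flat S A]

/-- `A ⊗ Ext_S^c(M, S) ≃ Ext_A^c(M', A)` for any `A`-module `M'` with `A ⊗ M ≃ M'`. -/
theorem nonempty_tensor_ext_equiv (M : Type u) [AddCommGroup M] [Module S M] [Module.Finite S M]
    (M' : Type u) [AddCommGroup M'] [Module A M'] (eM : A ⊗[S] M ≃ₗ[A] M') (c : ℕ) :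
    Nonempty ((A ⊗[S] Ext (ModuleCat.of S M) (ModuleCat.of S S) c) ≃ₗ[A]
      Ext (ModuleCat.of A M') (ModuleCat.of A A) c) := by
  obtain ⟨e⟩ := ExtBC.ext_baseChange S A S c M
  let e1 := Groth.Agent.Lib.helper11.GorHull.extCongr (ModuleCat.of A (A ⊗[S] S)) c
    eM.toModuleIso
  let e2 := extCongrRight (ModuleCat.of A M') c
    (TensorProduct.AlgebraTensorModule.rid S A A).toModuleIso
  exact ⟨e.trans (e1.trans e2)⟩

/-- transport along `K ≃ Ext_S^c(M,S)` and `A ⊗ K ≃ X`. -/
theorem nonempty_equiv_ext_of_equiv (M : Type u) [AddCommGroup M] [Module S M] [Module.Finite S M]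
    (M' : Type u) [AddCommGroup M'] [Module A M'] (eM : A ⊗[S] M ≃ₗ[A] M') (c : ℕ)
    (K : Type u) [AddCommGroup K] [Module S K]
    (κ : K ≃ₗ[S] Ext (ModuleCat.of S M) (ModuleCat.of S S) c)
    (X : Type u) [AddCommGroup X] [Module A X] (eX : A ⊗[S] K ≃ₗ[A] X) :
    Nonempty (X ≃ₗ[A] Ext (ModuleCat.of A M') (ModuleCat.of A A) c) := by
  obtain ⟨e⟩ := nonempty_tensor_ext_equiv S A M M' eM c
  let eκ : A ⊗[S] K ≃ₗ[A] A ⊗[S] Ext (ModuleCat.of S M) (ModuleCat.of S S) c :=
    TensorProduct.AlgebraTensorModule.congr (LinearEquiv.refl A A) κ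
  exact ⟨eX.symm.trans (eκ.trans e)⟩

end Loc

end Groth.Agent.Lib.helper11.ExtLocEquiv
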