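import Mathlib

/-!
# Lifting homomorphisms modulo powers of an ideal (Artin–Rees) (helper11)

Over a noetherian ring, for finite modules `M`, `N` and an ideal `I` there is `c` such that every
linear map `M/IⁿM → N/IⁿN` with `n > c` agrees modulo `I` with a genuine linear map `M → N`.
(The argument is the one used in the team's proof of S2098.)
-/

set_option autoImplicit false

namespace Groth.Agent.Lib.helper11.HomLift

universe u

variable {R : Type u} [CommRing R]

lemma pi_mem_smul_top {N : Type*} [AddCommGroup N] [Module R N] (J : Ideal R) {a : ℕ}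
    (x : Fin a → N) (hx : ∀ i, x i ∈ J • (⊤ : Submodule R N)) :
    x ∈ J • (⊤ : Submodule R (Fin a → N)) := by
  classical
  rw [← Finset.univ_sum_single x]
  refine Submodule.sum_mem _ (fun i _ => ?_)
  have h2 : LinearMap.single R (fun _ : Fin a => N) i (x i) ∈
      (J • (⊤ : Submodule R N)).map (LinearMap.single R (fun _ : Fin a => N) i) :=
    Submodule.mem_map_of_mem (hx i)
  rw [Submodule.map_smul''] at h2
  exact Submodule.smul_mono le_rfl le_top h2

lemma apply_mem_smul_top {N : Type*} [AddCommGroup N] [Module R N] (J : Ideal R) {b : ℕ}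
    (y : Fin b → N) (hy : y ∈ J • (⊤ : Submodule R (Fin b → N))) (j : Fin b) :
    y j ∈ J • (⊤ : Submodule R N) := by
  have h2 : LinearMap.proj (R := R) (φ := fun _ : Fin b => N) j y ∈
      (J • (⊤ : Submodule R (Fin b → N))).map (LinearMap.proj j) :=
    Submodule.mem_map_of_mem hy
  rw [Submodule.map_smul''] at h2
  exact Submodule.smul_mono le_rfl le_top h2

/-- **Lifting homomorphisms**: there is `c` such that any linear `s : M/IⁿM → N/IⁿN`, `n > c`,
is congruent modulo `I` to a genuine linear map `M → N`. -/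
theorem exists_lift [IsNoetherianRing R] (I : Ideal R) (M N : Type u)
    [AddCommGroup M] [Module R M] [Module.Finite R M] [AddCommGroup N] [Module R N]
    [Module.Finite R N] :
    ∃ c : ℕ, ∀ n : ℕ, c < n →
      ∀ s : (M ⧸ (I ^ n) • (⊤ : Submodule R M)) →ₗ[R] (N ⧸ (I ^ n) • (⊤ : Submodule R N)),
      ∃ s' : M →ₗ[R] N, ∀ (m : M) (z : N),
        (Submodule.Quotient.mk z : N ⧸ (I ^ n) • (⊤ : Submodule R N)) =
          s (Submodule.Quotient.mk m) → s' m - z ∈ I • (⊤ : Submodule R N) := by
  classical
  obtain ⟨b, π, hπ⟩ := Module.Finite.exists_fin' R M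
  obtain ⟨a, ρ₀, hρ₀⟩ := Module.Finite.exists_fin' R (LinearMap.ker π)
  let ρ : (Fin a → R) →ₗ[R] (Fin b → R) := (LinearMap.ker π).subtype ∘ₗ ρ₀
  have hρ : LinearMap.range ρ = LinearMap.ker π := by
    rw [LinearMap.range_comp, LinearMap.range_eq_top.mpr hρ₀, Submodule.map_top,
      Submodule.range_subtype]
  let hom : (Fin b → N) →ₗ[R] ((Fin b → R) →ₗ[R] N) := Fintype.bilinearCombination R R
  have hom_single : ∀ (x : Fin b → N) (j : Fin b) (r : R), hom x (Pi.single j r) = r • x j :=
    fun x j r => Fintype.linearCombination_apply_single R x j r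
  have hom_apply : ∀ (x : Fin b → N) (f : Fin b → R), hom x f = ∑ j, f j • x j :=
    fun x f => Fintype.linearCombination_apply R x f
  let A : (Fin b → N) →ₗ[R] (Fin a → N) :=
    LinearMap.pi (fun i => (LinearMap.applyₗ (ρ (Pi.single i 1))) ∘ₗ hom)
  have hA : ∀ x i, A x i = hom x (ρ (Pi.single i 1)) := fun x i => rfl
  have hker : ∀ x, A x = 0 → LinearMap.ker π ≤ LinearMap.ker (hom x) := by
    intro x hx
    have hz : (hom x) ∘ₗ ρ = 0 := by
      apply LinearMap.pi_ext
      intro i r
      have e1 : (Pi.single i r : Fin a → R) = r • Pi.single i 1 := by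
        rw [← Pi.single_smul, smul_eq_mul, mul_one]
      rw [LinearMap.comp_apply, e1, map_smul, map_smul, ← hA, hx]
      simp
    intro f hf
    rw [← hρ] at hf
    obtain ⟨g, rfl⟩ := hf
    exact LinearMap.congr_fun hz g
  obtain ⟨c, hc⟩ := Ideal.exists_pow_inf_eq_pow_smul I (LinearMap.range A)
  refine ⟨c, fun n hn s => ?_⟩
  have hn1 : n - c ≠ 0 := by omega
  have hIn : I ^ n • (⊤ : Submodule R N) ≤ I • ⊤ :=
    Submodule.smul_mono_left (Ideal.pow_le_self (by omega))
  have hx_ex : ∀ j : Fin b, ∃ xj : N,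
      (Submodule.Quotient.mk xj : N ⧸ (I ^ n) • (⊤ : Submodule R N)) =
        s (Submodule.Quotient.mk (π (Pi.single j 1))) :=
    fun j => Submodule.Quotient.mk_surjective _ _
  choose x hx using hx_ex
  have hF2 : ∀ f : Fin b → R,
      (Submodule.Quotient.mk (hom x f) : N ⧸ (I ^ n) • (⊤ : Submodule R N)) =
        s (Submodule.Quotient.mk (π f)) := by
    have : ((I ^ n) • (⊤ : Submodule R N)).mkQ ∘ₗ hom x =
        s ∘ₗ ((I ^ n) • (⊤ : Submodule R M)).mkQ ∘ₗ π := by
      apply LinearMap.pi_ext
      intro j r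
      have e1 : (Pi.single j r : Fin b → R) = r • Pi.single j 1 := by
        rw [← Pi.single_smul, smul_eq_mul, mul_one]
      simp only [LinearMap.comp_apply, Submodule.mkQ_apply]
      rw [hom_single, e1, map_smul, Submodule.Quotient.mk_smul, Submodule.Quotient.mk_smul,
        map_smul, hx]
    intro f
    exact LinearMap.congr_fun this f
  have hAx : A x ∈ I ^ n • (⊤ : Submodule R (Fin a → N)) := by
    apply pi_mem_smul_top
    intro i
    rw [← Submodule.Quotient.mk_eq_zero, hA, hF2]
    have : π (ρ (Pi.single i 1)) = 0 := by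
      have : ρ (Pi.single i 1) ∈ LinearMap.ker π := by
        rw [← hρ]
        exact LinearMap.mem_range_self _ _
      exact this
    rw [this, Submodule.Quotient.mk_zero, map_zero]
  have hAx2 : A x ∈ (I ^ (n - c) • (⊤ : Submodule R (Fin b → N))).map A := by
    have h1 : A x ∈ I ^ n • (⊤ : Submodule R (Fin a → N)) ⊓ LinearMap.range A :=
      ⟨hAx, LinearMap.mem_range_self _ _⟩
    rw [hc n (by omega)] at h1
    rw [Submodule.map_smul'', Submodule.map_top]
    exact Submodule.smul_mono le_rfl inf_le_right h1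
  obtain ⟨y, hy, hAy⟩ := hAx2
  have hyI : ∀ j, y j ∈ I • (⊤ : Submodule R N) := by
    intro j
    apply apply_mem_smul_top
    exact Submodule.smul_mono_left (Ideal.pow_le_self hn1) hy
  have hAx' : A (x - y) = 0 := by rw [map_sub, hAy, sub_self]
  let s' : M →ₗ[R] N :=
    ((LinearMap.ker π).liftQ (hom (x - y)) (hker _ hAx')) ∘ₗ
      (π.quotKerEquivOfSurjective hπ).symm.toLinearMap
  have hs' : ∀ f, s' (π f) = hom (x - y) f := by
    intro f
    have : (π.quotKerEquivOfSurjective hπ).symm (π f) = Submodule.Quotient.mk f := by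
      rw [LinearEquiv.symm_apply_eq]
      rfl
    show (LinearMap.ker π).liftQ (hom (x - y)) (hker _ hAx')
      ((π.quotKerEquivOfSurjective hπ).symm (π f)) = _
    rw [this]
    rfl
  refine ⟨s', fun m z hz => ?_⟩
  obtain ⟨f, rfl⟩ := hπ m
  rw [hs', map_sub, LinearMap.sub_apply]
  have h1 : hom x f - z ∈ I • (⊤ : Submodule R N) := by
    apply hIn
    rw [← Submodule.Quotient.mk_eq_zero, Submodule.Quotient.mk_sub, hF2, hz, sub_self]
  have h2 : hom y f ∈ I • (⊤ : Submodule R N) := by
    rw [hom_apply]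
    exact Submodule.sum_mem _ (fun j _ => Submodule.smul_mem _ _ (hyI j))
  have : hom x f - hom y f - z = (hom x f - z) - hom y f := by abel
  rw [this]
  exact Submodule.sub_mem _ h1 h2

end Groth.Agent.Lib.helper11.HomLift
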