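import Mathlib
import Groth.Agent.Lib.helper11.HomLift
import Groth.Agent.Lib.helper11.GorHull

/-!
# Finite modules with isomorphic Matlis duals are isomorphic; uniqueness of canonical modules
(helper11)
-/

set_option autoImplicit false

namespace Groth.Agent.Lib.helper11.CanonUnique

open IsLocalRing Groth.Agent.Lib.helper11.HomLift Groth.Agent.Lib.Helper26.Matlis
open Groth.Agent.Lib.helper11.ExtRep Groth.Agent.Lib.helper11.GorHull

universe u

variable {R : Type u} [CommRing R]

section Lift

variable [IsNoetherianRing R] [IsLocalRing R]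

omit [IsNoetherianRing R] in
lemma surjective_of_sub_mem {K : Type u} [AddCommGroup K] [Module R K] [Module.Finite R K]
    (g : K →ₗ[R] K) (hg : ∀ x, g x - x ∈ maximalIdeal R • (⊤ : Submodule R K)) :
    Function.Surjective g := by
  rw [← LinearMap.range_eq_top, eq_top_iff]
  apply Submodule.le_of_le_smul_of_le_jacobson_bot Module.Finite.fg_top
    (by rw [IsLocalRing.jacobson_eq_maximalIdeal ⊥ bot_ne_top] :
      maximalIdeal R ≤ (⊥ : Ideal R).jacobson)
  intro z _
  have : z = g z - (g z - z) := by abel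
  rw [this]
  exact Submodule.sub_mem _ (Submodule.mem_sup_left (LinearMap.mem_range_self _ _))
    (Submodule.mem_sup_right (hg z))

omit [IsNoetherianRing R] [IsLocalRing R] in
lemma map_mem_smul_top {K K' : Type u} [AddCommGroup K] [Module R K] [AddCommGroup K']
    [Module R K'] (J : Ideal R) (ψ : K →ₗ[R] K') {x : K} (hx : x ∈ J • (⊤ : Submodule R K)) :
    ψ x ∈ J • (⊤ : Submodule R K') := by
  have : ψ x ∈ (J • (⊤ : Submodule R K)).map ψ := Submodule.mem_map_of_mem hx
  rw [Submodule.map_smul''] at this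
  exact Submodule.smul_mono le_rfl le_top this

/-- finite modules that are isomorphic modulo all powers of `m` are isomorphic. -/
theorem nonempty_equiv_of_quotient_equiv (K K' : Type u) [AddCommGroup K] [Module R K]
    [Module.Finite R K] [AddCommGroup K'] [Module R K'] [Module.Finite R K']
    (h : ∀ n : ℕ, Nonempty ((K ⧸ (maximalIdeal R ^ n) • (⊤ : Submodule R K)) ≃ₗ[R]
      (K' ⧸ (maximalIdeal R ^ n) • (⊤ : Submodule R K')))) : Nonempty (K ≃ₗ[R] K') := by
  obtain ⟨c, hc⟩ := exists_lift (maximalIdeal R) K K'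
  obtain ⟨c', hc'⟩ := exists_lift (maximalIdeal R) K' K
  obtain ⟨e⟩ := h (max c c' + 1)
  obtain ⟨φ, hφ⟩ := hc (max c c' + 1) (by omega) e.toLinearMap
  obtain ⟨ψ, hψ⟩ := hc' (max c c' + 1) (by omega) e.symm.toLinearMap
  have h1 : ∀ x : K, ψ (φ x) - x ∈ maximalIdeal R • (⊤ : Submodule R K) := by
    intro x
    obtain ⟨z, hz⟩ := Submodule.Quotient.mk_surjective _ (e (Submodule.Quotient.mk x))
    have ha := hφ x z hz
    have hb := hψ z x (by
      change _ = e.symm _
      rw [hz, LinearEquiv.symm_apply_apply])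
    have : ψ (φ x) - x = ψ (φ x - z) + (ψ z - x) := by rw [map_sub]; abel
    rw [this]
    exact Submodule.add_mem _ (map_mem_smul_top _ ψ ha) hb
  have h2 : ∀ y : K', φ (ψ y) - y ∈ maximalIdeal R • (⊤ : Submodule R K') := by
    intro y
    obtain ⟨z, hz⟩ := Submodule.Quotient.mk_surjective _ (e.symm (Submodule.Quotient.mk y))
    have ha := hψ y z hz
    have hb := hφ z y (by
      change _ = e _
      rw [hz, LinearEquiv.apply_symm_apply])
    have : φ (ψ y) - y = φ (ψ y - z) + (φ z - y) := by rw [map_sub]; abel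
    rw [this]
    exact Submodule.add_mem _ (map_mem_smul_top _ φ ha) hb
  have hs1 : Function.Surjective (ψ ∘ₗ φ) := surjective_of_sub_mem (ψ ∘ₗ φ) h1
  have hs2 : Function.Surjective (φ ∘ₗ ψ) := surjective_of_sub_mem (φ ∘ₗ ψ) h2
  have hi1 : Function.Injective (ψ ∘ₗ φ) :=
    OrzechProperty.injective_of_surjective_endomorphism _ hs1
  refine ⟨LinearEquiv.ofBijective φ ⟨?_, ?_⟩⟩
  · intro x y hxy
    exact hi1 (by rw [LinearMap.comp_apply, LinearMap.comp_apply, hxy])
  · intro y
    obtain ⟨z, hz⟩ := hs2 y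
    exact ⟨ψ z, hz⟩

end Lift

section Dual

variable {E : Type u} [AddCommGroup E] [Module R E]

/-- `Hom(K/JK, E) ≃ Hom(K, E)[J]`. -/
noncomputable def dualQuot (J : Ideal R) (K : Type u) [AddCommGroup K] [Module R K] :
    ((K ⧸ J • (⊤ : Submodule R K)) →ₗ[R] E) ≃ₗ[R] LocCoh.torsionBy J (K →ₗ[R] E) where
  toFun φ := ⟨φ ∘ₗ (J • (⊤ : Submodule R K)).mkQ, by
    rw [Submodule.mem_torsionBySet_iff]
    intro a
    refine LinearMap.ext fun x => ?_
    rw [LinearMap.smul_apply, LinearMap.zero_apply, LinearMap.comp_apply, ← map_smul,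
      ← map_smul]
    have : (J • (⊤ : Submodule R K)).mkQ ((a : R) • x) = 0 := by
      rw [Submodule.mkQ_apply, Submodule.Quotient.mk_eq_zero]
      exact Submodule.smul_mem_smul a.2 trivial
    rw [this, map_zero]⟩
  map_add' φ φ' := by
    apply Subtype.ext
    exact LinearMap.add_comp _ _ _
  map_smul' r φ := by
    apply Subtype.ext
    exact LinearMap.smul_comp _ _ _
  invFun φ := (J • (⊤ : Submodule R K)).liftQ φ.1 (by
    rw [Submodule.smul_le]
    intro a ha x _
    rw [LinearMap.mem_ker]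
    have := (Submodule.mem_torsionBySet_iff (R := R) (M := K →ₗ[R] E) _ _).mp φ.2 ⟨a, ha⟩
    have h2 := congrArg (fun ψ : K →ₗ[R] E => ψ x) this
    simpa using h2)
  left_inv φ := by
    refine LinearMap.ext fun y => ?_
    obtain ⟨x, rfl⟩ := Submodule.Quotient.mk_surjective _ y
    rfl
  right_inv φ := by
    apply Subtype.ext
    refine LinearMap.ext fun x => ?_
    rfl

/-- a linear equivalence restricts to torsion submodules. -/
noncomputable def torsionByCongr {M N : Type u} [AddCommGroup M] [Module R M] [AddCommGroup N]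
    [Module R N] (e : M ≃ₗ[R] N) (I : Ideal R) :
    LocCoh.torsionBy I M ≃ₗ[R] LocCoh.torsionBy I N :=
  (e.submoduleMap (LocCoh.torsionBy I M)).trans (LinearEquiv.ofEq _ _ (by
    ext y
    rw [Submodule.mem_map, Submodule.mem_torsionBySet_iff]
    constructor
    · rintro ⟨x, hx, rfl⟩ a
      rw [Submodule.mem_torsionBySet_iff] at hx
      change (a : R) • e x = 0
      rw [← map_smul, hx a, map_zero]
    · intro hy
      refine ⟨e.symm y, ?_, e.apply_symm_apply y⟩
      rw [Submodule.mem_torsionBySet_iff]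
      intro a
      change (a : R) • e.symm y = 0
      rw [← map_smul, hy a, map_zero]))

variable [IsNoetherianRing R] [IsLocalRing R]
variable {f : ResidueField R →ₗ[R] E} (hf : InjHull.IsInjectiveHull f)

omit [IsNoetherianRing R] in
lemma tf_quotient (K : Type u) [AddCommGroup K] [Module R K] [Module.Finite R K] (n : ℕ) :
    TF (maximalIdeal R) (K ⧸ (maximalIdeal R ^ n) • (⊤ : Submodule R K)) := by
  refine ⟨inferInstance, n, fun a ha y => ?_⟩
  obtain ⟨x, rfl⟩ := Submodule.Quotient.mk_surjective _ y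
  rw [← Submodule.Quotient.mk_smul, Submodule.Quotient.mk_eq_zero]
  exact Submodule.smul_mem_smul ha trivial

include hf in
/-- Matlis duality for finite length modules, as an equivalence. -/
theorem nonempty_equiv_of_dual_equiv_finiteLength (Q Q' : Type u) [AddCommGroup Q] [Module R Q]
    [AddCommGroup Q'] [Module R Q'] (hQ : IsFiniteLength R Q) (hQ' : IsFiniteLength R Q')
    (d : (Q →ₗ[R] E) ≃ₗ[R] (Q' →ₗ[R] E)) : Nonempty (Q ≃ₗ[R] Q') := by
  let a := LinearEquiv.ofBijective (LinearMap.applyₗ : Q →ₗ[R] (Q →ₗ[R] E) →ₗ[R] E)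
    (applyₗ_bijective hf Q hQ)
  let a' := LinearEquiv.ofBijective (LinearMap.applyₗ : Q' →ₗ[R] (Q' →ₗ[R] E) →ₗ[R] E)
    (applyₗ_bijective hf Q' hQ')
  exact ⟨(a.trans (LinearEquiv.congrLeft E R d)).trans a'.symm⟩

include hf in
/-- **Finite modules with isomorphic Matlis duals are isomorphic.** -/
theorem nonempty_equiv_of_dual_equiv (K K' : Type u) [AddCommGroup K] [Module R K]
    [Module.Finite R K] [AddCommGroup K'] [Module R K'] [Module.Finite R K']
    (e : (K →ₗ[R] E) ≃ₗ[R] (K' →ₗ[R] E)) : Nonempty (K ≃ₗ[R] K') := by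
  apply nonempty_equiv_of_quotient_equiv
  intro n
  have hQ := Module.length_ne_top_iff.mp (length_ne_top_of_tf _ (tf_quotient (R := R) K n))
  have hQ' := Module.length_ne_top_iff.mp (length_ne_top_of_tf _ (tf_quotient (R := R) K' n))
  exact nonempty_equiv_of_dual_equiv_finiteLength hf _ _ hQ hQ'
    (((dualQuot (maximalIdeal R ^ n) K).trans (torsionByCongr e (maximalIdeal R ^ n))).trans
      (dualQuot (maximalIdeal R ^ n) K').symm)

end Dual

end Groth.Agent.Lib.helper11.CanonUnique
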