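import Mathlib
import Groth.Agent.Lib.helper11.GorHull
import Groth.Agent.Lib.helper11.LocalDualityInj
import Groth.Agent.Lib.helper11.LocalDualityCM
import Groth.Agent.S11681
import Groth.Agent.S17756

/-!
# Gorenstein iff the canonical module is free of rank one (helper11)
-/

set_option autoImplicit false

namespace Groth.Agent.Lib.helper11.GorHull

open CategoryTheory Abelian IsLocalRing
open Groth.Agent.Lib.helper11.LCKit Groth.Agent.Lib.helper11.ExtRep
open Groth.Agent.Lib.Helper26.Matlis

universe u

variable {R : Type u} [CommRing R] [IsNoetherianRing R] [IsLocalRing R]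

/-- the socle of an injective hull of `k` has length one. -/
theorem length_torsionBy_hull {H : Type u} [AddCommGroup H] [Module R H]
    {g : ResidueField R →ₗ[R] H} (hg : InjHull.IsInjectiveHull g) :
    Module.length R (LocCoh.torsionBy (maximalIdeal R) H) = 1 := by
  have heq : LocCoh.torsionBy (maximalIdeal R) H = LinearMap.range g := by
    ext x
    rw [Submodule.mem_torsionBySet_iff]
    constructor
    · intro hx
      exact mem_range_of_smul_eq_zero hg.toIsEssentialInj (fun a ha => hx ⟨a, ha⟩)
    · intro hx a
      exact smul_eq_zero_of_mem_range hx a.2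
  rw [heq, ← (LinearEquiv.ofInjective g hg.injective).length_eq]
  haveI : IsSimpleModule R (R ⧸ maximalIdeal R) :=
    isSimpleModule_iff_quot_maximal.mpr ⟨maximalIdeal R, inferInstance, ⟨LinearEquiv.refl _ _⟩⟩
  exact Module.length_eq_one R (R ⧸ maximalIdeal R)

/-- an injective hull of `k` is faithful. -/
theorem annihilator_hull {H : Type u} [AddCommGroup H] [Module R H]
    {g : ResidueField R →ₗ[R] H} (hg : InjHull.IsInjectiveHull g) :
    Module.annihilator R H = ⊥ := by
  rw [eq_bot_iff]
  intro a ha
  rw [Submodule.mem_bot]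
  by_contra hne
  obtain ⟨φ, hφ⟩ := exists_linearMap_apply_ne_zero hg (M := R) hne
  apply hφ
  have : a = a • (1 : R) := by rw [smul_eq_mul, mul_one]
  rw [this, map_smul]
  exact Module.mem_annihilator.mp ha _

lemma length_torsionBy_congr {M N : Type u} [AddCommGroup M] [Module R M] [AddCommGroup N]
    [Module R N] (e : M ≃ₗ[R] N) (I : Ideal R) :
    Module.length R (LocCoh.torsionBy I M) = Module.length R (LocCoh.torsionBy I N) := by
  have hmap : (LocCoh.torsionBy I M).map e.toLinearMap = LocCoh.torsionBy I N := by
    ext y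
    rw [Submodule.mem_map, Submodule.mem_torsionBySet_iff]
    constructor
    · rintro ⟨x, hx, rfl⟩ a
      rw [Submodule.mem_torsionBySet_iff] at hx
      change (a : R) • e x = 0
      rw [← map_smul, hx a, map_zero]
    · intro hy
      refine ⟨e.symm y, ?_, e.apply_symm_apply y⟩
      rw [Submodule.mem_torsionBySet_iff]
      intro a
      change (a : R) • e.symm y = 0
      rw [← map_smul, hy a, map_zero]
  rw [← hmap]
  exact (e.submoduleMap (LocCoh.torsionBy I M)).length_eq

/-- A finite module `K` whose Matlis dual is an injective hull of `k` is free of rank one. -/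
theorem nonempty_equiv_self_of_dual_hull {E : Type u} [AddCommGroup E] [Module R E]
    {f : ResidueField R →ₗ[R] E} (hf : InjHull.IsInjectiveHull f)
    {H : Type u} [AddCommGroup H] [Module R H]
    {g : ResidueField R →ₗ[R] H} (hg : InjHull.IsInjectiveHull g)
    (K : Type u) [AddCommGroup K] [Module R K] [Module.Finite R K]
    (eK : (K →ₗ[R] E) ≃ₗ[R] H) : Nonempty (K ≃ₗ[R] R) := by
  have hann : Module.annihilator R K = ⊥ := by
    rw [((Groth.Agent.S11681.result R E f hf).1 K).2, eK.annihilator_eq, annihilator_hull hg]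
  have hspan : ((⊤ : Submodule R K).spanFinrank : ℕ∞) = 1 := by
    rw [Groth.Agent.S17756.result R E f hf K, length_torsionBy_congr eK,
      length_torsionBy_hull hg]
  have hspan' : (⊤ : Submodule R K).spanFinrank = 1 := by exact_mod_cast hspan
  obtain ⟨s, hs1, hs2⟩ := Submodule.FG.exists_span_finset_card_eq_spanFinrank
    (Module.Finite.fg_top (R := R) (M := K))
  rw [hspan', Finset.card_eq_one] at hs1
  obtain ⟨x, rfl⟩ := hs1
  rw [Finset.coe_singleton] at hs2
  refine ⟨(LinearEquiv.ofBijective (LinearMap.toSpanSingleton R K x) ⟨?_, ?_⟩).symm⟩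
  · rw [injective_iff_map_eq_zero]
    intro r hr
    rw [LinearMap.toSpanSingleton_apply] at hr
    have hmem : r ∈ Module.annihilator R K := by
      rw [Module.mem_annihilator]
      intro y
      have hy : y ∈ Submodule.span R {x} := by rw [hs2]; trivial
      obtain ⟨c, rfl⟩ := Submodule.mem_span_singleton.mp hy
      rw [smul_comm, hr, smul_zero]
    rw [hann] at hmem
    exact hmem
  · intro y
    have hy : y ∈ Submodule.span R {x} := by rw [hs2]; trivial
    obtain ⟨c, rfl⟩ := Submodule.mem_span_singleton.mp hy
    exact ⟨c, LinearMap.toSpanSingleton_apply _ _ _ _⟩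

open Groth.Agent.Lib.helper11.LocalDuality in
/-- S7701. -/
theorem gorenstein_iff_canonMod_free (n : ℕ) (hn : ringKrullDim R = n)
    (hdepth : LocCoh.depth R R = n)
    {E : Type u} [AddCommGroup E] [Module R E]
    {f : ResidueField R →ₗ[R] E} (hf : InjHull.IsInjectiveHull f)
    (K : Type u) [AddCommGroup K] [Module R K] [Module.Finite R K]
    (eK : (K →ₗ[R] E) ≃ₗ[R] LocCoh.H (maximalIdeal R) n R) :
    (∃ k : ℕ, HasInjectiveDimensionLT (ModuleCat.of R R) k) ↔ Nonempty (K ≃ₗ[R] R) := by
  constructor
  · intro hG
    obtain ⟨g, hg⟩ := exists_hull hG n hn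
    exact nonempty_equiv_self_of_dual_hull hf hg K eK
  · rintro ⟨e⟩
    haveI := (canonMod_properties hf n hn hdepth K eK).1
    exact ⟨n + 1, hasInjectiveDimensionLT_of_iso e.toModuleIso (n + 1)⟩

end Groth.Agent.Lib.helper11.GorHull
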