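import Mathlib
import Groth.Agent.Lib.helper11.CanonGor
import Groth.Agent.Lib.helper11.CanonRegular
import Groth.Agent.Lib.helper11.LCTorsion

/-!
# `R → End(K)` is bijective for the canonical module of a CM local ring (helper11)
-/

set_option autoImplicit false

namespace Groth.Agent.Lib.helper11.GorHull

open CategoryTheory Abelian IsLocalRing RingTheory.Sequence
open Groth.Agent.Lib.helper11.LCKit Groth.Agent.Lib.helper11.ExtRep
open Groth.Agent.Lib.helper11.LocalDuality Groth.Agent.Lib.Helper26.Matlis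

universe u

variable {R : Type u} [CommRing R] [IsNoetherianRing R] [IsLocalRing R]
variable {E : Type u} [AddCommGroup E] [Module R E] {f : ResidueField R →ₗ[R] E}
  (hf : InjHull.IsInjectiveHull f) (n : ℕ) (hn : ringKrullDim R = n)
  (hdepth : LocCoh.depth R R = n)
  (K : Type u) [AddCommGroup K] [Module R K] [Module.Finite R K]
  (eK : (K →ₗ[R] E) ≃ₗ[R] LocCoh.H (maximalIdeal R) n R)

include hf hn hdepth eK in
open Groth.Agent.Lib.Helper21.DepthKit in
theorem canonMod_ext_vanishing (F : ModuleCat.{u} R) (hF : Module.length R F ≠ ⊤) (i : ℕ)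
    (hi : i < n) : Subsingleton (Ext F (ModuleCat.of R K) i) := by
  obtain ⟨hKnt, hKdim, hKdepth⟩ := canonMod_dim_depth hf n hn hdepth K eK
  haveI := hKnt
  haveI := finite_of_length_ne_top F hF
  obtain ⟨rs, hlen, hmem, hreg⟩ :=
    (natCast_le_depth_iff (A := R) (M := K) n).mp (by rw [hKdepth])
  have hreg' : IsRegular K rs := IsRegular.of_isWeaklyRegular_of_mem_maximalIdeal K hmem hreg
  exact Ischebeck.ext_subsingleton_of_regular K F rs hmem hreg' 0 i
    (by simpa using supportDim_le_zero_of_length_ne_top F hF) (by omega)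

include hf hn hdepth eK in
/-- the top local cohomology of the canonical module is an injective hull of `k`. -/
theorem exists_hull_canonMod :
    ∃ g : ResidueField R →ₗ[R] LocCoh.H (maximalIdeal R) n K, InjHull.IsInjectiveHull g := by
  haveI : Module.Injective R E := hf.isInjective
  have hLE : LE (maximalIdeal R) (ModuleCat.of R K) n :=
    LE_of_vanishing _ _ _ (fun F' hF' i hi =>
      canonMod_ext_vanishing hf n hn hdepth K eK F' (length_ne_top_of_tf F' hF') i (by omega))
  obtain ⟨Φ', -⟩ := exists_natural_equiv hLE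
  obtain ⟨N⟩ : Nonempty (NatIso (maximalIdeal R) E (ModuleCat.of R K) 0 n) := by
    have := nonempty_natIso_of_depth n hn hdepth E K eK n le_rfl
    rwa [Nat.sub_self] at this
  apply Groth.Agent.Lib.Helper26.HullCriterion.exists_hull_of_lengths R _
    (isPowerTorsion_H (maximalIdeal R) (ModuleCat.of R K) n)
  intro t
  have htf := tf_Q (maximalIdeal R) t
  have hfl : Module.length R (Q (maximalIdeal R) t) ≠ ⊤ := length_ne_top_of_tf _ htf
  haveI : Module.Finite R (Q (maximalIdeal R) t) := htf.1
  have htors : IsTors (maximalIdeal R) (Q (maximalIdeal R) t) := by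
    intro x
    obtain ⟨k, hk⟩ := htf.2
    exact ⟨k, fun a ha => hk a ha x⟩
  have e1 := (Φ' (Q (maximalIdeal R) t) htf).length_eq
  have e2 := ((N.θ (Q (maximalIdeal R) t)).symm.trans
    (evEquivOfTors (maximalIdeal R) (Q (maximalIdeal R) t) htors)).length_eq
  -- `X = Ext^n(R/m^t, K)` has finite length
  have hDfl : Module.length R
      (Ext (Q (maximalIdeal R) t) (ModuleCat.of R K) n →ₗ[R] E) ≠ ⊤ := by
    rw [e2]
    exact hfl
  have hDD := length_linearMap hf _ (Module.length_ne_top_iff.mp hDfl)
  have hinj := ((Groth.Agent.S11681.result R E f hf).1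
    (Ext (Q (maximalIdeal R) t) (ModuleCat.of R K) n)).1
  have hXfl : Module.length R (Ext (Q (maximalIdeal R) t) (ModuleCat.of R K) n) ≠ ⊤ := by
    intro htop
    have hle := Module.length_le_of_injective _ hinj
    rw [htop, hDD, top_le_iff] at hle
    exact hDfl hle
  have hX := length_linearMap hf _ (Module.length_ne_top_iff.mp hXfl)
  rw [← e1, ← hX, e2]

include hf hn hdepth eK in
/-- **`R → End(K)` is bijective** for a canonical module `K` of a CM local ring. -/
theorem canonMod_toEnd_bijective :
    Function.Bijective (fun r : R => r • (LinearMap.id : K →ₗ[R] K)) := by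
  haveI : Module.Injective R E := hf.isInjective
  obtain ⟨hKnt, -, -⟩ := canonMod_dim_depth hf n hn hdepth K eK
  obtain ⟨g, hg⟩ := exists_hull_canonMod hf n hn hdepth K eK
  obtain ⟨N⟩ := nonempty_natIso_of_depth n hn hdepth E K eK 0 (Nat.zero_le n)
  haveI : Module.Finite R (ModuleCat.of R K) := inferInstanceAs (Module.Finite R K)
  let e0 : Ext (ModuleCat.of R K) (ModuleCat.of R K) 0 ≃ₗ[R] (K →ₗ[R] K) :=
    (Ext.linearEquiv₀ (R := R)).trans ModuleCat.homLinearEquiv
  let eA : ((K →ₗ[R] K) →ₗ[R] E) ≃ₗ[R] LocCoh.H (maximalIdeal R) n K :=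
    (LinearEquiv.congrLeft E R e0.symm).trans (N.θ (ModuleCat.of R K)).symm
  obtain ⟨σ⟩ := nonempty_equiv_self_of_dual_hull hf hg (K →ₗ[R] K) eA
  set g₀ : K →ₗ[R] K := σ.symm 1 with hg₀
  have hgen : ∀ a : K →ₗ[R] K, a = σ a • g₀ := by
    intro a
    rw [hg₀, ← map_smul, smul_eq_mul, mul_one, LinearEquiv.symm_apply_apply]
  set r := σ (LinearMap.id : K →ₗ[R] K) with hr
  have hid : (LinearMap.id : K →ₗ[R] K) = r • g₀ := hgen _
  have hunit : IsUnit r := by
    by_contra hnu
    have hrm : r ∈ maximalIdeal R := (IsLocalRing.mem_maximalIdeal r).mpr hnu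
    have htop : (⊤ : Submodule R K) ≤ maximalIdeal R • (⊤ : Submodule R K) := by
      intro x _
      have hx : x = r • g₀ x := by
        have := congrArg (fun φ : K →ₗ[R] K => φ x) hid
        simpa using this
      rw [hx]
      exact Submodule.smul_mem_smul hrm trivial
    have hbot := Submodule.eq_bot_of_le_smul_of_le_jacobson_bot (maximalIdeal R) ⊤
      (Module.Finite.fg_top) htop (by
        rw [IsLocalRing.jacobson_eq_maximalIdeal ⊥ bot_ne_top])
    exact top_ne_bot hbot
  obtain ⟨u, hu⟩ := hunit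
  constructor
  · intro s s' hss'
    have h1 := congrArg σ hss'
    simp only [map_smul, smul_eq_mul] at h1
    rw [← hr, ← hu] at h1
    exact (Units.mul_left_inj u).mp h1
  · intro a
    refine ⟨σ a * (↑u⁻¹ : R), ?_⟩
    change (σ a * (↑u⁻¹ : R)) • (LinearMap.id : K →ₗ[R] K) = a
    rw [hid, smul_smul, mul_assoc, ← hu, Units.inv_mul, mul_one]
    exact (hgen a).symm

end Groth.Agent.Lib.helper11.GorHull
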