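import Mathlib
import Groth.Agent.Lib.Helper2.LCCompare
import Groth.Agent.S11621

/-!
# Mayer–Vietoris for local cohomology (helper11)

Uses helper2's description `Phi : H^n(Γ_J E) ≃ H^n_J(M)` on an injective resolution `E` and the
short exact sequence of complexes `0 → Γ_{I+J}E → Γ_I E × Γ_J E → Γ_{I∩J}E → 0`.
-/

set_option autoImplicit false
universe u

open CategoryTheory CategoryTheory.Limits Opposite

namespace Groth.Agent.Lib.helper11.LCMV

open Groth.Agent.Lib.helper11.LCKit
  Groth.Agent.Lib.Helper2.LCInj1 Groth.Agent.Lib.Helper2.LCCech4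
  Groth.Agent.Lib.Helper2.LCTorI Groth.Agent.Lib.Helper2.LCHom Groth.Agent.Lib.Helper2.LCPhi

variable {R : Type u} [CommRing R]

section prod

variable (K L : DRing.Cx R)

/-- the product of two complexes of modules, with concrete terms `K.X n × L.X n`. -/
noncomputable def prodCx : DRing.Cx R where
  X n := ModuleCat.of R (K.X n × L.X n)
  d i j := ModuleCat.ofHom (LinearMap.prodMap (K.d i j).hom (L.d i j).hom)
  shape i j h := by
    refine ModuleCat.hom_ext (LinearMap.ext fun x => ?_)
    show ((K.d i j).hom x.1, (L.d i j).hom x.2) = 0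
    rw [K.shape i j h, L.shape i j h]
    rfl
  d_comp_d' i j k _ _ := by
    have h1 : ∀ x, (K.d j k).hom ((K.d i j).hom x) = 0 := fun x => by
      rw [← LinearMap.comp_apply, ← ModuleCat.hom_comp, K.d_comp_d]
      rfl
    have h2 : ∀ x, (L.d j k).hom ((L.d i j).hom x) = 0 := fun x => by
      rw [← LinearMap.comp_apply, ← ModuleCat.hom_comp, L.d_comp_d]
      rfl
    refine ModuleCat.hom_ext (LinearMap.ext fun x => ?_)
    show ((K.d j k).hom ((K.d i j).hom x.1), (L.d j k).hom ((L.d i j).hom x.2)) = 0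
    rw [h1, h2]
    rfl

theorem prodCx_d_apply (i j : ℤ) (x : K.X i × L.X i) :
    ((prodCx K L).d i j).hom x = ((K.d i j).hom x.1, (L.d i j).hom x.2) := rfl

noncomputable def fstCx : prodCx K L ⟶ K where
  f n := ModuleCat.ofHom (LinearMap.fst R (K.X n) (L.X n))
  comm' i j _ := by
    refine ModuleCat.hom_ext (LinearMap.ext fun x => ?_)
    rfl

noncomputable def sndCx : prodCx K L ⟶ L where
  f n := ModuleCat.ofHom (LinearMap.snd R (K.X n) (L.X n))
  comm' i j _ := by
    refine ModuleCat.hom_ext (LinearMap.ext fun x => ?_)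
    rfl

noncomputable def inlCx : K ⟶ prodCx K L where
  f n := ModuleCat.ofHom (LinearMap.inl R (K.X n) (L.X n))
  comm' i j _ := by
    refine ModuleCat.hom_ext (LinearMap.ext fun x => ?_)
    show ((K.d i j).hom x, (L.d i j).hom 0) = ((K.d i j).hom x, 0)
    rw [map_zero]

noncomputable def inrCx : L ⟶ prodCx K L where
  f n := ModuleCat.ofHom (LinearMap.inr R (K.X n) (L.X n))
  comm' i j _ := by
    refine ModuleCat.hom_ext (LinearMap.ext fun x => ?_)
    show ((K.d i j).hom 0, (L.d i j).hom x) = (0, (L.d i j).hom x)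
    rw [map_zero]

variable {K L}

noncomputable def liftCx {A : DRing.Cx R} (a : A ⟶ K) (b : A ⟶ L) : A ⟶ prodCx K L where
  f n := ModuleCat.ofHom (LinearMap.prod (a.f n).hom (b.f n).hom)
  comm' i j _ := by
    refine ModuleCat.hom_ext (LinearMap.ext fun x => ?_)
    have h1 := congrArg (fun g => g.hom x) (a.comm i j)
    have h2 := congrArg (fun g => g.hom x) (b.comm i j)
    exact Prod.ext h1 h2

variable (K L)

theorem inl_fst : inlCx K L ≫ fstCx K L = 𝟙 K := by
  ext n x
  rfl

theorem inr_snd : inrCx K L ≫ sndCx K L = 𝟙 L := by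
  ext n x
  rfl

theorem inl_snd : inlCx K L ≫ sndCx K L = 0 := by
  ext n x
  rfl

theorem inr_fst : inrCx K L ≫ fstCx K L = 0 := by
  ext n x
  rfl

theorem fst_inl_add_snd_inr : fstCx K L ≫ inlCx K L + sndCx K L ≫ inrCx K L = 𝟙 (prodCx K L) := by
  apply HomologicalComplex.hom_ext
  intro n
  refine ModuleCat.hom_ext (LinearMap.ext fun x => ?_)
  show ((x.1, (0 : L.X n)) : K.X n × L.X n) + ((0 : K.X n), x.2) = x
  ext
  · simp
  · simp

/-- homology of the product complex. -/
noncomputable def homologyProdEquiv (n : ℤ) :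
    (prodCx K L).homology n ≃ₗ[R] (K.homology n × L.homology n) :=
  LinearEquiv.ofLinear
    (LinearMap.prod (HomologicalComplex.homologyMap (fstCx K L) n).hom
      (HomologicalComplex.homologyMap (sndCx K L) n).hom)
    ((HomologicalComplex.homologyMap (inlCx K L) n).hom ∘ₗ LinearMap.fst R _ _ +
      (HomologicalComplex.homologyMap (inrCx K L) n).hom ∘ₗ LinearMap.snd R _ _)
    (by
      have h11 : HomologicalComplex.homologyMap (inlCx K L) n ≫
          HomologicalComplex.homologyMap (fstCx K L) n = 𝟙 _ := by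
        rw [← HomologicalComplex.homologyMap_comp, inl_fst, HomologicalComplex.homologyMap_id]
      have h22 : HomologicalComplex.homologyMap (inrCx K L) n ≫
          HomologicalComplex.homologyMap (sndCx K L) n = 𝟙 _ := by
        rw [← HomologicalComplex.homologyMap_comp, inr_snd, HomologicalComplex.homologyMap_id]
      have h12 : HomologicalComplex.homologyMap (inlCx K L) n ≫
          HomologicalComplex.homologyMap (sndCx K L) n = 0 := by
        rw [← HomologicalComplex.homologyMap_comp, inl_snd, HomologicalComplex.homologyMap_zero]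
      have h21 : HomologicalComplex.homologyMap (inrCx K L) n ≫
          HomologicalComplex.homologyMap (fstCx K L) n = 0 := by
        rw [← HomologicalComplex.homologyMap_comp, inr_fst, HomologicalComplex.homologyMap_zero]
      refine LinearMap.ext fun ⟨x, y⟩ => Prod.ext ?_ ?_
      · have a := congrArg (fun g => g.hom x) h11
        have b := congrArg (fun g => g.hom y) h21
        have a' : (HomologicalComplex.homologyMap (fstCx K L) n).hom
            ((HomologicalComplex.homologyMap (inlCx K L) n).hom x) = x := a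
        have b' : (HomologicalComplex.homologyMap (fstCx K L) n).hom
            ((HomologicalComplex.homologyMap (inrCx K L) n).hom y) = 0 := b
        show (HomologicalComplex.homologyMap (fstCx K L) n).hom
          ((HomologicalComplex.homologyMap (inlCx K L) n).hom x +
            (HomologicalComplex.homologyMap (inrCx K L) n).hom y) = x
        rw [map_add, a', b', add_zero]
      · have a := congrArg (fun g => g.hom x) h12
        have b := congrArg (fun g => g.hom y) h22
        have a' : (HomologicalComplex.homologyMap (sndCx K L) n).hom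
            ((HomologicalComplex.homologyMap (inlCx K L) n).hom x) = 0 := a
        have b' : (HomologicalComplex.homologyMap (sndCx K L) n).hom
            ((HomologicalComplex.homologyMap (inrCx K L) n).hom y) = y := b
        show (HomologicalComplex.homologyMap (sndCx K L) n).hom
          ((HomologicalComplex.homologyMap (inlCx K L) n).hom x +
            (HomologicalComplex.homologyMap (inrCx K L) n).hom y) = y
        rw [map_add, a', b', zero_add])
    (by
      have h := congrArg (fun g => HomologicalComplex.homologyMap g n) (fst_inl_add_snd_inr K L)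
      simp only [HomologicalComplex.homologyMap_add, HomologicalComplex.homologyMap_comp,
        HomologicalComplex.homologyMap_id] at h
      ext x
      have hx := congrArg (fun g => g.hom x) h
      exact hx)

end prod

section MV

variable (I J : Ideal R) (E : DRing.Cx R)

/-- the Mayer–Vietoris short complex `0 → Γ_{I+J}E → Γ_I E × Γ_J E → Γ_{I∩J}E → 0`. -/
noncomputable def mvSC : ShortComplex (DRing.Cx R) :=
  ShortComplex.mk
    (liftCx (torIIncl (le_sup_left : I ≤ I ⊔ J) E) (torIIncl (le_sup_right : J ≤ I ⊔ J) E))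
    (fstCx _ _ ≫ torIIncl (inf_le_left : I ⊓ J ≤ I) E -
      sndCx _ _ ≫ torIIncl (inf_le_right : I ⊓ J ≤ J) E) (by
    apply HomologicalComplex.hom_ext
    intro n
    refine ModuleCat.hom_ext (LinearMap.ext fun x => ?_)
    apply Subtype.ext
    show (x : torSubI (I ⊔ J) (E.X n)).1 - (x : torSubI (I ⊔ J) (E.X n)).1 = 0
    exact sub_self _)

theorem mem_torSubI_sup_of_mem {X : Type u} [AddCommGroup X] [Module R X] {x : X}
    (h1 : x ∈ torSubI I X) (h2 : x ∈ torSubI J X) : x ∈ torSubI (I ⊔ J) X := by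
  obtain ⟨a, ha⟩ := h1
  obtain ⟨b, hb⟩ := h2
  refine ⟨a + b, fun c hc => ?_⟩
  have hc' := Ideal.sup_pow_add_le_pow_sup_pow hc
  obtain ⟨c1, hc1, c2, hc2, rfl⟩ := Submodule.mem_sup.1 hc'
  rw [add_smul, ha c1 hc1, hb c2 hc2, add_zero]

theorem exists_sub_eq_of_injective [IsNoetherianRing R] {X : Type u} [AddCommGroup X] [Module R X]
    [Module.Injective R X] {z : X} (hz : z ∈ torSubI (I ⊓ J) X) :
    ∃ x ∈ torSubI I X, ∃ y ∈ torSubI J X, x - y = z := by
  obtain ⟨n, hn⟩ := hz
  obtain ⟨m, hm⟩ := Groth.Agent.S11621.key_le I J ((I ⊓ J) ^ n) (by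
    intro a ha
    exact ⟨n, Ideal.pow_mem_pow ha n⟩)
  let A : Ideal R := I ^ m ⊓ J ^ m
  have hkill : ∀ a ∈ A, a • z = 0 := fun a ha => hn a (hm ha)
  let φ : (R ⧸ A) →ₗ[R] X := Submodule.liftQ A (LinearMap.toSpanSingleton R X z) (by
    intro a ha
    rw [LinearMap.mem_ker, LinearMap.toSpanSingleton_apply]
    exact hkill a ha)
  let ι : (R ⧸ A) →ₗ[R] (R ⧸ I ^ m) × (R ⧸ J ^ m) :=
    LinearMap.prod (Submodule.mapQ A (I ^ m) LinearMap.id inf_le_left)
      (Submodule.mapQ A (J ^ m) LinearMap.id inf_le_right)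
  have hι : Function.Injective ι := by
    rw [injective_iff_map_eq_zero]
    intro c hc
    obtain ⟨r, rfl⟩ := Submodule.Quotient.mk_surjective _ c
    have h1 : (Submodule.Quotient.mk r : R ⧸ I ^ m) = 0 := congrArg Prod.fst hc
    have h2 : (Submodule.Quotient.mk r : R ⧸ J ^ m) = 0 := congrArg Prod.snd hc
    rw [Submodule.Quotient.mk_eq_zero] at h1 h2 ⊢
    exact ⟨h1, h2⟩
  obtain ⟨ψ, hψ⟩ := Module.Injective.out ι hι φ
  have hz' : ψ (1, 1) = z := by
    have := hψ (Submodule.Quotient.mk 1)
    have h3 : φ (Submodule.Quotient.mk 1) = z := by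
      show (LinearMap.toSpanSingleton R X z) 1 = z
      simp
    rw [h3] at this
    exact this
  refine ⟨ψ (1, 0), ⟨m, fun a ha => ?_⟩, -ψ (0, 1), ⟨m, fun a ha => ?_⟩, ?_⟩
  · rw [← map_smul]
    have : a • ((1 : R ⧸ I ^ m), (0 : R ⧸ J ^ m)) = 0 := by
      refine Prod.ext ?_ (smul_zero a)
      show a • (Submodule.Quotient.mk 1 : R ⧸ I ^ m) = 0
      rw [← Submodule.Quotient.mk_smul, Submodule.Quotient.mk_eq_zero]
      simpa using ha
    rw [this, map_zero]
  · rw [smul_neg, ← map_smul]
    have : a • ((0 : R ⧸ I ^ m), (1 : R ⧸ J ^ m)) = 0 := by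
      refine Prod.ext (smul_zero a) ?_
      show a • (Submodule.Quotient.mk 1 : R ⧸ J ^ m) = 0
      rw [← Submodule.Quotient.mk_smul, Submodule.Quotient.mk_eq_zero]
      simpa using ha
    rw [this, map_zero, neg_zero]
  · rw [sub_neg_eq_add, ← map_add, ← hz']
    congr 1
    ext <;> simp

theorem mvSC_shortExact [IsNoetherianRing R] (hE : ∀ n, Module.Injective R (E.X n)) :
    (mvSC I J E).ShortExact := by
  apply HomologicalComplex.shortExact_of_degreewise_shortExact
  intro n
  refine ShortComplex.ShortExact.mk' ?_ ?_ ?_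
  · rw [ShortComplex.moduleCat_exact_iff]
    intro x hx
    obtain ⟨x1, x2⟩ : torSubI I (E.X n) × torSubI J (E.X n) := x
    have hx' : x1.1 - x2.1 = 0 := congrArg Subtype.val hx
    rw [sub_eq_zero] at hx'
    have hmem : x1.1 ∈ torSubI (I ⊔ J) (E.X n) :=
      mem_torSubI_sup_of_mem I J x1.2 (hx' ▸ x2.2)
    refine ⟨(⟨x1.1, hmem⟩ : torSubI (I ⊔ J) (E.X n)), ?_⟩
    exact Prod.ext rfl (Subtype.ext hx')
  · rw [ModuleCat.mono_iff_injective]
    intro x y hxy
    apply Subtype.ext
    have := congrArg (fun z : torSubI I (E.X n) × torSubI J (E.X n) => z.1.1) hxy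
    exact this
  · rw [ModuleCat.epi_iff_surjective]
    intro z
    haveI := hE n
    obtain ⟨x, hx, y, hy, hxy⟩ := exists_sub_eq_of_injective I J
      (z : torSubI (I ⊓ J) (E.X n)).2
    exact ⟨((⟨x, hx⟩, ⟨y, hy⟩) : torSubI I (E.X n) × torSubI J (E.X n)), Subtype.ext hxy⟩

end MV

section main

variable [IsNoetherianRing R] (I J : Ideal R) (M : ModuleCat.{u} R)

theorem liftCx_fst {A K L : DRing.Cx R} (a : A ⟶ K) (b : A ⟶ L) : liftCx a b ≫ fstCx K L = a := by
  apply HomologicalComplex.hom_ext
  intro n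
  refine ModuleCat.hom_ext (LinearMap.ext fun x => ?_)
  rfl

theorem liftCx_snd {A K L : DRing.Cx R} (a : A ⟶ K) (b : A ⟶ L) : liftCx a b ≫ sndCx K L = b := by
  apply HomologicalComplex.hom_ext
  intro n
  refine ModuleCat.hom_ext (LinearMap.ext fun x => ?_)
  rfl

/-- the map `H^i_{I+J} → H^i_I × H^i_J`. -/
noncomputable abbrev mvA (i : ℕ) : (localCohomology (I ⊔ J) i).obj M →ₗ[R]
    (localCohomology I i).obj M × (localCohomology J i).obj M :=
  LinearMap.prod ((Dual2.HmapOfLE (le_sup_left : I ≤ I ⊔ J) i).app M).hom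
    ((Dual2.HmapOfLE (le_sup_right : J ≤ I ⊔ J) i).app M).hom

/-- the map `H^i_I × H^i_J → H^i_{I∩J}`. -/
noncomputable abbrev mvB (i : ℕ) : (localCohomology I i).obj M × (localCohomology J i).obj M →ₗ[R]
    (localCohomology (I ⊓ J) i).obj M :=
  ((Dual2.HmapOfLE (inf_le_left : I ⊓ J ≤ I) i).app M).hom ∘ₗ LinearMap.fst R _ _ -
    ((Dual2.HmapOfLE (inf_le_right : I ⊓ J ≤ J) i).app M).hom ∘ₗ LinearMap.snd R _ _

theorem mayer_vietoris :
    ∃ δ : ∀ i : ℕ, (localCohomology (I ⊓ J) i).obj M →ₗ[R] (localCohomology (I ⊔ J) (i + 1)).obj M,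
      (∀ i : ℕ, LinearMap.ker (mvA I J M (i + 1)) = LinearMap.range (δ i)) ∧
      (∀ i : ℕ, LinearMap.ker (mvB I J M i) = LinearMap.range (mvA I J M i)) ∧
      (∀ i : ℕ, LinearMap.ker (δ i) = LinearMap.range (mvB I J M i)) := by
  let Res : InjectiveResolution M := injectiveResolution M
  let E := Res.cochainComplex
  have hE : ∀ n, Module.Injective R (E.X n) := by
    intro n
    have hinj : CategoryTheory.Injective (ModuleCat.of R (E.X n)) :=
      inferInstanceAs (CategoryTheory.Injective (Res.cochainComplex.X n))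
    exact Module.injective_module_of_injective_object R (E.X n)
  have hS := mvSC_shortExact I J E hE
  have hij : ∀ i : ℕ, (ComplexShape.up ℤ).Rel (i : ℤ) ((i + 1 : ℕ) : ℤ) := by
    intro i
    change (i : ℤ) + 1 = ((i + 1 : ℕ) : ℤ)
    push_cast
    rfl
  -- the equivalences
  let Φ0 : ∀ i : ℕ, (torI (I ⊔ J) E).homology (i : ℤ) ≃ₗ[R] (localCohomology (I ⊔ J) i).obj M :=
    fun i => Phi (I ⊔ J) Res i
  let Φ1 : ∀ i : ℕ, (torI I E).homology (i : ℤ) ≃ₗ[R] (localCohomology I i).obj M :=
    fun i => Phi I Res i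
  let Φ2 : ∀ i : ℕ, (torI J E).homology (i : ℤ) ≃ₗ[R] (localCohomology J i).obj M :=
    fun i => Phi J Res i
  let Φ3 : ∀ i : ℕ, (torI (I ⊓ J) E).homology (i : ℤ) ≃ₗ[R] (localCohomology (I ⊓ J) i).obj M :=
    fun i => Phi (I ⊓ J) Res i
  let Θ : ∀ i : ℕ, (prodCx (torI I E) (torI J E)).homology (i : ℤ) ≃ₗ[R]
      (localCohomology I i).obj M × (localCohomology J i).obj M :=
    fun i => (homologyProdEquiv (torI I E) (torI J E) (i : ℤ)).trans
      ((Φ1 i).prodCongr (Φ2 i))
  let Hf : ∀ i : ℕ, (torI (I ⊔ J) E).homology (i : ℤ) →ₗ[R]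
      (prodCx (torI I E) (torI J E)).homology (i : ℤ) :=
    fun i => (HomologicalComplex.homologyMap (mvSC I J E).f (i : ℤ)).hom
  let Hg : ∀ i : ℕ, (prodCx (torI I E) (torI J E)).homology (i : ℤ) →ₗ[R]
      (torI (I ⊓ J) E).homology (i : ℤ) :=
    fun i => (HomologicalComplex.homologyMap (mvSC I J E).g (i : ℤ)).hom
  let δS : ∀ i : ℕ, (torI (I ⊓ J) E).homology (i : ℤ) →ₗ[R]
      (torI (I ⊔ J) E).homology ((i + 1 : ℕ) : ℤ) :=
    fun i => (hS.δ (i : ℤ) _ (hij i)).hom
  -- compatibilities
  have hα : ∀ (i : ℕ) (x : (torI (I ⊔ J) E).homology (i : ℤ)),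
      mvA I J M i (Φ0 i x) = Θ i (Hf i x) := by
    intro i x
    have h1 : (HomologicalComplex.homologyMap (fstCx (torI I E) (torI J E)) (i : ℤ)).hom (Hf i x) =
        (HomologicalComplex.homologyMap (torIIncl (le_sup_left : I ≤ I ⊔ J) E) (i : ℤ)).hom x := by
      have := congrArg (fun g : torI (I ⊔ J) E ⟶ torI I E =>
          (HomologicalComplex.homologyMap g (i : ℤ)).hom x)
        (liftCx_fst (torIIncl (le_sup_left : I ≤ I ⊔ J) E) (torIIncl (le_sup_right : J ≤ I ⊔ J) E))
      simp only [HomologicalComplex.homologyMap_comp] at this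
      exact this
    have h2 : (HomologicalComplex.homologyMap (sndCx (torI I E) (torI J E)) (i : ℤ)).hom (Hf i x) =
        (HomologicalComplex.homologyMap (torIIncl (le_sup_right : J ≤ I ⊔ J) E) (i : ℤ)).hom x := by
      have := congrArg (fun g : torI (I ⊔ J) E ⟶ torI J E =>
          (HomologicalComplex.homologyMap g (i : ℤ)).hom x)
        (liftCx_snd (torIIncl (le_sup_left : I ≤ I ⊔ J) E) (torIIncl (le_sup_right : J ≤ I ⊔ J) E))
      simp only [HomologicalComplex.homologyMap_comp] at this
      exact this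
    refine Prod.ext ?_ ?_
    · show ((Dual2.HmapOfLE (le_sup_left : I ≤ I ⊔ J) i).app M).hom (Phi (I ⊔ J) Res i x) =
        Phi I Res i ((HomologicalComplex.homologyMap (fstCx (torI I E) (torI J E)) (i : ℤ)).hom
          (Hf i x))
      rw [h1, Phi_natural_le]
    · show ((Dual2.HmapOfLE (le_sup_right : J ≤ I ⊔ J) i).app M).hom (Phi (I ⊔ J) Res i x) =
        Phi J Res i ((HomologicalComplex.homologyMap (sndCx (torI I E) (torI J E)) (i : ℤ)).hom
          (Hf i x))
      rw [h2, Phi_natural_le]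
  have hβ : ∀ (i : ℕ) (p : (prodCx (torI I E) (torI J E)).homology (i : ℤ)),
      mvB I J M i (Θ i p) = Φ3 i (Hg i p) := by
    intro i p
    have h1 : Hg i p =
        (HomologicalComplex.homologyMap (torIIncl (inf_le_left : I ⊓ J ≤ I) E) (i : ℤ)).hom
          ((HomologicalComplex.homologyMap (fstCx (torI I E) (torI J E)) (i : ℤ)).hom p) -
        (HomologicalComplex.homologyMap (torIIncl (inf_le_right : I ⊓ J ≤ J) E) (i : ℤ)).hom
          ((HomologicalComplex.homologyMap (sndCx (torI I E) (torI J E)) (i : ℤ)).hom p) := by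
      show (HomologicalComplex.homologyMap ((fstCx (torI I E) (torI J E) ≫
          torIIncl (inf_le_left : I ⊓ J ≤ I) E -
        sndCx (torI I E) (torI J E) ≫ torIIncl (inf_le_right : I ⊓ J ≤ J) E :
          prodCx (torI I E) (torI J E) ⟶ torI (I ⊓ J) E)) (i : ℤ)).hom p = _
      rw [HomologicalComplex.homologyMap_sub, HomologicalComplex.homologyMap_comp,
        HomologicalComplex.homologyMap_comp]
      rfl
    rw [h1, map_sub]
    show ((Dual2.HmapOfLE (inf_le_left : I ⊓ J ≤ I) i).app M).hom (Phi I Res i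
        ((HomologicalComplex.homologyMap (fstCx (torI I E) (torI J E)) (i : ℤ)).hom p)) -
      ((Dual2.HmapOfLE (inf_le_right : I ⊓ J ≤ J) i).app M).hom (Phi J Res i
        ((HomologicalComplex.homologyMap (sndCx (torI I E) (torI J E)) (i : ℤ)).hom p)) = _
    rw [← Phi_natural_le, ← Phi_natural_le]
  -- exactness of the homology sequence
  have ex1 : ∀ i : ℕ, LinearMap.range (δS i) = LinearMap.ker (Hf (i + 1)) := by
    intro i
    have := hS.homology_exact₁ (i : ℤ) _ (hij i)
    rw [ShortComplex.moduleCat_exact_iff_range_eq_ker] at this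
    exact this
  have ex2 : ∀ i : ℕ, LinearMap.range (Hf i) = LinearMap.ker (Hg i) := by
    intro i
    have := hS.homology_exact₂ (i : ℤ)
    rw [ShortComplex.moduleCat_exact_iff_range_eq_ker] at this
    exact this
  have ex3 : ∀ i : ℕ, LinearMap.range (Hg i) = LinearMap.ker (δS i) := by
    intro i
    have := hS.homology_exact₃ (i : ℤ) _ (hij i)
    rw [ShortComplex.moduleCat_exact_iff_range_eq_ker] at this
    exact this
  refine ⟨fun i => (Φ0 (i + 1)).toLinearMap ∘ₗ δS i ∘ₗ (Φ3 i).symm.toLinearMap, ?_, ?_, ?_⟩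
  · intro i
    ext x
    obtain ⟨x', rfl⟩ := (Φ0 (i + 1)).surjective x
    rw [LinearMap.mem_ker, hα]
    constructor
    · intro h
      have h' : Hf (i + 1) x' = 0 := (Θ (i + 1)).injective (h.trans (map_zero _).symm)
      have : x' ∈ LinearMap.range (δS i) := by
        rw [ex1]
        exact h'
      obtain ⟨y', rfl⟩ := this
      refine ⟨Φ3 i y', ?_⟩
      show Φ0 (i + 1) (δS i ((Φ3 i).symm (Φ3 i y'))) = _
      rw [LinearEquiv.symm_apply_apply]
    · rintro ⟨y, hy⟩
      have hy' : Φ0 (i + 1) (δS i ((Φ3 i).symm y)) = Φ0 (i + 1) x' := hy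
      have hx' := (Φ0 (i + 1)).injective hy'
      have : x' ∈ LinearMap.ker (Hf (i + 1)) := by
        rw [← ex1]
        exact ⟨_, hx'⟩
      rw [LinearMap.mem_ker] at this
      rw [this, map_zero]
  · intro i
    ext q
    obtain ⟨p, rfl⟩ := (Θ i).surjective q
    rw [LinearMap.mem_ker, hβ]
    constructor
    · intro h
      have h' : Hg i p = 0 := (Φ3 i).injective (h.trans (map_zero _).symm)
      have : p ∈ LinearMap.range (Hf i) := by
        rw [ex2]
        exact h'
      obtain ⟨x', rfl⟩ := this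
      exact ⟨Φ0 i x', hα i x'⟩
    · rintro ⟨x, hx⟩
      obtain ⟨x', rfl⟩ := (Φ0 i).surjective x
      rw [hα] at hx
      have hp := (Θ i).injective hx
      have : p ∈ LinearMap.ker (Hg i) := by
        rw [← ex2]
        exact ⟨_, hp⟩
      rw [LinearMap.mem_ker] at this
      rw [this, map_zero]
  · intro i
    ext y
    obtain ⟨y', rfl⟩ := (Φ3 i).surjective y
    rw [LinearMap.mem_ker]
    show Φ0 (i + 1) (δS i ((Φ3 i).symm (Φ3 i y'))) = 0 ↔ _
    rw [LinearEquiv.symm_apply_apply]
    constructor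
    · intro h
      have h' : δS i y' = 0 := (Φ0 (i + 1)).injective (h.trans (map_zero _).symm)
      have : y' ∈ LinearMap.range (Hg i) := by
        rw [ex3]
        exact h'
      obtain ⟨p, rfl⟩ := this
      exact ⟨Θ i p, hβ i p⟩
    · rintro ⟨q, hq⟩
      obtain ⟨p, rfl⟩ := (Θ i).surjective q
      rw [hβ] at hq
      have hp := (Φ3 i).injective hq
      have : y' ∈ LinearMap.ker (δS i) := by
        rw [← ex3]
        exact ⟨_, hp⟩
      rw [LinearMap.mem_ker] at this
      rw [this, map_zero]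

end main

end Groth.Agent.Lib.helper11.LCMV
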