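import Mathlib

/-!
# `Ext^i(M, N)` is finitely generated for finite `M`, `N` over a noetherian ring (helper11)
-/

set_option autoImplicit false

namespace Groth.Agent.Lib.helper11.ExtFinite

open CategoryTheory Abelian

universe u

variable {R : Type u} [CommRing R] [IsNoetherianRing R]

/-- precomposition with a fixed class, linear in the second variable. -/
noncomputable def compLin {X Y Z : ModuleCat.{u} R} {a b c : ℕ} (α : Ext X Y a) (h : a + b = c) :
    Ext Y Z b →ₗ[R] Ext X Z c where
  toFun β := α.comp β h
  map_add' β β' := Ext.comp_add _ _ _ _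
  map_smul' r β := by
    simp only [RingHom.id_apply]
    exact Ext.comp_smul _ _ _ _

theorem ext_finite (N : ModuleCat.{u} R) [Module.Finite R N] (i : ℕ) :
    ∀ (M : Type u) [AddCommGroup M] [Module R M] [Module.Finite R M],
      Module.Finite R (Ext (ModuleCat.of R M) N i) := by
  induction i with
  | zero =>
    intro M _ _ _
    let e : Ext (ModuleCat.of R M) N 0 ≃ₗ[R] (M →ₗ[R] N) :=
      (Ext.linearEquiv₀ (R := R)).trans ModuleCat.homLinearEquiv
    exact Module.Finite.equiv e.symm
  | succ i ih =>
    intro M _ _ _
    obtain ⟨n, f, hf⟩ := Module.Finite.exists_fin' R M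
    let S := f.shortComplexKer
    have hS : S.ShortExact := LinearMap.shortExact_shortComplexKer hf
    haveI : Projective S.X₂ := by
      show Projective (ModuleCat.of R (Fin n → R))
      exact ModuleCat.projective_of_free (Pi.basisFun R (Fin n))
    haveI : Module.Finite R (LinearMap.ker f) := inferInstance
    haveI := ih (LinearMap.ker f)
    have hsurj : Function.Surjective
        (compLin (Z := N) (b := i) hS.extClass (c := i + 1) (by omega)) := by
      intro α
      have h0 : (Ext.mk₀ S.g).comp α (zero_add (i + 1)) = 0 := Ext.eq_zero_of_projective _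
      obtain ⟨β, hβ⟩ := Ext.contravariant_sequence_exact₃ hS N α h0 (n₀ := i) (by omega)
      exact ⟨β, hβ⟩
    exact Module.Finite.of_surjective _ hsurj

end Groth.Agent.Lib.helper11.ExtFinite
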