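import Mathlib
import Groth.Agent.Lib.helper11.GorHull
import Groth.Agent.Lib.helper11.LocalDualityCM
import Groth.Agent.S0302
import Groth.Agent.S0341

/-!
# Local duality over a Gorenstein local ring (helper11)
-/

set_option autoImplicit false

namespace Groth.Agent.Lib.helper11.GorDual

open CategoryTheory Opposite IsLocalRing
open Groth.Agent.Lib.Helper26.Matlis

universe u

variable {S : Type u} [CommRing S] [hS : LocCoh.IsGorensteinLocalRing S]

/-- `Ext^i_S(M, N)` in functor form. -/
abbrev E (S : Type u) [CommRing S] (i : ℕ) (M N : Type u) [AddCommGroup M] [Module S M]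
    [AddCommGroup N] [Module S N] : Type u :=
  ((_root_.Ext S (ModuleCat.{u} S) i).obj (op (ModuleCat.of S M))).obj (ModuleCat.of S N)

theorem depth_eq (d : ℕ) (hd : ringKrullDim S = d) : LocCoh.depth S S = d := by
  haveI := Groth.Agent.S0341.result S
  exact Groth.Agent.Lib.helper11.LocalDuality.depth_eq_of_CM S d hd

/-- Local duality over a Gorenstein local ring, for an arbitrary injective hull of `k`. -/
theorem nonempty_dual_equiv (d : ℕ) (hd : ringKrullDim S = d)
    {H : Type u} [AddCommGroup H] [Module S H] {f : ResidueField S →ₗ[S] H}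
    (hf : InjHull.IsInjectiveHull f)
    (M : Type u) [AddCommGroup M] [Module S M] [Module.Finite S M] (i : ℕ) (hi : i ≤ d) :
    Nonempty (LocCoh.H (maximalIdeal S) (d - i) M ≃ₗ[S] (E S i M S →ₗ[S] H)) := by
  obtain ⟨g, hg⟩ := Groth.Agent.Lib.helper11.GorHull.exists_hull
    hS.exists_hasInjectiveDimensionLT d hd
  obtain ⟨e, -⟩ := Groth.Agent.S0302.result S (ResidueField S) H
    (LocCoh.H (maximalIdeal S) d S) f hf g hg
  haveI := hf.isInjective
  let eK : (S →ₗ[S] H) ≃ₗ[S] LocCoh.H (maximalIdeal S) d S :=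
    (LinearMap.ringLmapEquivSelf S S H).trans e
  exact Groth.Agent.Lib.helper11.LocalDuality.nonempty_equiv_of_depth d hd (depth_eq d hd) H S eK
    M i hi

theorem subsingleton_dual_iff {H : Type u} [AddCommGroup H] [Module S H]
    {f : ResidueField S →ₗ[S] H} (hf : InjHull.IsInjectiveHull f)
    (N : Type u) [AddCommGroup N] [Module S N] :
    Subsingleton (N →ₗ[S] H) ↔ Subsingleton N := by
  constructor
  · intro h
    by_contra hN
    rw [not_subsingleton_iff_nontrivial] at hN
    obtain ⟨x, hx⟩ := exists_ne (0 : N)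
    obtain ⟨φ, hφ⟩ := exists_linearMap_apply_ne_zero hf (M := N) hx
    apply hφ
    rw [Subsingleton.elim φ 0, LinearMap.zero_apply]
  · intro h
    infer_instance

/-- Vanishing of `H^j_m(M)` is vanishing of `Ext^{d-j}(M, S)`. -/
theorem subsingleton_H_iff (d : ℕ) (hd : ringKrullDim S = d)
    (M : Type u) [AddCommGroup M] [Module S M] [Module.Finite S M] (j : ℕ) (hj : j ≤ d) :
    Subsingleton (LocCoh.H (maximalIdeal S) j M) ↔ Subsingleton (E S (d - j) M S) := by
  obtain ⟨g, hg⟩ := Groth.Agent.Lib.helper11.GorHull.exists_hull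
    hS.exists_hasInjectiveDimensionLT d hd
  obtain ⟨e⟩ := nonempty_dual_equiv d hd hg M (d - j) (Nat.sub_le d j)
  have hdj : d - (d - j) = j := by omega
  rw [hdj] at e
  rw [e.subsingleton_congr]
  exact subsingleton_dual_iff hg _

theorem subsingleton_H_of_gt (d : ℕ) (hd : ringKrullDim S = d)
    (M : Type u) [AddCommGroup M] [Module S M] (j : ℕ) (hj : d < j) :
    Subsingleton (LocCoh.H (maximalIdeal S) j M) :=
  Groth.Agent.S0325.result S (maximalIdeal S) d hd.le (ModuleCat.of S M) j hj

end Groth.Agent.Lib.helper11.GorDual
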