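import Mathlib
import Groth.Agent.Lib.helper11.GorDual
import Groth.Agent.Lib.helper11.BassDepth
import Groth.Agent.S0345
import Groth.Agent.S5762

/-!
# Local duality over a Gorenstein local ring: localisation at a prime (helper11)
-/

set_option autoImplicit false

namespace Groth.Agent.Lib.helper11.GorDual

open CategoryTheory Opposite IsLocalRing TensorProduct
open Groth.Agent.Lib.helper11.ExtBridge

universe u

section Abelian

variable {S : Type u} [CommRing S] [hS : LocCoh.IsGorensteinLocalRing S]

/-- Vanishing criterion in terms of `Abelian.Ext`. -/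
theorem subsingleton_H_iff' (d : ℕ) (hd : ringKrullDim S = d)
    (M : Type u) [AddCommGroup M] [Module S M] [Module.Finite S M] (j : ℕ) (hj : j ≤ d) :
    Subsingleton (LocCoh.H (maximalIdeal S) j M) ↔
      Subsingleton (Abelian.Ext (ModuleCat.of S M) (ModuleCat.of S S) (d - j)) := by
  rw [subsingleton_H_iff d hd M j hj]
  exact (extBridge (ModuleCat.of S M) (ModuleCat.of S S) (d - j)).subsingleton_congr

end Abelian

section ExtLoc

variable {A : Type u} [CommRing A] [IsNoetherianRing A]

/-- `Ext^i_{A_P}(M_P, A_P) = 0` iff `P ∉ Supp Ext^i_A(M, A)`. -/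
theorem subsingleton_ext_atPrime_iff (P : Ideal A) [hP : P.IsPrime]
    (M : Type u) [AddCommGroup M] [Module A M] [Module.Finite A M] (i : ℕ) :
    Subsingleton (Abelian.Ext (ModuleCat.of (Localization.AtPrime P)
        (LocalizedModule P.primeCompl M))
      (ModuleCat.of (Localization.AtPrime P) (Localization.AtPrime P)) i) ↔
    (⟨P, hP⟩ : PrimeSpectrum A) ∉
      Module.support A (Abelian.Ext (ModuleCat.of A M) (ModuleCat.of A A) i) := by
  obtain ⟨e⟩ := ExtBC.ext_baseChange A (Localization.AtPrime P) A i M
  let φ₁ : LocalizedModule P.primeCompl M ≃ₗ[Localization.AtPrime P]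
      (Localization.AtPrime P) ⊗[A] M :=
    LocalizedModule.equivTensorProduct P.primeCompl M
  let ψ₁ : Localization.AtPrime P ≃ₗ[Localization.AtPrime P]
      (Localization.AtPrime P) ⊗[A] A :=
    (TensorProduct.AlgebraTensorModule.rid A (Localization.AtPrime P)
      (Localization.AtPrime P)).symm
  rw [BassDepth.subsingleton_ext_iff_of_iso φ₁.toModuleIso ψ₁.toModuleIso,
    Module.notMem_support_iff, ← e.subsingleton_congr]
  exact (LocalizedModule.equivTensorProduct P.primeCompl _).symm.subsingleton_congr

end ExtLoc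

section Loc

variable {S : Type u} [CommRing S] [hS : LocCoh.IsGorensteinLocalRing S]

theorem isGorensteinLocalRing_atPrime (P : Ideal S) [P.IsPrime] :
    LocCoh.IsGorensteinLocalRing (Localization.AtPrime P) :=
  ((Groth.Agent.S0345.result S).mp hS.exists_hasInjectiveDimensionLT).1.isGorensteinLocalRing_localization P

/-- `dim S_P = dim S - dim S/P` in a Gorenstein (CM) local ring. -/
theorem ringKrullDim_atPrime (d : ℕ) (hd : ringKrullDim S = d) (P : Ideal S) [hP : P.IsPrime]
    (e : ℕ) (he : ringKrullDim (S ⧸ P) = e) :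
    e ≤ d ∧ ringKrullDim (Localization.AtPrime P) = ((d - e : ℕ) : WithBot ℕ∞) := by
  haveI hCM := Groth.Agent.S0341.result S
  have hCM' : LocCoh.IsCohenMacaulayModule S S := hCM.supportDim_eq_depth
  have hp : (⟨P, hP⟩ : PrimeSpectrum S) ∈ Module.support S S := by
    rw [Module.support_eq_zeroLocus, Module.annihilator_eq_bot.mpr inferInstance]
    simp
  have h := Groth.Agent.S5762.result S S hCM' ⟨P, hP⟩ hp
  have h1 : Module.supportDim S S = d := by rw [Module.supportDim_self_eq_ringKrullDim, hd]
  have h2 : Module.supportDim S (S ⧸ (P • (⊤ : Submodule S S))) = e := by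
    have hPP : P • (⊤ : Submodule S S) = P := by rw [smul_eq_mul, Ideal.mul_top]
    rw [Module.supportDim_eq_of_equiv (Submodule.quotEquivOfEq _ _ hPP),
      Module.supportDim_quotient_eq_ringKrullDim, he]
  have h3 : Module.supportDim (Localization.AtPrime P) (LocalizedModule P.primeCompl S) =
      ringKrullDim (Localization.AtPrime P) := by
    have e1 : LocalizedModule P.primeCompl S ≃ₗ[Localization.AtPrime P] Localization.AtPrime P :=
      (LocalizedModule.equivTensorProduct P.primeCompl S).trans
        (TensorProduct.AlgebraTensorModule.rid S (Localization.AtPrime P)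
          (Localization.AtPrime P))
    rw [Module.supportDim_eq_of_equiv e1, Module.supportDim_self_eq_ringKrullDim]
  rw [h1, h2, h3] at h
  have hfin : ringKrullDim (Localization.AtPrime P) = (P.height : WithBot ℕ∞) :=
    IsLocalization.AtPrime.ringKrullDim_eq_height P (Localization.AtPrime P)
  obtain ⟨k, hk⟩ := ENat.ne_top_iff_exists.mp (Ideal.height_ne_top hP.ne_top)
  rw [hfin, ← hk] at h ⊢
  have h' : (d : WithBot ℕ∞) = ((e + k : ℕ) : WithBot ℕ∞) := by
    rw [h]; push_cast; rfl
  have h'' : d = e + k := by exact_mod_cast h'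
  subst h''
  refine ⟨Nat.le_add_right e k, ?_⟩
  rw [Nat.add_sub_cancel_left]
  rfl

/-- **Localised duality**: `H^j_{PS_P}(M_P) = 0` iff `P ∉ Supp Ext^{d-(j+e)}_S(M,S)`,
`e = dim S/P`. -/
theorem subsingleton_H_atPrime_iff (d : ℕ) (hd : ringKrullDim S = d) (P : Ideal S)
    [hP : P.IsPrime] (e : ℕ) (he : ringKrullDim (S ⧸ P) = e)
    (M : Type u) [AddCommGroup M] [Module S M] [Module.Finite S M] (j : ℕ) (hj : j + e ≤ d) :
    Subsingleton (LocCoh.H (maximalIdeal (Localization.AtPrime P)) j
      (LocalizedModule P.primeCompl M)) ↔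
    (⟨P, hP⟩ : PrimeSpectrum S) ∉
      Module.support S (Abelian.Ext (ModuleCat.of S M) (ModuleCat.of S S) (d - (j + e))) := by
  haveI := isGorensteinLocalRing_atPrime P
  obtain ⟨hed, hdim⟩ := ringKrullDim_atPrime d hd P e he
  rw [subsingleton_H_iff' (d - e) hdim (LocalizedModule P.primeCompl M) j (by omega),
    subsingleton_ext_atPrime_iff P M]
  have : d - e - j = d - (j + e) := by omega
  rw [this]

theorem subsingleton_H_atPrime_of_gt (d : ℕ) (hd : ringKrullDim S = d) (P : Ideal S)
    [hP : P.IsPrime] (e : ℕ) (he : ringKrullDim (S ⧸ P) = e)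
    (M : Type u) [AddCommGroup M] [Module S M] (j : ℕ) (hj : d < j + e) :
    Subsingleton (LocCoh.H (maximalIdeal (Localization.AtPrime P)) j
      (LocalizedModule P.primeCompl M)) := by
  haveI := isGorensteinLocalRing_atPrime P
  obtain ⟨hed, hdim⟩ := ringKrullDim_atPrime d hd P e he
  exact subsingleton_H_of_gt (d - e) hdim _ j (by omega)

end Loc

end Groth.Agent.Lib.helper11.GorDual
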