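import Mathlib
import Groth.Agent.Lib.Helper2.LCBaseRes

/-!
# Transfer of local cohomology along a surjection of rings (helper11)
-/

set_option autoImplicit false

namespace Groth.Agent.Lib.helper11.LCTransfer

open CategoryTheory IsLocalRing

universe u

variable {S R : Type u} [CommRing S] [CommRing R] [Algebra S R]

/-- `S/g⁻¹(p) ≅ R/p`. -/
theorem ringKrullDim_quotient_comap (hsurj : Function.Surjective (algebraMap S R))
    (p : Ideal R) :
    ringKrullDim (S ⧸ p.comap (algebraMap S R)) = ringKrullDim (R ⧸ p) := by
  have hinj : Function.Injective (Ideal.quotientMap p (algebraMap S R) le_rfl) :=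
    Ideal.quotientMap_injective
  have hs : Function.Surjective (Ideal.quotientMap p (algebraMap S R) le_rfl) :=
    Ideal.quotientMap_surjective hsurj
  exact ringKrullDim_eq_of_ringEquiv (RingEquiv.ofBijective _ ⟨hinj, hs⟩)

section Local

variable [IsNoetherianRing S] [IsNoetherianRing R]

/-- local cohomology at the maximal ideal does not depend on the base, for a surjection of
local rings. -/
theorem H_maximalIdeal_equiv [IsLocalRing S] [IsLocalRing R]
    (hsurj : Function.Surjective (algebraMap S R))
    (M : Type u) [AddCommGroup M] [Module R M] [Module S M] [IsScalarTower S R M] (i : ℕ) :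
    ∃ φ : LocCoh.H (maximalIdeal R) i M ≃+ LocCoh.H (maximalIdeal S) i M,
      ∀ (s : S) (x : LocCoh.H (maximalIdeal R) i M), φ (algebraMap S R s • x) = s • φ x := by
  have hmap : (maximalIdeal S).map (algebraMap S R) = maximalIdeal R :=
    IsLocalRing.map_maximalIdeal_of_surjective _ hsurj
  rw [← hmap]
  exact Groth.Agent.Lib.Helper2.LCBaseRes.H_res_equiv' (R := S) (R' := R) (maximalIdeal S) M i

end Local

section AtPrime

variable [IsNoetherianRing S] [IsNoetherianRing R]

/-- Vanishing of `H^j_{pR_p}(M_p)` can be tested over `S_P`, `P = g⁻¹(p)`. -/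
theorem subsingleton_H_atPrime_iff (hsurj : Function.Surjective (algebraMap S R))
    (M : Type u) [AddCommGroup M] [Module R M] [Module S M] [IsScalarTower S R M]
    (p : Ideal R) [hp : p.IsPrime] (j : ℕ) :
    Subsingleton (LocCoh.H (maximalIdeal (Localization.AtPrime p)) j
      (LocalizedModule p.primeCompl M)) ↔
    Subsingleton (LocCoh.H (maximalIdeal (Localization.AtPrime (p.comap (algebraMap S R)))) j
      (LocalizedModule (p.comap (algebraMap S R)).primeCompl M)) := by
  set P : Ideal S := p.comap (algebraMap S R) with hPdef
  let φ : Localization.AtPrime P →+* Localization.AtPrime p :=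
    Localization.localRingHom P p (algebraMap S R) rfl
  have hφ : Function.Surjective φ :=
    RingHom.surjective_localRingHom_of_surjective (algebraMap S R) hsurj p
  letI algAB : Algebra (Localization.AtPrime P) (Localization.AtPrime p) := φ.toAlgebra
  letI modAN : Module (Localization.AtPrime P) (LocalizedModule p.primeCompl M) :=
    Module.compHom (LocalizedModule p.primeCompl M) φ
  haveI towABN : IsScalarTower (Localization.AtPrime P) (Localization.AtPrime p)
      (LocalizedModule p.primeCompl M) :=
    IsScalarTower.of_algebraMap_smul (fun a n => by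
      change φ a • n = φ a • n
      rfl)
  haveI towSAN : IsScalarTower S (Localization.AtPrime P) (LocalizedModule p.primeCompl M) := by
    refine IsScalarTower.of_algebraMap_smul (fun s n => ?_)
    change φ (algebraMap S (Localization.AtPrime P) s) • n = s • n
    rw [Localization.localRingHom_to_map, algebraMap_smul, algebraMap_smul]
  -- the localisation map over `S`
  have hsub : Algebra.algebraMapSubmonoid R P.primeCompl = p.primeCompl := by
    change Submonoid.map (algebraMap S R) (Submonoid.comap (algebraMap S R) p.primeCompl) = _
    exact Submonoid.map_comap_eq_of_surjective hsurj p.primeCompl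
  haveI hloc : IsLocalizedModule (Algebra.algebraMapSubmonoid R P.primeCompl)
      (LocalizedModule.mkLinearMap p.primeCompl M) := by
    rw [hsub]; infer_instance
  haveI hloc' : IsLocalizedModule P.primeCompl
      ((LocalizedModule.mkLinearMap p.primeCompl M).restrictScalars S) :=
    IsLocalizedModule.restrictScalars P.primeCompl (LocalizedModule.mkLinearMap p.primeCompl M)
  let e₀ : LocalizedModule P.primeCompl M ≃ₗ[S] LocalizedModule p.primeCompl M :=
    IsLocalizedModule.iso P.primeCompl
      ((LocalizedModule.mkLinearMap p.primeCompl M).restrictScalars S)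
  let e₁ : LocalizedModule P.primeCompl M ≃ₗ[Localization.AtPrime P]
      LocalizedModule p.primeCompl M :=
    LinearEquiv.extendScalarsOfIsLocalization P.primeCompl (Localization.AtPrime P) e₀
  have hmap : (maximalIdeal (Localization.AtPrime P)).map
      (algebraMap (Localization.AtPrime P) (Localization.AtPrime p)) =
      maximalIdeal (Localization.AtPrime p) :=
    IsLocalRing.map_maximalIdeal_of_surjective φ hφ
  obtain ⟨ψ, -⟩ := Groth.Agent.Lib.Helper2.LCBaseRes.H_res_equiv'
    (R := Localization.AtPrime P) (R' := Localization.AtPrime p)
    (maximalIdeal (Localization.AtPrime P)) (LocalizedModule p.primeCompl M) j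
  rw [hmap] at ψ
  rw [ψ.subsingleton_congr]
  exact (((localCohomology (maximalIdeal (Localization.AtPrime P)) j).mapIso
    e₁.toModuleIso).toLinearEquiv.subsingleton_congr).symm

end AtPrime

end Groth.Agent.Lib.helper11.LCTransfer
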