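import Mathlib
import Groth.Agent.Lib.helper11.GorDualLoc
import Groth.Agent.Lib.helper11.LCTransfer
import Groth.Agent.Lib.helper11.ExtRep
import Groth.Agent.Lib.helper11.ExtFinite
import Groth.Agent.Lib.helper11.GorensteinLocal
import Groth.Agent.S11681

/-!
# Duality for quotients of a Gorenstein local ring (helper11)
-/

set_option autoImplicit false

namespace Groth.Agent.Lib.helper11.GorDual

open CategoryTheory Opposite IsLocalRing
open Groth.Agent.Lib.helper11.ExtBridge Groth.Agent.Lib.helper11.ExtRep

universe u

section Ann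

variable {S : Type u} [CommRing S]

/-- an element killing `M` kills `Ext^n(M, G)`. -/
theorem smul_ext_eq_zero (M : Type u) [AddCommGroup M] [Module S M] (G : ModuleCat.{u} S)
    (n : ℕ) (a : S) (ha : ∀ m : M, a • m = 0) (x : Abelian.Ext (ModuleCat.of S M) G n) :
    a • x = 0 := by
  have h1 : a • 𝟙 (ModuleCat.of S M) = 0 := by
    refine ModuleCat.hom_ext (LinearMap.ext fun s => ?_)
    exact ha s
  have h2 := pre_smul G n a (𝟙 (ModuleCat.of S M)) x
  rw [h1, pre_zero, pre_id] at h2
  exact h2.symm

end Ann

section Local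

variable {S R : Type u} [CommRing S] [hS : LocCoh.IsGorensteinLocalRing S] [CommRing R]
  [IsNoetherianRing R] [IsLocalRing R] [Algebra S R]

theorem finite_of_surjective' (hsurj : Function.Surjective (algebraMap S R))
    (M : Type u) [AddCommGroup M] [Module R M] [Module S M] [IsScalarTower S R M]
    [Module.Finite R M] : Module.Finite S M := by
  haveI : Module.Finite S R := Module.Finite.of_surjective (Algebra.linearMap S R) hsurj
  exact Module.Finite.trans R M

/-- bridge, in range. -/
theorem subsingleton_H_quot_local_iff (hsurj : Function.Surjective (algebraMap S R))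
    (d : ℕ) (hd : ringKrullDim S = d)
    (M : Type u) [AddCommGroup M] [Module R M] [Module S M] [IsScalarTower S R M]
    [Module.Finite R M] (p : Ideal R) [hp : p.IsPrime] (e : ℕ)
    (he : ringKrullDim (R ⧸ p) = e) (j : ℕ) (hj : j + e ≤ d) :
    Subsingleton (LocCoh.H (maximalIdeal (Localization.AtPrime p)) j
      (LocalizedModule p.primeCompl M)) ↔
    (⟨p.comap (algebraMap S R), Ideal.comap_isPrime _ _⟩ : PrimeSpectrum S) ∉
      Module.support S (Abelian.Ext (ModuleCat.of S M) (ModuleCat.of S S) (d - (j + e))) := by
  haveI := finite_of_surjective' hsurj M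
  have he' : ringKrullDim (S ⧸ p.comap (algebraMap S R)) = e := by
    rw [LCTransfer.ringKrullDim_quotient_comap hsurj p, he]
  rw [LCTransfer.subsingleton_H_atPrime_iff hsurj M p j,
    subsingleton_H_atPrime_iff d hd (p.comap (algebraMap S R)) e he' M j hj]

/-- bridge, out of range. -/
theorem subsingleton_H_quot_local_of_gt (hsurj : Function.Surjective (algebraMap S R))
    (d : ℕ) (hd : ringKrullDim S = d)
    (M : Type u) [AddCommGroup M] [Module R M] [Module S M] [IsScalarTower S R M]
    (p : Ideal R) [hp : p.IsPrime] (e : ℕ)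
    (he : ringKrullDim (R ⧸ p) = e) (j : ℕ) (hj : d < j + e) :
    Subsingleton (LocCoh.H (maximalIdeal (Localization.AtPrime p)) j
      (LocalizedModule p.primeCompl M)) := by
  have he' : ringKrullDim (S ⧸ p.comap (algebraMap S R)) = e := by
    rw [LCTransfer.ringKrullDim_quotient_comap hsurj p, he]
  rw [LCTransfer.subsingleton_H_atPrime_iff hsurj M p j]
  exact subsingleton_H_atPrime_of_gt d hd (p.comap (algebraMap S R)) e he' M j hj

end Local

section Vanish

variable {S : Type u} [CommRing S] [hS : LocCoh.IsGorensteinLocalRing S]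

/-- `Ext^k_S(M,S)` is not supported at `P` when `k > ht P = d - dim S/P`. -/
theorem notMem_support_ext_of_lt (d : ℕ) (hd : ringKrullDim S = d) (P : Ideal S)
    [hP : P.IsPrime] (e : ℕ) (he : ringKrullDim (S ⧸ P) = e)
    (M : Type u) [AddCommGroup M] [Module S M] [Module.Finite S M] (k : ℕ) (hk : d - e < k) :
    (⟨P, hP⟩ : PrimeSpectrum S) ∉
      Module.support S (Abelian.Ext (ModuleCat.of S M) (ModuleCat.of S S) k) := by
  haveI := isGorensteinLocalRing_atPrime P
  obtain ⟨hed, hdim⟩ := ringKrullDim_atPrime d hd P e he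
  rw [← subsingleton_ext_atPrime_iff P M k]
  have hG := (Groth.Agent.Lib.helper11.GorensteinLocal.gorenstein_main
    (A := Localization.AtPrime P)
    (LocCoh.IsGorensteinLocalRing.exists_hasInjectiveDimensionLT) (d - e) hdim).1
  exact HasInjectiveDimensionLT.subsingleton _ (d - e + 1) k (by omega) _

end Vanish

end Groth.Agent.Lib.helper11.GorDual
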