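import Mathlib
import Groth.Agent.Lib.helper11.GorDualQuot

/-!
# Annihilators of local cohomology over quotients of Gorenstein local rings (helper11)
-/

set_option autoImplicit false

namespace Groth.Agent.Lib.helper11.GorDual

open CategoryTheory Opposite IsLocalRing
open Groth.Agent.Lib.helper11.ExtBridge

universe u

theorem exists_dim (R : Type u) [CommRing R] [IsLocalRing R] [IsNoetherianRing R] :
    ∃ d : ℕ, ringKrullDim R = d := by
  have h1 : ringKrullDim R ≤ (maximalIdeal R).spanFinrank :=
    ringKrullDim_le_spanFinrank_maximalIdeal R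
  have h2 : (0 : WithBot ℕ∞) ≤ ringKrullDim R := ringKrullDim_nonneg_of_nontrivial
  generalize ringKrullDim R = z at h1 h2
  induction z with
  | bot => simp at h2
  | coe z =>
    induction z with
    | top =>
      exfalso
      have : ((⊤ : ℕ∞) : WithBot ℕ∞) ≤ (((maximalIdeal R).spanFinrank : ℕ∞) : WithBot ℕ∞) := h1
      rw [WithBot.coe_le_coe] at this
      simp at this
    | coe n => exact ⟨n, rfl⟩

theorem exists_dim_quotient {S : Type u} [CommRing S] (d : ℕ) (hd : ringKrullDim S = d)
    (P : Ideal S) [hP : P.IsPrime] : ∃ e : ℕ, e ≤ d ∧ ringKrullDim (S ⧸ P) = e := by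
  have h1 : ringKrullDim (S ⧸ P) ≤ d := hd ▸ ringKrullDim_quotient_le P
  have h2 : (0 : WithBot ℕ∞) ≤ ringKrullDim (S ⧸ P) := ringKrullDim_nonneg_of_nontrivial
  generalize ringKrullDim (S ⧸ P) = z at h1 h2
  induction z with
  | bot => simp at h2
  | coe z =>
    induction z with
    | top =>
      exfalso
      have : ((⊤ : ℕ∞) : WithBot ℕ∞) ≤ ((d : ℕ∞) : WithBot ℕ∞) := h1
      rw [WithBot.coe_le_coe] at this
      simp at this
    | coe n =>
      refine ⟨n, ?_, rfl⟩
      have : ((n : ℕ∞) : WithBot ℕ∞) ≤ ((d : ℕ∞) : WithBot ℕ∞) := h1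
      exact_mod_cast this

section Ann

variable {S R : Type u} [CommRing S] [hS : LocCoh.IsGorensteinLocalRing S] [CommRing R]
  [IsNoetherianRing R] [IsLocalRing R] [Algebra S R]

/-- annihilators of `H^i_m(M)` and of `Ext^{d-i}_S(M,S)` correspond. -/
theorem mem_annihilator_H_iff (hsurj : Function.Surjective (algebraMap S R))
    (d : ℕ) (hd : ringKrullDim S = d)
    (M : Type u) [AddCommGroup M] [Module R M] [Module S M] [IsScalarTower S R M]
    [Module.Finite R M] (i : ℕ) (hi : i ≤ d) (a : S) :
    algebraMap S R a ∈ Module.annihilator R (LocCoh.H (maximalIdeal R) i M) ↔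
      a ∈ Module.annihilator S
        (Abelian.Ext (ModuleCat.of S M) (ModuleCat.of S S) (d - i)) := by
  haveI := finite_of_surjective' hsurj M
  obtain ⟨φ, hφ⟩ := LCTransfer.H_maximalIdeal_equiv hsurj M i
  obtain ⟨g, hg⟩ := Groth.Agent.Lib.helper11.GorHull.exists_hull
    hS.exists_hasInjectiveDimensionLT d hd
  obtain ⟨θ⟩ := nonempty_dual_equiv d hd hg M (d - i) (Nat.sub_le d i)
  have hdi : d - (d - i) = i := by omega
  rw [hdi] at θ
  have h1 := θ.annihilator_eq
  have h2 := ((Groth.Agent.S11681.result S _ g hg).1 (E S (d - i) M S)).2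
  have h3 := (extBridge (ModuleCat.of S M) (ModuleCat.of S S) (d - i)).annihilator_eq
  rw [← h3, h2, ← h1, Module.mem_annihilator, Module.mem_annihilator]
  constructor
  · intro h y
    obtain ⟨x, rfl⟩ := φ.surjective y
    rw [← hφ, h x, map_zero]
  · intro h x
    apply φ.injective
    rw [hφ, h (φ x), map_zero]

/-- `J ⊆ rad Ann H^i_m(M)` in terms of the support of `Ext^{d-i}_S(M,S)`. -/
theorem le_radical_annihilator_iff (hsurj : Function.Surjective (algebraMap S R))
    (d : ℕ) (hd : ringKrullDim S = d)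
    (M : Type u) [AddCommGroup M] [Module R M] [Module S M] [IsScalarTower S R M]
    [Module.Finite R M] (i : ℕ) (hi : i ≤ d) (J : Ideal R) :
    J ≤ (Module.annihilator R (LocCoh.H (maximalIdeal R) i M)).radical ↔
      ∀ P : PrimeSpectrum S,
        P ∈ Module.support S (Abelian.Ext (ModuleCat.of S M) (ModuleCat.of S S) (d - i)) →
        J.comap (algebraMap S R) ≤ P.asIdeal := by
  haveI := finite_of_surjective' hsurj M
  haveI : Module.Finite S (ModuleCat.of S S) := inferInstanceAs (Module.Finite S S)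
  haveI : Module.Finite S (Abelian.Ext (ModuleCat.of S M) (ModuleCat.of S S) (d - i)) :=
    Groth.Agent.Lib.helper11.ExtFinite.ext_finite (ModuleCat.of S S) (d - i) M
  have key : J ≤ (Module.annihilator R (LocCoh.H (maximalIdeal R) i M)).radical ↔
      J.comap (algebraMap S R) ≤ (Module.annihilator S
        (Abelian.Ext (ModuleCat.of S M) (ModuleCat.of S S) (d - i))).radical := by
    constructor
    · intro h a ha
      obtain ⟨n, hn⟩ := h (Ideal.mem_comap.mp ha)
      refine ⟨n, ?_⟩
      rw [← mem_annihilator_H_iff hsurj d hd M i hi, map_pow]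
      exact hn
    · intro h x hx
      obtain ⟨a, rfl⟩ := hsurj x
      obtain ⟨n, hn⟩ := h (Ideal.mem_comap.mpr hx)
      refine ⟨n, ?_⟩
      rw [← map_pow, mem_annihilator_H_iff hsurj d hd M i hi]
      exact hn
  rw [key, Ideal.radical_eq_sInf, le_sInf_iff]
  constructor
  · intro h P hP
    exact h P.asIdeal ⟨(Module.mem_support_iff_of_finite.mp hP), P.isPrime⟩
  · intro h P hP
    exact h ⟨P, hP.2⟩ (Module.mem_support_iff_of_finite.mpr hP.1)

end Ann

end Groth.Agent.Lib.helper11.GorDual
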