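import Mathlib
import Groth.Agent.Lib.helper11.GorDualLoc
import Groth.Agent.Lib.helper11.LCTransfer
import Groth.Agent.S0342

/-!
# Localised duality for quotients of Gorenstein rings (helper11)
-/

set_option autoImplicit false

namespace Groth.Agent.Lib.helper11.GorDual

open CategoryTheory Opposite IsLocalRing

universe u

section Global

variable {R A : Type u} [CommRing R] [hR : LocCoh.IsGorensteinRing R] [CommRing A]
  [IsNoetherianRing A] [Algebra R A]

theorem finite_of_surjective (hsurj : Function.Surjective (algebraMap R A))
    (M : Type u) [AddCommGroup M] [Module A M] [Module R M] [IsScalarTower R A M]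
    [Module.Finite A M] : Module.Finite R M := by
  haveI : Module.Finite R A := Module.Finite.of_surjective (Algebra.linearMap R A) hsurj
  exact Module.Finite.trans A M

/-- `H^j_{pA_p}(M_p) = 0` iff `P ∉ Supp Ext_R^{ht P - j}(M, R)`, `P = π⁻¹(p)`. -/
theorem subsingleton_H_quot_iff (hsurj : Function.Surjective (algebraMap R A))
    (M : Type u) [AddCommGroup M] [Module A M] [Module R M] [IsScalarTower R A M]
    [Module.Finite A M] (p : Ideal A) [hp : p.IsPrime] (h : ℕ)
    (hh : (p.comap (algebraMap R A)).height = h) (j : ℕ) (hj : j ≤ h) :
    Subsingleton (LocCoh.H (maximalIdeal (Localization.AtPrime p)) j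
      (LocalizedModule p.primeCompl M)) ↔
    (⟨p.comap (algebraMap R A), Ideal.comap_isPrime _ _⟩ : PrimeSpectrum R) ∉
      Module.support R (Abelian.Ext (ModuleCat.of R M) (ModuleCat.of R R) (h - j)) := by
  haveI := finite_of_surjective hsurj M
  haveI := hR.isGorensteinLocalRing_localization (p.comap (algebraMap R A))
  have hdim : ringKrullDim (Localization.AtPrime (p.comap (algebraMap R A))) = (h : WithBot ℕ∞) := by
    rw [IsLocalization.AtPrime.ringKrullDim_eq_height (p.comap (algebraMap R A)), hh]
    rfl
  rw [LCTransfer.subsingleton_H_atPrime_iff hsurj M p j,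
    subsingleton_H_iff' h hdim _ j hj, subsingleton_ext_atPrime_iff]

theorem subsingleton_H_quot_of_gt (hsurj : Function.Surjective (algebraMap R A))
    (M : Type u) [AddCommGroup M] [Module A M] [Module R M] [IsScalarTower R A M]
    (p : Ideal A) [hp : p.IsPrime] (h : ℕ)
    (hh : (p.comap (algebraMap R A)).height = h) (j : ℕ) (hj : h < j) :
    Subsingleton (LocCoh.H (maximalIdeal (Localization.AtPrime p)) j
      (LocalizedModule p.primeCompl M)) := by
  haveI := hR.isGorensteinLocalRing_localization (p.comap (algebraMap R A))
  have hdim : ringKrullDim (Localization.AtPrime (p.comap (algebraMap R A))) = (h : WithBot ℕ∞) := by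
    rw [IsLocalization.AtPrime.ringKrullDim_eq_height (p.comap (algebraMap R A)), hh]
    rfl
  rw [LCTransfer.subsingleton_H_atPrime_iff hsurj M p j]
  exact subsingleton_H_of_gt h hdim _ j hj

/-- Nonvanishing of local cohomology propagates to specialisations with the expected shift. -/
theorem subsingleton_H_of_specialization (hsurj : Function.Surjective (algebraMap R A))
    (M : Type u) [AddCommGroup M] [Module A M] [Module R M] [IsScalarTower R A M]
    [Module.Finite A M] (p q : Ideal A) [hp : p.IsPrime] [hq : q.IsPrime] (hpq : p ≤ q)
    (h k : ℕ) (hh : (p.comap (algebraMap R A)).height = h)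
    (hk : (q.comap (algebraMap R A)).height = h + k) (j : ℕ)
    (hvan : Subsingleton (LocCoh.H (maximalIdeal (Localization.AtPrime q)) (j + k)
      (LocalizedModule q.primeCompl M))) :
    Subsingleton (LocCoh.H (maximalIdeal (Localization.AtPrime p)) j
      (LocalizedModule p.primeCompl M)) := by
  rcases Nat.lt_or_ge h j with hj | hj
  · exact subsingleton_H_quot_of_gt hsurj M p h hh j hj
  · rw [subsingleton_H_quot_iff hsurj M p h hh j hj]
    have hk' : (q.comap (algebraMap R A)).height = ((h + k : ℕ) : ℕ∞) := by
      rw [hk]; push_cast; rfl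
    rw [subsingleton_H_quot_iff hsurj M q (h + k) hk' (j + k) (by omega)] at hvan
    have hsub : h + k - (j + k) = h - j := by omega
    rw [hsub] at hvan
    intro hmem
    exact hvan (Module.mem_support_mono (Ideal.comap_mono hpq) hmem)

end Global

theorem isGorensteinRing_of_isRegularRing (R : Type u) [CommRing R] [IsRegularRing R] :
    LocCoh.IsGorensteinRing R where
  isGorensteinLocalRing_localization p _ :=
    Groth.Agent.S0342.result (Localization.AtPrime p)

end Groth.Agent.Lib.helper11.GorDual
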