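import Mathlib
import Groth.Agent.Lib.helper11.GorDualLoc
import Groth.Agent.Lib.helper11.GorDualAnn
import Groth.Agent.Lib.helper11.GorDualGlobal
import Groth.Agent.Lib.helper11.LCNonVanish
import Groth.Agent.Lib.helper11.GorensteinLocal
import Groth.Agent.Lib.helper11.ExtFinite
import Groth.Agent.S0318
import Groth.Agent.Lib.Helper21.DepthKit12
import Groth.Agent.Lib.Helper2.R0S1

/-!
# Openness of the Cohen–Macaulay locus over a Gorenstein ring of finite dimension (helper11)
-/

set_option autoImplicit false

namespace Groth.Agent.Lib.helper11.CMLocus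

open CategoryTheory Abelian IsLocalRing
open Groth.Agent.Lib.Helper21.DepthKit

universe u

section Local

variable {A : Type u} [CommRing A] [hA : LocCoh.IsGorensteinLocalRing A]
  (N : Type u) [AddCommGroup N] [Module A N] [Module.Finite A N] [Nontrivial N]

/-- Over a Gorenstein local ring, a nonzero finite module is Cohen–Macaulay iff exactly one
`Ext^i(N, A)` is nonzero. -/
theorem isCM_iff_ext :
    LocCoh.IsCohenMacaulayModule A N ↔
      ∀ i i' : ℕ, ¬ Subsingleton (Ext (ModuleCat.of A N) (ModuleCat.of A A) i) →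
        ¬ Subsingleton (Ext (ModuleCat.of A N) (ModuleCat.of A A) i') → i = i' := by
  obtain ⟨d, hd⟩ := GorDual.exists_dim A
  obtain ⟨t, ht⟩ := exists_nat_depth (A := A) (M := N)
  obtain ⟨s, hs⟩ := exists_nat_supportDim (A := A) (M := N)
  have hIM : maximalIdeal A • (⊤ : Submodule A N) ≠ ⊤ := maximalIdeal_smul_top_ne_top
  have hH := (Groth.Agent.S0318.result A (maximalIdeal A) N hIM t).mp ht
  have hHs := LCKit.nontrivial_of_supportDim_eq s N hs
  have hts : t ≤ s := by
    have h1 := depth_le_supportDim (A := A) (M := N)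
    rw [ht, hs] at h1
    exact_mod_cast h1
  have hsd : s ≤ d := by
    have h1 := Module.supportDim_le_ringKrullDim A N
    rw [hs, hd] at h1
    exact_mod_cast h1
  have hinj := (GorensteinLocal.gorenstein_main hA.exists_hasInjectiveDimensionLT d hd).1
  have key : ∀ i, ¬ Subsingleton (Ext (ModuleCat.of A N) (ModuleCat.of A A) i) →
      i ≤ d ∧ t ≤ d - i ∧ d - i ≤ s := by
    intro i hi
    have hid : i ≤ d := by
      by_contra hcon
      push_neg at hcon
      exact hi (HasInjectiveDimensionLT.subsingleton (ModuleCat.of A A) (d + 1) i (by omega) _)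
    have hHne : ¬ Subsingleton (LocCoh.H (maximalIdeal A) (d - i) N) := by
      rw [GorDual.subsingleton_H_iff' d hd N (d - i) (Nat.sub_le _ _), Nat.sub_sub_self hid]
      exact hi
    refine ⟨hid, ?_, ?_⟩
    · by_contra hcon
      push_neg at hcon
      exact hHne (hH.1 _ hcon)
    · by_contra hcon
      push_neg at hcon
      exact hHne (LCKit.subsingleton_of_supportDim_lt (maximalIdeal A) (d - i) N
        (by rw [hs]; exact_mod_cast hcon))
  have hEt : ¬ Subsingleton (Ext (ModuleCat.of A N) (ModuleCat.of A A) (d - t)) := by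
    rw [← GorDual.subsingleton_H_iff' d hd N t (by omega)]
    exact not_subsingleton_iff_nontrivial.2 hH.2
  have hEs : ¬ Subsingleton (Ext (ModuleCat.of A N) (ModuleCat.of A A) (d - s)) := by
    rw [← GorDual.subsingleton_H_iff' d hd N s hsd]
    exact not_subsingleton_iff_nontrivial.2 hHs
  unfold LocCoh.IsCohenMacaulayModule
  rw [hs, ht]
  constructor
  · intro h
    have hts' : s = t := by exact_mod_cast h
    intro i i' hi hi'
    obtain ⟨h1, h2, h3⟩ := key i hi
    obtain ⟨h1', h2', h3'⟩ := key i' hi'
    omega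
  · intro h
    have h1 := h (d - t) (d - s) hEt hEs
    have h2 : t = s := by omega
    rw [h2]
    rfl

end Local

section Global

variable (P : Type u) [CommRing P] [hP : LocCoh.IsGorensteinRing P]
  (M : Type u) [AddCommGroup M] [Module P M] [Module.Finite P M]

/-- the support of `Ext^i(M, P)`. -/
def Z (i : ℕ) : Set (PrimeSpectrum P) :=
  Module.support P (Ext (ModuleCat.of P M) (ModuleCat.of P P) i)

theorem isClosed_Z (i : ℕ) : IsClosed (Z P M i) := by
  haveI : Module.Finite P (Ext (ModuleCat.of P M) (ModuleCat.of P P) i) :=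
    ExtFinite.ext_finite (ModuleCat.of P P) i M
  unfold Z
  rw [Module.support_eq_zeroLocus]
  exact PrimeSpectrum.isClosed_zeroLocus _

theorem mem_Z_iff (Q : PrimeSpectrum P) (i : ℕ) :
    Q ∈ Z P M i ↔ ¬ Subsingleton (Ext (ModuleCat.of (Localization.AtPrime Q.asIdeal)
        (LocalizedModule Q.asIdeal.primeCompl M))
      (ModuleCat.of (Localization.AtPrime Q.asIdeal) (Localization.AtPrime Q.asIdeal)) i) := by
  rw [GorDual.subsingleton_ext_atPrime_iff Q.asIdeal M i, not_not]
  rfl

theorem notMem_Z_of_lt (n : ℕ) (hn : ringKrullDim P ≤ n) (Q : PrimeSpectrum P) (i : ℕ)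
    (hi : n < i) : Q ∉ Z P M i := by
  rw [mem_Z_iff P M, not_not]
  haveI := hP.isGorensteinLocalRing_localization Q.asIdeal
  obtain ⟨d, hd⟩ := GorDual.exists_dim (Localization.AtPrime Q.asIdeal)
  have hdn : d ≤ n := by
    have h1 : ringKrullDim (Localization.AtPrime Q.asIdeal) ≤ ringKrullDim P := by
      rw [IsLocalization.AtPrime.ringKrullDim_eq_height Q.asIdeal]
      exact Ideal.height_le_ringKrullDim_of_ne_top Q.2.ne_top
    rw [hd] at h1
    exact_mod_cast h1.trans hn
  have hinj := (GorensteinLocal.gorenstein_main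
    (LocCoh.IsGorensteinLocalRing.exists_hasInjectiveDimensionLT
      (A := Localization.AtPrime Q.asIdeal)) d hd).1
  exact HasInjectiveDimensionLT.subsingleton _ (d + 1) i (by omega) _

theorem isCM_localization_iff (Q : PrimeSpectrum P)
    [Nontrivial (LocalizedModule Q.asIdeal.primeCompl M)] :
    LocCoh.IsCohenMacaulayModule (Localization.AtPrime Q.asIdeal)
        (LocalizedModule Q.asIdeal.primeCompl M) ↔
      ∀ i i' : ℕ, Q ∈ Z P M i → Q ∈ Z P M i' → i = i' := by
  haveI := hP.isGorensteinLocalRing_localization Q.asIdeal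
  rw [isCM_iff_ext]
  simp only [mem_Z_iff P M]

/-- the non-Cohen–Macaulay locus. -/
def bad : Set (PrimeSpectrum P) := {Q | ∃ i i' : ℕ, i ≠ i' ∧ Q ∈ Z P M i ∧ Q ∈ Z P M i'}

theorem isClosed_bad (n : ℕ) (hn : ringKrullDim P ≤ n) : IsClosed (bad P M) := by
  have h : bad P M = ⋃ x ∈ ((Finset.range (n + 1) ×ˢ Finset.range (n + 1)).filter
      (fun x : ℕ × ℕ => x.1 ≠ x.2)), (Z P M x.1 ∩ Z P M x.2) := by
    ext Q
    simp only [bad, Set.mem_setOf_eq, Set.mem_iUnion, Finset.mem_filter, Finset.mem_product,
      Finset.mem_range, Set.mem_inter_iff, exists_prop, Prod.exists]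
    constructor
    · rintro ⟨i, i', hne, h1, h2⟩
      refine ⟨i, i', ⟨⟨?_, ?_⟩, hne⟩, h1, h2⟩
      · by_contra hcon
        exact notMem_Z_of_lt P M n hn Q i (by omega) h1
      · by_contra hcon
        exact notMem_Z_of_lt P M n hn Q i' (by omega) h2
    · rintro ⟨i, i', ⟨-, hne⟩, h1, h2⟩
      exact ⟨i, i', hne, h1, h2⟩
  rw [h]
  exact isClosed_biUnion_finset (fun x _ => (isClosed_Z P M x.1).inter (isClosed_Z P M x.2))

theorem isCM_localization_iff_notMem_bad (Q : PrimeSpectrum P)
    [Nontrivial (LocalizedModule Q.asIdeal.primeCompl M)] :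
    LocCoh.IsCohenMacaulayModule (Localization.AtPrime Q.asIdeal)
        (LocalizedModule Q.asIdeal.primeCompl M) ↔ Q ∉ bad P M := by
  rw [isCM_localization_iff P M]
  unfold bad
  rw [Set.mem_setOf_eq]
  constructor
  · rintro h ⟨i, i', hne, h1, h2⟩
    exact hne (h i i' h1 h2)
  · intro h i i' h1 h2
    by_contra hne
    exact h ⟨i, i', hne, h1, h2⟩

end Global

section FiniteType

open Groth.Agent.Lib.Helper2.R0S1

variable (k S : Type u) [Field k] [CommRing S] [Algebra k S] [Algebra.FiniteType k S]

omit [Algebra.FiniteType k S] in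
theorem isCMLocalRing_iff_module [IsNoetherianRing S] (q : Ideal S) [q.IsPrime] :
    LocCoh.IsCohenMacaulayLocalRing (Localization.AtPrime q) ↔
      LocCoh.IsCohenMacaulayModule (Localization.AtPrime q) (LocalizedModule q.primeCompl S) := by
  unfold LocCoh.IsCohenMacaulayModule
  rw [depth_congr (locEquiv q), Module.supportDim_eq_of_equiv (locEquiv q)]
  exact ⟨fun h => h.supportDim_eq_depth, fun h => ⟨h⟩⟩

include k in
/-- **The Cohen–Macaulay locus of a finite type algebra over a field is open.** -/
theorem isOpen_CM_locus :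
    IsOpen {q : PrimeSpectrum S |
      LocCoh.IsCohenMacaulayLocalRing (Localization.AtPrime q.asIdeal)} := by
  obtain ⟨n, f, hf⟩ := Algebra.FiniteType.iff_quotient_mvPolynomial''.mp
    (inferInstance : Algebra.FiniteType k S)
  haveI : IsNoetherianRing S := Algebra.FiniteType.isNoetherianRing k S
  letI : Algebra (MvPolynomial (Fin n) k) S := f.toRingHom.toAlgebra
  have hs : Function.Surjective (algebraMap (MvPolynomial (Fin n) k) S) := hf
  haveI : Module.Finite (MvPolynomial (Fin n) k) S :=
    Module.Finite.of_surjective (Algebra.linearMap _ S) hs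
  haveI : LocCoh.IsGorensteinRing (MvPolynomial (Fin n) k) :=
    GorDual.isGorensteinRing_of_isRegularRing _
  have hdim : ringKrullDim (MvPolynomial (Fin n) k) ≤ n := by
    rw [MvPolynomial.ringKrullDim_of_isNoetherianRing, ringKrullDim_eq_zero_of_field]
    simp
  have hclosed := isClosed_bad (MvPolynomial (Fin n) k) S n hdim
  have hset : {q : PrimeSpectrum S |
      LocCoh.IsCohenMacaulayLocalRing (Localization.AtPrime q.asIdeal)} =
      (PrimeSpectrum.comap (algebraMap (MvPolynomial (Fin n) k) S)) ⁻¹'
        (bad (MvPolynomial (Fin n) k) S)ᶜ := by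
    ext q
    rw [Set.mem_setOf_eq, Set.mem_preimage, Set.mem_compl_iff]
    haveI := q.2
    obtain ⟨e, -⟩ := exists_semilinear_localization (N := S) hs q.asIdeal
    haveI : Nontrivial (LocalizedModule q.asIdeal.primeCompl S) :=
      (locEquiv q.asIdeal).toEquiv.nontrivial
    haveI hnt : Nontrivial (LocalizedModule
        (q.asIdeal.comap (algebraMap (MvPolynomial (Fin n) k) S)).primeCompl S) :=
      e.toEquiv.nontrivial
    haveI : Nontrivial (LocalizedModule
        (PrimeSpectrum.comap (algebraMap (MvPolynomial (Fin n) k) S) q).asIdeal.primeCompl S) :=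
      hnt
    rw [← isCM_localization_iff_notMem_bad (MvPolynomial (Fin n) k) S
      (PrimeSpectrum.comap (algebraMap (MvPolynomial (Fin n) k) S) q),
      isCMLocalRing_iff_module S q.asIdeal]
    unfold LocCoh.IsCohenMacaulayModule
    rw [← depth_localization_of_surjective (N := S) hs q.asIdeal,
      ← supportDim_localization_of_surjective (N := S) hs q.asIdeal]
    rfl
  rw [hset]
  exact hclosed.isOpen_compl.preimage (PrimeSpectrum.continuous_comap _)

end FiniteType

end Groth.Agent.Lib.helper11.CMLocus
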