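import Mathlib
import Groth.Prelude.Def_GrLC
import Groth.Agent.Lib.Helper20.GrFin3
import Groth.Agent.Lib.helper11.SG1

/-!
# Serre–Grothendieck formula, II: Euler characteristic on graded pieces
-/

set_option autoImplicit false
set_option linter.unusedSectionVars false
set_option linter.unusedVariables false
set_option linter.style.haveILetI false

namespace Groth.Agent.Lib.helper11.SG2

open DirectSum Groth.Agent.Lib.Helper26.GrProj Groth.Agent.Lib.Helper20.GrKit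
  Groth.Agent.Lib.Helper20.GrLES Groth.Agent.Lib.Helper20.GrArt
  Groth.Agent.Lib.helper11.SG1

universe u

section Pieces

variable {S : Type u} [CommRing S]
  {A B C : ℕ → Type u} [∀ i, AddCommGroup (A i)] [∀ i, Module S (A i)]
  [∀ i, AddCommGroup (B i)] [∀ i, Module S (B i)] [∀ i, AddCommGroup (C i)] [∀ i, Module S (C i)]
  (PA : ∀ i, Submodule S (A i)) (PB : ∀ i, Submodule S (B i)) (PC : ∀ i, Submodule S (C i))
  (f : ∀ i, A i →ₗ[S] B i) (g : ∀ i, B i →ₗ[S] C i) (h : ∀ i, C i →ₗ[S] A (i + 1))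

/-- Euler characteristic on pieces, elementwise hypotheses -/
theorem euler_pieces (hA : ∀ i, IsFiniteLength S (PA i)) (hB : ∀ i, IsFiniteLength S (PB i))
    (hC : ∀ i, IsFiniteLength S (PC i))
    (hf : ∀ i, ∀ z ∈ PA i, f i z ∈ PB i) (hg : ∀ i, ∀ z ∈ PB i, g i z ∈ PC i)
    (hh : ∀ i, ∀ z ∈ PC i, h i z ∈ PA (i + 1))
    (hf0 : ∀ z ∈ PA 0, f 0 z = 0 → z = 0)
    (hgf : ∀ i, ∀ z ∈ PA i, g i (f i z) = 0)
    (hfg : ∀ i, ∀ y ∈ PB i, g i y = 0 → ∃ z ∈ PA i, f i z = y)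
    (hhg : ∀ i, ∀ y ∈ PB i, h i (g i y) = 0)
    (hgh : ∀ i, ∀ w ∈ PC i, h i w = 0 → ∃ y ∈ PB i, g i y = w)
    (hfh : ∀ i, ∀ w ∈ PC i, f (i + 1) (h i w) = 0)
    (hhf : ∀ i, ∀ z ∈ PA (i + 1), f (i + 1) z = 0 → ∃ w ∈ PC i, h i w = z)
    (D : ℕ) (hD : PA (D + 1) = ⊥) :
    ∑ i ∈ Finset.range (D + 1), (-1 : ℚ) ^ i * L S (PB i) =
      ∑ i ∈ Finset.range (D + 1), (-1 : ℚ) ^ i * L S (PA i) +
        ∑ i ∈ Finset.range (D + 1), (-1 : ℚ) ^ i * L S (PC i) := by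
  refine euler (S := S) (A := fun i => PA i) (B := fun i => PB i) (C := fun i => PC i)
    (fun i => (f i).restrict (hf i)) (fun i => (g i).restrict (hg i))
    (fun i => (h i).restrict (hh i)) hA hB hC ?_ ?_ ?_ ?_ D ?_
  · rw [← LinearMap.ker_eq_bot, LinearMap.ker_eq_bot']
    intro z hz
    apply Subtype.ext
    exact hf0 z z.2 (congrArg Subtype.val hz)
  · intro i
    ext y
    constructor
    · rintro ⟨z, rfl⟩
      apply Subtype.ext
      exact hgf i z z.2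
    · intro hy
      obtain ⟨z, hz, e⟩ := hfg i y y.2 (congrArg Subtype.val (LinearMap.mem_ker.1 hy))
      exact ⟨⟨z, hz⟩, Subtype.ext e⟩
  · intro i
    ext y
    constructor
    · rintro ⟨z, rfl⟩
      apply Subtype.ext
      exact hhg i z z.2
    · intro hy
      obtain ⟨z, hz, e⟩ := hgh i y y.2 (congrArg Subtype.val (LinearMap.mem_ker.1 hy))
      exact ⟨⟨z, hz⟩, Subtype.ext e⟩
  · intro i
    ext y
    constructor
    · rintro ⟨z, rfl⟩
      apply Subtype.ext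
      exact hfh i z z.2
    · intro hy
      obtain ⟨z, hz, e⟩ := hhf i y y.2 (congrArg Subtype.val (LinearMap.mem_ker.1 hy))
      exact ⟨⟨z, hz⟩, Subtype.ext e⟩
  · change Subsingleton (PA (D + 1))
    rw [hD]
    infer_instance

end Pieces

variable {R : Type u} [CommRing R] [IsNoetherianRing R] (𝒜 : ℤ → AddSubgroup R) [GradedRing 𝒜]
  [IsArtinianRing (GrLC.deg0 𝒜)]
  (a : HomogeneousIdeal 𝒜)
  (ha : a.toIdeal = Ideal.span (⋃ n ∈ Set.Ioi (0 : ℤ), (𝒜 n : Set R)))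

section Defs

variable {M : Type u} [AddCommGroup M] [Module R M] (ℳ : ℤ → AddSubgroup M)
  [DirectSum.Decomposition ℳ] [SetLike.GradedSMul 𝒜 ℳ]

/-- Hilbert function, as a rational number -/
noncomputable def hilb (n : ℤ) : ℚ := L (GrLC.deg0 𝒜) (GrLC.comp 𝒜 ℳ n)

variable {ℳ}

/-- alternating sum of the lengths of the pieces of graded local cohomology -/
noncomputable def chi (E : GrLC.StarInjRes 𝒜 ℳ) (D : ℕ) (n : ℤ) : ℚ :=
  ∑ i ∈ Finset.range (D + 1), (-1 : ℚ) ^ i * L (GrLC.deg0 𝒜) (E.Hcomp a i n)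

theorem isFiniteLength_of_finite (X : Type u) [AddCommGroup X] [Module (GrLC.deg0 𝒜) X]
    [Module.Finite (GrLC.deg0 𝒜) X] : IsFiniteLength (GrLC.deg0 𝒜) X :=
  ((IsArtinianRing.tfae (R := GrLC.deg0 𝒜) (M := X)).out 0 3).1 ‹Module.Finite (GrLC.deg0 𝒜) X›

variable (ℳ) in
theorem isFiniteLength_comp [Module.Finite R M] (n : ℤ) :
    IsFiniteLength (GrLC.deg0 𝒜) (GrLC.comp 𝒜 ℳ n) := by
  haveI : IsNoetherian R M := isNoetherian_of_isNoetherianRing_of_finite R M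
  haveI := isNoetherian_comp 𝒜 ℳ n
  exact isFiniteLength_of_finite 𝒜 _

include ha in
theorem isFiniteLength_Hcomp [Module.Finite R M] (E : GrLC.StarInjRes 𝒜 ℳ) (i : ℕ) (n : ℤ) :
    IsFiniteLength (GrLC.deg0 𝒜) (E.Hcomp a i n) := by
  haveI := Groth.Agent.Lib.Helper20.GrFin.s13226 𝒜 a ha ℳ E i n
  exact isFiniteLength_of_finite 𝒜 _

end Defs

end Groth.Agent.Lib.helper11.SG2
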