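import Mathlib
import Groth.Prelude.Def_GrLC
import Groth.Agent.Lib.Helper20.GrFin3
import Groth.Agent.Lib.Helper20.GrDeg3
import Groth.Agent.Lib.helper11.SG2

/-!
# Serre–Grothendieck formula, III: additivity of `χ` and of the Hilbert function
-/

set_option autoImplicit false
set_option linter.unusedSectionVars false
set_option linter.unusedVariables false
set_option linter.style.haveILetI false

namespace Groth.Agent.Lib.helper11.SG3

open DirectSum Groth.Agent.Lib.Helper26.GrProj Groth.Agent.Lib.Helper20.GrKit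
  Groth.Agent.Lib.Helper20.GrLES Groth.Agent.Lib.Helper20.GrArt
  Groth.Agent.Lib.helper11.SG1 Groth.Agent.Lib.helper11.SG2
  Groth.Agent.Lib.Helper20.GrDeg

universe u

variable {R : Type u} [CommRing R] [IsNoetherianRing R] (𝒜 : ℤ → AddSubgroup R) [GradedRing 𝒜]
  [IsArtinianRing (GrLC.deg0 𝒜)]
  (a : HomogeneousIdeal 𝒜)
  (ha : a.toIdeal = Ideal.span (⋃ n ∈ Set.Ioi (0 : ℤ), (𝒜 n : Set R)))

section Add

variable {M' : Type u} [AddCommGroup M'] [Module R M'] {ℳ' : ℤ → AddSubgroup M'}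
  [DirectSum.Decomposition ℳ'] [SetLike.GradedSMul 𝒜 ℳ']
  {M : Type u} [AddCommGroup M] [Module R M] {ℳ : ℤ → AddSubgroup M}
  [DirectSum.Decomposition ℳ] [SetLike.GradedSMul 𝒜 ℳ]
  {M'' : Type u} [AddCommGroup M''] [Module R M''] {ℳ'' : ℤ → AddSubgroup M''}
  [DirectSum.Decomposition ℳ''] [SetLike.GradedSMul 𝒜 ℳ'']

/-- additivity of the Hilbert function -/
theorem hf_add [Module.Finite R M] (f : M' →ₗ[R] M) (π : M →ₗ[R] M'')
    (hfg : GrLC.IsGrHom ℳ' ℳ f) (hπg : GrLC.IsGrHom ℳ ℳ'' π) (hf : Function.Injective f)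
    (hπ : Function.Surjective π) (hex : LinearMap.ker π = LinearMap.range f) (n : ℤ) :
    hilb 𝒜 ℳ n = hilb 𝒜 ℳ' n + hilb 𝒜 ℳ'' n := by
  unfold hilb
  refine L_eq_of_exact (compMap 𝒜 ℳ' ℳ f hfg n) (compMap 𝒜 ℳ ℳ'' π hπg n)
    (compMap_injective 𝒜 ℳ' ℳ f hfg n hf) ?_ ?_ (isFiniteLength_comp 𝒜 ℳ n)
  · intro y
    obtain ⟨x, hx⟩ := hπ (y : M'')
    refine ⟨⟨proj ℳ n x, proj_mem ℳ n x⟩, ?_⟩
    apply Subtype.ext
    rw [compMap_coe]
    change π (proj ℳ n x) = y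
    rw [← proj_hom ℳ ℳ'' π hπg n x, hx]
    exact proj_of_mem_same ℳ'' y.2
  · rw [LinearMap.exact_iff]
    exact compMap_exact 𝒜 ℳ' ℳ ℳ'' f hfg π hπg hex n

include ha in
/-- additivity of `χ` in short exact sequences -/
theorem chi_add [Module.Finite R M'] [Module.Finite R M] [Module.Finite R M'']
    (E' : GrLC.StarInjRes 𝒜 ℳ') (E : GrLC.StarInjRes 𝒜 ℳ) (E'' : GrLC.StarInjRes 𝒜 ℳ'')
    (f : M' →ₗ[R] M) (π : M →ₗ[R] M'')
    (hfg : GrLC.IsGrHom ℳ' ℳ f) (hπg : GrLC.IsGrHom ℳ ℳ'' π) (hf : Function.Injective f)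
    (hπ : Function.Surjective π) (hex : LinearMap.ker π = LinearMap.range f)
    (D : ℕ) (hD : Subsingleton (E'.H a (D + 1))) (n : ℤ) :
    chi 𝒜 a E D n = chi 𝒜 a E' D n + chi 𝒜 a E'' D n := by
  classical
  obtain ⟨δ, hδ, hles⟩ := les E' E E'' f π hfg hπg hf hπ hex a
  obtain ⟨φ, hφ⟩ := exists_lift E' E f hfg
  obtain ⟨ψ, hψ⟩ := exists_lift E E'' π hπg
  obtain ⟨h1, h2, h3, h4⟩ := hles φ ψ hφ hψ
  unfold chi
  refine euler_pieces (S := GrLC.deg0 𝒜) (A := fun i => E'.H a i) (B := fun i => E.H a i)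
    (C := fun i => E''.H a i)
    (fun i => E'.Hcomp a i n) (fun i => E.Hcomp a i n) (fun i => E''.Hcomp a i n)
    (fun i => (φ.Hmap a i).restrictScalars (GrLC.deg0 𝒜))
    (fun i => (ψ.Hmap a i).restrictScalars (GrLC.deg0 𝒜))
    (fun i => (δ i).restrictScalars (GrLC.deg0 𝒜))
    (fun i => isFiniteLength_Hcomp 𝒜 a ha E' i n) (fun i => isFiniteLength_Hcomp 𝒜 a ha E i n)
    (fun i => isFiniteLength_Hcomp 𝒜 a ha E'' i n)
    ?_ ?_ ?_ ?_ ?_ ?_ ?_ ?_ ?_ ?_ D ?_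
  · intro i z hz
    exact φ.Hmap_isGrHom a i n z hz
  · intro i z hz
    exact ψ.Hmap_isGrHom a i n z hz
  · intro i z hz
    exact hδ i n z hz
  · intro z _ hz
    exact h4 (hz.trans (map_zero _).symm)
  · intro i z _
    have : φ.Hmap a i z ∈ LinearMap.ker (ψ.Hmap a i) := by
      rw [h1 i]
      exact ⟨z, rfl⟩
    exact this
  · intro i y hy hy0
    have hyr : y ∈ LinearMap.range (φ.Hmap a i) := by
      rw [← h1 i]
      exact hy0
    exact exists_homogeneous_preimage (E'.Hgr a i) (E.Hgr a i) (Hgr_isInternal E' a i)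
      (Hgr_isInternal E a i) _ (φ.Hmap_isGrHom a i) n y hy hyr
  · intro i y _
    have : ψ.Hmap a i y ∈ LinearMap.ker (δ i) := by
      rw [h2 i]
      exact ⟨y, rfl⟩
    exact this
  · intro i w hw hw0
    have hwr : w ∈ LinearMap.range (ψ.Hmap a i) := by
      rw [← h2 i]
      exact hw0
    exact exists_homogeneous_preimage (E.Hgr a i) (E''.Hgr a i) (Hgr_isInternal E a i)
      (Hgr_isInternal E'' a i) _ (ψ.Hmap_isGrHom a i) n w hw hwr
  · intro i w _
    have : δ i w ∈ LinearMap.ker (φ.Hmap a (i + 1)) := by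
      rw [h3 i]
      exact ⟨w, rfl⟩
    exact this
  · intro i z hz hz0
    have hzr : z ∈ LinearMap.range (δ i) := by
      rw [← h3 i]
      exact hz0
    exact exists_homogeneous_preimage (E''.Hgr a i) (E'.Hgr a (i + 1)) (Hgr_isInternal E'' a i)
      (Hgr_isInternal E' a (i + 1)) _ (hδ i) n z hz hzr
  · rw [Submodule.eq_bot_iff]
    intro w _
    exact Subsingleton.elim _ _

end Add

section Regular

variable {M : Type u} [AddCommGroup M] [Module R M] {ℳ : ℤ → AddSubgroup M}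
  [DirectSum.Decomposition ℳ] [SetLike.GradedSMul 𝒜 ℳ]
  {N : Type u} [AddCommGroup N] [Module R N] {𝒩 : ℤ → AddSubgroup N}
  [DirectSum.Decomposition 𝒩] [SetLike.GradedSMul 𝒜 𝒩]

include ha in
/-- `χ` of the quotient by a homogeneous regular element -/
theorem chi_regular [Module.Finite R M] [Module.Finite R N]
    (E : GrLC.StarInjRes 𝒜 ℳ) (F : GrLC.StarInjRes 𝒜 𝒩) (x : R) (k : ℤ)
    (hx : x ∈ 𝒜 k) (hreg : IsSMulRegular M x) (π : M →ₗ[R] N) (hπ : Function.Surjective π)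
    (hπg : GrLC.IsGrHom ℳ 𝒩 π)
    (hker : LinearMap.ker π = LinearMap.range (x • (LinearMap.id : M →ₗ[R] M)))
    (D : ℕ) (hD : Subsingleton (E.H a (D + 1))) (n : ℤ) :
    chi 𝒜 a E D n = chi 𝒜 a E D (n - k) + chi 𝒜 a F D n := by
  classical
  obtain ⟨β, δ, hβ, hδ, h3, h4, h5, h6, h7, h8, h9, -⟩ :=
    les_regular E F x k hx hreg π hπ hπg hker a
  unfold chi
  refine euler_pieces (S := GrLC.deg0 𝒜) (A := fun i => E.H a i) (B := fun i => E.H a i)
    (C := fun i => F.H a i)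
    (fun i => E.Hcomp a i (n - k)) (fun i => E.Hcomp a i n) (fun i => F.Hcomp a i n)
    (fun i => ((x • (LinearMap.id : E.H a i →ₗ[R] E.H a i))).restrictScalars (GrLC.deg0 𝒜))
    (fun i => (β i).restrictScalars (GrLC.deg0 𝒜))
    (fun i => (δ i).restrictScalars (GrLC.deg0 𝒜))
    (fun i => isFiniteLength_Hcomp 𝒜 a ha E i (n - k)) (fun i => isFiniteLength_Hcomp 𝒜 a ha E i n)
    (fun i => isFiniteLength_Hcomp 𝒜 a ha F i n)
    ?_ ?_ ?_ ?_ ?_ ?_ ?_ ?_ ?_ ?_ D ?_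
  · intro i z hz
    have hz' : z ∈ E.Hgr a i (n - k) := hz
    have := smul_mem_Hgr E a i hx hz'
    rw [add_sub_cancel] at this
    exact this
  · intro i z hz
    exact hβ i n z hz
  · intro i w hw
    exact hδ i n w hw
  · intro z _ hz
    exact h9 z hz
  · intro i z _
    exact h4 i z
  · intro i y hy hy0
    exact h3 i n y hy hy0
  · intro i y _
    exact h6 i y
  · intro i w hw hw0
    exact h5 i n w hw hw0
  · intro i w _
    exact h8 i w
  · intro i z hz hz0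
    obtain ⟨w, hw, e⟩ := h7 i (n - k) z hz hz0
    rw [sub_add_cancel] at hw
    exact ⟨w, hw, e⟩
  · rw [Submodule.eq_bot_iff]
    intro w _
    exact Subsingleton.elim _ _

/-- Hilbert function of the quotient by a homogeneous regular element -/
theorem hf_regular [Module.Finite R M] (x : R) (k : ℤ)
    (hx : x ∈ 𝒜 k) (hreg : IsSMulRegular M x) (π : M →ₗ[R] N) (hπ : Function.Surjective π)
    (hπg : GrLC.IsGrHom ℳ 𝒩 π)
    (hker : LinearMap.ker π = LinearMap.range (x • (LinearMap.id : M →ₗ[R] M))) (n : ℤ) :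
    hilb 𝒜 ℳ n = hilb 𝒜 ℳ (n - k) + hilb 𝒜 𝒩 n := by
  have hfg : GrLC.IsGrHom (shiftGr ℳ k) ℳ (x • (LinearMap.id : M →ₗ[R] M)) := by
    intro g m hm
    have hm' : m ∈ ℳ (g - k) := hm
    have := SetLike.GradedSMul.smul_mem (A := 𝒜) (B := ℳ) hx hm'
    rw [vadd_eq_add, add_sub_cancel] at this
    exact this
  have h := hf_add 𝒜 (ℳ' := shiftGr ℳ k) (ℳ := ℳ) (ℳ'' := 𝒩)
    (x • (LinearMap.id : M →ₗ[R] M)) π hfg hπg hreg hπ hker n
  rw [h]
  rfl

end Regular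

end Groth.Agent.Lib.helper11.SG3
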