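import Mathlib
import Groth.Prelude.Def_GrLC
import Groth.Agent.Lib.Helper20.GrFin3
import Groth.Agent.Lib.helper11.SG3
import Groth.Agent.S0323

/-!
# Serre–Grothendieck formula, IV: the torsion case
-/

set_option autoImplicit false
set_option linter.unusedSectionVars false
set_option linter.unusedVariables false
set_option linter.style.haveILetI false

namespace Groth.Agent.Lib.helper11.SG4

open DirectSum Groth.Agent.Lib.Helper26.GrProj Groth.Agent.Lib.Helper20.GrKit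
  Groth.Agent.Lib.Helper20.GrLES Groth.Agent.Lib.Helper20.GrArt
  Groth.Agent.Lib.helper11.SG1 Groth.Agent.Lib.helper11.SG2 Groth.Agent.Lib.helper11.SG3

universe u

variable {R : Type u} [CommRing R] [IsNoetherianRing R] (𝒜 : ℤ → AddSubgroup R) [GradedRing 𝒜]
  [IsArtinianRing (GrLC.deg0 𝒜)]
  (a : HomogeneousIdeal 𝒜)

variable {T : Type u} [AddCommGroup T] [Module R T] {𝒯 : ℤ → AddSubgroup T}
  [DirectSum.Decomposition 𝒯] [SetLike.GradedSMul 𝒜 𝒯] (E : GrLC.StarInjRes 𝒜 𝒯)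
  (htors : ∀ z : T, ∃ s : ℕ, ∀ r ∈ a.toIdeal ^ s, r • z = 0)

include htors in
theorem subsingleton_H_of_torsion (i : ℕ) (hi : 0 < i) : Subsingleton (E.H a i) := by
  obtain ⟨e⟩ := bridge_starInjRes E a i
  haveI := (Groth.Agent.S0323.result R a.toIdeal T htors).2 i hi
  exact e.toEquiv.subsingleton

include htors in
theorem eps_mem_cocyc (t : T) : E.ε t ∈ E.cocyc a 0 := by
  refine ⟨?_, d_eps E t⟩
  obtain ⟨s, hs⟩ := htors t
  exact ⟨s, fun r hr => by rw [← map_smul, hs r hr, map_zero]⟩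

/-- the map `T → H^0_a(T)` for torsion `T` -/
noncomputable def toH0 : T →ₗ[R] E.H a 0 :=
  (E.toH a 0).comp (E.ε.codRestrict (E.cocyc a 0) (eps_mem_cocyc 𝒜 a E htors))

theorem toH0_injective : Function.Injective (toH0 𝒜 a E htors) := by
  rw [← LinearMap.ker_eq_bot, LinearMap.ker_eq_bot']
  intro t ht
  have h1 : E.toH a 0 (E.ε.codRestrict (E.cocyc a 0) (eps_mem_cocyc 𝒜 a E htors) t) = 0 := ht
  rw [toH_eq_zero_iff, mem_cobdy_zero] at h1
  exact E.ε_injective (h1.trans (map_zero _).symm)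

theorem toH0_mem (n : ℤ) (t : T) (ht : t ∈ 𝒯 n) : toH0 𝒜 a E htors t ∈ E.Hcomp a 0 n :=
  ⟨E.ε.codRestrict (E.cocyc a 0) (eps_mem_cocyc 𝒜 a E htors) t, E.ε_grHom n t ht, rfl⟩

theorem exists_of_mem_Hcomp (n : ℤ) (x : E.H a 0) (hx : x ∈ E.Hcomp a 0 n) :
    ∃ t ∈ 𝒯 n, toH0 𝒜 a E htors t = x := by
  classical
  obtain ⟨z, hz, rfl⟩ := hx
  have hzr : (z : (E.X 0).carrier) ∈ LinearMap.range E.ε := by
    rw [← E.exact_zero]
    exact z.2.2
  obtain ⟨t, ht⟩ := hzr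
  refine ⟨proj 𝒯 n t, proj_mem 𝒯 n t, ?_⟩
  have h1 : E.ε (proj 𝒯 n t) = z := by
    rw [← proj_hom 𝒯 (E.X 0).gr E.ε E.ε_grHom n t, ht]
    exact proj_of_mem_same (E.X 0).gr hz
  change E.toH a 0 _ = E.toH a 0 z
  congr 1
  exact Subtype.ext h1

include htors in
/-- for torsion `T`, the pieces of `H^0_a(T)` have the same length as those of `T` -/
theorem L_Hcomp_zero (n : ℤ) :
    L (GrLC.deg0 𝒜) (E.Hcomp a 0 n) = L (GrLC.deg0 𝒜) (GrLC.comp 𝒜 𝒯 n) := by
  symm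
  let ψ : ↥(GrLC.comp 𝒜 𝒯 n) →ₗ[GrLC.deg0 𝒜] ↥(E.Hcomp a 0 n) :=
    ((toH0 𝒜 a E htors).restrictScalars (GrLC.deg0 𝒜)).restrict
      (fun t ht => toH0_mem 𝒜 a E htors n t ht)
  refine L_congr (LinearEquiv.ofBijective ψ ⟨?_, ?_⟩)
  · intro t t' h
    apply Subtype.ext
    apply toH0_injective 𝒜 a E htors
    exact congrArg Subtype.val h
  · intro x
    obtain ⟨t, ht, e⟩ := exists_of_mem_Hcomp 𝒜 a E htors n x x.2
    exact ⟨⟨t, ht⟩, Subtype.ext e⟩

include htors in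
/-- `χ` of a torsion module is its Hilbert function -/
theorem chi_torsion (D : ℕ) (n : ℤ) : chi 𝒜 a E D n = hilb 𝒜 𝒯 n := by
  unfold chi hilb
  rw [Finset.sum_eq_single 0]
  · rw [pow_zero, one_mul, L_Hcomp_zero 𝒜 a E htors n]
  · intro i _ hi
    haveI := subsingleton_H_of_torsion 𝒜 a E htors i (Nat.pos_of_ne_zero hi)
    haveI : Subsingleton (E.Hcomp a i n) :=
      ⟨fun x y => Subtype.ext (Subsingleton.elim (x : E.H a i) y)⟩
    rw [L_of_subsingleton, mul_zero]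
  · intro h
    exact absurd (Finset.mem_range.2 (Nat.succ_pos D)) h

end Groth.Agent.Lib.helper11.SG4
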