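import Mathlib
import Groth.Prelude.Def_GrLC
import Groth.Agent.Lib.Helper20.GrFin3
import Groth.Agent.Lib.Helper20.GrLES17
import Groth.Agent.Lib.helper11.SG4

/-!
# Serre–Grothendieck formula, V: bounded modules are torsion; polynomial differences
-/

set_option autoImplicit false
set_option linter.unusedSectionVars false
set_option linter.unusedVariables false
set_option linter.style.haveILetI false

namespace Groth.Agent.Lib.helper11.SG5

open DirectSum Groth.Agent.Lib.Helper26.GrProj Groth.Agent.Lib.Helper20.GrKit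
  Groth.Agent.Lib.Helper20.GrLES Groth.Agent.Lib.Helper20.GrArt
  Groth.Agent.Lib.helper11.SG1 Groth.Agent.Lib.helper11.SG2 Groth.Agent.Lib.helper11.SG3

universe u

section Bounded

variable {R : Type u} [CommRing R] (𝒜 : ℤ → AddSubgroup R) [GradedRing 𝒜]
  (hpos : ∀ n : ℤ, n < 0 → 𝒜 n = ⊥) (a : HomogeneousIdeal 𝒜)
  (ha : a.toIdeal = Ideal.span (⋃ n ∈ Set.Ioi (0 : ℤ), (𝒜 n : Set R)))
  {M : Type u} [AddCommGroup M] [Module R M] (ℳ : ℤ → AddSubgroup M)
  [DirectSum.Decomposition ℳ] [SetLike.GradedSMul 𝒜 ℳ]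

include ha in
theorem smul_mem_geSub (r : R) (hr : r ∈ a.toIdeal) (j : ℤ) (m : M)
    (hm : m ∈ geSub 𝒜 hpos ℳ j) : r • m ∈ geSub 𝒜 hpos ℳ (j + 1) := by
  classical
  intro l hl
  have hr' : r = ∑ n ∈ (DirectSum.decompose 𝒜 r).support, proj 𝒜 n r := (sum_proj 𝒜 r).symm
  rw [hr', Finset.sum_smul, proj_sum]
  refine Finset.sum_eq_zero fun n _ => ?_
  rw [proj_smul_of_mem 𝒜 ℳ (proj_mem 𝒜 n r) l m]
  by_cases hn : n < 0
  · have := proj_mem 𝒜 n r
    rw [hpos n hn, AddSubgroup.mem_bot] at this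
    rw [this, zero_smul]
  · by_cases hn0 : n = 0
    · rw [hn0, proj_zero_of_mem_irrelevant 𝒜 a hpos ha r hr, zero_smul]
    · rw [hm (l - n) (by omega), smul_zero]

include ha in
theorem pow_smul_mem_geSub (s : ℕ) : ∀ (r : R), r ∈ a.toIdeal ^ s → ∀ (j : ℤ) (m : M),
    m ∈ geSub 𝒜 hpos ℳ j → r • m ∈ geSub 𝒜 hpos ℳ (j + s) := by
  induction s with
  | zero =>
    intro r _ j m hm
    rw [Nat.cast_zero, add_zero]
    exact (geSub 𝒜 hpos ℳ j).smul_mem r hm
  | succ s ih =>
    intro r hr j m hm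
    rw [pow_succ] at hr
    refine Submodule.mul_induction_on hr ?_ ?_
    · intro p hp q hq
      rw [mul_smul]
      have h1 := smul_mem_geSub 𝒜 hpos a ha ℳ q hq j m hm
      have h2 := ih p hp (j + 1) (q • m) h1
      have e : j + 1 + (s : ℤ) = j + ((s + 1 : ℕ) : ℤ) := by push_cast; ring
      rw [e] at h2
      exact h2
    · intro p q hp hq
      rw [add_smul]
      exact (geSub 𝒜 hpos ℳ _).add_mem hp hq

theorem eq_zero_of_mem_geSub (N : ℤ) (hN : ∀ n : ℤ, N ≤ n → ℳ n = ⊥) (m : M)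
    (hm : m ∈ geSub 𝒜 hpos ℳ N) : m = 0 := by
  classical
  rw [← sum_proj ℳ m]
  refine Finset.sum_eq_zero fun l _ => ?_
  by_cases hl : l < N
  · exact hm l hl
  · have := proj_mem ℳ l m
    rw [hN l (by omega), AddSubgroup.mem_bot] at this
    exact this

include ha hpos in
/-- a finitely generated graded module vanishing in large degrees is `R_+`-torsion -/
theorem torsion_of_bounded [Module.Finite R M] (N : ℤ) (hN : ∀ n : ℤ, N ≤ n → ℳ n = ⊥) (z : M) :
    ∃ s : ℕ, ∀ r ∈ a.toIdeal ^ s, r • z = 0 := by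
  obtain ⟨d₀, hd₀⟩ := exists_bounded_below 𝒜 ℳ hpos
  refine ⟨(N - d₀).toNat, fun r hr => ?_⟩
  have hz : z ∈ geSub 𝒜 hpos ℳ d₀ := by
    intro l hl
    have := proj_mem ℳ l z
    rw [hd₀ l hl, AddSubgroup.mem_bot] at this
    exact this
  have h1 := pow_smul_mem_geSub 𝒜 hpos a ha ℳ _ r hr d₀ z hz
  apply eq_zero_of_mem_geSub 𝒜 hpos ℳ N hN
  intro l hl
  apply h1 l
  have := Int.self_le_toNat (N - d₀)
  omega

end Bounded

section Poly

open Polynomial

/-- the backward difference of a polynomial -/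
noncomputable def diff (P : ℚ[X]) (c : ℚ) : ℚ[X] := P - P.comp (X - C c)

theorem eval_diff (P : ℚ[X]) (c x : ℚ) : (diff P c).eval x = P.eval x - P.eval (x - c) := by
  unfold diff
  rw [eval_sub, eval_comp, eval_sub, eval_X, eval_C]

theorem diff_eq_zero_of_natDegree_eq_zero (P : ℚ[X]) (c : ℚ) (h : P.natDegree = 0) :
    diff P c = 0 := by
  unfold diff
  rw [eq_C_of_natDegree_eq_zero h, C_comp, sub_self]

theorem natDegree_diff_lt (P : ℚ[X]) (c : ℚ) (h : P.natDegree ≠ 0) (hQ : diff P c ≠ 0) :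
    (diff P c).natDegree < P.natDegree := by
  have hP0 : P ≠ 0 := by
    rintro rfl
    exact h natDegree_zero
  have hq : (X - C c : ℚ[X]).natDegree = 1 := natDegree_X_sub_C c
  have hlc : (P.comp (X - C c)).leadingCoeff = P.leadingCoeff := by
    rw [leadingCoeff_comp (by rw [hq]; exact one_ne_zero), leadingCoeff_X_sub_C, one_pow, mul_one]
  have hnd : (P.comp (X - C c)).natDegree = P.natDegree := by
    rw [natDegree_comp, hq, mul_one]
  have hc0 : P.comp (X - C c) ≠ 0 := by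
    intro h0
    rw [h0, leadingCoeff_zero] at hlc
    exact hP0 (leadingCoeff_eq_zero.1 hlc.symm)
  have hdeg : P.degree = (P.comp (X - C c)).degree := by
    rw [degree_eq_natDegree hP0, degree_eq_natDegree hc0, hnd]
  have := degree_sub_lt hdeg hP0 hlc.symm
  exact natDegree_lt_natDegree hQ this

end Poly

end Groth.Agent.Lib.helper11.SG5
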