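import Mathlib
import Groth.Prelude.Def_GrLC
import Groth.Agent.Lib.Helper20.GrFin3
import Groth.Agent.Lib.helper11.SG5

/-!
# Serre–Grothendieck formula, VI: the induction (irrelevant ideal)
-/

set_option autoImplicit false
set_option linter.unusedSectionVars false
set_option linter.unusedVariables false
set_option linter.style.haveILetI false

namespace Groth.Agent.Lib.helper11.SG6

open DirectSum Groth.Agent.Lib.Helper26.GrProj Groth.Agent.Lib.Helper20.GrKit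
  Groth.Agent.Lib.Helper20.GrLES Groth.Agent.Lib.Helper20.GrArt
  Groth.Agent.Lib.Helper20.GrAvoid
  Groth.Agent.Lib.helper11.SG1 Groth.Agent.Lib.helper11.SG2 Groth.Agent.Lib.helper11.SG3
  Groth.Agent.Lib.helper11.SG4 Groth.Agent.Lib.helper11.SG5
open scoped Pointwise

universe u

variable {R : Type u} [CommRing R] [IsNoetherianRing R] (𝒜 : ℤ → AddSubgroup R) [GradedRing 𝒜]
  [IsArtinianRing (GrLC.deg0 𝒜)]
  (hpos : ∀ n : ℤ, n < 0 → 𝒜 n = ⊥)
  (a : HomogeneousIdeal 𝒜)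
  (ha : a.toIdeal = Ideal.span (⋃ n ∈ Set.Ioi (0 : ℤ), (𝒜 n : Set R)))

section Basic

variable {M : Type u} [AddCommGroup M] [Module R M] (ℳ : ℤ → AddSubgroup M)
  [DirectSum.Decomposition ℳ] [SetLike.GradedSMul 𝒜 ℳ]

theorem hilb_eq_zero_of_bot (n : ℤ) (h : ℳ n = ⊥) : hilb 𝒜 ℳ n = 0 := by
  unfold hilb
  haveI : Subsingleton (GrLC.comp 𝒜 ℳ n) := by
    refine ⟨fun x y => Subtype.ext ?_⟩
    have hx : (x : M) ∈ ℳ n := x.2
    have hy : (y : M) ∈ ℳ n := y.2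
    rw [h, AddSubgroup.mem_bot] at hx hy
    rw [hx, hy]
  exact L_of_subsingleton _

theorem piece_eq_bot_of_hilb_eq_zero [Module.Finite R M] (n : ℤ) (h : hilb 𝒜 ℳ n = 0) :
    ℳ n = ⊥ := by
  unfold hilb L at h
  have hfl := isFiniteLength_comp 𝒜 ℳ n
  have hne : Module.length (GrLC.deg0 𝒜) (GrLC.comp 𝒜 ℳ n) ≠ ⊤ := Module.length_ne_top_iff.2 hfl
  have h0 : (Module.length (GrLC.deg0 𝒜) (GrLC.comp 𝒜 ℳ n)).toNat = 0 := by exact_mod_cast h
  have h1 : Module.length (GrLC.deg0 𝒜) (GrLC.comp 𝒜 ℳ n) = 0 := by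
    rcases (ENat.toNat_eq_zero).1 h0 with h2 | h2
    · exact h2
    · exact absurd h2 hne
  haveI : Subsingleton (GrLC.comp 𝒜 ℳ n) := Module.length_eq_zero_iff.1 h1
  rw [eq_bot_iff]
  intro x hx
  rw [AddSubgroup.mem_bot]
  have := Subsingleton.elim (⟨x, hx⟩ : GrLC.comp 𝒜 ℳ n) 0
  exact congrArg Subtype.val this

variable {ℳ}

include ha in
theorem chi_eq_zero_of_large [Module.Finite R M] (E : GrLC.StarInjRes 𝒜 ℳ) (D : ℕ) :
    ∃ r : ℤ, ∀ n : ℤ, r ≤ n → chi 𝒜 a E D n = 0 := by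
  obtain ⟨r, hr⟩ := Groth.Agent.Lib.Helper20.GrFin.s13227 𝒜 a ha ℳ E
  refine ⟨r, fun n hn => ?_⟩
  unfold chi
  refine Finset.sum_eq_zero fun i _ => ?_
  haveI : Subsingleton (E.Hcomp a i n) := by
    rw [hr i n hn]
    infer_instance
  rw [L_of_subsingleton, mul_zero]

include hpos ha in
/-- the case of the zero Hilbert polynomial -/
theorem case_zero [Module.Finite R M] (E : GrLC.StarInjRes 𝒜 ℳ) (D : ℕ)
    (hP : ∃ N : ℤ, ∀ n : ℤ, N ≤ n → (0 : ℚ) = hilb 𝒜 ℳ n) (n : ℤ) :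
    hilb 𝒜 ℳ n = chi 𝒜 a E D n := by
  obtain ⟨N, hN⟩ := hP
  have hbot : ∀ n : ℤ, N ≤ n → ℳ n = ⊥ := fun n hn =>
    piece_eq_bot_of_hilb_eq_zero 𝒜 ℳ n (hN n hn).symm
  have htors := torsion_of_bounded 𝒜 hpos a ha ℳ N hbot
  exact (chi_torsion 𝒜 a E htors D n).symm

end Basic

/-- periodicity + eventual vanishing ⇒ vanishing -/
theorem eq_zero_of_periodic (g : ℤ → ℚ) (d : ℤ) (hd : 0 < d) (hper : ∀ n, g n = g (n - d))
    (r : ℤ) (hr : ∀ n, r ≤ n → g n = 0) (n : ℤ) : g n = 0 := by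
  have key : ∀ j : ℕ, g n = g (n + j * d) := by
    intro j
    induction j with
    | zero => simp
    | succ j ih =>
      rw [ih, hper (n + ((j + 1 : ℕ) : ℤ) * d)]
      congr 1
      push_cast
      ring
  rw [key (r - n).toNat]
  apply hr
  have h1 := Int.self_le_toNat (r - n)
  have h2 : ((r - n).toNat : ℤ) ≤ ((r - n).toNat : ℤ) * d := by
    have : (0 : ℤ) ≤ ((r - n).toNat : ℤ) := Int.natCast_nonneg _
    nlinarith
  linarith

include hpos ha in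
/-- **Serre–Grothendieck formula** for the irrelevant ideal, by induction on the degree of the
Hilbert polynomial. -/
theorem main_aux (D : ℕ)
    (hD : ∀ (M : Type u) [AddCommGroup M] [Module R M] [Module.Finite R M] (ℳ : ℤ → AddSubgroup M)
      [DirectSum.Decomposition ℳ] [SetLike.GradedSMul 𝒜 ℳ] (E : GrLC.StarInjRes 𝒜 ℳ),
      Subsingleton (E.H a (D + 1))) :
    ∀ (k : ℕ) (M : Type u) [AddCommGroup M] [Module R M] [Module.Finite R M]
      (ℳ : ℤ → AddSubgroup M) [DirectSum.Decomposition ℳ] [SetLike.GradedSMul 𝒜 ℳ]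
      (E : GrLC.StarInjRes 𝒜 ℳ) (P : Polynomial ℚ),
      (∃ N : ℤ, ∀ n : ℤ, N ≤ n → P.eval (n : ℚ) = hilb 𝒜 ℳ n) → (P ≠ 0 → P.natDegree < k) →
      ∀ n : ℤ, hilb 𝒜 ℳ n - P.eval (n : ℚ) = chi 𝒜 a E D n := by
  intro k
  induction k with
  | zero =>
    intro M _ _ _ ℳ _ _ E P hP hk n
    have hP0 : P = 0 := by
      by_contra h
      exact absurd (hk h) (Nat.not_lt_zero _)
    subst hP0
    simp only [Polynomial.eval_zero, sub_zero] at hP ⊢
    exact case_zero 𝒜 hpos a ha E D hP n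
  | succ k ih =>
    intro M _ _ _ ℳ _ _ E P hP hk n
    classical
    by_cases hP0 : P = 0
    · subst hP0
      simp only [Polynomial.eval_zero, sub_zero] at hP ⊢
      exact case_zero 𝒜 hpos a ha E D hP n
    have hdeg : P.natDegree < k + 1 := hk hP0
    obtain ⟨N, hN⟩ := hP
    haveI : IsNoetherian R M := isNoetherian_of_isNoetherianRing_of_finite R M
    -- the torsion submodule and the quotient
    let Γ : Submodule R M := GrLC.gam a.toIdeal M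
    have hΓ : ∀ g y, y ∈ Γ → proj ℳ g y ∈ Γ := fun g y hy => proj_mem_gam 𝒜 ℳ a g y hy
    letI : DirectSum.Decomposition (quoGr ℳ Γ) := quoDecomposition ℳ Γ hΓ
    letI : DirectSum.Decomposition (subGr ℳ Γ) := subDecomposition ℳ Γ hΓ
    obtain ⟨E₁⟩ := nonempty_starInjRes 𝒜 (subGr ℳ Γ)
    obtain ⟨E₂⟩ := nonempty_starInjRes 𝒜 (quoGr ℳ Γ)
    have hsubg : GrLC.IsGrHom (subGr ℳ Γ) ℳ Γ.subtype := fun g m hm => hm
    have hexΓ : LinearMap.ker Γ.mkQ = LinearMap.range Γ.subtype := by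
      rw [Submodule.ker_mkQ, Submodule.range_subtype]
    have hchi : chi 𝒜 a E D n = chi 𝒜 a E₁ D n + chi 𝒜 a E₂ D n :=
      chi_add 𝒜 a ha E₁ E E₂ Γ.subtype Γ.mkQ hsubg (mkQ_isGrHom ℳ Γ) Γ.injective_subtype
        Γ.mkQ_surjective hexΓ D (hD Γ (subGr ℳ Γ) E₁) n
    have hhilb : ∀ n, hilb 𝒜 ℳ n = hilb 𝒜 (subGr ℳ Γ) n + hilb 𝒜 (quoGr ℳ Γ) n := fun n =>
      hf_add 𝒜 Γ.subtype Γ.mkQ hsubg (mkQ_isGrHom ℳ Γ) Γ.injective_subtype
        Γ.mkQ_surjective hexΓ n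
    have htorsΓ : ∀ z : Γ, ∃ s : ℕ, ∀ r ∈ a.toIdeal ^ s, r • z = 0 := by
      rintro ⟨m, s, hs⟩
      exact ⟨s, fun r hr => Subtype.ext (hs r hr)⟩
    have hchi₁ : chi 𝒜 a E₁ D n = hilb 𝒜 (subGr ℳ Γ) n := chi_torsion 𝒜 a E₁ htorsΓ D n
    -- the Hilbert polynomial of the quotient
    obtain ⟨r₀, hr₀⟩ := Groth.Agent.Lib.Helper20.GrFin.exists_bounded_above_of_torsion 𝒜 a ha
      (subGr ℳ Γ) htorsΓ
    have hN₂ : ∀ n : ℤ, max N r₀ ≤ n → P.eval (n : ℚ) = hilb 𝒜 (quoGr ℳ Γ) n := by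
      intro n hn
      rw [hN n (le_trans (le_max_left _ _) hn), hhilb n,
        hilb_eq_zero_of_bot 𝒜 (subGr ℳ Γ) n (hr₀ n (le_trans (le_max_right _ _) hn)), zero_add]
    -- reduce to the quotient
    suffices hmain : ∀ n : ℤ, hilb 𝒜 (quoGr ℳ Γ) n - P.eval (n : ℚ) = chi 𝒜 a E₂ D n by
      rw [hchi, hchi₁, hhilb n, ← hmain n]
      ring
    -- a homogeneous regular element on the quotient
    have htf : ∀ m : M ⧸ Γ, m ∈ GrLC.gam a.toIdeal (M ⧸ Γ) → m = 0 := by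
      intro m hm
      exact Groth.Agent.Lib.helper11.LCKit.isTorsFree_quotient_gam a.toIdeal
        (IsNoetherian.noetherian _) M m hm
    obtain ⟨d, hd, x, hx, hxa, hreg⟩ := exists_homogeneous_regular 𝒜 a ha (M ⧸ Γ) htf
    let C : Submodule R (M ⧸ Γ) := x • (⊤ : Submodule R (M ⧸ Γ))
    have hC : ∀ g y, y ∈ C → proj (quoGr ℳ Γ) g y ∈ C :=
      smul_top_proj_stable 𝒜 (quoGr ℳ Γ) x d hx
    letI : DirectSum.Decomposition (quoGr (quoGr ℳ Γ) C) := quoDecomposition (quoGr ℳ Γ) C hC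
    obtain ⟨F⟩ := nonempty_starInjRes 𝒜 (quoGr (quoGr ℳ Γ) C)
    have hkerQ : LinearMap.ker C.mkQ =
        LinearMap.range (x • (LinearMap.id : (M ⧸ Γ) →ₗ[R] (M ⧸ Γ))) := by
      rw [Submodule.ker_mkQ]
      exact smul_top_eq_range x
    have hchiR : ∀ n, chi 𝒜 a E₂ D n = chi 𝒜 a E₂ D (n - d) + chi 𝒜 a F D n := fun n =>
      chi_regular 𝒜 a ha E₂ F x d hx hreg C.mkQ (Submodule.mkQ_surjective C)
        (mkQ_isGrHom (quoGr ℳ Γ) C) hkerQ D (hD (M ⧸ Γ) (quoGr ℳ Γ) E₂) n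
    have hhilbR : ∀ n, hilb 𝒜 (quoGr ℳ Γ) n =
        hilb 𝒜 (quoGr ℳ Γ) (n - d) + hilb 𝒜 (quoGr (quoGr ℳ Γ) C) n := fun n =>
      hf_regular 𝒜 x d hx hreg C.mkQ (Submodule.mkQ_surjective C)
        (mkQ_isGrHom (quoGr ℳ Γ) C) hkerQ n
    -- the induction hypothesis for the quotient by `x`
    have hQ : ∃ N' : ℤ, ∀ n : ℤ, N' ≤ n →
        (diff P (d : ℚ)).eval (n : ℚ) = hilb 𝒜 (quoGr (quoGr ℳ Γ) C) n := by
      refine ⟨max N r₀ + d, fun n hn => ?_⟩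
      rw [eval_diff, hN₂ n (by omega)]
      have h1 := hN₂ (n - d) (by omega)
      have e : (((n - d : ℤ)) : ℚ) = (n : ℚ) - (d : ℚ) := by push_cast; ring
      rw [e] at h1
      rw [h1, hhilbR n]
      ring
    have hQdeg : diff P (d : ℚ) ≠ 0 → (diff P (d : ℚ)).natDegree < k := by
      intro hQ0
      by_cases h0 : P.natDegree = 0
      · exact absurd (diff_eq_zero_of_natDegree_eq_zero P _ h0) hQ0
      · have := natDegree_diff_lt P (d : ℚ) h0 hQ0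
        omega
    have hIH := ih (( M ⧸ Γ) ⧸ C) (quoGr (quoGr ℳ Γ) C) F (diff P (d : ℚ)) hQ hQdeg
    -- periodicity
    obtain ⟨r, hr⟩ := chi_eq_zero_of_large 𝒜 a ha E₂ D
    intro n
    have hg := eq_zero_of_periodic
      (fun n => hilb 𝒜 (quoGr ℳ Γ) n - P.eval (n : ℚ) - chi 𝒜 a E₂ D n) d hd ?_
      (max (max N r₀) r) ?_ n
    · linarith
    · intro n
      have h1 := hIH n
      rw [eval_diff] at h1
      have e : (((n - d : ℤ)) : ℚ) = (n : ℚ) - (d : ℚ) := by push_cast; ring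
      rw [e]
      have h2 := hhilbR n
      have h3 := hchiR n
      linarith
    · intro n hn
      rw [hN₂ n (le_trans (le_max_left _ _) hn), hr n (le_trans (le_max_right _ _) hn)]
      ring

end Groth.Agent.Lib.helper11.SG6
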