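import Mathlib
import Groth.Prelude.Def_GrLC
import Groth.Agent.Lib.Helper20.GrFin3
import Groth.Agent.Lib.Helper20.GrStarLoc
import Groth.Agent.Lib.helper11.SG6

/-!
# Serre–Grothendieck formula, VII: from the irrelevant ideal to the *maximal ideal
-/

set_option autoImplicit false
set_option linter.unusedSectionVars false
set_option linter.unusedVariables false
set_option linter.style.haveILetI false

namespace Groth.Agent.Lib.helper11.SG7

open DirectSum Groth.Agent.Lib.Helper26.GrProj Groth.Agent.Lib.Helper20.GrKit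
  Groth.Agent.Lib.Helper20.GrLES Groth.Agent.Lib.Helper20.GrArt
  Groth.Agent.Lib.Helper20.CanonShift
  Groth.Agent.Lib.helper11.SG1 Groth.Agent.Lib.helper11.SG2

universe u

section Irr

variable {R : Type u} [CommRing R] (𝒜 : ℤ → AddSubgroup R) [GradedRing 𝒜]

/-- the irrelevant ideal as a homogeneous ideal -/
def irr : HomogeneousIdeal 𝒜 :=
  ⟨Ideal.span (⋃ n ∈ Set.Ioi (0 : ℤ), (𝒜 n : Set R)), by
    apply Ideal.homogeneous_span
    intro s hs
    simp only [Set.mem_iUnion] at hs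
    obtain ⟨j, _, hsj⟩ := hs
    exact ⟨j, hsj⟩⟩

theorem irr_toIdeal :
    (irr 𝒜).toIdeal = Ideal.span (⋃ n ∈ Set.Ioi (0 : ℤ), (𝒜 n : Set R)) := rfl

variable (hpos : ∀ n : ℤ, n < 0 → 𝒜 n = ⊥)

include hpos in
theorem sub_proj_zero_mem_irr (x : R) : x - proj 𝒜 0 x ∈ (irr 𝒜).toIdeal := by
  classical
  have hx : x = ∑ j ∈ (DirectSum.decompose 𝒜 x).support, proj 𝒜 j x := (sum_proj 𝒜 x).symm
  have key : ∀ j : ℤ, j ≠ 0 → proj 𝒜 j x ∈ (irr 𝒜).toIdeal := by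
    intro j hj
    rcases lt_or_gt_of_ne hj with hlt | hgt
    · have := proj_mem 𝒜 j x
      rw [hpos j hlt, AddSubgroup.mem_bot] at this
      rw [this]
      exact zero_mem _
    · rw [irr_toIdeal]
      apply Ideal.subset_span
      simp only [Set.mem_iUnion]
      exact ⟨j, hgt, proj_mem 𝒜 j x⟩
  by_cases h0x : (0 : ℤ) ∈ (DirectSum.decompose 𝒜 x).support
  · have h2 : x - proj 𝒜 0 x = ∑ j ∈ (DirectSum.decompose 𝒜 x).support.erase 0, proj 𝒜 j x := by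
      rw [Finset.sum_erase_eq_sub h0x, ← hx]
    rw [h2]
    apply Ideal.sum_mem
    intro j hj
    exact key j (Finset.ne_of_mem_erase hj)
  · rw [proj_eq_zero_of_notMem 𝒜 h0x, sub_zero, hx]
    apply Ideal.sum_mem
    intro j hj
    apply key j
    rintro rfl
    exact h0x hj

end Irr

section Local

variable {R : Type u} [CommRing R] [IsNoetherianRing R] (𝒜 : ℤ → AddSubgroup R) [GradedRing 𝒜]
  [IsArtinianRing (GrLC.deg0 𝒜)]
  (hpos : ∀ n : ℤ, n < 0 → 𝒜 n = ⊥)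
  (m : HomogeneousIdeal 𝒜) (hm : GrLC.IsStarLocal 𝒜 m)

/-- the degree zero part of the *maximal ideal -/
def m0 : Ideal (GrLC.deg0 𝒜) := Ideal.comap (GrLC.deg0 𝒜).subtype m.toIdeal

include hpos hm in
theorem irr_le : (irr 𝒜).toIdeal ≤ m.toIdeal := by
  rw [irr_toIdeal, Ideal.span_le]
  intro x hx
  simp only [Set.mem_iUnion] at hx
  obtain ⟨j, hj, hxj⟩ := hx
  exact Groth.Agent.Lib.Helper20.GrStarLoc.pos_mem 𝒜 hpos m hm j hj x hxj

include hpos hm in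
/-- every maximal ideal of `R_0` contains `m ∩ R_0` -/
theorem m0_le_of_isMaximal (n₀ : Ideal (GrLC.deg0 𝒜)) (hn₀ : n₀.IsMaximal) : m0 𝒜 m ≤ n₀ := by
  classical
  -- the homogeneous ideal `n₀ R + R_+`
  let N₁ : HomogeneousIdeal 𝒜 := ⟨Ideal.map (GrLC.deg0 𝒜).subtype n₀, by
    rw [Ideal.map]
    apply Ideal.homogeneous_span
    rintro _ ⟨t, _, rfl⟩
    exact ⟨0, t.2⟩⟩
  let N : HomogeneousIdeal 𝒜 := N₁ ⊔ irr 𝒜
  -- the degree zero component of an element of `N` lies in `n₀`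
  have hproj₁ : ∀ x ∈ Ideal.map (GrLC.deg0 𝒜).subtype n₀,
      ∃ t ∈ n₀, (t : R) = proj 𝒜 0 x := by
    intro x hx
    rw [Ideal.map] at hx
    refine Submodule.span_induction ?_ ?_ ?_ ?_ hx
    · rintro _ ⟨t, ht, rfl⟩
      exact ⟨t, ht, (proj_of_mem_same 𝒜 t.2).symm⟩
    · exact ⟨0, n₀.zero_mem, (proj_zero 𝒜 0).symm⟩
    · rintro y z _ _ ⟨t, ht, e⟩ ⟨t', ht', e'⟩
      refine ⟨t + t', n₀.add_mem ht ht', ?_⟩
      rw [proj_add, ← e, ← e']
      rfl
    · rintro r y hy ⟨t, ht, e⟩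
      -- `proj_0 (r y) = Σ_k proj_k r * proj_{-k} y`; only `k = 0` survives as `y` has degree 0 part…
      -- use the span structure instead: `y` is a combination of degree-zero elements
      have hy' : ∀ l : ℤ, l ≠ 0 → ∀ w ∈ Submodule.span R
          ((GrLC.deg0 𝒜).subtype '' (n₀ : Set (GrLC.deg0 𝒜))), proj 𝒜 0 (proj 𝒜 l r • w) = 0 := by
        intro l hl w hw
        rw [proj_smul_of_mem 𝒜 𝒜 (proj_mem 𝒜 l r) 0 w]
        rcases lt_or_gt_of_ne hl with hlt | hgt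
        · have := proj_mem 𝒜 l r
          rw [hpos l hlt, AddSubgroup.mem_bot] at this
          rw [this, zero_smul]
        · have := proj_mem 𝒜 (0 - l) w
          rw [hpos (0 - l) (by omega), AddSubgroup.mem_bot] at this
          rw [this, smul_zero]
      have hr : r = ∑ k ∈ (DirectSum.decompose 𝒜 r).support, proj 𝒜 k r := (sum_proj 𝒜 r).symm
      have h1 : proj 𝒜 0 (r • y) = proj 𝒜 0 r • proj 𝒜 0 y := by
        conv_lhs => rw [hr, Finset.sum_smul, proj_sum]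
        by_cases h0 : (0 : ℤ) ∈ (DirectSum.decompose 𝒜 r).support
        · rw [Finset.sum_eq_single_of_mem 0 h0]
          · rw [proj_smul_of_mem 𝒜 𝒜 (proj_mem 𝒜 0 r) 0 y, sub_zero]
          · intro l _ hl
            exact hy' l hl y hy
        · rw [proj_eq_zero_of_notMem 𝒜 h0, zero_smul]
          refine Finset.sum_eq_zero fun l hl => ?_
          apply hy' l _ y hy
          rintro rfl
          exact h0 hl
      refine ⟨(⟨proj 𝒜 0 r, proj_mem 𝒜 0 r⟩ : GrLC.deg0 𝒜) * t, n₀.mul_mem_left _ ht, ?_⟩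
      rw [h1, ← e]
      rfl
  have hproj : ∀ x ∈ N.toIdeal, ∃ t ∈ n₀, (t : R) = proj 𝒜 0 x := by
    intro x hx
    have hx' : x ∈ Ideal.map (GrLC.deg0 𝒜).subtype n₀ ⊔ (irr 𝒜).toIdeal := hx
    obtain ⟨y, hy, z, hz, rfl⟩ := Submodule.mem_sup.1 hx'
    obtain ⟨t, ht, e⟩ := hproj₁ y hy
    refine ⟨t, ht, ?_⟩
    rw [proj_add, Groth.Agent.Lib.Helper20.GrStarLoc.proj_zero_of_mem_span 𝒜 hpos z hz, add_zero, e]
  have hne : N.toIdeal ≠ ⊤ := by
    intro h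
    have h1 : (1 : R) ∈ N.toIdeal := by
      rw [h]
      exact Submodule.mem_top
    obtain ⟨t, ht, e⟩ := hproj 1 h1
    rw [proj_of_mem_same 𝒜 (SetLike.GradedOne.one_mem : (1 : R) ∈ 𝒜 0)] at e
    apply hn₀.ne_top
    rw [Ideal.eq_top_iff_one]
    have : t = 1 := Subtype.ext e
    rw [← this]
    exact ht
  have hle : N ≤ m := le_of_isStarLocal 𝒜 m hm N hne
  -- `n₀ ≤ m0`
  have h1 : n₀ ≤ m0 𝒜 m := by
    intro t ht
    change (t : R) ∈ m.toIdeal
    apply hle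
    change (t : R) ∈ Ideal.map (GrLC.deg0 𝒜).subtype n₀ ⊔ (irr 𝒜).toIdeal
    exact Ideal.mem_sup_left (Ideal.mem_map_of_mem _ ht)
  have h2 : m0 𝒜 m ≠ ⊤ := by
    intro h
    have : (1 : GrLC.deg0 𝒜) ∈ m0 𝒜 m := by
      rw [h]
      exact Submodule.mem_top
    have h3 : (1 : R) ∈ m.toIdeal := this
    apply hm.1.1
    apply HomogeneousIdeal.toIdeal_injective
    rw [HomogeneousIdeal.toIdeal_top]
    exact (Ideal.eq_top_iff_one _).2 h3
  rw [← hn₀.eq_of_le h2 h1]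

include hpos hm in
theorem exists_pow_le_irr : ∃ s : ℕ, m.toIdeal ^ s ≤ (irr 𝒜).toIdeal := by
  have hjac : m0 𝒜 m ≤ Ideal.jacobson (⊥ : Ideal (GrLC.deg0 𝒜)) := by
    rw [Ideal.jacobson]
    apply le_sInf
    rintro n₀ ⟨-, hn₀⟩
    exact m0_le_of_isMaximal 𝒜 hpos m hm n₀ hn₀
  obtain ⟨s, hs⟩ := IsArtinianRing.isNilpotent_jacobson_bot (R := GrLC.deg0 𝒜)
  have hm0 : m0 𝒜 m ^ s = ⊥ := by
    rw [eq_bot_iff, ← Ideal.zero_eq_bot, ← hs]
    exact Ideal.pow_right_mono hjac s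
  have hle : m.toIdeal ≤ Ideal.map (GrLC.deg0 𝒜).subtype (m0 𝒜 m) ⊔ (irr 𝒜).toIdeal := by
    intro x hx
    have h0 : proj 𝒜 0 x ∈ m.toIdeal := m.isHomogeneous 0 hx
    have h1 : proj 𝒜 0 x ∈ Ideal.map (GrLC.deg0 𝒜).subtype (m0 𝒜 m) :=
      Ideal.mem_map_of_mem (GrLC.deg0 𝒜).subtype
        (show (⟨proj 𝒜 0 x, proj_mem 𝒜 0 x⟩ : GrLC.deg0 𝒜) ∈ m0 𝒜 m from h0)
    have h2 := sub_proj_zero_mem_irr 𝒜 hpos x
    have : x = proj 𝒜 0 x + (x - proj 𝒜 0 x) := by ring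
    rw [this]
    exact Submodule.add_mem _ (Ideal.mem_sup_left h1) (Ideal.mem_sup_right h2)
  refine ⟨s + 1, ?_⟩
  calc m.toIdeal ^ (s + 1)
      ≤ (Ideal.map (GrLC.deg0 𝒜).subtype (m0 𝒜 m) ⊔ (irr 𝒜).toIdeal) ^ (s + 1) :=
        Ideal.pow_right_mono hle _
    _ ≤ Ideal.map (GrLC.deg0 𝒜).subtype (m0 𝒜 m) ^ s ⊔ (irr 𝒜).toIdeal ^ 1 :=
        Ideal.sup_pow_add_le_pow_sup_pow
    _ = (irr 𝒜).toIdeal := by
        rw [← Ideal.map_pow, hm0, Ideal.map_bot, pow_one, bot_sup_eq]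

include hpos hm in
/-- the torsion functors of `m` and of the irrelevant ideal agree -/
theorem gam_eq (X : Type u) [AddCommGroup X] [Module R X] :
    GrLC.gam m.toIdeal X = GrLC.gam (irr 𝒜).toIdeal X := by
  obtain ⟨s, hs⟩ := exists_pow_le_irr 𝒜 hpos m hm
  have hle := irr_le 𝒜 hpos m hm
  ext x
  constructor
  · rintro ⟨k, hk⟩
    exact ⟨k, fun r hr => hk r (Ideal.pow_right_mono hle k hr)⟩
  · rintro ⟨k, hk⟩
    refine ⟨s * k, fun r hr => hk r ?_⟩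
    rw [pow_mul] at hr
    exact Ideal.pow_right_mono hs k hr

end Local

section Transfer

variable {R : Type u} [CommRing R] {𝒜 : ℤ → AddSubgroup R} [GradedRing 𝒜]
  {M : Type u} [AddCommGroup M] [Module R M] {ℳ : ℤ → AddSubgroup M}
  [DirectSum.Decomposition ℳ] [SetLike.GradedSMul 𝒜 ℳ] (E : GrLC.StarInjRes 𝒜 ℳ)
  (a b : HomogeneousIdeal 𝒜)
  (hab : ∀ (X : Type u) [AddCommGroup X] [Module R X],
    GrLC.gam a.toIdeal X = GrLC.gam b.toIdeal X)

include hab in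
theorem cocyc_eq (i : ℕ) : E.cocyc a i = E.cocyc b i := by
  unfold GrLC.StarInjRes.cocyc
  rw [hab]

include hab in
theorem cobdy_eq (i : ℕ) : E.cobdy a i = E.cobdy b i := by
  cases i with
  | zero => rfl
  | succ n =>
    change (GrLC.gam a.toIdeal (E.X n).carrier).map (E.d n) =
      (GrLC.gam b.toIdeal (E.X n).carrier).map (E.d n)
    rw [hab]

/-- the comparison isomorphism -/
noncomputable def Hequiv (i : ℕ) : E.H a i ≃ₗ[R] E.H b i :=
  Submodule.Quotient.equiv _ _ (LinearEquiv.ofEq _ _ (cocyc_eq E a b hab i)) (by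
    ext z
    constructor
    · rintro ⟨w, hw, rfl⟩
      have hw' : (w : (E.X i).carrier) ∈ E.cobdy a i := hw
      rw [cobdy_eq E a b hab i] at hw'
      exact hw'
    · intro hz
      have hz' : (z : (E.X i).carrier) ∈ E.cobdy b i := hz
      rw [← cobdy_eq E a b hab i] at hz'
      refine ⟨⟨z.1, by rw [cocyc_eq E a b hab i]; exact z.2⟩, hz', ?_⟩
      exact Subtype.ext rfl)

theorem Hequiv_toH (i : ℕ) (z : E.cocyc a i) :
    Hequiv E a b hab i (E.toH a i z) =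
      E.toH b i ⟨z.1, by rw [← cocyc_eq E a b hab i]; exact z.2⟩ := rfl

theorem Hequiv_mem (i : ℕ) (n : ℤ) (x : E.H a i) (hx : x ∈ E.Hcomp a i n) :
    Hequiv E a b hab i x ∈ E.Hcomp b i n := by
  obtain ⟨z, hz, rfl⟩ := hx
  exact ⟨⟨z.1, by rw [← cocyc_eq E a b hab i]; exact z.2⟩, hz, (Hequiv_toH E a b hab i z).symm⟩

theorem Hequiv_symm_mem (i : ℕ) (n : ℤ) (y : E.H b i) (hy : y ∈ E.Hcomp b i n) :
    (Hequiv E a b hab i).symm y ∈ E.Hcomp a i n := by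
  obtain ⟨z, hz, rfl⟩ := hy
  refine ⟨⟨z.1, by rw [cocyc_eq E a b hab i]; exact z.2⟩, hz, ?_⟩
  rw [LinearEquiv.eq_symm_apply, Hequiv_toH]

include hab in
theorem L_Hcomp_congr (i : ℕ) (n : ℤ) :
    L (GrLC.deg0 𝒜) (E.Hcomp a i n) = L (GrLC.deg0 𝒜) (E.Hcomp b i n) := by
  let ψ : ↥(E.Hcomp a i n) →ₗ[GrLC.deg0 𝒜] ↥(E.Hcomp b i n) :=
    ((Hequiv E a b hab i).toLinearMap.restrictScalars (GrLC.deg0 𝒜)).restrict
      (fun x hx => Hequiv_mem E a b hab i n x hx)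
  refine L_congr (LinearEquiv.ofBijective ψ ⟨?_, ?_⟩)
  · intro x y h
    apply Subtype.ext
    apply (Hequiv E a b hab i).injective
    exact congrArg Subtype.val h
  · intro y
    refine ⟨⟨(Hequiv E a b hab i).symm y, Hequiv_symm_mem E a b hab i n y y.2⟩, ?_⟩
    apply Subtype.ext
    exact (Hequiv E a b hab i).apply_symm_apply y

end Transfer

end Groth.Agent.Lib.helper11.SG7
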