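import Mathlib
import Groth.Prelude.Def_GrLC
import Groth.Agent.Lib.helper11.SG7
import Groth.Agent.Lib.helper11.LCVanish

/-!
# Serre–Grothendieck formula, VIII: the statement
-/

set_option autoImplicit false
set_option linter.unusedSectionVars false
set_option linter.unusedVariables false
set_option linter.style.haveILetI false

namespace Groth.Agent.Lib.helper11.SG8

open DirectSum Groth.Agent.Lib.Helper26.GrProj Groth.Agent.Lib.Helper20.GrKit
  Groth.Agent.Lib.Helper20.GrLES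
  Groth.Agent.Lib.helper11.SG1 Groth.Agent.Lib.helper11.SG2 Groth.Agent.Lib.helper11.SG6
  Groth.Agent.Lib.helper11.SG7

universe u

variable {R : Type u} [CommRing R] [IsNoetherianRing R] (𝒜 : ℤ → AddSubgroup R) [GradedRing 𝒜]

/-- Grothendieck vanishing for graded local cohomology of finite modules -/
theorem subsingleton_H_of_dim_lt (a : HomogeneousIdeal 𝒜) (d : ℕ) (hd : ringKrullDim R = d)
    (M : Type u) [AddCommGroup M] [Module R M] [Module.Finite R M] (ℳ : ℤ → AddSubgroup M)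
    [DirectSum.Decomposition ℳ] [SetLike.GradedSMul 𝒜 ℳ] (E : GrLC.StarInjRes 𝒜 ℳ) (i : ℕ)
    (hi : d < i) : Subsingleton (E.H a i) := by
  obtain ⟨e⟩ := bridge_starInjRes E a i
  have hlt : Module.supportDim R M < (i : WithBot ℕ∞) := by
    refine lt_of_le_of_lt (Module.supportDim_le_ringKrullDim R M) ?_
    rw [hd]
    exact_mod_cast hi
  haveI := Groth.Agent.Lib.helper11.LCKit.subsingleton_of_supportDim_lt a.toIdeal i M hlt
  exact e.toEquiv.subsingleton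

variable [IsArtinianRing (GrLC.deg0 𝒜)] (hpos : ∀ n : ℤ, n < 0 → 𝒜 n = ⊥)

include hpos in
/-- **Serre–Grothendieck formula** for the irrelevant ideal. -/
theorem formula_irr (d : ℕ) (hd : ringKrullDim R = d)
    (M : Type u) [AddCommGroup M] [Module R M] [Module.Finite R M] (ℳ : ℤ → AddSubgroup M)
    [DirectSum.Decomposition ℳ] [SetLike.GradedSMul 𝒜 ℳ] (E : GrLC.StarInjRes 𝒜 ℳ)
    (P : Polynomial ℚ) (hP : ∃ N : ℤ, ∀ n : ℤ, N ≤ n → P.eval (n : ℚ) = hilb 𝒜 ℳ n) (n : ℤ) :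
    hilb 𝒜 ℳ n - P.eval (n : ℚ) = chi 𝒜 (irr 𝒜) E d n :=
  main_aux 𝒜 hpos (irr 𝒜) (irr_toIdeal 𝒜) d
    (fun M _ _ _ ℳ _ _ E => subsingleton_H_of_dim_lt 𝒜 (irr 𝒜) d hd M ℳ E (d + 1) (Nat.lt_succ_self d))
    (P.natDegree + 1) M ℳ E P hP (fun _ => Nat.lt_succ_self _) n

include hpos in
/-- **Serre–Grothendieck formula** for a *local ring with Artinian degree zero part. -/
theorem formula (m : HomogeneousIdeal 𝒜) (hm : GrLC.IsStarLocal 𝒜 m) (d : ℕ)
    (hd : ringKrullDim R = d)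
    (M : Type u) [AddCommGroup M] [Module R M] [Module.Finite R M] (ℳ : ℤ → AddSubgroup M)
    [DirectSum.Decomposition ℳ] [SetLike.GradedSMul 𝒜 ℳ] (E : GrLC.StarInjRes 𝒜 ℳ)
    (P : Polynomial ℚ) (hP : ∃ N : ℤ, ∀ n : ℤ, N ≤ n → P.eval (n : ℚ) = hilb 𝒜 ℳ n) (n : ℤ) :
    hilb 𝒜 ℳ n - P.eval (n : ℚ) = chi 𝒜 m E d n := by
  rw [formula_irr 𝒜 hpos d hd M ℳ E P hP n]
  unfold chi
  refine Finset.sum_congr rfl fun i _ => ?_
  rw [L_Hcomp_congr E m (irr 𝒜) (fun X _ _ => gam_eq 𝒜 hpos m hm X) i n]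

end Groth.Agent.Lib.helper11.SG8
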