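import Mathlib
import Groth.Agent.Lib.helper11.GorHull
import Groth.Agent.Lib.Helper5.SerreLoc

/-!
# Gorenstein local rings via local cohomology (helper11)

`A` is Gorenstein iff `H^i_m(A) = 0` for `i ≠ d` and `H^d_m(A)` is injective, for some `d`.
-/

set_option autoImplicit false

namespace Groth.Agent.Lib.helper11.GorHull

open CategoryTheory Abelian IsLocalRing
open Groth.Agent.Lib.helper11.LCKit Groth.Agent.Lib.helper11.ExtRep

universe u

variable {R : Type u} [CommRing R] [IsNoetherianRing R] (J : Ideal R) (G : ModuleCat.{u} R)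

/-- if `Ext^i(-, G)` is left exact and `H^i_J(G) = 0` then `Ext^i(F, G) = 0` on torsion `F`. -/
theorem vanish_of_LE (i : ℕ) (hLE : LE J G i)
    (hH : Subsingleton ((localCohomology J i).obj G)) (F : ModuleCat.{u} R) (hF : TF J F) :
    Subsingleton (Ext F G i) := by
  obtain ⟨Φ', -⟩ := exists_natural_equiv hLE
  haveI : Subsingleton (F →ₗ[R] (localCohomology J i).obj G) :=
    ⟨fun a b => LinearMap.ext fun x => Subsingleton.elim _ _⟩
  exact (Φ' F hF).toEquiv.subsingleton

/-- if `Ext^d(-, G)` is left exact and `H^d_J(G)` is injective then `Ext^{d+1}(-, G)` is left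
exact. -/
theorem LE_succ_of_injective (d : ℕ) (hLE : LE J G d)
    (hinj : Module.Injective R ((localCohomology J d).obj G)) : LE J G (d + 1) := by
  obtain ⟨Φ', hnat⟩ := exists_natural_equiv hLE
  intro F F'' p hp hF
  rw [injective_iff_map_eq_zero]
  intro e he
  have hS := kerSC_shortExact p hp
  obtain ⟨x₁, hx₁⟩ := Ext.contravariant_sequence_exact₃ hS G e he (n₀ := d) (by omega)
  have hK : TF J (ModuleCat.of R (LinearMap.ker p.hom)) := tf_ker J p hF
  let j : ModuleCat.of R (LinearMap.ker p.hom) ⟶ F := ModuleCat.ofHom (LinearMap.ker p.hom).subtype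
  obtain ⟨ψ, hψ⟩ := Module.Injective.extension_property R _ _ _ j.hom
    (LinearMap.ker p.hom).injective_subtype (Φ' (ModuleCat.of R (LinearMap.ker p.hom)) hK x₁)
  have h1 : pre G d j ((Φ' F hF).symm ψ) = x₁ := by
    apply (Φ' (ModuleCat.of R (LinearMap.ker p.hom)) hK).injective
    refine LinearMap.ext fun x' => ?_
    rw [hnat F _ hF hK j, LinearEquiv.apply_symm_apply, ← hψ]
    rfl
  rw [← hx₁, ← h1]
  exact hS.extClass_comp_assoc ((Φ' F hF).symm ψ)

variable {J G}

/-- if `H^i_J(G) = 0` for `i ≠ d` and `H^d_J(G)` is injective then all `Ext^i(-, G)` are left exact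
on torsion modules. -/
theorem LE_all (d : ℕ) (hvanH : ∀ i, i ≠ d → Subsingleton ((localCohomology J i).obj G))
    (hinj : Module.Injective R ((localCohomology J d).obj G)) : ∀ i, LE J G i := by
  intro i
  induction i with
  | zero => exact LE_of_vanishing J G 0 (fun F' _ i hi => absurd hi (by omega))
  | succ i ih =>
    by_cases hid : i = d
    · subst hid
      exact LE_succ_of_injective J G i ih hinj
    · apply LE_of_vanishing
      intro F' hF' i' hi'
      have : i' = i := by omega
      subst this
      exact vanish_of_LE J G i' ih (hvanH i' hid) F' hF'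

theorem ext_vanish_of_H (d : ℕ) (hvanH : ∀ i, i ≠ d → Subsingleton ((localCohomology J i).obj G))
    (hinj : Module.Injective R ((localCohomology J d).obj G)) (i : ℕ) (hi : i ≠ d)
    (F : ModuleCat.{u} R) (hF : TF J F) : Subsingleton (Ext F G i) :=
  vanish_of_LE J G i (LE_all d hvanH hinj i) (hvanH i hi) F hF

section Local

variable [IsLocalRing R]

theorem gorenstein_iff :
    (∃ k : ℕ, HasInjectiveDimensionLT (ModuleCat.of R R) k) ↔
      ∃ d : ℕ, (∀ i : ℕ, i ≠ d → Subsingleton (LocCoh.H (maximalIdeal R) i R)) ∧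
        Module.Injective R (LocCoh.H (maximalIdeal R) d R) := by
  constructor
  · intro hG
    obtain ⟨d, hd⟩ := Groth.Agent.Lib.Helper5.SerreLoc.exists_finite_ringKrullDim R
    refine ⟨d, ?_, ?_⟩
    · intro i hi
      apply subsingleton_of_forall_ext
      intro k
      exact gor_vanishing hG d hd (Q (maximalIdeal R) k)
        (length_ne_top_of_tf _ (tf_Q (maximalIdeal R) k)) i hi
    · obtain ⟨g, hg⟩ := exists_hull hG d hd
      exact hg.isInjective
  · rintro ⟨d, hvanH, hinj⟩
    refine ⟨d + 1, ?_⟩
    apply GorensteinLocal.hasInjectiveDimensionLT_of_ext_residue R d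
    intro i hi
    have hk : TF (maximalIdeal R) (R ⧸ maximalIdeal R) := by
      refine ⟨inferInstance, 1, ?_⟩
      have := killedBy_Q (maximalIdeal R) (k := 1) (l := 1) le_rfl
      intro a ha x
      rw [pow_one] at ha
      obtain ⟨b, rfl⟩ := Ideal.Quotient.mk_surjective x
      rw [← Ideal.Quotient.mk_eq_mk, ← Submodule.Quotient.mk_smul, Submodule.Quotient.mk_eq_zero,
        smul_eq_mul]
      exact Ideal.mul_mem_right _ _ ha
    exact ext_vanish_of_H d hvanH hinj i (by omega) (ModuleCat.of R (R ⧸ maximalIdeal R)) hk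

end Local

end Groth.Agent.Lib.helper11.GorHull
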