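import Mathlib
import Groth.Prelude.Def_GrLC
import Groth.Agent.Lib.Helper2.HilbSerre
import Groth.Agent.Lib.helper11.SG6

/-!
# Existence of the Hilbert polynomial of a finitely generated graded module over a standard graded
ring with Artinian degree zero part (via helper2's abstract Hilbert–Serre theorem)
-/

set_option autoImplicit false
set_option linter.unusedSectionVars false
set_option linter.unusedVariables false
set_option linter.style.haveILetI false

namespace Groth.Agent.Lib.helper11.SG10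

open DirectSum Groth.Agent.Lib.Helper26.GrProj Groth.Agent.Lib.Helper20.GrKit
  Groth.Agent.Lib.Helper20.GrArt
  Groth.Agent.Lib.helper11.SG1 Groth.Agent.Lib.helper11.SG2
  Groth.Agent.Lib.Helper2.HilbSerre Groth.Agent.Lib.Helper2.BinPoly
  Groth.Agent.Lib.Helper2.RelLength

universe u

variable {R : Type u} [CommRing R] [IsNoetherianRing R] (𝒜 : ℤ → AddSubgroup R) [GradedRing 𝒜]
  (hpos : ∀ n : ℤ, n < 0 → 𝒜 n = ⊥)
  (hstd : Ideal.span (⋃ n ∈ Set.Ioi (0 : ℤ), (𝒜 n : Set R)) =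
    Ideal.span ((𝒜 1 : AddSubgroup R) : Set R))

/-- finitely many generators of degree one -/
theorem exists_gens : ∃ (s : ℕ) (x : Fin s → R), (∀ i, x i ∈ 𝒜 1) ∧
    Ideal.span (Set.range x) = Ideal.span ((𝒜 1 : AddSubgroup R) : Set R) := by
  classical
  have hfg : (Ideal.span ((𝒜 1 : AddSubgroup R) : Set R)).FG := IsNoetherian.noetherian _
  obtain ⟨s', hs'sub, hs'⟩ := (Submodule.fg_span_iff_fg_span_finset_subset _).1 hfg
  refine ⟨s'.card, fun i => (s'.equivFin.symm i : R), fun i => hs'sub (s'.equivFin.symm i).2, ?_⟩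
  have : Set.range (fun i => (s'.equivFin.symm i : R)) = (s' : Set R) := by
    ext y
    constructor
    · rintro ⟨i, rfl⟩
      exact (s'.equivFin.symm i).2
    · intro hy
      exact ⟨s'.equivFin ⟨y, hy⟩, by simp⟩
  rw [this]
  exact hs'.symm

include hstd in
/-- homogeneous elements of positive degree are combinations of the generators with homogeneous
coefficients -/
theorem exists_coeffs {s : ℕ} (x : Fin s → R) (hx : ∀ i, x i ∈ 𝒜 1)
    (hspan : Ideal.span (Set.range x) = Ideal.span ((𝒜 1 : AddSubgroup R) : Set R))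
    (j : ℤ) (hj : 0 ≤ j) (r : R) (hr : r ∈ 𝒜 (j + 1)) :
    ∃ b : Fin s → R, (∀ i, b i ∈ 𝒜 j) ∧ r = ∑ i, b i * x i := by
  classical
  have hmem : r ∈ Ideal.span (Set.range x) := by
    rw [hspan, ← hstd]
    apply Ideal.subset_span
    simp only [Set.mem_iUnion, Set.mem_Ioi, SetLike.mem_coe]
    exact ⟨j + 1, by omega, hr⟩
  obtain ⟨c, hc⟩ := Ideal.mem_span_range_iff_exists_fun.1 hmem
  refine ⟨fun i => proj 𝒜 j (c i), fun i => proj_mem 𝒜 j (c i), ?_⟩
  conv_lhs => rw [← proj_of_mem_same 𝒜 hr, ← hc, proj_sum]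
  refine Finset.sum_congr rfl fun i _ => ?_
  have := proj_smul_of_mem_right 𝒜 𝒜 (hx i) (j + 1) (c i)
  rw [add_sub_cancel_right] at this
  exact this

variable {M : Type u} [AddCommGroup M] [Module R M] (ℳ : ℤ → AddSubgroup M)
  [DirectSum.Decomposition ℳ] [SetLike.GradedSMul 𝒜 ℳ]

/-- multiplication by an element of `R` as an `R_0`-linear map -/
def mulLin (r : R) : M →ₗ[GrLC.deg0 𝒜] M where
  toFun z := r • z
  map_add' := smul_add r
  map_smul' c z := by
    change r • ((c : R) • z) = (c : R) • (r • z)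
    rw [smul_comm]

@[simp] theorem mulLin_apply (r : R) (z : M) : mulLin 𝒜 (M := M) r z = r • z := rfl

section ACC

variable {s : ℕ} (x : Fin s → R) (hx : ∀ i, x i ∈ 𝒜 1)
  (hspan : Ideal.span (Set.range x) = Ideal.span ((𝒜 1 : AddSubgroup R) : Set R))
  (d₀ : ℤ)

/-- the pieces, re-indexed by `ℕ` -/
def T (n : ℕ) : Submodule (GrLC.deg0 𝒜) M := GrLC.comp 𝒜 ℳ (d₀ + n)

include hx in
theorem stable_T : Stable (fun i => mulLin 𝒜 (M := M) (x i)) (T 𝒜 ℳ d₀) := by
  rintro i n _ ⟨z, hz, rfl⟩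
  have hz' : z ∈ ℳ (d₀ + n) := hz
  have := SetLike.GradedSMul.smul_mem (A := 𝒜) (B := ℳ) (hx i) hz'
  rw [vadd_eq_add] at this
  change x i • z ∈ ℳ (d₀ + ((n + 1 : ℕ) : ℤ))
  have e : d₀ + ((n + 1 : ℕ) : ℤ) = 1 + (d₀ + n) := by push_cast; ring
  rw [e]
  exact this

include hstd hx hspan in
/-- a stable sequence is stable under multiplication by homogeneous elements -/
theorem smul_mem_of_stable (F : ℕ → Submodule (GrLC.deg0 𝒜) M)
    (hF : Stable (fun i => mulLin 𝒜 (M := M) (x i)) F) :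
    ∀ (j : ℕ) (r : R), r ∈ 𝒜 (j : ℤ) → ∀ (n : ℕ) (z : M), z ∈ F n → r • z ∈ F (n + j) := by
  intro j
  induction j with
  | zero =>
    intro r hr n z hz
    exact (F n).smul_mem (⟨r, hr⟩ : GrLC.deg0 𝒜) hz
  | succ j ih =>
    intro r hr n z hz
    have hr' : r ∈ 𝒜 ((j : ℤ) + 1) := by
      have e : ((j + 1 : ℕ) : ℤ) = (j : ℤ) + 1 := by push_cast; ring
      rw [← e]
      exact hr
    obtain ⟨b, hb, rfl⟩ := exists_coeffs 𝒜 hstd x hx hspan (j : ℤ) (Int.natCast_nonneg j) r hr'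
    rw [Finset.sum_smul]
    refine Submodule.sum_mem _ fun i _ => ?_
    rw [mul_smul]
    have h1 : x i • z ∈ F (n + 1) := hF i n ⟨z, hz, rfl⟩
    have h2 := ih (b i) (hb i) (n + 1) (x i • z) h1
    have e : n + 1 + j = n + (j + 1) := by ring
    rw [e] at h2
    exact h2

include hpos hstd hx hspan in
/-- components of elements of the `R`-span of a stable sequence -/
theorem proj_mem_of_mem_span (hd₀ : ∀ n : ℤ, n < d₀ → ℳ n = ⊥)
    (F : ℕ → Submodule (GrLC.deg0 𝒜) M)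
    (hF : Stable (fun i => mulLin 𝒜 (M := M) (x i)) F) (hFT : ∀ n, F n ≤ T 𝒜 ℳ d₀ n)
    (y : M) (hy : y ∈ Submodule.span R (⋃ n, (F n : Set M))) (n : ℕ) :
    proj ℳ (d₀ + n) y ∈ F n := by
  classical
  induction hy using Submodule.span_induction generalizing n with
  | mem y hy =>
    simp only [Set.mem_iUnion, SetLike.mem_coe] at hy
    obtain ⟨n₁, hy⟩ := hy
    have hyT : y ∈ ℳ (d₀ + n₁) := hFT n₁ hy
    by_cases h : n₁ = n
    · subst h
      rw [proj_of_mem_same ℳ hyT]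
      exact hy
    · rw [proj_of_mem_ne ℳ hyT (by omega)]
      exact (F n).zero_mem
  | zero =>
    rw [proj_zero]
    exact (F n).zero_mem
  | add y y' _ _ hy hy' =>
    rw [proj_add]
    exact (F n).add_mem (hy n) (hy' n)
  | smul r y _ hy =>
    have hr : r = ∑ k ∈ (DirectSum.decompose 𝒜 r).support, proj 𝒜 k r := (sum_proj 𝒜 r).symm
    rw [hr, Finset.sum_smul, proj_sum]
    refine Submodule.sum_mem _ fun k _ => ?_
    rw [proj_smul_of_mem 𝒜 ℳ (proj_mem 𝒜 k r) (d₀ + n) y]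
    by_cases hk : k < 0
    · have := proj_mem 𝒜 k r
      rw [hpos k hk, AddSubgroup.mem_bot] at this
      rw [this, zero_smul]
      exact (F n).zero_mem
    · push Not at hk
      obtain ⟨k', rfl⟩ := Int.eq_ofNat_of_zero_le hk
      by_cases hkn : k' ≤ n
      · have e : d₀ + (n : ℤ) - (k' : ℤ) = d₀ + ((n - k' : ℕ) : ℤ) := by
          rw [Nat.cast_sub hkn]; ring
        rw [e]
        have h1 := hy (n - k')
        have h2 := smul_mem_of_stable 𝒜 hstd x hx hspan F hF k' (proj 𝒜 (k' : ℤ) r)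
          (proj_mem 𝒜 _ r) (n - k') _ h1
        rw [Nat.sub_add_cancel hkn] at h2
        exact h2
      · have := proj_mem ℳ (d₀ + (n : ℤ) - (k' : ℤ)) y
        rw [hd₀ _ (by omega), AddSubgroup.mem_bot] at this
        rw [this, smul_zero]
        exact (F n).zero_mem

include hpos hstd hx hspan in
theorem acc [Module.Finite R M] (hd₀ : ∀ n : ℤ, n < d₀ → ℳ n = ⊥) :
    ACC (fun i => mulLin 𝒜 (M := M) (x i)) (T 𝒜 ℳ d₀) := by
  intro F hF hFT hmono
  haveI : IsNoetherian R M := isNoetherian_of_isNoetherianRing_of_finite R M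
  let G : ℕ →o Submodule R M :=
    ⟨fun k => Submodule.span R (⋃ n, (F k n : Set M)), by
      intro k k' hkk'
      apply Submodule.span_mono
      apply Set.iUnion_mono
      intro n
      have : F k n ≤ F k' n := by
        induction hkk' with
        | refl => exact le_rfl
        | step _ ih => exact ih.trans (hmono _ n)
      exact this⟩
  obtain ⟨k₀, hk₀⟩ := monotone_stabilizes_iff_noetherian.2 inferInstance G
  refine ⟨k₀, fun k hk n => ?_⟩
  have hle : F k₀ n ≤ F k n := by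
    induction hk with
    | refl => exact le_rfl
    | step _ ih => exact ih.trans (hmono _ n)
  apply le_antisymm _ hle
  intro y hy
  have hyG : y ∈ G k := Submodule.subset_span (Set.mem_iUnion.2 ⟨n, hy⟩)
  have hyG' : y ∈ G k₀ := by rw [hk₀ k hk]; exact hyG
  have := proj_mem_of_mem_span 𝒜 hpos hstd ℳ x hx hspan d₀ hd₀ (F k₀) (hF k₀) (hFT k₀) y hyG' n
  have hyT : y ∈ ℳ (d₀ + n) := hFT k n hy
  rwa [proj_of_mem_same ℳ hyT] at this

end ACC

variable [IsArtinianRing (GrLC.deg0 𝒜)]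

include hpos hstd in
/-- **Existence of the Hilbert polynomial.** -/
theorem exists_hilbert_poly [Module.Finite R M] :
    ∃ (P : Polynomial ℚ) (N : ℤ), ∀ n : ℤ, N ≤ n → P.eval (n : ℚ) = hilb 𝒜 ℳ n := by
  classical
  obtain ⟨s, x, hx, hspan⟩ := exists_gens 𝒜
  obtain ⟨d₀, hd₀⟩ := exists_bounded_below 𝒜 ℳ hpos
  have hcomm : ∀ i j (z : M), mulLin 𝒜 (M := M) (x i) (mulLin 𝒜 (x j) z) =
      mulLin 𝒜 (x j) (mulLin 𝒜 (x i) z) := by
    intro i j z
    simp only [mulLin_apply]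
    rw [smul_comm]
  have hfin : ∀ n, Module.length (GrLC.deg0 𝒜) (T 𝒜 ℳ d₀ n) ≠ ⊤ := fun n =>
    Module.length_ne_top_iff.2 (isFiniteLength_comp 𝒜 ℳ (d₀ + n))
  have hbot : Stable (fun i => mulLin 𝒜 (M := M) (x i))
      (fun _ => (⊥ : Submodule (GrLC.deg0 𝒜) M)) := by
    intro i n
    simp
  have key := hilbert_serre (fun i => mulLin 𝒜 (M := M) (x i)) hcomm (T 𝒜 ℳ d₀)
    (acc 𝒜 hpos hstd ℳ x hx hspan d₀ hd₀) s le_rfl (fun _ => ⊥) (T 𝒜 ℳ d₀) hbot
    (stable_T 𝒜 ℳ x hx d₀) (fun n => bot_le) (fun n => le_rfl)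
    (fun i hi => absurd i.2 (by omega))
    (fun n => by rw [rl_bot_eq]; exact hfin n)
  obtain ⟨c, N, hc⟩ := key.to_fin
  let P₀ : Polynomial ℚ := ∑ k : Fin s, Polynomial.C (c k : ℚ) * Polynomial.preHilbertPoly ℚ (k : ℕ) 0
  refine ⟨P₀.comp (Polynomial.X - Polynomial.C (d₀ : ℚ)), d₀ + N, fun n hn => ?_⟩
  obtain ⟨i, hi⟩ := Int.eq_ofNat_of_zero_le (show 0 ≤ n - d₀ by omega)
  have hiN : N ≤ i := by omega
  have hn' : n = d₀ + i := by omega
  rw [Polynomial.eval_comp, Polynomial.eval_sub, Polynomial.eval_X, Polynomial.eval_C]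
  have e1 : (n : ℚ) - (d₀ : ℚ) = (i : ℚ) := by
    rw [hn']; push_cast; ring
  rw [e1]
  have e2 : P₀.eval (i : ℚ) = ∑ k : Fin s, (c k : ℚ) * ((i + (k : ℕ)).choose (k : ℕ) : ℚ) := by
    simp only [P₀]
    rw [Polynomial.eval_finset_sum]
    refine Finset.sum_congr rfl fun k _ => ?_
    rw [Polynomial.eval_mul, Polynomial.eval_C,
      Polynomial.preHilbertPoly_eq_choose_sub_add ℚ (k : ℕ) (Nat.zero_le i), Nat.sub_zero]
  rw [e2]
  have h3 := hc i hiN
  simp only [rl_bot_eq] at h3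
  unfold hilb L
  rw [hn']
  have h4 : ((Module.length (GrLC.deg0 𝒜) (T 𝒜 ℳ d₀ i)).toNat : ℚ) =
      (((Module.length (GrLC.deg0 𝒜) (T 𝒜 ℳ d₀ i)).toNat : ℤ) : ℚ) := by push_cast; rfl
  change _ = ((Module.length (GrLC.deg0 𝒜) (T 𝒜 ℳ d₀ i)).toNat : ℚ)
  rw [h4, h3]
  push_cast
  rfl

end Groth.Agent.Lib.helper11.SG10
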