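import Mathlib
import Groth.Agent.Lib.helper11.ExtShift

/-!
# Projective dimension under restriction of scalars (helper11)

If `pd_R S ≤ c` then `pd_R E ≤ c + pd_S E` for finite `S`-modules `E` (`S` Noetherian).
Also: extraction of the exact projective dimension.
-/

set_option autoImplicit false

namespace Groth.Agent.Lib.helper11.PDQuotient

open CategoryTheory Limits Groth.Agent.Lib.helper11.ExtShift

universe u

section Exact

variable {C : Type*} [Category C] [Abelian C]

/-- A nonzero object of finite projective dimension has an exact projective dimension. -/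
theorem exists_exact_pd (X : C) (hX : ¬ IsZero X)
    (h : ∃ n, HasProjectiveDimensionLT X (n + 1)) :
    ∃ e, HasProjectiveDimensionLT X (e + 1) ∧ ¬ HasProjectiveDimensionLT X e := by
  classical
  refine ⟨Nat.find h, Nat.find_spec h, fun hcon => ?_⟩
  rcases he : Nat.find h with _ | e'
  · rw [he] at hcon
    exact hX (isZero_of_hasProjectiveDimensionLT_zero _)
  · rw [he] at hcon
    exact Nat.find_min h (m := e') (by omega) hcon

theorem projectiveDimension_eq_of_exact (X : C) (e : ℕ) (h1 : HasProjectiveDimensionLT X (e + 1))
    (h2 : ¬ HasProjectiveDimensionLT X e) : projectiveDimension X = (e : WithBot ℕ∞) := by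
  rw [le_antisymm_iff, projectiveDimension_le_iff, projectiveDimension_ge_iff]
  exact ⟨h1, h2⟩

theorem exact_of_projectiveDimension_eq (X : C) (e : ℕ)
    (h : projectiveDimension X = (e : WithBot ℕ∞)) :
    HasProjectiveDimensionLT X (e + 1) ∧ ¬ HasProjectiveDimensionLT X e := by
  rw [le_antisymm_iff, projectiveDimension_le_iff, projectiveDimension_ge_iff] at h
  exact h

end Exact

variable {R S : Type u} [CommRing R] [CommRing S] [Algebra R S]

theorem hasProjectiveDimensionLT_pi (c : ℕ)
    (hc : HasProjectiveDimensionLT (ModuleCat.of R S) (c + 1)) (k : ℕ) :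
    HasProjectiveDimensionLT (ModuleCat.of R (Fin k → S)) (c + 1) := by
  induction k with
  | zero =>
    haveI := (ModuleCat.isZero_of_subsingleton
      (ModuleCat.of R (Fin 0 → S))).hasProjectiveDimensionLT_zero
    exact hasProjectiveDimensionLT_of_ge _ 0 (c + 1) (by omega)
  | succ k ih =>
    have hS := sc_shortExact (LinearMap.inl R S (Fin k → S)) (LinearMap.snd R S (Fin k → S))
      LinearMap.inl_injective LinearMap.snd_surjective Function.Exact.inl_snd
    have h2 : HasProjectiveDimensionLT (ModuleCat.of R (S × (Fin k → S))) (c + 1) :=
      hS.hasProjectiveDimensionLT_X₂ (c + 1) hc ih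
    exact hasProjectiveDimensionLT_of_iso
      (Fin.consLinearEquiv R (fun _ : Fin (k + 1) => S)).toModuleIso _

theorem hasProjectiveDimensionLT_restrictScalars [IsNoetherianRing S] (c : ℕ)
    (hc : HasProjectiveDimensionLT (ModuleCat.of R S) (c + 1)) (s : ℕ) :
    ∀ (E : Type u) [AddCommGroup E] [Module S E] [Module R E] [IsScalarTower R S E]
      [Module.Finite S E], HasProjectiveDimensionLT (ModuleCat.of S E) (s + 1) →
      HasProjectiveDimensionLT (ModuleCat.of R E) (c + s + 1) := by
  induction s with
  | zero =>
    intro E _ _ _ _ _ h
    rw [zero_add, ← projective_iff_hasProjectiveDimensionLT_one,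
      ← IsProjective.iff_projective] at h
    obtain ⟨n, f, g, -, -, hfg⟩ := Module.Finite.exists_comp_eq_id_of_projective S E
    have hret : Retract (ModuleCat.of R E) (ModuleCat.of R (Fin n → S)) :=
      { i := ModuleCat.ofHom (g.restrictScalars R)
        r := ModuleCat.ofHom (f.restrictScalars R)
        retract := by
          rw [← ModuleCat.ofHom_comp]
          have : f.restrictScalars R ∘ₗ g.restrictScalars R = LinearMap.id := by
            ext x
            exact LinearMap.congr_fun hfg x
          rw [this]
          rfl }
    haveI := hasProjectiveDimensionLT_pi c hc n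
    exact hret.hasProjectiveDimensionLT (c + 1)
  | succ s ih =>
    intro E _ _ _ _ _ h
    obtain ⟨k, f, hf⟩ := Module.Finite.exists_fin' S E
    let K := LinearMap.ker f
    have hi : Function.Injective K.subtype := Submodule.subtype_injective K
    have hex : Function.Exact K.subtype f := LinearMap.exact_subtype_ker_map f
    have hSS := sc_shortExact K.subtype f hi hf hex
    have proj : Projective (sc K.subtype f hex).X₂ := inferInstance
    have hK : HasProjectiveDimensionLT (ModuleCat.of S K) (s + 1) :=
      (hSS.hasProjectiveDimensionLT_X₃_iff s proj).mp h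
    have hKR : HasProjectiveDimensionLT (ModuleCat.of R K) (c + s + 1) := ih K hK
    have hexR : Function.Exact (K.subtype.restrictScalars R) (f.restrictScalars R) := hex
    have hSR := sc_shortExact (K.subtype.restrictScalars R) (f.restrictScalars R) hi hf hexR
    have h2 : HasProjectiveDimensionLT (ModuleCat.of R (Fin k → S)) (c + s + 1 + 1) := by
      haveI := hasProjectiveDimensionLT_pi c hc k
      exact hasProjectiveDimensionLT_of_ge _ (c + 1) _ (by omega)
    exact hSR.hasProjectiveDimensionLT_X₃ (c + s + 1) hKR h2

end Groth.Agent.Lib.helper11.PDQuotient
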