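import Groth.Agent.Lib.helper11.GenFreeTools

/-!
# Generic finite presentation over polynomial rings over a domain (helper11)
-/

set_option autoImplicit false
universe u

namespace Groth.Agent.Lib.helper11.GenFreeFP

open Groth.Agent.Lib.helper11.GenFree Groth.Agent.Lib.helper11.GenFreeTools MvPolynomial Function
  TensorProduct

variable {R : Type u} [CommRing R] [IsDomain R]

attribute [local instance] MvPolynomial.algebraMvPolynomial

/-- Step 1: every submodule of `P^t` is generated, up to `R`-torsion, by finitely many elements. -/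
theorem exists_finset_torsion (n t : ℕ)
    (K : Submodule (MvPolynomial (Fin n) R) (Fin t → MvPolynomial (Fin n) R)) :
    ∃ κ : Finset (Fin t → MvPolynomial (Fin n) R), (∀ k ∈ κ, k ∈ K) ∧
      ∀ k ∈ K, ∃ d : R, d ≠ 0 ∧ d • k ∈ Submodule.span (MvPolynomial (Fin n) R) (κ : Set _) := by
  classical
  set P := MvPolynomial (Fin n) R
  set F := FractionRing R
  set PF := MvPolynomial (Fin n) F
  have hι : Injective (algebraMap P PF) :=
    MvPolynomial.map_injective _ (IsFractionRing.injective R F)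
  let ιV : (Fin t → P) →ₗ[P] (Fin t → PF) := (Algebra.linearMap P PF).compLeft (Fin t)
  have hιV : Injective ιV := by
    intro v w hvw
    funext i
    exact hι (congrFun hvw i)
  have hFG : (Submodule.span PF (ιV '' (K : Set _))).FG := IsNoetherian.noetherian _
  obtain ⟨s', hs's, hspan⟩ := (Submodule.fg_span_iff_fg_span_finset_subset _).mp hFG
  obtain ⟨κ, hκK, rfl⟩ := Finset.subset_set_image_iff.mp hs's
  refine ⟨κ, fun k hk => hκK hk, fun k hk => ?_⟩
  have h1 : ιV k ∈ Submodule.span PF (ιV '' (κ : Set _)) := by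
    rw [← Finset.coe_image, ← hspan]
    exact Submodule.subset_span ⟨k, hk, rfl⟩
  obtain ⟨t', ht', c, hc⟩ := (Submodule.mem_span_image_iff_exists_fun PF).mp h1
  obtain ⟨b, hb⟩ := IsLocalization.exist_integer_multiples
    ((nonZeroDivisors R).map (C (σ := Fin n))) (Finset.univ : Finset t') c
  obtain ⟨d, hd, hbd⟩ := Submonoid.mem_map.mp b.2
  choose a ha using fun i : t' => hb i (Finset.mem_univ i)
  refine ⟨d, nonZeroDivisors.ne_zero hd, ?_⟩
  have h2 : ιV ((b : P) • k) = ιV (∑ i : t', a i • (i : Fin t → P)) := by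
    rw [map_smul, ← hc, Finset.smul_sum, map_sum]
    refine Finset.sum_congr rfl fun i _ => ?_
    rw [map_smul, ← algebraMap_smul PF (a i), ha i, smul_assoc]
  have h3 : (b : P) • k = ∑ i : t', a i • (i : Fin t → P) := hιV h2
  have h4 : d • k = (b : P) • k := by
    rw [← hbd, ← MvPolynomial.algebraMap_eq, algebraMap_smul]
  rw [h4, h3]
  exact Submodule.sum_mem _ fun i _ =>
    Submodule.smul_mem _ _ (Submodule.subset_span (ht' i.2))

/-- Generic finite presentation: every submodule `K` of `P^t` is generated by finitely many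
elements up to powers of a nonzero `f`. -/
theorem exists_finset_pow (n t : ℕ)
    (K : Submodule (MvPolynomial (Fin n) R) (Fin t → MvPolynomial (Fin n) R)) :
    ∃ f : R, f ≠ 0 ∧ ∃ κ : Finset (Fin t → MvPolynomial (Fin n) R), (∀ k ∈ κ, k ∈ K) ∧
      ∀ h : R, f ∣ h → ∀ k ∈ K, ∃ m : ℕ,
        h ^ m • k ∈ Submodule.span (MvPolynomial (Fin n) R) (κ : Set _) := by
  obtain ⟨κ, hκK, hκ⟩ := exists_finset_torsion n t K
  let W : Submodule (MvPolynomial (Fin n) R) (Fin t → MvPolynomial (Fin n) R) :=
    Submodule.span (MvPolynomial (Fin n) R) (κ : Set _)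
  have hN' : GenFree R ((Fin t → MvPolynomial (Fin n) R) ⧸ W) :=
    GenFreeCore.genFree_of_finite n _
  obtain ⟨f, hf, H⟩ := hN'
  refine ⟨f, hf, κ, hκK, fun h hd k hk => ?_⟩
  obtain ⟨e, rfl⟩ := hd
  obtain ⟨d, hd0, hdk⟩ := hκ k hk
  haveI := H f (dvd_refl f) hf
  have h1 : d • (W.mkQ k) = 0 := by
    rw [← LinearMap.map_smul_of_tower]
    exact (Submodule.Quotient.mk_eq_zero W).mpr hdk
  obtain ⟨m, hm⟩ := exists_pow_smul_eq_zero f hf (W.mkQ k) d hd0 h1
  refine ⟨m, ?_⟩
  rw [← LinearMap.map_smul_of_tower] at hm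
  have h2 : f ^ m • k ∈ W := (Submodule.Quotient.mk_eq_zero W).mp hm
  rw [mul_pow, mul_comm, mul_smul]
  exact Submodule.smul_of_tower_mem W _ h2

end Groth.Agent.Lib.helper11.GenFreeFP
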