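import Mathlib
import Groth.Agent.Lib.helper11.BassDepth
import Groth.Agent.Lib.helper19.RegularLocal
import Groth.Agent.S0321

/-!
# `depth M ≤ depth M_p + dim A/p` over a Noetherian local ring (helper11)
-/

set_option autoImplicit false

namespace Groth.Agent.Lib.helper11.CodepthLoc

open CategoryTheory Abelian IsLocalRing Groth.Agent.Lib.helper11.BassDepth

universe u

variable {A : Type u} [CommRing A] [IsLocalRing A] [IsNoetherianRing A]
  (M : Type u) [AddCommGroup M] [Module A M] [Module.Finite A M]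

theorem depth_le_depth_localization_add (p : Ideal A) [hp : p.IsPrime]
    [hnt : Nontrivial (LocalizedModule p.primeCompl M)] :
    ((LocCoh.depth A M : ℕ∞) : WithBot ℕ∞) ≤
      ((LocCoh.depth (Localization.AtPrime p) (LocalizedModule p.primeCompl M) : ℕ∞) : WithBot ℕ∞) +
        ringKrullDim (A ⧸ p) := by
  let s := maximalIdeal A
  have hps : p ≤ s := le_maximalIdeal hp.ne_top
  let P : PrimeSpectrum A := ⟨p, hp⟩
  let S : PrimeSpectrum A := ⟨s, (maximalIdeal.isMaximal A).isPrime⟩
  obtain ⟨n, hn⟩ := Groth.Agent.Lib.Helper21.DepthKit.exists_nat_depth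
    (A := Localization.AtPrime p) (M := LocalizedModule p.primeCompl M)
  have hle := (natCast_le_depth_localization_iff M P n).mp (by rw [hn])
  have hnle : ¬ ((n + 1 : ℕ) : ℕ∞) ≤ LocCoh.depth (Localization.AtPrime P.asIdeal)
      (LocalizedModule P.asIdeal.primeCompl M) := by
    change ¬ ((n + 1 : ℕ) : ℕ∞) ≤ LocCoh.depth (Localization.AtPrime p)
      (LocalizedModule p.primeCompl M)
    rw [hn]
    intro h
    have : n + 1 ≤ n := by exact_mod_cast h
    omega
  rw [natCast_le_depth_localization_iff M P (n + 1)] at hnle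
  push Not at hnle
  obtain ⟨i, hi, hmem⟩ := hnle
  have hin : i = n := by
    by_contra hne
    exact hle i (by omega) hmem
  subst hin
  have hker : RingHom.ker (Ideal.Quotient.mk p) ≤ s := by rw [Ideal.mk_ker]; exact hps
  have hprime : (s.map (Ideal.Quotient.mk p)).IsPrime :=
    Ideal.map_isPrime_of_surjective Ideal.Quotient.mk_surjective hker
  let t₀ : PrimeSpectrum (A ⧸ p) := ⟨s.map (Ideal.Quotient.mk p), hprime⟩
  have hfin : (s.map (Ideal.Quotient.mk p)).height ≠ ⊤ := Ideal.height_ne_top hprime.ne_top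
  obtain ⟨k, hk⟩ := ENat.ne_top_iff_exists.mp hfin
  have hk' : Order.height t₀ = k := by
    rw [hk]
    exact (PrimeSpectrum.height_eq_orderHeight t₀).symm
  let t := p.primeSpectrumQuotientOrderIsoZeroLocus t₀
  have ht : Order.height t = k := by rw [Order.height_orderIso, hk']
  have htS : t.1 = S := by
    apply PrimeSpectrum.ext
    change (s.map (Ideal.Quotient.mk p)).comap (Ideal.Quotient.mk p) = s
    rw [Ideal.comap_map_of_surjective _ Ideal.Quotient.mk_surjective, ← RingHom.ker_eq_comap_bot,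
      sup_eq_left]
    exact hker
  have hmemS := mem_support_ext_add M P i hmem k t ht
  rw [htS] at hmemS
  -- `Ext^{i+k}(A/m, M) ≠ 0`
  have hnontriv : ¬ Subsingleton (Ext (ModuleCat.of A (A ⧸ maximalIdeal A)) (ModuleCat.of A M)
      (i + k)) := by
    intro hsub
    have hempty : Module.support A
        (Ext (ModuleCat.of A (A ⧸ maximalIdeal A)) (ModuleCat.of A M) (i + k)) = ∅ :=
      Module.support_eq_empty_iff.mpr hsub
    have : S ∈ (∅ : Set (PrimeSpectrum A)) := hempty ▸ hmemS
    exact this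
  have hdepth : ¬ ((i + k + 1 : ℕ) : ℕ∞) ≤ LocCoh.depth A M := by
    unfold LocCoh.depth
    rw [Groth.Agent.S0321.le_depth_iff]
    intro hA
    exact hnontriv (hA (i + k) (by omega))
  rw [not_le] at hdepth
  have h1 : LocCoh.depth A M ≤ ((i + k : ℕ) : ℕ∞) := by
    rw [Nat.cast_add_one] at hdepth
    exact ENat.lt_natCast_add_one_iff.mp hdepth
  -- the height is the dimension of `A/p`
  haveI : IsLocalRing (A ⧸ p) := Groth.Agent.Lib.helper19.isLocalRing_quotient p hp.ne_top
  have h2 : ringKrullDim (A ⧸ p) = ((k : ℕ∞) : WithBot ℕ∞) := by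
    rw [← IsLocalRing.maximalIdeal_height_eq_ringKrullDim,
      Groth.Agent.Lib.helper19.maximalIdeal_quotient, hk]
  rw [hn, h2]
  have : ((LocCoh.depth A M : ℕ∞) : WithBot ℕ∞) ≤ (((i + k : ℕ) : ℕ∞) : WithBot ℕ∞) :=
    WithBot.coe_le_coe.mpr h1
  refine this.trans (le_of_eq ?_)
  push_cast
  rfl

end Groth.Agent.Lib.helper11.CodepthLoc
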