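import Mathlib
import Groth.Agent.Lib.helper11.CMLocus
import Groth.Agent.Lib.helper11.ExtShift
import Groth.Agent.Lib.Helper21.EvalLoc

/-!
# `Ext¹(M, S) = 0` for torsionless modules over a Gorenstein ring of dimension `≤ 1` (helper11)
-/

namespace Groth.Agent.Lib.helper11.TorsionlessExt

open CategoryTheory Abelian Module

universe u

variable (S : Type u) [CommRing S] [LocCoh.IsGorensteinRing S]

/-- Over a Gorenstein ring of dimension `≤ n`, `Ext^i(Q, S) = 0` for f.g. `Q` and `i > n`. -/
theorem subsingleton_ext_of_lt (n : ℕ) (hn : ringKrullDim S ≤ n) (Q : Type u) [AddCommGroup Q]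
    [Module S Q] [Module.Finite S Q] (i : ℕ) (hi : n < i) :
    Subsingleton (Ext (ModuleCat.of S Q) (ModuleCat.of S S) i) := by
  rw [← Module.support_eq_empty_iff (R := S)]
  ext P
  simp only [Set.mem_empty_iff_false, iff_false]
  exact CMLocus.notMem_Z_of_lt S Q n hn P i hi

/-- torsionless f.g. modules over a Gorenstein ring of dimension `≤ 1` have `Ext¹(M, S) = 0`. -/
theorem ext_one_subsingleton (hdim : ringKrullDim S ≤ 1) (M : Type u) [AddCommGroup M]
    [Module S M] [Module.Finite S M] (hinj : Function.Injective (Dual.eval S M)) :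
    Subsingleton (Ext (ModuleCat.of S M) (ModuleCat.of S S) 1) := by
  haveI : Module.Finite S (Dual S M) := Groth.Agent.Lib.Helper21.EvalLoc.finite_dual M
  obtain ⟨n, π, hπ⟩ := Module.Finite.exists_fin' S (Dual S M)
  let j : M →ₗ[S] Dual S (Fin n → S) := π.dualMap ∘ₗ Dual.eval S M
  have hj : Function.Injective j :=
    (LinearMap.dualMap_injective_of_surjective hπ).comp hinj
  let Q := Dual S (Fin n → S) ⧸ LinearMap.range j
  have hex : Function.Exact j (LinearMap.range j).mkQ := by
    rw [LinearMap.exact_iff, Submodule.ker_mkQ]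
  obtain ⟨e⟩ := ExtShift.ext_succ_equiv j (LinearMap.range j).mkQ hj
    (Submodule.mkQ_surjective _) hex S 0
  haveI : Subsingleton (Ext (ModuleCat.of S Q) (ModuleCat.of S S) (0 + 2)) :=
    subsingleton_ext_of_lt S 1 (by exact_mod_cast hdim) Q 2 (by norm_num)
  exact e.toEquiv.subsingleton

end Groth.Agent.Lib.helper11.TorsionlessExt
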