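import Mathlib
import Groth.Agent.Lib.helper11.TorsionlessExt
import Groth.Agent.Lib.helper11.ExtRegular

/-!
# Torsionless ⇒ reflexive over a reduced Gorenstein ring of dimension `≤ 1` (helper11)
-/

set_option autoImplicit false

namespace Groth.Agent.Lib.helper11.TorsionlessReflexive

open CategoryTheory Abelian Module

universe w v u

section General

variable {C : Type u} [Category.{v} C] [Abelian C] [HasExt.{w} C]
variable {S : ShortComplex C} (hS : S.ShortExact) (Y : C)

include hS in
theorem subsingleton_ext_one_X₃ (h2 : Subsingleton (Ext S.X₂ Y 1))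
    (hlift : ∀ φ : S.X₁ ⟶ Y, ∃ ψ : S.X₂ ⟶ Y, S.f ≫ ψ = φ) : Subsingleton (Ext S.X₃ Y 1) := by
  suffices h : ∀ x : Ext S.X₃ Y 1, x = 0 from ⟨fun a b => by rw [h a, h b]⟩
  intro x₃
  have h0 : (Ext.mk₀ S.g).comp x₃ (zero_add 1) = 0 := Subsingleton.elim _ _
  obtain ⟨x₁, hx₁⟩ := Ext.contravariant_sequence_exact₃ hS Y x₃ h0 (show 1 + 0 = 1 by rfl)
  obtain ⟨φ, rfl⟩ := (Ext.mk₀_bijective _ _).2 x₁
  obtain ⟨ψ, rfl⟩ := hlift φ
  rw [← hx₁, ← Ext.mk₀_comp_mk₀, ← Ext.comp_assoc (h₁₂ := show 1 + 0 = 1 by rfl)
      (h₂₃ := show 0 + 0 = 0 by rfl) (h := show 1 + 0 + 0 = 1 by rfl), hS.extClass_comp,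
    Ext.zero_comp]

include hS in
theorem subsingleton_ext_X₁ (n : ℕ) (h2 : Subsingleton (Ext S.X₂ Y n))
    (h3 : Subsingleton (Ext S.X₃ Y (n + 1))) : Subsingleton (Ext S.X₁ Y n) := by
  suffices h : ∀ x : Ext S.X₁ Y n, x = 0 from ⟨fun a b => by rw [h a, h b]⟩
  intro x₁
  have h0 : hS.extClass.comp x₁ (add_comm 1 n) = 0 := Subsingleton.elim _ _
  obtain ⟨x₂, rfl⟩ := Ext.contravariant_sequence_exact₁ hS Y x₁ (add_comm 1 n) h0
  rw [Subsingleton.elim x₂ 0, Ext.comp_zero]

end General

variable (S : Type u) [CommRing S]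

/-- duals are torsionless. -/
theorem eval_dual_injective (N : Type u) [AddCommGroup N] [Module S N] :
    Function.Injective (Dual.eval S (Dual S N)) := by
  rw [injective_iff_map_eq_zero]
  intro ξ hξ
  ext n
  have := congrArg (fun Φ => Φ (Dual.eval S N n)) hξ
  simpa using this

section Nontrivial

variable [IsNoetherianRing S] [IsReduced S]

/-- a non-minimal prime of a reduced Noetherian ring contains a nonzerodivisor. -/
theorem exists_mem_nonZeroDivisors (P : Ideal S) [hP : P.IsPrime] (hmin : P ∉ minimalPrimes S) :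
    ∃ x ∈ P, x ∈ nonZeroDivisors S := by
  by_contra hcon
  push Not at hcon
  have hdisj : Disjoint (P : Set S) (nonZeroDivisors S) := by
    rw [Set.disjoint_left]
    intro x hxP hx
    exact hcon x hxP hx
  have hlt := Ideal.bot_lt_annihilator_of_disjoint_nonZeroDivisors hdisj
  obtain ⟨a, ha, ha0⟩ := SetLike.exists_of_lt hlt
  have ha0' : a ≠ 0 := fun h => ha0 (by rw [h]; exact Submodule.zero_mem _)
  have hnil : a ∉ sInf (minimalPrimes S) := by
    rw [minimalPrimes, Ideal.sInf_minimalPrimes]
    intro h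
    apply ha0'
    have : a ∈ nilradical S := h
    rw [nilradical_eq_zero] at this
    exact this
  rw [Ideal.mem_sInf] at hnil
  push Not at hnil
  obtain ⟨Q, hQ, haQ⟩ := hnil
  haveI : Q.IsPrime := hQ.1.1
  have hPQ : P ≤ Q := by
    intro p hp
    have h1 := Module.mem_annihilator.1 ha ⟨p, hp⟩
    have h2 : a * p = 0 := by
      have := congrArg Subtype.val h1
      simpa using this
    have h3 : a * p ∈ Q := by rw [h2]; exact Q.zero_mem
    rcases Ideal.IsPrime.mem_or_mem inferInstance h3 with h | h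
    · exact absurd h haQ
    · exact h
  have hQP : Q ≤ P := hQ.2 ⟨hP, bot_le⟩ hPQ
  exact hmin (le_antisymm hPQ hQP ▸ hQ)

theorem nontrivial_ext_one_quotient (hdim : ringKrullDim S ≤ 1) (P : Ideal S) [hP : P.IsPrime]
    (hmin : P ∉ minimalPrimes S) :
    Nontrivial (Ext (ModuleCat.of S (S ⧸ P)) (ModuleCat.of S S) 1) := by
  obtain ⟨x, hxP, hx⟩ := exists_mem_nonZeroDivisors S P hmin
  have hreg : RingTheory.Sequence.IsWeaklyRegular S [x] := by
    rw [RingTheory.Sequence.isWeaklyRegular_cons_iff]
    refine ⟨?_, RingTheory.Sequence.IsWeaklyRegular.nil _ _⟩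
    intro a b hab
    simp only [smul_eq_mul] at hab
    have : (a - b) * x = 0 := by rw [sub_mul, mul_comm a, mul_comm b, hab, sub_self]
    exact sub_eq_zero.1 ((mem_nonZeroDivisors_iff_right.1 hx) _ this)
  obtain ⟨e⟩ := ExtRegular.hom_quotient_equiv_ext S (S ⧸ P) P
    (fun r hr n => by
      obtain ⟨n, rfl⟩ := Ideal.Quotient.mk_surjective n
      change Ideal.Quotient.mk P (r * n) = 0
      rw [Ideal.Quotient.eq_zero_iff_mem]
      exact Ideal.mul_mem_right _ _ hr) [x] S hreg
    (fun r hr => by
      rw [List.mem_singleton] at hr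
      rw [hr]; exact hxP)
  set J : Submodule S S := Ideal.ofList [x] • (⊤ : Submodule S S) with hJ
  have hJx : J = Ideal.span {x} := by
    rw [hJ, Ideal.ofList_singleton]
    change Ideal.span {x} • (⊤ : Ideal S) = _
    rw [smul_eq_mul, Ideal.mul_top]
  -- `P` is minimal over `(x)`
  have hPmin : P ∈ (Module.annihilator S (S ⧸ J)).minimalPrimes := by
    rw [Submodule.annihilator_quotient, Submodule.colon_univ, hJx]
    refine ⟨⟨hP, (Ideal.span_singleton_le_iff_mem _).2 hxP⟩, ?_⟩
    rintro Q ⟨hQ, hxQ⟩ hQP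
    by_contra hne
    have hlt : Q < P := lt_of_le_of_ne hQP (fun h => hne (h ▸ le_refl _))
    haveI := hQ
    have h1 : Q.height < P.height := Ideal.height_strict_mono_of_isPrime hlt
    have h2 : (P.height : WithBot ℕ∞) ≤ 1 :=
      le_trans (Ideal.height_le_ringKrullDim_of_ne_top hP.ne_top) hdim
    have h3 : P.height ≤ 1 := by exact_mod_cast h2
    have h4 : Q.height = 0 := by
      have : Q.height < 1 := lt_of_lt_of_le h1 h3
      exact ENat.lt_one_iff_eq_zero.1 this
    have h5 : Q ∈ minimalPrimes S := by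
      rw [← Ideal.height_eq_zero_iff] at *
      exact h4
    exact (Ideal.disjoint_nonZeroDivisors_of_mem_minimalPrimes h5).le_bot
      ⟨(Ideal.span_singleton_le_iff_mem _).1 hxQ, hx⟩
  have hass := Module.associatedPrimes.minimalPrimes_annihilator_subset_associatedPrimes S
    (S ⧸ J) hPmin
  obtain ⟨-, ybar, hy⟩ := isAssociatedPrime_iff.1 hass
  have hPker : P ≤ LinearMap.ker (LinearMap.toSpanSingleton S (S ⧸ J) ybar) := by
    intro r hr
    rw [hy, Submodule.mem_colon_singleton, Submodule.mem_bot] at hr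
    rw [LinearMap.mem_ker, LinearMap.toSpanSingleton_apply]
    exact hr
  let f : (S ⧸ P) →ₗ[S] (S ⧸ J) := Submodule.liftQ P _ hPker
  have hf1 : f (Ideal.Quotient.mk P 1) = ybar := by
    change (LinearMap.toSpanSingleton S (S ⧸ J) ybar) 1 = ybar
    rw [LinearMap.toSpanSingleton_apply, one_smul]
  have hy0 : ybar ≠ 0 := by
    intro h0
    apply hP.ne_top
    rw [hy, h0, eq_top_iff]
    intro r _
    rw [Submodule.mem_colon_singleton, smul_zero]
    exact Submodule.zero_mem _
  have hf0 : f ≠ 0 := by
    intro h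
    apply hy0
    rw [← hf1, h, LinearMap.zero_apply]
  exact ⟨e f, 0, fun h => hf0 (e.injective (by rw [h, map_zero]))⟩

end Nontrivial

section Main

open Groth.Agent.Lib.Helper21

variable [hG : LocCoh.IsGorensteinRing S] [IsReduced S]
variable (M : Type u) [AddCommGroup M] [Module S M] [Module.Finite S M]

/-- at a minimal prime `P` of a reduced Noetherian ring, every element of `M**` becomes an
evaluation after multiplying by an element outside `P`. -/
theorem exists_smul_mem_range_eval (P : Ideal S) [hP : P.IsPrime] (hmin : P ∈ minimalPrimes S)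
    (ξ : Dual S (Dual S M)) :
    ∃ r : S, r ∉ P ∧ r • ξ ∈ LinearMap.range (Dual.eval S M) := by
  have h1 := IsLocalization.AtPrime.radical_map_of_mem_minimalPrimes
    (Localization.AtPrime P) P ⊥ hmin
  rw [Ideal.map_bot] at h1
  have h2 : (⊥ : Ideal (Localization.AtPrime P)).radical = ⊥ :=
    nilradical_eq_zero (Localization.AtPrime P)
  have hf : IsField (Localization.AtPrime P) := by
    rw [IsLocalRing.isField_iff_maximalIdeal_eq, ← Localization.AtPrime.map_eq_maximalIdeal,
      ← h1, h2]
  have hfree : Module.Free (Localization.AtPrime P) (LocalizedModule P.primeCompl M) := by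
    let := hf.toField
    exact Module.Free.of_divisionRing _ _
  haveI : Module.IsReflexive (Localization.AtPrime P) (LocalizedModule P.primeCompl M) :=
    inferInstance
  obtain ⟨n, hn⟩ := (Module.bijective_dual_eval (Localization.AtPrime P)
    (LocalizedModule P.primeCompl M)).2 (EvalLoc.D2 M P ξ)
  obtain ⟨⟨m, s⟩, hms⟩ := IsLocalizedModule.surj P.primeCompl
    (LocalizedModule.mkLinearMap P.primeCompl M) n
  have e1 := LinearMap.congr_fun (EvalLoc.eval_comp M P) m
  have key : EvalLoc.D2 M P ((s : S) • ξ) = EvalLoc.D2 M P (Dual.eval S M m) := by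
    calc EvalLoc.D2 M P ((s : S) • ξ) = (s : S) • EvalLoc.D2 M P ξ := map_smul _ _ _
      _ = (s : S) • ((Dual.eval (Localization.AtPrime P)
            (LocalizedModule P.primeCompl M)).restrictScalars S) n := by rw [← hn]; rfl
      _ = ((Dual.eval (Localization.AtPrime P)
            (LocalizedModule P.primeCompl M)).restrictScalars S) ((s : S) • n) :=
          (map_smul _ _ _).symm
      _ = ((Dual.eval (Localization.AtPrime P)
            (LocalizedModule P.primeCompl M)).restrictScalars S)
            (LocalizedModule.mkLinearMap P.primeCompl M m) := by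
          congr 1
      _ = EvalLoc.D2 M P (Dual.eval S M m) := e1
  obtain ⟨t, ht⟩ := IsLocalizedModule.exists_of_eq (S := P.primeCompl) (f := EvalLoc.D2 M P) key
  refine ⟨(t : S) * (s : S), ?_, ?_⟩
  · intro h
    rcases Ideal.IsPrime.mem_or_mem inferInstance h with h | h
    · exact t.2 h
    · exact s.2 h
  · rw [mul_smul]
    refine ⟨(t : S) • m, ?_⟩
    rw [map_smul]
    exact ht.symm

theorem isReflexive_of_injective (hdim : ringKrullDim S ≤ 1)
    (hinj : Function.Injective (Dual.eval S M)) : Module.IsReflexive S M := by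
  haveI : Module.Finite S (Dual S M) := EvalLoc.finite_dual M
  haveI : Module.Finite S (Dual S (Dual S M)) := EvalLoc.finite_dual (Dual S M)
  let ev := Dual.eval S M
  let C := Dual S (Dual S M) ⧸ LinearMap.range ev
  have hex : Function.Exact ev (LinearMap.range ev).mkQ := by
    rw [LinearMap.exact_iff, Submodule.ker_mkQ]
  have hS := ExtShift.sc_shortExact ev (LinearMap.range ev).mkQ hinj
    (Submodule.mkQ_surjective _) hex
  have h1 : Subsingleton (Ext (ModuleCat.of S C) (ModuleCat.of S S) 1) := by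
    refine subsingleton_ext_one_X₃ hS (ModuleCat.of S S) ?_ ?_
    · exact TorsionlessExt.ext_one_subsingleton S hdim (Dual S (Dual S M))
        (eval_dual_injective S (Dual S M))
    · intro φ
      refine ⟨ModuleCat.ofHom (Dual.eval S (Dual S M) φ.hom), ?_⟩
      ext m
      rfl
  constructor
  refine ⟨hinj, ?_⟩
  by_contra hsurj
  have hCnt : Nontrivial C := by
    rw [Submodule.Quotient.nontrivial_iff]
    intro h
    exact hsurj (LinearMap.range_eq_top.1 h)
  obtain ⟨P, hP⟩ := associatedPrimes.nonempty S C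
  obtain ⟨hPprime, c, hc⟩ := isAssociatedPrime_iff.1 hP
  haveI := hPprime
  have hmin : P ∉ minimalPrimes S := by
    intro hmin
    obtain ⟨ξ, rfl⟩ := Submodule.mkQ_surjective _ c
    obtain ⟨r, hrP, hr⟩ := exists_smul_mem_range_eval S M P hmin ξ
    apply hrP
    rw [hc, Submodule.mem_colon_singleton, Submodule.mem_bot, ← map_smul,
      Submodule.mkQ_apply, Submodule.Quotient.mk_eq_zero]
    exact hr
  haveI := nontrivial_ext_one_quotient S hdim P hmin
  have hPker : P ≤ LinearMap.ker (LinearMap.toSpanSingleton S C c) := by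
    intro r hr
    rw [hc, Submodule.mem_colon_singleton, Submodule.mem_bot] at hr
    rw [LinearMap.mem_ker, LinearMap.toSpanSingleton_apply]
    exact hr
  let ι : (S ⧸ P) →ₗ[S] C := Submodule.liftQ P _ hPker
  have hι : Function.Injective ι := by
    rw [← LinearMap.ker_eq_bot]
    apply Submodule.ker_liftQ_eq_bot
    intro r hr
    rw [LinearMap.mem_ker, LinearMap.toSpanSingleton_apply] at hr
    rw [hc, Submodule.mem_colon_singleton, Submodule.mem_bot]
    exact hr
  have hex' : Function.Exact ι (LinearMap.range ι).mkQ := by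
    rw [LinearMap.exact_iff, Submodule.ker_mkQ]
  have hS' := ExtShift.sc_shortExact ι (LinearMap.range ι).mkQ hι
    (Submodule.mkQ_surjective _) hex'
  have h3 : Subsingleton (Ext (ModuleCat.of S (C ⧸ LinearMap.range ι)) (ModuleCat.of S S) (1 + 1)) :=
    TorsionlessExt.subsingleton_ext_of_lt S 1 (by exact_mod_cast hdim) _ 2 (by norm_num)
  have := subsingleton_ext_X₁ hS' (ModuleCat.of S S) 1 h1 h3
  exact false_of_nontrivial_of_subsingleton (Ext (ModuleCat.of S (S ⧸ P)) (ModuleCat.of S S) 1)

end Main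

end Groth.Agent.Lib.helper11.TorsionlessReflexive
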