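import Mathlib
import Groth.Agent.Lib.helper11.LCNonVanish

/-!
# Systems of parameters and top local cohomology (helper11)

* `ringKrullDim_quotient_le_card` : if `m ≤ √(I + (s))` with `s ⊆ m` finite then `dim R/I ≤ |s|`.
* `supportDim_le_of_le_annihilator` : `dim M ≤ dim R/I` if `I ≤ Ann M`.
* `smul_surjective_top` : if `dim M ≤ n` and `dim M/yM < n` then `y` acts surjectively on `H^n_m(M)`.
-/

set_option autoImplicit false

namespace Groth.Agent.Lib.helper11.LCKit

open CategoryTheory Limits Opposite localCohomology Abelian IsLocalRing Pointwise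

universe u

variable {R : Type u} [CommRing R] [IsNoetherianRing R] [IsLocalRing R]

/-- A quotient by an ideal whose radical contains `m` has dimension `≤ 0`. -/
theorem ringKrullDim_quotient_le_zero (J : Ideal R) (hJ : maximalIdeal R ≤ J.radical) :
    ringKrullDim (R ⧸ J) ≤ 0 := by
  rw [ringKrullDim_quotient]
  haveI : Subsingleton (PrimeSpectrum.zeroLocus (J : Set R)) := by
    refine ⟨fun p q => ?_⟩
    have key : ∀ x : PrimeSpectrum.zeroLocus (J : Set R), x.1.asIdeal = maximalIdeal R := by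
      intro x
      have h1 : J ≤ x.1.asIdeal := (PrimeSpectrum.mem_zeroLocus _ _).1 x.2
      have h2 : J.radical ≤ x.1.asIdeal := x.1.isPrime.radical_le_iff.2 h1
      exact le_antisymm (IsLocalRing.le_maximalIdeal x.1.isPrime.ne_top) (hJ.trans h2)
    apply Subtype.ext
    apply PrimeSpectrum.ext
    rw [key p, key q]
  exact Order.krullDim_nonpos_of_subsingleton

/-- If `m ≤ √(I + (s))` with `s ⊆ m` finite then `dim R/I ≤ |s|`. -/
theorem ringKrullDim_quotient_le_card (I : Ideal R) (s : Finset R)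
    (hs : ∀ x ∈ s, x ∈ maximalIdeal R)
    (h : maximalIdeal R ≤ (I ⊔ Ideal.span (s : Set R)).radical) :
    ringKrullDim (R ⧸ I) ≤ (s.card : WithBot ℕ∞) := by
  classical
  let s' : Finset (R ⧸ I) := s.image (Ideal.Quotient.mk I)
  have hs' : (s' : Set (R ⧸ I)) ⊆ Ring.jacobson (R ⧸ I) := by
    intro y hy
    obtain ⟨x, hx, rfl⟩ := Finset.mem_image.1 (Finset.mem_coe.1 hy)
    have hx' : x ∈ Ring.jacobson R := by
      rw [IsLocalRing.ringJacobson_eq_maximalIdeal]; exact hs x hx
    exact Ring.le_comap_jacobson (Ideal.Quotient.mk I) hx'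
  have h1 := ringKrullDim_le_ringKrullDim_quotient_add_card s' hs'
  have hspan : Ideal.span (s' : Set (R ⧸ I)) = (Ideal.span (s : Set R)).map (Ideal.Quotient.mk I) := by
    rw [Ideal.map_span, Finset.coe_image]
  have h2 : ringKrullDim ((R ⧸ I) ⧸ Ideal.span (s' : Set (R ⧸ I))) ≤ 0 := by
    rw [hspan, ringKrullDim_eq_of_ringEquiv (DoubleQuot.quotQuotEquivQuotSup I (Ideal.span (s : Set R)))]
    exact ringKrullDim_quotient_le_zero _ h
  calc ringKrullDim (R ⧸ I) ≤ ringKrullDim ((R ⧸ I) ⧸ Ideal.span (s' : Set (R ⧸ I))) + s'.card := h1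
    _ ≤ 0 + (s.card : WithBot ℕ∞) := by
        gcongr
        exact_mod_cast Finset.card_image_le
    _ = s.card := zero_add _

/-- For a system of parameters `a₁, …, aₙ`, `dim R/(a_i, i ∈ F) ≤ n - |F|`. -/
theorem sop_dim_le {n : ℕ} (a : Fin n → R) (ha : ∀ i, a i ∈ maximalIdeal R)
    (hsop : maximalIdeal R ≤ (Ideal.span (Set.range a)).radical) (F : Finset (Fin n)) :
    ringKrullDim (R ⧸ Ideal.span (a '' (F : Set (Fin n)))) ≤ ((n - F.card : ℕ) : WithBot ℕ∞) := by
  classical
  have h1 := ringKrullDim_quotient_le_card (Ideal.span (a '' (F : Set (Fin n)))) (Fᶜ.image a)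
    (fun x hx => by
      obtain ⟨i, -, rfl⟩ := Finset.mem_image.1 hx
      exact ha i)
    (by
      refine hsop.trans (Ideal.radical_mono ?_)
      rw [Ideal.span_le]
      rintro _ ⟨i, rfl⟩
      by_cases hi : i ∈ F
      · exact Ideal.mem_sup_left (Ideal.subset_span ⟨i, Finset.mem_coe.2 hi, rfl⟩)
      · refine Ideal.mem_sup_right (Ideal.subset_span ?_)
        rw [Finset.coe_image]
        exact ⟨i, Finset.mem_coe.2 (Finset.mem_compl.2 hi), rfl⟩)
  refine h1.trans ?_
  have h2 : (Fᶜ.image a).card ≤ n - F.card := by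
    refine Finset.card_image_le.trans ?_
    rw [Finset.card_compl, Fintype.card_fin]
  exact_mod_cast h2

/-- `dim M ≤ dim R/I` if `I` kills `M`. -/
theorem supportDim_le_of_le_annihilator (I : Ideal R) (M : Type u) [AddCommGroup M] [Module R M]
    [Module.Finite R M] (h : I ≤ Module.annihilator R M) :
    Module.supportDim R M ≤ ringKrullDim (R ⧸ I) := by
  rw [ringKrullDim_quotient]
  have hsub : ∀ a : Module.support R M, a.1 ∈ PrimeSpectrum.zeroLocus (I : Set R) := fun a =>
    (PrimeSpectrum.mem_zeroLocus _ _).2 (h.trans (Module.mem_support_iff_of_finite.1 a.2))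
  exact Order.krullDim_le_of_strictMono (fun a => (⟨a.1, hsub a⟩ : PrimeSpectrum.zeroLocus (I : Set R)))
    (fun {_ _} lt => lt)

/-- If `dim M ≤ n` and `dim M/yM < n` then `y` acts surjectively on `H^n_m(M)`. -/
theorem smul_surjective_top (n : ℕ) (M : Type u) [AddCommGroup M] [Module R M]
    [Module.Finite R M] (y : R) (h : Module.supportDim R M ≤ n)
    (hltQ : Module.supportDim R (QuotSMulTop y M) < n) :
    ∀ z : (localCohomology (maximalIdeal R) n).obj (ModuleCat.of R M), ∃ z', y • z' = z := by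
  haveI hQ : Subsingleton ((localCohomology (maximalIdeal R) n).obj
      (ModuleCat.of R (QuotSMulTop y M))) :=
    subsingleton_of_supportDim_lt (maximalIdeal R) n (QuotSMulTop y M) hltQ
  -- the two short exact sequences
  let P : Submodule R M := LinearMap.range (LinearMap.lsmul R M y)
  have hPeq : P = y • (⊤ : Submodule R M) := by
    ext t
    rw [Submodule.mem_smul_pointwise_iff_exists]
    constructor
    · rintro ⟨s, rfl⟩
      exact ⟨s, trivial, rfl⟩
    · rintro ⟨s, -, rfl⟩
      exact ⟨s, rfl⟩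
  let S1 := Groth.Agent.Lib.helper11.FinLenInd.subSC (ModuleCat.of R M) P
  have hS1 : S1.ShortExact := Groth.Agent.Lib.helper11.FinLenInd.subSC_shortExact _ _
  let S2 := smulKerSC (R := R) M y
  have hS2 : S2.ShortExact := smulKerSC_shortExact M y
  haveI hQ' : Subsingleton ((localCohomology (maximalIdeal R) n).obj S1.X₃) := by
    have e : (M ⧸ P) ≃ₗ[R] QuotSMulTop y M := Submodule.quotEquivOfEq _ _ hPeq
    have hd : Module.supportDim R (M ⧸ P) < n := by
      rw [Module.supportDim_eq_of_equiv e]; exact hltQ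
    exact subsingleton_of_supportDim_lt (maximalIdeal R) n (M ⧸ P) hd
  haveI hK : Subsingleton ((localCohomology (maximalIdeal R) (n + 1)).obj S2.X₁) := by
    have hd : Module.supportDim R (LinearMap.ker (LinearMap.lsmul R M y)) < ((n + 1 : ℕ) : WithBot ℕ∞) :=
      lt_of_le_of_lt ((Module.supportDim_le_of_injective _ (Submodule.injective_subtype _)).trans h)
        (by exact_mod_cast Nat.lt_succ_self n)
    exact subsingleton_of_supportDim_lt (maximalIdeal R) (n + 1) _ hd
  intro z
  obtain ⟨w, hw⟩ := exact₂ (maximalIdeal R) n hS1 z (Subsingleton.elim _ _)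
  obtain ⟨z', hz'⟩ : ∃ z' : (localCohomology (maximalIdeal R) n).obj (ModuleCat.of R M),
      ((localCohomology (maximalIdeal R) n).map S2.g).hom z' = w :=
    exact₃ (maximalIdeal R) n hS2 w (Subsingleton.elim _ _)
  refine ⟨z', ?_⟩
  rw [smul_eq_map, ← hw, ← hz']
  have h3 : (localCohomology (maximalIdeal R) n).map (y • 𝟙 (ModuleCat.of R M)) =
      (localCohomology (maximalIdeal R) n).map S2.g ≫
        (localCohomology (maximalIdeal R) n).map S1.f := by
    rw [← Functor.map_comp]
    rfl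
  rw [h3]
  rfl

/-- `x` kills `M/xM`. -/
theorem smul_quotSMulTop_eq_zero {M : Type u} [AddCommGroup M] [Module R M] (x : R)
    (t : QuotSMulTop x M) : x • t = 0 := by
  obtain ⟨m, rfl⟩ := Submodule.mkQ_surjective _ t
  rw [← map_smul, Submodule.mkQ_apply, Submodule.Quotient.mk_eq_zero]
  exact Submodule.smul_mem_pointwise_smul m x ⊤ trivial

/-- If `y` kills `M` it kills `M/xM`. -/
theorem smul_quotSMulTop_eq_zero_of {M : Type u} [AddCommGroup M] [Module R M] (x y : R)
    (hy : ∀ m : M, y • m = 0) (t : QuotSMulTop x M) : y • t = 0 := by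
  obtain ⟨m, rfl⟩ := Submodule.mkQ_surjective _ t
  rw [← map_smul, hy, map_zero]

/-- The key lemma for the second element of a system of parameters: if `y h = 0` in the top local
cohomology `H^{i+1}_m(R)` then `h = x h'` with `y h' = 0`, provided `dim R ≤ i + 1`,
`dim R/(y) ≤ i` and `dim R/(y, x) < i`. -/
theorem exists_smul_eq_of_smul_eq_zero (i : ℕ) (y x : R)
    (hD1 : ringKrullDim R ≤ ((i + 1 : ℕ) : WithBot ℕ∞))
    (hD2 : ringKrullDim (R ⧸ Ideal.span {y}) ≤ (i : WithBot ℕ∞))
    (hD3 : ringKrullDim (R ⧸ Ideal.span {y, x}) < (i : WithBot ℕ∞))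
    (h : (localCohomology (maximalIdeal R) (i + 1)).obj (ModuleCat.of R R)) (hy : y • h = 0) :
    ∃ h' : (localCohomology (maximalIdeal R) (i + 1)).obj (ModuleCat.of R R),
      y • h' = 0 ∧ x • h' = h := by
  let P : Submodule R R := LinearMap.range (LinearMap.lsmul R R y)
  let S1 := Groth.Agent.Lib.helper11.FinLenInd.subSC (ModuleCat.of R R) P
  have hS1 : S1.ShortExact := Groth.Agent.Lib.helper11.FinLenInd.subSC_shortExact _ _
  let S2 := smulKerSC (R := R) R y
  have hS2 : S2.ShortExact := smulKerSC_shortExact R y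
  -- dimension facts
  have hdR : Module.supportDim R R ≤ ((i + 1 : ℕ) : WithBot ℕ∞) := by
    rw [Module.supportDim_self_eq_ringKrullDim]; exact hD1
  have hyQ : ∀ t : R ⧸ P, y • t = 0 := by
    intro t
    obtain ⟨r, rfl⟩ := Submodule.mkQ_surjective P t
    rw [← map_smul, Submodule.mkQ_apply, Submodule.Quotient.mk_eq_zero]
    exact ⟨r, rfl⟩
  have hdQ : Module.supportDim R (R ⧸ P) ≤ i := by
    refine (supportDim_le_of_le_annihilator (Ideal.span {y}) (R ⧸ P) ?_).trans hD2
    rw [Ideal.span_le, Set.singleton_subset_iff]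
    exact Module.mem_annihilator.2 hyQ
  have hdQQ : Module.supportDim R (QuotSMulTop x (R ⧸ P)) < i := by
    refine lt_of_le_of_lt (supportDim_le_of_le_annihilator (Ideal.span {y, x}) _ ?_) hD3
    rw [Ideal.span_le]
    rintro r (rfl | rfl)
    · exact Module.mem_annihilator.2 (smul_quotSMulTop_eq_zero_of x r hyQ)
    · exact Module.mem_annihilator.2 (smul_quotSMulTop_eq_zero r)
  have hyK : ∀ t : LinearMap.ker (LinearMap.lsmul R R y), y • t = 0 := by
    intro t
    apply Subtype.ext
    exact LinearMap.mem_ker.1 t.2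
  have hdK : Module.supportDim R (LinearMap.ker (LinearMap.lsmul R R y)) ≤
      ((i + 1 : ℕ) : WithBot ℕ∞) :=
    (Module.supportDim_le_of_injective _ (Submodule.injective_subtype _)).trans hdR
  have hdKQ : Module.supportDim R (QuotSMulTop x (LinearMap.ker (LinearMap.lsmul R R y))) <
      ((i + 1 : ℕ) : WithBot ℕ∞) := by
    refine lt_of_le_of_lt ((supportDim_le_of_le_annihilator (Ideal.span {y}) _ ?_).trans hD2)
      (by exact_mod_cast Nat.lt_succ_self i)
    rw [Ideal.span_le, Set.singleton_subset_iff]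
    exact Module.mem_annihilator.2 (smul_quotSMulTop_eq_zero_of x y hyK)
  -- vanishing of `H^{i+2}(ker)`
  haveI hK2 : Subsingleton ((localCohomology (maximalIdeal R) (i + 1 + 1)).obj S2.X₁) := by
    have hd : Module.supportDim R (LinearMap.ker (LinearMap.lsmul R R y)) <
        ((i + 1 + 1 : ℕ) : WithBot ℕ∞) :=
      lt_of_le_of_lt hdK (by exact_mod_cast Nat.lt_succ_self (i + 1))
    exact subsingleton_of_supportDim_lt (maximalIdeal R) (i + 1 + 1) _ hd
  -- the maps
  let HR := (localCohomology (maximalIdeal R) (i + 1)).obj (ModuleCat.of R R)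
  let HP := (localCohomology (maximalIdeal R) (i + 1)).obj (ModuleCat.of R P)
  let HK := (localCohomology (maximalIdeal R) (i + 1)).obj
    (ModuleCat.of R (LinearMap.ker (LinearMap.lsmul R R y)))
  let HQ := (localCohomology (maximalIdeal R) i).obj (ModuleCat.of R (R ⧸ P))
  let g2 : HR →ₗ[R] HP := ((localCohomology (maximalIdeal R) (i + 1)).map S2.g).hom
  let f2 : HK →ₗ[R] HR := ((localCohomology (maximalIdeal R) (i + 1)).map S2.f).hom
  let f1 : HP →ₗ[R] HR := ((localCohomology (maximalIdeal R) (i + 1)).map S1.f).hom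
  let δ1 : HQ →ₗ[R] HP := (δ (maximalIdeal R) i hS1).hom
  -- `T(S2.g)` is surjective
  have hsurj : ∀ w : HP, ∃ z : HR, g2 z = w :=
    fun w => exact₃ (maximalIdeal R) (i + 1) hS2 w (Subsingleton.elim _ _)
  -- `y • _ = T(S1.f) ∘ T(S2.g)`
  have hcomp : ∀ z : HR, y • z = f1 (g2 z) := by
    intro z
    rw [smul_eq_map]
    have h3 : (localCohomology (maximalIdeal R) (i + 1)).map (y • 𝟙 (ModuleCat.of R R)) =
        (localCohomology (maximalIdeal R) (i + 1)).map S2.g ≫
          (localCohomology (maximalIdeal R) (i + 1)).map S1.f := by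
      rw [← Functor.map_comp]
      rfl
    rw [h3]
    rfl
  -- step 1: lift `T(S2.g) h` along `δ₁`
  have hfg : f1 (g2 h) = 0 := by rw [← hcomp, hy]
  obtain ⟨z, hz⟩ : ∃ z : HQ, δ1 z = g2 h := exact₁ (maximalIdeal R) i hS1 (g2 h) hfg
  -- step 2: `z = x z'`
  obtain ⟨z', hz'⟩ : ∃ z' : HQ, x • z' = z := smul_surjective_top i (R ⧸ P) x hdQ hdQQ z
  -- step 3: `h₁`
  obtain ⟨h₁, hh₁⟩ := hsurj (δ1 z')
  have hyh₁ : y • h₁ = 0 := by
    rw [hcomp, hh₁]
    exact map_f_δ (maximalIdeal R) i hS1 z'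
  -- step 4: `h - x h₁` comes from `H^{i+1}(ker)`
  have hker : g2 (h - x • h₁) = 0 := by
    rw [map_sub, map_smul, hh₁, ← hz, ← hz', map_smul, sub_self]
  obtain ⟨v, hv⟩ : ∃ v : HK, f2 v = h - x • h₁ :=
    exact₂ (maximalIdeal R) (i + 1) hS2 (h - x • h₁) hker
  obtain ⟨v', hv'⟩ : ∃ v' : HK, x • v' = v :=
    smul_surjective_top (i + 1) (LinearMap.ker (LinearMap.lsmul R R y)) x hdK hdKQ v
  refine ⟨h₁ + f2 v', ?_, ?_⟩
  · rw [smul_add, hyh₁, zero_add, ← map_smul]
    have : y • v' = 0 := by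
      rw [smul_eq_map]
      have h0 : (y • 𝟙 (ModuleCat.of R (LinearMap.ker (LinearMap.lsmul R R y)))) = 0 := by
        ext t
        exact congrArg Subtype.val (hyK t)
      rw [h0, Functor.map_zero]
      rfl
    rw [this, map_zero]
  · rw [smul_add, ← map_smul, hv', hv]
    abel

end Groth.Agent.Lib.helper11.LCKit
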