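import Mathlib
import Groth.Agent.Lib.helper11.GorDualAnn

/-!
# `J ⊆ rad Ann H^i_m(M)` via localisations (helper11)
-/

set_option autoImplicit false

namespace Groth.Agent.Lib.helper11.GorDual

open CategoryTheory Opposite IsLocalRing

universe u

variable {S R : Type u} [CommRing S] [hS : LocCoh.IsGorensteinLocalRing S] [CommRing R]
  [IsNoetherianRing R] [IsLocalRing R] [Algebra S R]

theorem le_radical_annihilator_iff_forall (hsurj : Function.Surjective (algebraMap S R))
    (M : Type u) [AddCommGroup M] [Module R M] [Module S M] [IsScalarTower S R M]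
    [Module.Finite R M] (J : Ideal R) (i : ℕ) :
    J ≤ (Module.annihilator R (LocCoh.H (maximalIdeal R) i M)).radical ↔
      ∀ (p : Ideal R) [p.IsPrime], ¬ J ≤ p → ∀ j : ℕ,
        (j : WithBot ℕ∞) + ringKrullDim (R ⧸ p) = i →
        Subsingleton (LocCoh.H (maximalIdeal (Localization.AtPrime p)) j
          (LocalizedModule p.primeCompl M)) := by
  haveI := finite_of_surjective' hsurj M
  haveI : Module.Finite S (ModuleCat.of S S) := inferInstanceAs (Module.Finite S S)
  obtain ⟨d, hd⟩ := exists_dim S
  have hdimp : ∀ (p : Ideal R) [p.IsPrime], ∃ e : ℕ, e ≤ d ∧ ringKrullDim (R ⧸ p) = e := by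
    intro p _
    obtain ⟨e, hed, he'⟩ := exists_dim_quotient d hd (p.comap (algebraMap S R))
    exact ⟨e, hed, by rw [← LCTransfer.ringKrullDim_quotient_comap hsurj p]; exact he'⟩
  rcases le_or_gt i d with hi | hi
  · haveI : Module.Finite S (Abelian.Ext (ModuleCat.of S M) (ModuleCat.of S S) (d - i)) :=
      Groth.Agent.Lib.helper11.ExtFinite.ext_finite (ModuleCat.of S S) (d - i) M
    rw [le_radical_annihilator_iff hsurj d hd M i hi J]
    constructor
    · intro h p _ hJp j hj
      obtain ⟨e, hed, he⟩ := hdimp p
      rw [he] at hj
      have hje : j + e = i := by exact_mod_cast hj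
      rw [subsingleton_H_quot_local_iff hsurj d hd M p e he j (by omega)]
      intro hmem
      rw [hje] at hmem
      have h1 := h _ hmem
      exact hJp ((Ideal.comap_le_comap_iff_of_surjective _ hsurj _ _).mp h1)
    · intro h P hP
      by_contra hJP
      have hann : Module.annihilator S
          (Abelian.Ext (ModuleCat.of S M) (ModuleCat.of S S) (d - i)) ≤ P.asIdeal :=
        Module.mem_support_iff_of_finite.mp hP
      have hker : RingHom.ker (algebraMap S R) ≤ P.asIdeal := by
        intro a ha
        apply hann
        rw [Module.mem_annihilator]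
        intro x
        refine smul_ext_eq_zero M _ _ a (fun m => ?_) x
        rw [← algebraMap_smul R a m, RingHom.mem_ker.mp ha, zero_smul]
      haveI hpprime : (P.asIdeal.map (algebraMap S R)).IsPrime :=
        Ideal.map_isPrime_of_surjective hsurj hker
      have hcomap : (P.asIdeal.map (algebraMap S R)).comap (algebraMap S R) = P.asIdeal := by
        rw [Ideal.comap_map_of_surjective _ hsurj, ← RingHom.ker_eq_comap_bot]
        exact sup_eq_left.mpr hker
      have hJp : ¬ J ≤ P.asIdeal.map (algebraMap S R) :=
        fun hle => hJP (hcomap ▸ Ideal.comap_mono hle)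
      obtain ⟨e, hed, he⟩ := hdimp (P.asIdeal.map (algebraMap S R))
      have hPeq : (⟨(P.asIdeal.map (algebraMap S R)).comap (algebraMap S R),
          Ideal.comap_isPrime _ _⟩ : PrimeSpectrum S) = P := PrimeSpectrum.ext hcomap
      rcases le_or_gt e i with hei | hei
      · have hvan := h (P.asIdeal.map (algebraMap S R)) hJp (i - e) (by
          rw [he]
          exact_mod_cast (Nat.sub_add_cancel hei))
        rw [subsingleton_H_quot_local_iff hsurj d hd M _ e he (i - e) (by omega)] at hvan
        have hsub : d - (i - e + e) = d - i := by omega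
        rw [hsub, hPeq] at hvan
        exact hvan hP
      · have he' : ringKrullDim (S ⧸ P.asIdeal) = e := by
          have := LCTransfer.ringKrullDim_quotient_comap hsurj (P.asIdeal.map (algebraMap S R))
          rw [he] at this
          have hq : ringKrullDim (S ⧸ P.asIdeal) =
              ringKrullDim (S ⧸ (P.asIdeal.map (algebraMap S R)).comap (algebraMap S R)) :=
            ringKrullDim_eq_of_ringEquiv (Ideal.quotEquivOfEq hcomap.symm)
          rw [hq, this]
        haveI := P.isPrime
        exact notMem_support_ext_of_lt d hd P.asIdeal e he' M (d - i) (by omega) hP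
  · have hsub : Subsingleton (LocCoh.H (maximalIdeal R) i M) := by
      obtain ⟨φ, -⟩ := LCTransfer.H_maximalIdeal_equiv hsurj M i
      rw [φ.subsingleton_congr]
      exact subsingleton_H_of_gt d hd M i hi
    constructor
    · intro _ p _ hJp j hj
      obtain ⟨e, hed, he⟩ := hdimp p
      rw [he] at hj
      have hje : j + e = i := by exact_mod_cast hj
      exact subsingleton_H_quot_local_of_gt hsurj d hd M p e he j (by omega)
    · intro _
      have : Module.annihilator R (LocCoh.H (maximalIdeal R) i M) = ⊤ := by
        rw [Module.annihilator_eq_top_iff]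
        exact hsub
      rw [this, Ideal.radical_top]
      exact le_top

end Groth.Agent.Lib.helper11.GorDual
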