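import Mathlib
import Groth.Agent.Lib.helper11.GorDualAnn2
import Groth.Agent.Lib.helper11.FinLenArt
import Groth.Agent.Lib.helper11.LCArtinian
import Groth.Agent.Lib.helper11.LCVanish
import Groth.Agent.Lib.helper11.LCNonVanish
import Groth.Agent.Lib.helper11.CanonSOP
import Groth.Agent.Lib.helper11.LCKit2
import Groth.Agent.Lib.Helper21.DepthKit1
import Groth.Agent.Lib.Helper21.DepthKit3
import Groth.Agent.S0318

/-!
# Generalized Cohen–Macaulay modules over quotients of Gorenstein local rings (helper11)
-/

set_option autoImplicit false

namespace Groth.Agent.Lib.helper11.GenCM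

open CategoryTheory IsLocalRing
open Groth.Agent.Lib.helper11

universe u

section Basic

theorem lt_of_add_one_eq (a : WithBot ℕ∞) (n : ℕ) (h : a + 1 = (n : WithBot ℕ∞)) :
    a < (n : WithBot ℕ∞) := by
  cases n with
  | zero =>
    exfalso
    induction a using WithBot.recBotCoe with
    | bot =>
      rw [WithBot.bot_add] at h
      exact absurd h.symm (WithBot.natCast_ne_bot _)
    | coe d =>
      have h' : ((d + 1 : ℕ∞) : WithBot ℕ∞) = (((0 : ℕ) : ℕ∞) : WithBot ℕ∞) := by
        exact_mod_cast h
      have h2 : d + 1 = ((0 : ℕ) : ℕ∞) := WithBot.coe_injective h'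
      simp at h2
  | succ i =>
    rw [LCKit.withBot_eq_of_add_one_eq a i h]
    exact_mod_cast Nat.lt_succ_self i

theorem exists_supportDim {A : Type u} [CommRing A] [IsNoetherianRing A] [IsLocalRing A]
    (N : Type u) [AddCommGroup N] [Module A N] [Nontrivial N] :
    ∃ δ : ℕ, Module.supportDim A N = δ := by
  obtain ⟨d, hd⟩ := GorDual.exists_dim A
  have h1 : Module.supportDim A N ≤ d := hd ▸ Module.supportDim_le_ringKrullDim A N
  have h2 : Module.supportDim A N ≠ ⊥ := Module.supportDim_ne_bot_of_nontrivial A N
  generalize Module.supportDim A N = z at h1 h2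
  induction z with
  | bot => exact absurd rfl h2
  | coe z =>
    induction z with
    | top =>
      exfalso
      have : ((⊤ : ℕ∞) : WithBot ℕ∞) ≤ ((d : ℕ∞) : WithBot ℕ∞) := h1
      rw [WithBot.coe_le_coe] at this
      simp at this
    | coe n => exact ⟨n, rfl⟩

variable {R : Type u} [CommRing R] [IsNoetherianRing R] [IsLocalRing R]

/-- the annihilator of the top local cohomology of `R/q` is `q`. -/
theorem annihilator_H_quotient_prime_le (q : Ideal R) [hq : q.IsPrime] (n : ℕ)
    (hn : ringKrullDim (R ⧸ q) = n) :
    Module.annihilator R (LocCoh.H (maximalIdeal R) n (R ⧸ q)) ≤ q := by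
  intro y hy
  by_contra hyq
  have hdimN : Module.supportDim R (R ⧸ q) = n := by
    rw [Module.supportDim_quotient_eq_ringKrullDim, hn]
  haveI : Nontrivial (LocCoh.H (maximalIdeal R) n (R ⧸ q)) :=
    LCKit.nontrivial_of_supportDim_eq n (R ⧸ q) hdimN
  obtain ⟨z, hz⟩ := exists_ne (0 : LocCoh.H (maximalIdeal R) n (R ⧸ q))
  by_cases hym : y ∈ maximalIdeal R
  · have hreg : IsSMulRegular (R ⧸ q) y := by
      intro a b hab
      obtain ⟨a, rfl⟩ := Ideal.Quotient.mk_surjective a
      obtain ⟨b, rfl⟩ := Ideal.Quotient.mk_surjective b
      have h1 : Ideal.Quotient.mk q (y * a) = Ideal.Quotient.mk q (y * b) := hab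
      rw [Ideal.Quotient.eq, ← mul_sub] at h1
      rw [Ideal.Quotient.eq]
      exact (hq.mem_or_mem h1).resolve_left hyq
    have hQ : Module.supportDim R (QuotSMulTop y (R ⧸ q)) < n :=
      lt_of_add_one_eq _ n
        ((Module.supportDim_quotSMulTop_succ_eq_supportDim hreg hym).trans hdimN)
    obtain ⟨z', hz'⟩ := LCKit.smul_surjective_top n (R ⧸ q) y hdimN.le hQ z
    have h0 := Module.mem_annihilator.1 hy z'
    exact hz (hz'.symm.trans h0)
  · have hu : IsUnit y := by
      by_contra hnu
      exact hym ((IsLocalRing.mem_maximalIdeal y).2 hnu)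
    have h0 := Module.mem_annihilator.1 hy z
    exact hz ((hu.smul_eq_zero).1 h0)

/-- at a minimal prime of the support the localisation has dimension zero. -/
theorem supportDim_localizedModule_of_mem_minimalPrimes (M : Type u) [AddCommGroup M]
    [Module R M] [Module.Finite R M] (p : Ideal R) [hp : p.IsPrime]
    (hmin : p ∈ (Module.annihilator R M).minimalPrimes) :
    Module.supportDim (Localization.AtPrime p) (LocalizedModule p.primeCompl M) = 0 := by
  have hsupp : (⟨p, hp⟩ : PrimeSpectrum R) ∈ Module.support R M :=
    Module.mem_support_iff_of_finite.2 hmin.1.2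
  haveI : Nontrivial (LocalizedModule p.primeCompl M) := Module.mem_support_iff.1 hsupp
  have hsub : ∀ Q ∈ Module.support (Localization.AtPrime p) (LocalizedModule p.primeCompl M),
      Q = IsLocalRing.closedPoint (Localization.AtPrime p) := by
    intro Q hQ
    have hann := Module.annihilator_le_of_mem_support hQ
    have hle : Module.annihilator R M ≤ Q.asIdeal.comap (algebraMap R (Localization.AtPrime p)) := by
      intro a ha
      rw [Ideal.mem_comap]
      apply hann
      rw [Module.mem_annihilator]
      intro x
      induction x using LocalizedModule.induction_on with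
      | h m s =>
        rw [algebraMap_smul, LocalizedModule.smul'_mk, Module.mem_annihilator.1 ha m,
          LocalizedModule.zero_mk]
    have hQle : Q.asIdeal ≤ maximalIdeal (Localization.AtPrime p) :=
      IsLocalRing.le_maximalIdeal Q.isPrime.ne_top
    have hcle : Q.asIdeal.comap (algebraMap R (Localization.AtPrime p)) ≤ p := by
      have h1 := Ideal.comap_mono (f := algebraMap R (Localization.AtPrime p)) hQle
      have h2 : (maximalIdeal (Localization.AtPrime p)).comap
          (algebraMap R (Localization.AtPrime p)) = p :=
        IsLocalization.AtPrime.comap_maximalIdeal (Localization.AtPrime p) p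
      rwa [h2] at h1
    have hpc : p ≤ Q.asIdeal.comap (algebraMap R (Localization.AtPrime p)) :=
      hmin.2 ⟨Ideal.comap_isPrime _ _, hle⟩ hcle
    apply PrimeSpectrum.ext
    refine le_antisymm hQle ?_
    intro x hx
    obtain ⟨a, s, rfl⟩ := IsLocalization.exists_mk'_eq p.primeCompl x
    have ha : a ∈ p := by
      have hx' : IsLocalization.mk' (Localization.AtPrime p) a s ∈
          maximalIdeal (Localization.AtPrime p) := hx
      rwa [IsLocalization.AtPrime.mk'_mem_maximal_iff (Localization.AtPrime p) p] at hx'
    have : algebraMap R (Localization.AtPrime p) a ∈ Q.asIdeal := hpc ha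
    rw [IsLocalization.mk'_eq_mul_mk'_one]
    exact Ideal.mul_mem_right _ _ this
  haveI : Nonempty (Module.support (Localization.AtPrime p) (LocalizedModule p.primeCompl M)) :=
    (Module.nonempty_support_of_nontrivial).to_subtype
  haveI : Subsingleton
      (Module.support (Localization.AtPrime p) (LocalizedModule p.primeCompl M)) :=
    ⟨fun a b => Subtype.ext ((hsub a.1 a.2).trans (hsub b.1 b.2).symm)⟩
  exact Order.krullDim_eq_zero

end Basic

section Main

variable {S R : Type u} [CommRing S] [hS : LocCoh.IsGorensteinLocalRing S] [CommRing R]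
  [IsNoetherianRing R] [IsLocalRing R] [Algebra S R]

/-- finite length of `H^i_m(M)` via localisations. -/
theorem isFiniteLength_H_iff (hsurj : Function.Surjective (algebraMap S R))
    (M : Type u) [AddCommGroup M] [Module R M] [Module S M] [IsScalarTower S R M]
    [Module.Finite R M] (i : ℕ) :
    IsFiniteLength R (LocCoh.H (maximalIdeal R) i M) ↔
      ∀ (p : Ideal R) [p.IsPrime], p ≠ maximalIdeal R → ∀ (e j : ℕ),
        ringKrullDim (R ⧸ p) = e → j + e = i →
        Subsingleton (LocCoh.H (maximalIdeal (Localization.AtPrime p)) j
          (LocalizedModule p.primeCompl M)) := by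
  haveI : IsArtinian R (LocCoh.H (maximalIdeal R) i M) :=
    LCKit.isArtinian_localCohomology i M
  rw [FinLenArt.isFiniteLength_iff_le_radical_annihilator,
    GorDual.le_radical_annihilator_iff_forall hsurj M (maximalIdeal R) i]
  constructor
  · intro h p hp hpm e j he hj
    refine h p (fun hle => hpm ?_) j ?_
    · exact le_antisymm (IsLocalRing.le_maximalIdeal hp.ne_top) hle
    · rw [he]
      exact_mod_cast hj
  · intro h p hp hpm j hj
    obtain ⟨d, hd⟩ := GorDual.exists_dim R
    obtain ⟨e, -, he⟩ := GorDual.exists_dim_quotient d hd p
    rw [he] at hj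
    exact h p (fun heq => hpm heq.ge) e j he (by exact_mod_cast hj)

/-- non-vanishing of `H^j` of `M_p` forces `j + dim R/p ≤ dim M`. -/
theorem add_le_of_nontrivial_H (hsurj : Function.Surjective (algebraMap S R))
    (M : Type u) [AddCommGroup M] [Module R M] [Module S M] [IsScalarTower S R M]
    [Module.Finite R M] (n : ℕ) (hn : Module.supportDim R M ≤ n)
    (p : Ideal R) [hp : p.IsPrime] (e : ℕ) (he : ringKrullDim (R ⧸ p) = e) (j : ℕ)
    (hnt : Nontrivial (LocCoh.H (maximalIdeal (Localization.AtPrime p)) j
      (LocalizedModule p.primeCompl M))) :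
    j + e ≤ n := by
  obtain ⟨d, hd⟩ := GorDual.exists_dim S
  by_contra hlt
  rw [not_le] at hlt
  rcases Nat.lt_or_ge d (j + e) with hgt | hle
  · have := GorDual.subsingleton_H_quot_local_of_gt hsurj d hd M p e he j hgt
    exact not_subsingleton _ this
  · have hvan : Subsingleton (LocCoh.H (maximalIdeal R) (j + e) M) :=
      LCKit.subsingleton_of_supportDim_lt (maximalIdeal R) (j + e) M
        (lt_of_le_of_lt hn (by exact_mod_cast hlt))
    have h1 : algebraMap S R 1 ∈
        Module.annihilator R (LocCoh.H (maximalIdeal R) (j + e) M) := by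
      rw [Module.mem_annihilator]
      intro x
      exact Subsingleton.elim _ _
    rw [GorDual.mem_annihilator_H_iff hsurj d hd M (j + e) hle 1] at h1
    haveI : Subsingleton
        (Abelian.Ext (ModuleCat.of S M) (ModuleCat.of S S) (d - (j + e))) := by
      refine ⟨fun a b => ?_⟩
      have ha := Module.mem_annihilator.1 h1 a
      have hb := Module.mem_annihilator.1 h1 b
      rw [one_smul] at ha hb
      rw [ha, hb]
    have := (GorDual.subsingleton_H_quot_local_iff hsurj d hd M p e he j hle).2 (by
      rw [Module.support_eq_empty]
      exact Set.notMem_empty _)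
    exact not_subsingleton _ this

/-- `dim M_p + dim R/p ≤ dim M`. -/
theorem supportDim_localizedModule_add_le (hsurj : Function.Surjective (algebraMap S R))
    (M : Type u) [AddCommGroup M] [Module R M] [Module S M] [IsScalarTower S R M]
    [Module.Finite R M] (n : ℕ) (hn : Module.supportDim R M ≤ n)
    (p : Ideal R) [hp : p.IsPrime] (e : ℕ) (he : ringKrullDim (R ⧸ p) = e) (δ : ℕ)
    (hδ : Module.supportDim (Localization.AtPrime p) (LocalizedModule p.primeCompl M) = δ) :
    δ + e ≤ n := by
  haveI : IsNoetherianRing (Localization.AtPrime p) :=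
    IsLocalization.isNoetherianRing p.primeCompl (Localization.AtPrime p) inferInstance
  exact add_le_of_nontrivial_H hsurj M n hn p e he δ
    (LCKit.nontrivial_of_supportDim_eq δ (LocalizedModule p.primeCompl M) hδ)

omit [IsNoetherianRing R] in
/-- if the maximal ideal is minimal over `Ann M` then `dim M = 0`. -/
theorem supportDim_eq_zero_of_maximalIdeal_mem_minimalPrimes (M : Type u) [AddCommGroup M]
    [Module R M] [Module.Finite R M]
    (hmin : maximalIdeal R ∈ (Module.annihilator R M).minimalPrimes) :
    Module.supportDim R M = 0 := by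
  have hsub : ∀ Q ∈ Module.support R M, Q = IsLocalRing.closedPoint R := by
    intro Q hQ
    have hann : Module.annihilator R M ≤ Q.asIdeal := Module.mem_support_iff_of_finite.1 hQ
    have hQle : Q.asIdeal ≤ maximalIdeal R := IsLocalRing.le_maximalIdeal Q.isPrime.ne_top
    apply PrimeSpectrum.ext
    exact le_antisymm hQle (hmin.2 ⟨Q.isPrime, hann⟩ hQle)
  haveI : Nonempty (Module.support R M) :=
    ⟨⟨IsLocalRing.closedPoint R, Module.mem_support_iff_of_finite.2 hmin.1.2⟩⟩
  haveI : Subsingleton (Module.support R M) :=
    ⟨fun a b => Subtype.ext ((hsub a.1 a.2).trans (hsub b.1 b.2).symm)⟩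
  exact Order.krullDim_eq_zero

/-- **Generalized Cohen–Macaulay modules** over a quotient of a Gorenstein local ring. -/
theorem genCM_iff (hsurj : Function.Surjective (algebraMap S R))
    (M : Type u) [AddCommGroup M] [Module R M] [Module S M] [IsScalarTower S R M]
    [Module.Finite R M] (n : ℕ) (hn : Module.supportDim R M = n) :
    (∀ i : ℕ, i < n → IsFiniteLength R (LocCoh.H (maximalIdeal R) i M)) ↔
      ((∀ p ∈ (Module.annihilator R M).minimalPrimes, ringKrullDim (R ⧸ p) = n) ∧
        ∀ (p : Ideal R) [p.IsPrime], p ≠ maximalIdeal R → Module.annihilator R M ≤ p →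
          LocCoh.IsCohenMacaulayModule (Localization.AtPrime p)
            (LocalizedModule p.primeCompl M)) := by
  have key : (∀ i : ℕ, i < n → IsFiniteLength R (LocCoh.H (maximalIdeal R) i M)) ↔
      ∀ (p : Ideal R) [p.IsPrime], p ≠ maximalIdeal R → ∀ (e j : ℕ),
        ringKrullDim (R ⧸ p) = e → j + e < n →
        Subsingleton (LocCoh.H (maximalIdeal (Localization.AtPrime p)) j
          (LocalizedModule p.primeCompl M)) := by
    constructor
    · intro h p _ hpm e j he hj
      exact (isFiniteLength_H_iff hsurj M (j + e)).1 (h _ hj) p hpm e j he rfl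
    · intro h i hi
      rw [isFiniteLength_H_iff hsurj M i]
      intro p _ hpm e j he hj
      exact h p hpm e j he (hj ▸ hi)
  rw [key]
  obtain ⟨dR, hdR⟩ := GorDual.exists_dim R
  constructor
  · intro h
    have core : ∀ (p : Ideal R) [p.IsPrime], p ≠ maximalIdeal R →
        ∀ (e δ : ℕ), ringKrullDim (R ⧸ p) = e →
        Module.supportDim (Localization.AtPrime p) (LocalizedModule p.primeCompl M) = δ →
        δ + e = n ∧ LocCoh.IsCohenMacaulayModule (Localization.AtPrime p)
          (LocalizedModule p.primeCompl M) := by
      intro p hp hpm e δ he hδ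
      haveI : IsNoetherianRing (Localization.AtPrime p) :=
        IsLocalization.isNoetherianRing p.primeCompl (Localization.AtPrime p) inferInstance
      have hle := supportDim_localizedModule_add_le hsurj M n hn.le p e he δ hδ
      have hnt := LCKit.nontrivial_of_supportDim_eq δ (LocalizedModule p.primeCompl M) hδ
      have heq : δ + e = n := by
        by_contra hne
        have hlt : δ + e < n := lt_of_le_of_ne hle hne
        have := h p hpm e δ he hlt
        exact not_subsingleton _ this
      refine ⟨heq, ?_⟩
      haveI : Nontrivial (LocalizedModule p.primeCompl M) :=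
        (Module.supportDim_ne_bot_iff_nontrivial _ _).1 (by
          rw [hδ]
          exact WithBot.natCast_ne_bot _)
      have hdepth : LocCoh.depth (Localization.AtPrime p) (LocalizedModule p.primeCompl M) = δ := by
        show LocCoh.idealDepth (maximalIdeal (Localization.AtPrime p))
          (LocalizedModule p.primeCompl M) = δ
        rw [Groth.Agent.S0318.result (Localization.AtPrime p)
          (maximalIdeal (Localization.AtPrime p)) (LocalizedModule p.primeCompl M)
          Groth.Agent.Lib.Helper21.DepthKit.maximalIdeal_smul_top_ne_top δ]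
        exact ⟨fun i hi => h p hpm e i he (by omega), hnt⟩
      unfold LocCoh.IsCohenMacaulayModule
      rw [hδ, hdepth]
      rfl
    constructor
    · intro p hpmin
      haveI hp : p.IsPrime := hpmin.1.1
      by_cases hpm : p = maximalIdeal R
      · subst hpm
        have h0 := supportDim_eq_zero_of_maximalIdeal_mem_minimalPrimes M hpmin
        rw [hn] at h0
        have hn0 : n = 0 := by exact_mod_cast h0
        rw [hn0]
        haveI : IsField (R ⧸ maximalIdeal R) :=
          (Ideal.Quotient.maximal_ideal_iff_isField_quotient _).1 inferInstance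
        exact_mod_cast ringKrullDim_eq_zero_of_isField this
      · have hsupp : (⟨p, hp⟩ : PrimeSpectrum R) ∈ Module.support R M :=
          Module.mem_support_iff_of_finite.2 hpmin.1.2
        haveI : Nontrivial (LocalizedModule p.primeCompl M) := Module.mem_support_iff.1 hsupp
        haveI : IsNoetherianRing (Localization.AtPrime p) :=
          IsLocalization.isNoetherianRing p.primeCompl (Localization.AtPrime p) inferInstance
        obtain ⟨δ, hδ⟩ := exists_supportDim (A := Localization.AtPrime p)
          (LocalizedModule p.primeCompl M)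
        obtain ⟨e, -, he⟩ := GorDual.exists_dim_quotient dR hdR p
        have h1 := (core p hpm e δ he hδ).1
        have h0 := supportDim_localizedModule_of_mem_minimalPrimes M p hpmin
        rw [hδ] at h0
        have hδ0 : δ = 0 := by exact_mod_cast h0
        rw [he]
        have : e = n := by omega
        rw [this]
    · intro p hp hpm hann
      have hsupp : (⟨p, hp⟩ : PrimeSpectrum R) ∈ Module.support R M :=
        Module.mem_support_iff_of_finite.2 hann
      haveI : Nontrivial (LocalizedModule p.primeCompl M) := Module.mem_support_iff.1 hsupp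
      haveI : IsNoetherianRing (Localization.AtPrime p) :=
        IsLocalization.isNoetherianRing p.primeCompl (Localization.AtPrime p) inferInstance
      obtain ⟨δ, hδ⟩ := exists_supportDim (A := Localization.AtPrime p)
        (LocalizedModule p.primeCompl M)
      obtain ⟨e, -, he⟩ := GorDual.exists_dim_quotient dR hdR p
      exact (core p hpm e δ he hδ).2
  · rintro ⟨h2a, h2b⟩ p hp hpm e j he hj
    haveI : IsNoetherianRing (Localization.AtPrime p) :=
      IsLocalization.isNoetherianRing p.primeCompl (Localization.AtPrime p) inferInstance
    by_cases hann : Module.annihilator R M ≤ p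
    · have hsupp : (⟨p, hp⟩ : PrimeSpectrum R) ∈ Module.support R M :=
        Module.mem_support_iff_of_finite.2 hann
      haveI : Nontrivial (LocalizedModule p.primeCompl M) := Module.mem_support_iff.1 hsupp
      have hCM := h2b p hpm hann
      unfold LocCoh.IsCohenMacaulayModule at hCM
      obtain ⟨δ, hδ⟩ := exists_supportDim (A := Localization.AtPrime p)
        (LocalizedModule p.primeCompl M)
      have hdepth : LocCoh.depth (Localization.AtPrime p) (LocalizedModule p.primeCompl M) = δ := by
        rw [hδ] at hCM
        have : ((δ : ℕ∞) : WithBot ℕ∞) =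
            ((LocCoh.depth (Localization.AtPrime p) (LocalizedModule p.primeCompl M) : ℕ∞) :
              WithBot ℕ∞) := hCM
        exact (WithBot.coe_injective this).symm
      obtain ⟨q, hq, hqp⟩ := Ideal.exists_minimalPrimes_le hann
      haveI hqprime : q.IsPrime := hq.1.1
      have hdq : ringKrullDim (R ⧸ q) = n := h2a q hq
      have hqass : q ∈ associatedPrimes R M :=
        Module.associatedPrimes.minimalPrimes_annihilator_subset_associatedPrimes R M hq
      obtain ⟨-, f, hf⟩ := (isAssociatedPrime_iff_exists_injective_linearMap q M).1 hqass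
      have hNM : Module.supportDim (Localization.AtPrime p)
          (LocalizedModule p.primeCompl (R ⧸ q)) ≤ δ := by
        rw [← hδ]
        exact Module.supportDim_le_of_injective (LocalizedModule.map p.primeCompl f)
          (LocalizedModule.map_injective p.primeCompl f hf)
      have hen : e ≤ n := by
        have := ringKrullDim_le_of_surjective (Ideal.Quotient.factor hqp)
          (Ideal.Quotient.factor_surjective hqp)
        rw [he, hdq] at this
        exact_mod_cast this
      obtain ⟨d, hd⟩ := GorDual.exists_dim S
      have hnd : n ≤ d := by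
        have h1 : Module.supportDim R M ≤ ringKrullDim R := Module.supportDim_le_ringKrullDim R M
        have h2 := ringKrullDim_le_of_surjective (algebraMap S R) hsurj
        rw [hn] at h1
        rw [hd] at h2
        exact_mod_cast h1.trans h2
      have hntN : Nontrivial (LocCoh.H (maximalIdeal (Localization.AtPrime p)) (n - e)
          (LocalizedModule p.primeCompl (R ⧸ q))) := by
        by_contra hcon
        rw [not_nontrivial_iff_subsingleton,
          GorDual.subsingleton_H_quot_local_iff hsurj d hd (R ⧸ q) p e he (n - e) (by omega),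
          Nat.sub_add_cancel hen] at hcon
        apply hcon
        haveI := GorDual.finite_of_surjective' hsurj (R ⧸ q)
        haveI : Module.Finite S (ModuleCat.of S S) := inferInstanceAs (Module.Finite S S)
        haveI : Module.Finite S
            (Abelian.Ext (ModuleCat.of S (R ⧸ q)) (ModuleCat.of S S) (d - n)) :=
          ExtFinite.ext_finite (ModuleCat.of S S) (d - n) (R ⧸ q)
        rw [Module.mem_support_iff_of_finite]
        intro a ha
        rw [← GorDual.mem_annihilator_H_iff hsurj d hd (R ⧸ q) n hnd a] at ha
        exact hqp (annihilator_H_quotient_prime_le q n hdq ha)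
      have hle : n - e ≤ δ := by
        by_contra hlt
        rw [not_le] at hlt
        have hlt' : Module.supportDim (Localization.AtPrime p)
            (LocalizedModule p.primeCompl (R ⧸ q)) < ((n - e : ℕ) : WithBot ℕ∞) :=
          lt_of_le_of_lt hNM (by exact_mod_cast hlt)
        have := LCKit.subsingleton_of_supportDim_lt (maximalIdeal (Localization.AtPrime p))
          (n - e) (LocalizedModule p.primeCompl (R ⧸ q)) hlt'
        exact not_subsingleton _ this
      refine LCKit.subsingleton_of_lt_idealDepth (maximalIdeal (Localization.AtPrime p)) j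
        (LocalizedModule p.primeCompl M)
        Groth.Agent.Lib.Helper21.DepthKit.maximalIdeal_smul_top_ne_top ?_
      have hd' : LocCoh.idealDepth (maximalIdeal (Localization.AtPrime p))
          (LocalizedModule p.primeCompl M) = δ := hdepth
      rw [hd']
      have : j < δ := by omega
      exact_mod_cast this
    · have hsupp : (⟨p, hp⟩ : PrimeSpectrum R) ∉ Module.support R M :=
        fun hmem => hann (Module.mem_support_iff_of_finite.1 hmem)
      haveI : Subsingleton (LocalizedModule p.primeCompl M) := Module.notMem_support_iff.1 hsupp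
      refine LCKit.subsingleton_of_supportDim_lt (maximalIdeal (Localization.AtPrime p)) j
        (LocalizedModule p.primeCompl M) ?_
      rw [Module.supportDim_eq_bot_of_subsingleton]
      exact WithBot.bot_lt_coe _

end Main

end Groth.Agent.Lib.helper11.GenCM
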