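import Mathlib
import Groth.Agent.Lib.helper11.ExtShift
import Groth.Agent.Lib.helper11.ExtKoszul
import Groth.Agent.Lib.helper11.ExtFinite

/-!
# `Ext^i(M, ω) = 0` for torsion-free `M` and `ω` of injective dimension `≤ 1` over a
one-dimensional local domain (helper11)
-/

set_option autoImplicit false

namespace Groth.Agent.Lib.helper11.TFCanon

open CategoryTheory Abelian Groth.Agent.Lib.helper11.ExtShift Pointwise

universe u

variable {O : Type u} [CommRing O] [IsDomain O] [IsNoetherianRing O] [IsLocalRing O]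

theorem ext_subsingleton (hfield : ¬ IsField O)
    (W : Type u) [AddCommGroup W] [Module O W] [Module.Finite O W]
    (hWinj : HasInjectiveDimensionLT (ModuleCat.of O W) 2)
    (M : Type u) [AddCommGroup M] [Module O M] [Module.Finite O M] [NoZeroSMulDivisors O M]
    (i : ℕ) (hi : 1 ≤ i) : Subsingleton (Ext (ModuleCat.of O M) (ModuleCat.of O W) i) := by
  by_cases hi2 : 2 ≤ i
  · exact HasInjectiveDimensionLT.subsingleton _ 2 i hi2 _
  obtain rfl : i = 1 := by omega
  have hm : IsLocalRing.maximalIdeal O ≠ ⊥ := fun h =>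
    hfield (IsLocalRing.isField_iff_maximalIdeal_eq.2 h)
  obtain ⟨x, hxm, hx0⟩ := Submodule.exists_mem_ne_zero_of_ne_bot hm
  haveI : Module.Finite O (Ext (ModuleCat.of O M) (ModuleCat.of O W) 1) :=
    ExtFinite.ext_finite (ModuleCat.of O W) 1 M
  -- the short exact sequence `0 → M → M → M/xM → 0`
  let f : M →ₗ[O] M := LinearMap.lsmul O M x
  let g : M →ₗ[O] QuotSMulTop x M := Submodule.mkQ _
  have hf : Function.Injective f := by
    intro a b hab
    exact smul_right_injective M hx0 hab
  have hg : Function.Surjective g := Submodule.mkQ_surjective _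
  have hex : Function.Exact f g := by
    intro m
    change Submodule.Quotient.mk m = 0 ↔ _
    rw [Submodule.Quotient.mk_eq_zero, Submodule.mem_smul_pointwise_iff_exists]
    constructor
    · rintro ⟨m', -, rfl⟩
      exact ⟨m', rfl⟩
    · rintro ⟨m', rfl⟩
      exact ⟨m', Submodule.mem_top, rfl⟩
  have hS := sc_shortExact f g hf hg hex
  have hSf : (sc f g hex).f = x • 𝟙 (ModuleCat.of O M) := rfl
  have hdiv : ∀ e : Ext (ModuleCat.of O M) (ModuleCat.of O W) 1, ∃ e', e = x • e' := by
    intro e
    have h0 : hS.extClass.comp e (show 1 + 1 = 2 by rfl) = 0 :=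
      @Subsingleton.elim _ (HasInjectiveDimensionLT.subsingleton _ 2 2 le_rfl _) _ _
    obtain ⟨x₂, hx₂⟩ := Ext.contravariant_sequence_exact₁ hS (ModuleCat.of O W) e
      (show 1 + 1 = 2 by rfl) h0
    refine ⟨x₂, ?_⟩
    rw [← hx₂, hSf]
    exact ExtKoszul.mk₀_smul_id_comp O x x₂
  have htop : (⊤ : Submodule O (Ext (ModuleCat.of O M) (ModuleCat.of O W) 1)) = ⊥ := by
    apply Submodule.eq_bot_of_le_smul_of_le_jacobson_bot (IsLocalRing.maximalIdeal O) ⊤
      (Module.Finite.fg_top) _ (IsLocalRing.maximalIdeal_le_jacobson _)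
    intro e _
    obtain ⟨e', rfl⟩ := hdiv e
    exact Submodule.smul_mem_smul hxm Submodule.mem_top
  exact subsingleton_of_forall_eq 0 fun e => by
    have : e ∈ (⊤ : Submodule O (Ext (ModuleCat.of O M) (ModuleCat.of O W) 1)) :=
      Submodule.mem_top
    rw [htop] at this
    exact this

end Groth.Agent.Lib.helper11.TFCanon
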