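import Mathlib
import Groth.Agent.Lib.helper11.InjDimKappa

/-!
# Projective dimension is detected by `Ext^i(M, A)` when it is finite (helper11)
-/

set_option autoImplicit false

namespace Groth.Agent.Lib.helper11.ExtIntoRing

open CategoryTheory Abelian Groth.Agent.Lib.helper11.ExtShift
  Groth.Agent.Lib.helper11.InjDimKappa

universe u

variable {A : Type u} [CommRing A] [IsNoetherianRing A]

theorem ext_eq_zero_of_isZero_right {X Y : ModuleCat.{u} A} (hY : Limits.IsZero Y) {n : ℕ}
    (e : Ext X Y n) : e = 0 := by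
  rw [← Ext.comp_mk₀_id e, hY.eq_of_src (𝟙 Y) 0, Ext.mk₀_zero, Ext.comp_zero]

theorem ext_eq_zero_of_iso_right {X Y Y' : ModuleCat.{u} A} (ψ : Y ≅ Y') {n : ℕ}
    (h : Subsingleton (Ext X Y' n)) (e : Ext X Y n) : e = 0 := by
  have h1 : e = (e.comp (Ext.mk₀ ψ.hom) (add_zero n)).comp (Ext.mk₀ ψ.inv) (add_zero n) := by
    rw [Ext.comp_assoc_of_third_deg_zero, Ext.mk₀_comp_mk₀, ψ.hom_inv_id, Ext.comp_mk₀_id]
  rw [h1, Subsingleton.elim (e.comp (Ext.mk₀ ψ.hom) (add_zero n)) 0, Ext.zero_comp]

/-- If `Ext^j(M, A) = 0` and `Ext^{j+1}(M, -)` vanishes on finite modules, then `Ext^j(M, -)`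
vanishes on finite modules. -/
theorem ext_finite_subsingleton (M : ModuleCat.{u} A) (j : ℕ)
    (h1 : Subsingleton (Ext M (ModuleCat.of A A) j))
    (h2 : ∀ (L : Type u) [AddCommGroup L] [Module A L] [Module.Finite A L],
      Subsingleton (Ext M (ModuleCat.of A L) (j + 1)))
    (L : Type u) [AddCommGroup L] [Module A L] [hL : Module.Finite A L] :
    Subsingleton (Ext M (ModuleCat.of A L) j) := by
  induction hL using IsNoetherianRing.induction_on_isQuotientEquivQuotientPrime A with
  | subsingleton N =>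
    exact ⟨fun a b => by
      rw [ext_eq_zero_of_isZero_right (ModuleCat.isZero_of_subsingleton (ModuleCat.of A N)) a,
        ext_eq_zero_of_isZero_right (ModuleCat.isZero_of_subsingleton (ModuleCat.of A N)) b]⟩
  | quotient N p f =>
    have hS := sc_shortExact (Submodule.subtype p.1) (Submodule.mkQ p.1)
      (Submodule.injective_subtype p.1) (Submodule.mkQ_surjective p.1)
      (LinearMap.exact_subtype_mkQ p.1)
    have hq : Subsingleton (Ext M (ModuleCat.of A (A ⧸ p.1)) j) := by
      have key : ∀ e : Ext M (ModuleCat.of A (A ⧸ p.1)) j, e = 0 := by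
        intro e
        have hδ : e.comp hS.extClass rfl = 0 := by
          haveI := h2 p.1
          exact Subsingleton.elim _ _
        obtain ⟨x₂, hx₂⟩ := Ext.covariant_sequence_exact₃ M hS e rfl hδ
        rw [← hx₂, Subsingleton.elim x₂ 0, Ext.zero_comp]
      exact ⟨fun a b => by rw [key a, key b]⟩
    exact ⟨fun a b => by
      rw [ext_eq_zero_of_iso_right f.toModuleIso hq a, ext_eq_zero_of_iso_right f.toModuleIso hq b]⟩
  | exact N₁ N₂ N₃ f g hf hg hfg h₁ h₃ =>
    have hS := sc_shortExact f g hf hg hfg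
    have key : ∀ e : Ext M (ModuleCat.of A N₂) j, e = 0 := by
      intro e
      have h0 : e.comp (Ext.mk₀ (sc f g hfg).g) (add_zero j) = 0 := Subsingleton.elim _ _
      obtain ⟨x₁, hx₁⟩ := Ext.covariant_sequence_exact₂ M hS e h0
      rw [← hx₁, Subsingleton.elim x₁ 0, Ext.zero_comp]
    exact ⟨fun a b => by rw [key a, key b]⟩

/-- If `M` is finite of finite projective dimension and `Ext^i(M, A) = 0` for all `i > q`, then
`M` has projective dimension at most `q`. -/
theorem hasProjectiveDimensionLT_of_ext_ring (M : Type u) [AddCommGroup M] [Module A M]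
    [Module.Finite A M] (q : ℕ)
    (h : ∀ i : ℕ, q < i → Subsingleton (Ext (ModuleCat.of A M) (ModuleCat.of A A) i)) :
    ∀ d : ℕ, HasProjectiveDimensionLT (ModuleCat.of A M) (d + 1) →
      HasProjectiveDimensionLT (ModuleCat.of A M) (q + 1) := by
  intro d
  induction d with
  | zero =>
    intro hd
    exact hasProjectiveDimensionLT_of_ge _ 1 (q + 1) (by omega)
  | succ d ih =>
    intro hd
    by_cases hdq : d + 1 ≤ q
    · exact hasProjectiveDimensionLT_of_ge _ (d + 1 + 1) (q + 1) (by omega)
    · apply ih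
      refine ModuleCat.hasProjectiveDimensionLT_of_forall_finite (ModuleCat.of A M) (d + 1) ?_
      intro L hL
      have := ext_finite_subsingleton (ModuleCat.of A M) (d + 1) (h (d + 1) (by omega))
        (fun L' _ _ _ => HasProjectiveDimensionLT.subsingleton (ModuleCat.of A M) (d + 1 + 1)
          (d + 1 + 1) le_rfl _) L
      exact this

end Groth.Agent.Lib.helper11.ExtIntoRing
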