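import Mathlib
import Groth.Agent.Lib.helper11.ExtShift
import Groth.Agent.Lib.helper11.ExtIntoRing
import Groth.Agent.Lib.helper11.ABFormula

/-!
# `Ext¹(N, M) ≅ Ext¹(M*, N*)` (helper11)

for `M` reflexive with `Ext¹(M*, R) = 0` and `Ext¹(N, R) = 0`.
-/

set_option autoImplicit false

namespace Groth.Agent.Lib.helper11.ExtDual1

open CategoryTheory Abelian Module Groth.Agent.Lib.helper11.ExtShift

universe u

section CoDelta

variable {Λ : Type u} [CommRing Λ] {A B C : Type u} [AddCommGroup A] [Module Λ A]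
  [AddCommGroup B] [Module Λ B] [AddCommGroup C] [Module Λ C]
  (i : A →ₗ[Λ] B) (π : B →ₗ[Λ] C) (hi : Function.Injective i) (hπ : Function.Surjective π)
  (hex : Function.Exact i π) (X : Type u) [AddCommGroup X] [Module Λ X]

/-- The covariant connecting map `Hom(X, C) → Ext¹(X, A)`. -/
noncomputable def coDelta : (X →ₗ[Λ] C) →+ Ext (ModuleCat.of Λ X) (ModuleCat.of Λ A) 1 where
  toFun ψ := (Ext.mk₀ (ModuleCat.ofHom ψ)).comp (sc_shortExact i π hi hπ hex).extClass
    (zero_add 1)
  map_zero' := by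
    rw [ModuleCat.ofHom_zero, Ext.mk₀_zero, Ext.zero_comp]
  map_add' ψ ψ' := by
    rw [ModuleCat.ofHom_add, Ext.mk₀_add, Ext.add_comp]

theorem coDelta_surjective
    (h : Subsingleton (Ext (ModuleCat.of Λ X) (ModuleCat.of Λ B) 1)) :
    Function.Surjective (coDelta i π hi hπ hex X) := by
  intro x₁
  have h0 : x₁.comp (Ext.mk₀ (sc i π hex).f) (add_zero 1) = 0 := Subsingleton.elim _ _
  obtain ⟨x₃, hx₃⟩ := Ext.covariant_sequence_exact₁ (ModuleCat.of Λ X)
    (sc_shortExact i π hi hπ hex) x₁ h0 (zero_add 1)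
  obtain ⟨ψ, rfl⟩ := (Ext.mk₀_bijective _ _).2 x₃
  exact ⟨ψ.hom, hx₃⟩

theorem coDelta_eq_zero_iff (ψ : X →ₗ[Λ] C) :
    coDelta i π hi hπ hex X ψ = 0 ↔ ∃ g : X →ₗ[Λ] B, π ∘ₗ g = ψ := by
  constructor
  · intro h
    obtain ⟨x₂, hx₂⟩ := Ext.covariant_sequence_exact₃ (ModuleCat.of Λ X)
      (sc_shortExact i π hi hπ hex) (Ext.mk₀ (ModuleCat.ofHom ψ)) (zero_add 1) h
    obtain ⟨g, rfl⟩ := (Ext.mk₀_bijective _ _).2 x₂
    refine ⟨g.hom, ?_⟩
    rw [Ext.mk₀_comp_mk₀] at hx₂
    have := (Ext.mk₀_bijective _ _).1 hx₂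
    exact congrArg ModuleCat.Hom.hom this
  · rintro ⟨g, rfl⟩
    change (Ext.mk₀ (ModuleCat.ofHom (π ∘ₗ g))).comp
      (sc_shortExact i π hi hπ hex).extClass (zero_add 1) = 0
    rw [ModuleCat.ofHom_comp, ← Ext.mk₀_comp_mk₀, Ext.comp_assoc_of_second_deg_zero]
    have : (Ext.mk₀ (ModuleCat.ofHom π)).comp (sc_shortExact i π hi hπ hex).extClass
        (zero_add 1) = 0 := (sc_shortExact i π hi hπ hex).comp_extClass
    rw [this, Ext.comp_zero]

end CoDelta

section Quot

/-- Two surjections with equivalent sources and matching kernels have isomorphic targets. -/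
theorem nonempty_addEquiv_of_surjective {G₁ G₂ E₁ E₂ : Type*} [AddCommGroup G₁] [AddCommGroup G₂]
    [AddCommGroup E₁] [AddCommGroup E₂] (δ₁ : G₁ →+ E₁) (δ₂ : G₂ →+ E₂)
    (h₁ : Function.Surjective δ₁) (h₂ : Function.Surjective δ₂) (e : G₁ ≃+ G₂)
    (he : ∀ x, δ₁ x = 0 ↔ δ₂ (e x) = 0) : Nonempty (E₁ ≃+ E₂) := by
  have hmap : δ₁.ker.map (e : G₁ →+ G₂) = δ₂.ker := by
    ext y
    constructor
    · rintro ⟨x, hx, rfl⟩
      exact (he x).mp hx
    · intro hy
      refine ⟨e.symm y, ?_, by simp⟩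
      refine (he _).mpr ?_
      rw [AddEquiv.apply_symm_apply]
      exact hy
  exact ⟨(QuotientAddGroup.quotientKerEquivOfSurjective δ₁ h₁).symm.trans
    ((QuotientAddGroup.congr _ _ e hmap).trans
      (QuotientAddGroup.quotientKerEquivOfSurjective δ₂ h₂))⟩

end Quot

section Transpose

variable {R : Type u} [CommRing R] (M X : Type u) [AddCommGroup M] [Module R M]
  [AddCommGroup X] [Module R X] [Module.IsReflexive R M]

/-- For reflexive `M`, `Hom(X, M) ≃ Hom(M*, X*)`. -/
noncomputable def transposeEquiv : (X →ₗ[R] M) ≃+ (Dual R M →ₗ[R] Dual R X) where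
  toFun g := g.dualMap
  invFun h := (Module.evalEquiv R M).symm.toLinearMap ∘ₗ h.dualMap ∘ₗ Dual.eval R X
  left_inv g := by
    refine LinearMap.ext fun x => ?_
    apply (Module.evalEquiv R M).injective
    simp only [LinearMap.coe_comp, LinearEquiv.coe_coe, Function.comp_apply,
      LinearEquiv.apply_symm_apply]
    refine LinearMap.ext fun φ => ?_
    simp
  right_inv h := by
    refine LinearMap.ext fun φ => LinearMap.ext fun x => ?_
    simp only [LinearMap.dualMap_apply, LinearMap.coe_comp, LinearEquiv.coe_coe,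
      Function.comp_apply]
    have key : ∀ ξ : Dual R (Dual R M), φ ((Module.evalEquiv R M).symm ξ) = ξ φ := by
      intro ξ
      obtain ⟨m, rfl⟩ := (Module.evalEquiv R M).surjective ξ
      simp
    rw [key]
    simp
  map_add' g g' := by
    refine LinearMap.ext fun φ => LinearMap.ext fun x => ?_
    simp

@[simp] theorem transposeEquiv_apply (g : X →ₗ[R] M) : transposeEquiv M X g = g.dualMap := rfl

end Transpose

section Main

variable {R : Type u} [CommRing R] [IsLocalRing R] [IsNoetherianRing R]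

theorem subsingleton_ext_one_free (X : ModuleCat.{u} R) (F : Type u) [AddCommGroup F] [Module R F]
    [Module.Finite R F] [Module.Free R F]
    (h : Subsingleton (Ext X (ModuleCat.of R R) 1)) :
    Subsingleton (Ext X (ModuleCat.of R F) 1) := by
  rcases subsingleton_or_nontrivial F with hF | hF
  · refine ⟨fun a b => ?_⟩
    have hz : Limits.IsZero (ModuleCat.of R F) := ModuleCat.isZero_of_subsingleton _
    rw [ExtIntoRing.ext_eq_zero_of_isZero_right hz a,
      ExtIntoRing.ext_eq_zero_of_isZero_right hz b]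
  · exact (ABFormula.subsingleton_ext_free_iff X F 1).mpr h

/-- `Ext¹(N, M) ≃ Ext¹(M*, N*)` for reflexive `M` with `Ext¹(M*, R) = 0` and f.g. `N` with
`Ext¹(N, R) = 0`. -/
theorem nonempty_ext_one_addEquiv (N M : Type u) [AddCommGroup N] [Module R N]
    [Module.Finite R N] [AddCommGroup M] [Module R M] [Module.IsReflexive R M]
    (hN : Subsingleton (Ext (ModuleCat.of R N) (ModuleCat.of R R) 1))
    (hM : Subsingleton (Ext (ModuleCat.of R (Dual R M)) (ModuleCat.of R R) 1)) :
    Nonempty (Ext (ModuleCat.of R N) (ModuleCat.of R M) 1 ≃+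
      Ext (ModuleCat.of R (Dual R M)) (ModuleCat.of R (Dual R N)) 1) := by
  obtain ⟨n, π, hπ⟩ := Module.Finite.exists_fin' R N
  let Z := LinearMap.ker π
  let ι : Z →ₗ[R] (Fin n → R) := Z.subtype
  have hι : Function.Injective ι := Z.injective_subtype
  have hex : Function.Exact ι π := by
    rw [LinearMap.exact_iff, Submodule.range_subtype]
  -- the dual sequence
  have hi' : Function.Injective π.dualMap := LinearMap.dualMap_injective_of_surjective hπ
  have hπ' : Function.Surjective ι.dualMap := by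
    intro φ
    have h0 : deltaLin ι π hex R hι hπ φ = 0 := Subsingleton.elim _ _
    obtain ⟨ψ, hψ⟩ := (deltaLin_eq_zero_iff ι π hι hπ hex R φ).mp h0
    exact ⟨ψ, hψ⟩
  have hex' : Function.Exact π.dualMap ι.dualMap := by
    intro ψ
    constructor
    · intro h
      have hker : LinearMap.ker π ≤ LinearMap.ker ψ := by
        intro x hx
        have := LinearMap.congr_fun h ⟨x, hx⟩
        exact this
      refine ⟨(LinearMap.ker π).liftQ ψ hker ∘ₗ
        (π.quotKerEquivOfSurjective hπ).symm.toLinearMap, ?_⟩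
      refine LinearMap.ext fun x => ?_
      simp only [LinearMap.dualMap_apply, LinearMap.coe_comp, LinearEquiv.coe_coe,
        Function.comp_apply]
      have : (π.quotKerEquivOfSurjective hπ).symm (π x) = Submodule.Quotient.mk x := by
        rw [LinearEquiv.symm_apply_eq]
        rfl
      rw [this, Submodule.liftQ_apply]
    · rintro ⟨χ, rfl⟩
      refine LinearMap.ext fun x => ?_
      simp only [LinearMap.dualMap_apply, LinearMap.zero_apply]
      rw [hex.apply_apply_eq_zero, map_zero]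
  have hF : Subsingleton (Ext (ModuleCat.of R (Dual R M)) (ModuleCat.of R (Dual R (Fin n → R))) 1) :=
    subsingleton_ext_one_free _ _ hM
  refine nonempty_addEquiv_of_surjective (G₁ := Z →ₗ[R] M) (G₂ := Dual R M →ₗ[R] Dual R Z)
    (deltaLin ι π hex M hι hπ).toAddMonoidHom
    (coDelta π.dualMap ι.dualMap hi' hπ' hex' (Dual R M))
    (deltaLin_surjective ι π hι hπ hex M) (coDelta_surjective _ _ hi' hπ' hex' _ hF)
    (transposeEquiv (R := R) M Z) ?_
  intro f
  change deltaLin ι π hex M hι hπ f = 0 ↔ _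
  rw [deltaLin_eq_zero_iff, coDelta_eq_zero_iff, transposeEquiv_apply]
  constructor
  · rintro ⟨g, rfl⟩
    exact ⟨g.dualMap, (LinearMap.dualMap_comp_dualMap ι g).symm ▸ rfl⟩
  · rintro ⟨g', hg'⟩
    obtain ⟨g, rfl⟩ := (transposeEquiv M (Fin n → R)).surjective g'
    refine ⟨g, ?_⟩
    apply (transposeEquiv M Z).injective
    rw [transposeEquiv_apply, transposeEquiv_apply, ← hg', transposeEquiv_apply,
      LinearMap.dualMap_comp_dualMap]

end Main

end Groth.Agent.Lib.helper11.ExtDual1
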