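import Mathlib
import Groth.Agent.Lib.helper11.ExtDual1
import Groth.Agent.Lib.Helper20.BassRes1

/-!
# Duality with respect to a module `W`: `Ext^i(X, N) ≃ Ext^i(DN, DX)` (helper11)

`D = Hom(-, W)`.  Generic one-step lemmas; the induction is run in `TFDual`.
-/

set_option autoImplicit false

namespace Groth.Agent.Lib.helper11.WDual

open CategoryTheory Abelian Module Groth.Agent.Lib.helper11.ExtShift
open Groth.Agent.Lib.helper11.ExtDual1

universe u

variable {R : Type u} [CommRing R] (W : Type u) [AddCommGroup W] [Module R W]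

/-- `ev : X → Hom(Hom(X, W), W)`. -/
abbrev ev (X : Type u) [AddCommGroup X] [Module R X] : X →ₗ[R] ((X →ₗ[R] W) →ₗ[R] W) :=
  LinearMap.applyₗ (R := R) (M := X) (M₂ := W)

/-- `W`-reflexive modules. -/
def IsRefl (X : Type u) [AddCommGroup X] [Module R X] : Prop :=
  Function.Bijective (ev (R := R) W X)

section Transpose

variable (N X : Type u) [AddCommGroup N] [Module R N] [AddCommGroup X] [Module R X]

/-- For `W`-reflexive `N`, `Hom(X, N) ≃ Hom(DN, DX)`. -/
noncomputable def transposeEquiv (hN : IsRefl (R := R) W N) :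
    (X →ₗ[R] N) ≃+ ((N →ₗ[R] W) →ₗ[R] (X →ₗ[R] W)) where
  toFun g := LinearMap.lcomp R W g
  invFun h := (LinearEquiv.ofBijective (ev W N) hN).symm.toLinearMap ∘ₗ
    LinearMap.lcomp R W h ∘ₗ ev W X
  left_inv g := by
    refine LinearMap.ext fun x => ?_
    apply (LinearEquiv.ofBijective (ev W N) hN).injective
    simp only [LinearMap.coe_comp, LinearEquiv.coe_coe, Function.comp_apply,
      LinearEquiv.apply_symm_apply]
    refine LinearMap.ext fun φ => ?_
    rfl
  right_inv h := by
    refine LinearMap.ext fun φ => LinearMap.ext fun x => ?_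
    simp only [LinearMap.lcomp_apply, LinearMap.coe_comp, LinearEquiv.coe_coe,
      Function.comp_apply]
    have key : ∀ ξ : (N →ₗ[R] W) →ₗ[R] W,
        φ ((LinearEquiv.ofBijective (ev W N) hN).symm ξ) = ξ φ := by
      intro ξ
      obtain ⟨m, rfl⟩ := (LinearEquiv.ofBijective (ev W N) hN).surjective ξ
      rw [LinearEquiv.symm_apply_apply]
      rfl
    rw [key]
    rfl
  map_add' g g' := by
    refine LinearMap.ext fun φ => LinearMap.ext fun x => ?_
    simp

@[simp] theorem transposeEquiv_apply (hN : IsRefl (R := R) W N) (g : X →ₗ[R] N) :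
    transposeEquiv W N X hN g = LinearMap.lcomp R W g := rfl

end Transpose

section DualSES

variable {Z F X : Type u} [AddCommGroup Z] [Module R Z] [AddCommGroup F] [Module R F]
  [AddCommGroup X] [Module R X] (ι : Z →ₗ[R] F) (π : F →ₗ[R] X)

include π in
theorem dual_injective (hπ : Function.Surjective π) :
    Function.Injective (LinearMap.lcomp R W π) :=
  LinearMap.lcomp_injective_of_surjective π hπ

theorem dual_exact (hπ : Function.Surjective π) (hex : Function.Exact ι π) :
    Function.Exact (LinearMap.lcomp R W π) (LinearMap.lcomp R W ι) := by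
  intro ψ
  constructor
  · intro h
    have hker : LinearMap.ker π ≤ LinearMap.ker ψ := by
      intro x hx
      obtain ⟨z, rfl⟩ := (hex x).mp hx
      exact LinearMap.congr_fun h z
    refine ⟨(LinearMap.ker π).liftQ ψ hker ∘ₗ
      (π.quotKerEquivOfSurjective hπ).symm.toLinearMap, ?_⟩
    refine LinearMap.ext fun x => ?_
    simp only [LinearMap.lcomp_apply, LinearMap.coe_comp, LinearEquiv.coe_coe,
      Function.comp_apply]
    have : (π.quotKerEquivOfSurjective hπ).symm (π x) = Submodule.Quotient.mk x := by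
      rw [LinearEquiv.symm_apply_eq]
      rfl
    rw [this, Submodule.liftQ_apply]
  · rintro ⟨χ, rfl⟩
    refine LinearMap.ext fun x => ?_
    simp only [LinearMap.lcomp_apply, LinearMap.zero_apply]
    rw [hex.apply_apply_eq_zero, map_zero]

variable [Module.Projective R F]

/-- the restriction `DF → DZ` is onto when `Ext¹(X, W) = 0`. -/
theorem dual_surjective (hι : Function.Injective ι) (hπ : Function.Surjective π)
    (hex : Function.Exact ι π)
    (hX : Subsingleton (Ext (ModuleCat.of R X) (ModuleCat.of R W) 1)) :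
    Function.Surjective (LinearMap.lcomp R W ι) := by
  intro φ
  have h0 : deltaLin ι π hex W hι hπ φ = 0 := Subsingleton.elim _ _
  obtain ⟨ψ, hψ⟩ := (deltaLin_eq_zero_iff ι π hι hπ hex W φ).mp h0
  exact ⟨ψ, hψ⟩

end DualSES

section Steps

variable {Z F X N : Type u} [AddCommGroup Z] [Module R Z] [AddCommGroup F] [Module R F]
  [AddCommGroup X] [Module R X] [AddCommGroup N] [Module R N] [Module.Projective R F]
  (ι : Z →ₗ[R] F) (π : F →ₗ[R] X) (hι : Function.Injective ι) (hπ : Function.Surjective π)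
  (hex : Function.Exact ι π)

/-- degree zero. -/
theorem nonempty_ext_zero_addEquiv (hN : IsRefl (R := R) W N) :
    Nonempty (Ext (ModuleCat.of R X) (ModuleCat.of R N) 0 ≃+
      Ext (ModuleCat.of R (N →ₗ[R] W)) (ModuleCat.of R (X →ₗ[R] W)) 0) :=
  ⟨(Ext.addEquiv₀.trans ((ModuleCat.homAddEquiv (M := ModuleCat.of R X)
      (N := ModuleCat.of R N)).trans
    ((transposeEquiv W N X hN).trans (ModuleCat.homAddEquiv (M := ModuleCat.of R (N →ₗ[R] W))
      (N := ModuleCat.of R (X →ₗ[R] W))).symm))).trans Ext.addEquiv₀.symm⟩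

include hι hπ hex in
/-- degree one. -/
theorem nonempty_ext_one_addEquiv (hN : IsRefl (R := R) W N) (hF : IsRefl (R := R) W F)
    (hX : Subsingleton (Ext (ModuleCat.of R X) (ModuleCat.of R W) 1))
    (hDF : Subsingleton (Ext (ModuleCat.of R (N →ₗ[R] W)) (ModuleCat.of R (F →ₗ[R] W)) 1)) :
    Nonempty (Ext (ModuleCat.of R X) (ModuleCat.of R N) 1 ≃+
      Ext (ModuleCat.of R (N →ₗ[R] W)) (ModuleCat.of R (X →ₗ[R] W)) 1) := by
  have hi' := dual_injective W π hπ
  have hπ' := dual_surjective W ι π hι hπ hex hX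
  have hex' := dual_exact W ι π hπ hex
  refine nonempty_addEquiv_of_surjective (G₁ := Z →ₗ[R] N)
    (G₂ := (N →ₗ[R] W) →ₗ[R] (Z →ₗ[R] W))
    (deltaLin ι π hex N hι hπ).toAddMonoidHom
    (coDelta (LinearMap.lcomp R W π) (LinearMap.lcomp R W ι) hi' hπ' hex' (N →ₗ[R] W))
    (deltaLin_surjective ι π hι hπ hex N) (coDelta_surjective _ _ hi' hπ' hex' _ hDF)
    (transposeEquiv W N Z hN) ?_
  intro f
  change deltaLin ι π hex N hι hπ f = 0 ↔ _
  rw [deltaLin_eq_zero_iff, coDelta_eq_zero_iff, transposeEquiv_apply]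
  constructor
  · rintro ⟨g, rfl⟩
    exact ⟨LinearMap.lcomp R W g, rfl⟩
  · rintro ⟨g', hg'⟩
    obtain ⟨g, rfl⟩ := (transposeEquiv W N F hN).surjective g'
    refine ⟨g, ?_⟩
    apply (transposeEquiv W N Z hN).injective
    rw [transposeEquiv_apply, transposeEquiv_apply, ← hg', transposeEquiv_apply]
    rfl

include hι hπ hex in
/-- the inductive step. -/
theorem nonempty_ext_succ_addEquiv (k : ℕ)
    (hX : Subsingleton (Ext (ModuleCat.of R X) (ModuleCat.of R W) 1))
    (hDF1 : Subsingleton (Ext (ModuleCat.of R (N →ₗ[R] W)) (ModuleCat.of R (F →ₗ[R] W)) (k + 1)))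
    (hDF2 : Subsingleton (Ext (ModuleCat.of R (N →ₗ[R] W)) (ModuleCat.of R (F →ₗ[R] W)) (k + 2)))
    (e : Ext (ModuleCat.of R Z) (ModuleCat.of R N) (k + 1) ≃+
      Ext (ModuleCat.of R (N →ₗ[R] W)) (ModuleCat.of R (Z →ₗ[R] W)) (k + 1)) :
    Nonempty (Ext (ModuleCat.of R X) (ModuleCat.of R N) (k + 2) ≃+
      Ext (ModuleCat.of R (N →ₗ[R] W)) (ModuleCat.of R (X →ₗ[R] W)) (k + 2)) := by
  have hi' := dual_injective W π hπ
  have hπ' := dual_surjective W ι π hι hπ hex hX
  have hex' := dual_exact W ι π hπ hex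
  obtain ⟨e₁⟩ := ext_succ_equiv ι π hι hπ hex N k
  obtain ⟨e₂⟩ := Groth.Agent.Lib.Helper20.BassCount.cov_shift_equiv
    (LinearMap.lcomp R W π) (LinearMap.lcomp R W ι) hi' hπ' hex'
    (ModuleCat.of R (N →ₗ[R] W)) (k + 1)
    (fun x => by rw [Subsingleton.elim x 0, Ext.zero_comp]) hDF2
  exact ⟨e₁.symm.toAddEquiv.trans (e.trans e₂.toAddEquiv)⟩

end Steps

end Groth.Agent.Lib.helper11.WDual
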