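import Mathlib
import Groth.Agent.Lib.helper11.WDual
import Groth.Agent.Lib.helper11.TFCanon
import Groth.Agent.Lib.helper11.TorsionlessReflexive

/-!
# Duality `Hom(-, ω)` for torsion-free modules over a one-dimensional local domain (helper11)

`W` is a nonzero finite torsion-free module of injective dimension `≤ 1` all of whose
endomorphisms are generically scalars (rank one).  Then every finite torsion-free module is
`W`-reflexive and `Ext^i(X, N) ≃ Ext^i(DN, DX)`.
-/

set_option autoImplicit false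

namespace Groth.Agent.Lib.helper11.TFDual

open CategoryTheory Abelian Module Groth.Agent.Lib.helper11.ExtShift
open Groth.Agent.Lib.helper11.ExtDual1 Groth.Agent.Lib.helper11.WDual

universe u

section NZSD

variable {R : Type*} [CommRing R] {M N : Type*} [AddCommGroup M] [Module R M]
  [AddCommGroup N] [Module R N]

theorem nzsd_of_injective [NoZeroSMulDivisors R N] (f : M →ₗ[R] N)
    (hf : Function.Injective f) : NoZeroSMulDivisors R M :=
  Function.Injective.noZeroSMulDivisors f hf (map_zero f) (map_smul f)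

theorem nzsd_hom [NoZeroSMulDivisors R N] : NoZeroSMulDivisors R (M →ₗ[R] N) := by
  refine ⟨fun {c φ} h => ?_⟩
  by_cases hc : c = 0
  · exact Or.inl hc
  · refine Or.inr (LinearMap.ext fun x => ?_)
    have := LinearMap.congr_fun h x
    rw [LinearMap.smul_apply, LinearMap.zero_apply] at this
    exact (eq_zero_or_eq_zero_of_smul_eq_zero this).resolve_left hc

end NZSD

section Gen

variable {R : Type u} [CommRing R] {A B C W : Type u} [AddCommGroup A] [Module R A]
  [AddCommGroup B] [Module R B] [AddCommGroup C] [Module R C] [AddCommGroup W] [Module R W]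

/-- extension of maps along `A ↪ B` when `Ext¹(B/A, W) = 0`. -/
theorem exists_extension (i : A →ₗ[R] B) (p : B →ₗ[R] C) (hi : Function.Injective i)
    (hp : Function.Surjective p) (hex : Function.Exact i p)
    (hC : Subsingleton (Ext (ModuleCat.of R C) (ModuleCat.of R W) 1)) (q : A →ₗ[R] W) :
    ∃ ξ : B →ₗ[R] W, ξ ∘ₗ i = q := by
  have hS := sc_shortExact i p hi hp hex
  have h0 : hS.extClass.comp (Ext.mk₀ (ModuleCat.ofHom q)) (show 1 + 0 = 1 by rfl) = 0 :=
    Subsingleton.elim _ _
  obtain ⟨x₂, hx₂⟩ := Ext.contravariant_sequence_exact₁ hS (ModuleCat.of R W)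
    (Ext.mk₀ (ModuleCat.ofHom q)) (show 1 + 0 = 1 by rfl) h0
  obtain ⟨ξ, rfl⟩ := (Ext.mk₀_bijective _ _).2 x₂
  rw [Ext.mk₀_comp_mk₀] at hx₂
  have := (Ext.mk₀_bijective _ _).1 hx₂
  exact ⟨ξ.hom, congrArg ModuleCat.Hom.hom this⟩

/-- factoring through a surjection. -/
theorem exists_factor (p : B →ₗ[R] C) (hp : Function.Surjective p) (ξ : B →ₗ[R] W)
    (h : LinearMap.ker p ≤ LinearMap.ker ξ) : ∃ ζ : C →ₗ[R] W, ζ ∘ₗ p = ξ := by
  refine ⟨(LinearMap.ker p).liftQ ξ h ∘ₗ (p.quotKerEquivOfSurjective hp).symm.toLinearMap, ?_⟩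
  refine LinearMap.ext fun x => ?_
  simp only [LinearMap.coe_comp, LinearEquiv.coe_coe, Function.comp_apply]
  have : (p.quotKerEquivOfSurjective hp).symm (p x) = Submodule.Quotient.mk x := by
    rw [LinearEquiv.symm_apply_eq]
    rfl
  rw [this, Submodule.liftQ_apply]

/-- if the identity of `P` is a finite sum of maps factoring through `W`, then `Ext(Y, P)`
vanishes when `Ext(Y, W)` does. -/
theorem subsingleton_ext_of_id_eq_sum {P : Type u} [AddCommGroup P] [Module R P]
    (Y : ModuleCat.{u} R) (j : ℕ) {ι : Type*} (s : Finset ι) (a : ι → W →ₗ[R] P)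
    (b : ι → P →ₗ[R] W) (h : (LinearMap.id : P →ₗ[R] P) = ∑ l ∈ s, a l ∘ₗ b l)
    (hW : Subsingleton (Ext Y (ModuleCat.of R W) j)) :
    Subsingleton (Ext Y (ModuleCat.of R P) j) := by
  refine ⟨fun x y => ?_⟩
  suffices hz : ∀ z : Ext Y (ModuleCat.of R P) j, z = 0 by rw [hz x, hz y]
  intro z
  have h2 : (LinearMap.id : P →ₗ[R] P) ∈ ABFormula.Z Y P P j := by
    rw [h]
    refine Submodule.sum_mem _ fun l _ => ?_
    intro x
    rw [ModuleCat.ofHom_comp, ← Ext.mk₀_comp_mk₀, ← Ext.comp_assoc_of_third_deg_zero,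
      Subsingleton.elim (x.comp _ _) 0, Ext.zero_comp]
  have h3 := h2 z
  rwa [ModuleCat.ofHom_id, Ext.comp_mk₀_id] at h3

end Gen

section Core

variable {O : Type u} [CommRing O] [IsDomain O] [IsNoetherianRing O] [IsLocalRing O]
  (hfield : ¬ IsField O)
  (hdim1 : ∀ P : Ideal O, P.IsPrime → P ≠ ⊥ → P = IsLocalRing.maximalIdeal O)
  (W : Type u) [AddCommGroup W] [Module O W] [Module.Finite O W] [NoZeroSMulDivisors O W]
  [Nontrivial W] (hWinj : HasInjectiveDimensionLT (ModuleCat.of O W) 2)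

include hdim1 in
/-- a nonzero finite torsion module has a socle element. -/
theorem exists_socle (Q : Type u) [AddCommGroup Q] [Module O Q] [Module.Finite O Q]
    [Nontrivial Q] (htors : ∀ q : Q, ∃ d : O, d ≠ 0 ∧ d • q = 0) :
    ∃ c : Q, c ≠ 0 ∧ ∀ t ∈ IsLocalRing.maximalIdeal O, t • c = 0 := by
  obtain ⟨P, hP⟩ := associatedPrimes.nonempty O Q
  obtain ⟨hPprime, c, hc⟩ := isAssociatedPrime_iff.1 hP
  have hmem : ∀ r : O, r ∈ P ↔ r • c = 0 := by
    intro r
    rw [hc, Submodule.mem_colon_singleton, Submodule.mem_bot]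
  obtain ⟨d, hd0, hd⟩ := htors c
  have hP0 : P ≠ ⊥ := by
    intro h
    have : d ∈ P := (hmem d).2 hd
    rw [h] at this
    exact hd0 this
  have hPm := hdim1 P hPprime hP0
  refine ⟨c, ?_, fun t ht => ?_⟩
  · rintro rfl
    apply hPprime.ne_top
    rw [eq_top_iff]
    intro r _
    exact (hmem r).2 (smul_zero r)
  · rw [← hPm] at ht
    exact (hmem t).1 ht

include hdim1 in
/-- the residue field embeds into a nonzero finite torsion module. -/
theorem exists_residue_embedding (Q : Type u) [AddCommGroup Q] [Module O Q] [Module.Finite O Q]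
    [Nontrivial Q] (htors : ∀ q : Q, ∃ d : O, d ≠ 0 ∧ d • q = 0) :
    ∃ ι : (O ⧸ IsLocalRing.maximalIdeal O) →ₗ[O] Q, Function.Injective ι := by
  obtain ⟨c, hc0, hc⟩ := exists_socle hdim1 Q htors
  have hle : IsLocalRing.maximalIdeal O ≤ LinearMap.ker (LinearMap.toSpanSingleton O Q c) := by
    intro t ht
    rw [LinearMap.mem_ker, LinearMap.toSpanSingleton_apply]
    exact hc t ht
  refine ⟨Submodule.liftQ _ _ hle, ?_⟩
  rw [← LinearMap.ker_eq_bot]
  apply Submodule.ker_liftQ_eq_bot
  intro r hr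
  rw [LinearMap.mem_ker, LinearMap.toSpanSingleton_apply] at hr
  by_contra hrm
  have hu : IsUnit r := by
    by_contra hnu
    exact hrm ((IsLocalRing.mem_maximalIdeal r).2 hnu)
  obtain ⟨u, rfl⟩ := hu
  apply hc0
  have := congrArg (fun z => (↑u⁻¹ : O) • z) hr
  simpa [smul_smul] using this

include hfield hdim1 in
/-- `Ext¹(k, W) ≠ 0`. -/
theorem nontrivial_ext_one_residue :
    Nontrivial (Ext (ModuleCat.of O (O ⧸ IsLocalRing.maximalIdeal O)) (ModuleCat.of O W) 1) := by
  have hm : IsLocalRing.maximalIdeal O ≠ ⊥ := fun h =>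
    hfield (IsLocalRing.isField_iff_maximalIdeal_eq.2 h)
  obtain ⟨x, hxm, hx0⟩ := Submodule.exists_mem_ne_zero_of_ne_bot hm
  let f : W →ₗ[O] W := LinearMap.lsmul O W x
  let N' : Submodule O W := LinearMap.range f
  let g : W →ₗ[O] W ⧸ N' := N'.mkQ
  have hf : Function.Injective f := by
    intro a b hab
    exact smul_right_injective W hx0 hab
  have hg : Function.Surjective g := Submodule.mkQ_surjective _
  have hex : Function.Exact f g := by
    rw [LinearMap.exact_iff, Submodule.ker_mkQ]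
  have hNt : Nontrivial (W ⧸ N') := by
    rw [Submodule.Quotient.nontrivial_iff]
    intro htop
    have hle : (⊤ : Submodule O W) ≤ IsLocalRing.maximalIdeal O • (⊤ : Submodule O W) := by
      intro w _
      have : w ∈ N' := by rw [htop]; exact Submodule.mem_top
      obtain ⟨w', rfl⟩ := this
      exact Submodule.smul_mem_smul hxm Submodule.mem_top
    have := Submodule.eq_bot_of_le_smul_of_le_jacobson_bot (IsLocalRing.maximalIdeal O) ⊤
      Module.Finite.fg_top hle (IsLocalRing.maximalIdeal_le_jacobson _)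
    exact top_ne_bot this
  have htors : ∀ q : W ⧸ N', ∃ d : O, d ≠ 0 ∧ d • q = 0 := by
    intro q
    obtain ⟨w, rfl⟩ := Submodule.mkQ_surjective _ q
    refine ⟨x, hx0, ?_⟩
    rw [← map_smul, Submodule.mkQ_apply, Submodule.Quotient.mk_eq_zero]
    exact ⟨w, rfl⟩
  obtain ⟨ι, hι⟩ := exists_residue_embedding hdim1 (W ⧸ N') htors
  refine ⟨⟨coDelta f g hf hg hex _ ι, 0, ?_⟩⟩
  intro h0
  obtain ⟨g', hg'⟩ := (coDelta_eq_zero_iff f g hf hg hex _ ι).mp h0
  have hg0 : g' = 0 := by
    refine LinearMap.ext fun y => ?_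
    have h1 : x • y = 0 := by
      obtain ⟨r, rfl⟩ := Submodule.mkQ_surjective _ y
      rw [← map_smul, Submodule.mkQ_apply, Submodule.Quotient.mk_eq_zero, smul_eq_mul]
      exact Ideal.mul_mem_right _ _ hxm
    have h2 : x • g' y = 0 := by rw [← map_smul, h1, map_zero]
    exact (eq_zero_or_eq_zero_of_smul_eq_zero h2).resolve_left hx0
  rw [hg0, LinearMap.comp_zero] at hg'
  have : ι 1 = ι 0 := by rw [← hg']; simp
  have h10 := hι this
  exact one_ne_zero h10

include hfield hdim1 hWinj in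
/-- a finite torsion module with `Ext¹(Q, W) = 0` vanishes. -/
theorem subsingleton_of_ext_one (Q : Type u) [AddCommGroup Q] [Module O Q] [Module.Finite O Q]
    (htors : ∀ q : Q, ∃ d : O, d ≠ 0 ∧ d • q = 0)
    (h1 : Subsingleton (Ext (ModuleCat.of O Q) (ModuleCat.of O W) 1)) : Subsingleton Q := by
  by_contra hns
  rw [not_subsingleton_iff_nontrivial] at hns
  obtain ⟨ι, hι⟩ := exists_residue_embedding hdim1 Q htors
  have hex' : Function.Exact ι (LinearMap.range ι).mkQ := by
    rw [LinearMap.exact_iff, Submodule.ker_mkQ]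
  have hS' := sc_shortExact ι (LinearMap.range ι).mkQ hι (Submodule.mkQ_surjective _) hex'
  have h3 : Subsingleton (Ext (ModuleCat.of O (Q ⧸ LinearMap.range ι)) (ModuleCat.of O W) (1 + 1)) :=
    HasInjectiveDimensionLT.subsingleton _ 2 2 le_rfl _
  have := TorsionlessReflexive.subsingleton_ext_X₁ hS' (ModuleCat.of O W) 1 h1 h3
  haveI := nontrivial_ext_one_residue hfield hdim1 W
  exact false_of_nontrivial_of_subsingleton
    (Ext (ModuleCat.of O (O ⧸ IsLocalRing.maximalIdeal O)) (ModuleCat.of O W) 1)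

include hfield hWinj in
/-- `Ext^i(X, W) = 0` for finite torsion-free `X`, `i ≥ 1`. -/
theorem ext_vanish (X : Type u) [AddCommGroup X] [Module O X] [Module.Finite O X]
    [NoZeroSMulDivisors O X] (i : ℕ) (hi : 1 ≤ i) :
    Subsingleton (Ext (ModuleCat.of O X) (ModuleCat.of O W) i) :=
  TFCanon.ext_subsingleton hfield W hWinj X i hi

variable (hrank : ∀ e : Module.End O W, ∃ d a : O, d ≠ 0 ∧ d • e = a • LinearMap.id)

include hfield hdim1 hWinj hrank in
/-- `End(W) = O`. -/
theorem lsmul_bijective : Function.Bijective (LinearMap.lsmul O W) := by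
  have hinj : Function.Injective (LinearMap.lsmul O W) := by
    rw [injective_iff_map_eq_zero]
    intro a ha
    obtain ⟨w, hw⟩ := exists_ne (0 : W)
    have := LinearMap.congr_fun ha w
    rw [LinearMap.lsmul_apply, LinearMap.zero_apply] at this
    exact (eq_zero_or_eq_zero_of_smul_eq_zero this).resolve_right hw
  refine ⟨hinj, ?_⟩
  let f : O →ₗ[O] Module.End O W := LinearMap.lsmul O W
  let Q := Module.End O W ⧸ LinearMap.range f
  have hex : Function.Exact f (LinearMap.range f).mkQ := by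
    rw [LinearMap.exact_iff, Submodule.ker_mkQ]
  have hS := sc_shortExact f (LinearMap.range f).mkQ hinj (Submodule.mkQ_surjective _) hex
  haveI : NoZeroSMulDivisors O (Module.End O W) := nzsd_hom
  have h1 : Subsingleton (Ext (ModuleCat.of O Q) (ModuleCat.of O W) 1) := by
    refine TorsionlessReflexive.subsingleton_ext_one_X₃ hS (ModuleCat.of O W) ?_ ?_
    · exact ext_vanish hfield W hWinj (Module.End O W) 1 le_rfl
    · intro φ
      refine ⟨ModuleCat.ofHom (LinearMap.applyₗ (R := O) (φ.hom (1 : O))), ?_⟩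
      ext
      change (LinearMap.lsmul O W (1 : O)) (φ.hom 1) = φ.hom 1
      simp
  have htors : ∀ q : Q, ∃ d : O, d ≠ 0 ∧ d • q = 0 := by
    intro q
    obtain ⟨e, rfl⟩ := Submodule.mkQ_surjective _ q
    obtain ⟨d, a, hd, hda⟩ := hrank e
    refine ⟨d, hd, ?_⟩
    rw [← map_smul, Submodule.mkQ_apply, Submodule.Quotient.mk_eq_zero, hda]
    refine ⟨a, ?_⟩
    ext w
    simp [f]
  have hQ := subsingleton_of_ext_one hfield hdim1 W hWinj Q htors h1
  intro e
  have : (LinearMap.range f).mkQ e = 0 := Subsingleton.elim _ _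
  rw [Submodule.mkQ_apply, Submodule.Quotient.mk_eq_zero] at this
  exact this

end Core

section Pi

variable {O : Type u} [CommRing O] (W : Type u) [AddCommGroup W] [Module O W] (n : ℕ)

/-- `W → D(Oⁿ)`, `w ↦ (g ↦ g l • w)`. -/
noncomputable def inj (l : Fin n) : W →ₗ[O] ((Fin n → O) →ₗ[O] W) :=
  (LinearMap.lcomp O W (LinearMap.proj l)) ∘ₗ (LinearMap.ringLmapEquivSelf O O W).symm.toLinearMap

@[simp] theorem inj_apply (l : Fin n) (w : W) (g : Fin n → O) : inj W n l w g = g l • w := by
  simp [inj]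

/-- `D(Oⁿ) → W`, `φ ↦ φ (single l 1)`. -/
noncomputable def prj (l : Fin n) : ((Fin n → O) →ₗ[O] W) →ₗ[O] W :=
  LinearMap.applyₗ (R := O) (fun j => if l = j then (1 : O) else 0)

@[simp] theorem prj_apply (l : Fin n) (φ : (Fin n → O) →ₗ[O] W) :
    prj W n l φ = φ (fun j => if l = j then (1 : O) else 0) := rfl

theorem id_eq_sum : (LinearMap.id : ((Fin n → O) →ₗ[O] W) →ₗ[O] _) =
    ∑ l ∈ Finset.univ, inj W n l ∘ₗ prj W n l := by
  refine LinearMap.ext fun φ => LinearMap.ext fun g => ?_
  rw [LinearMap.id_apply, LinearMap.sum_apply, LinearMap.sum_apply,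
    LinearMap.pi_apply_eq_sum_univ φ g]
  refine Finset.sum_congr rfl fun l _ => ?_
  simp

theorem apply_eq_sum (φ : (Fin n → O) →ₗ[O] W) :
    φ = ∑ l, inj W n l (prj W n l φ) := by
  conv_lhs => rw [← LinearMap.id_apply (R := O) φ, id_eq_sum W n]
  rw [LinearMap.sum_apply]
  rfl

end Pi

section Core2

variable {O : Type u} [CommRing O] [IsDomain O] [IsNoetherianRing O] [IsLocalRing O]
  (hfield : ¬ IsField O)
  (hdim1 : ∀ P : Ideal O, P.IsPrime → P ≠ ⊥ → P = IsLocalRing.maximalIdeal O)
  (W : Type u) [AddCommGroup W] [Module O W] [Module.Finite O W] [NoZeroSMulDivisors O W]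
  [Nontrivial W] (hWinj : HasInjectiveDimensionLT (ModuleCat.of O W) 2)
  (hrank : ∀ e : Module.End O W, ∃ d a : O, d ≠ 0 ∧ d • e = a • LinearMap.id)

include hfield hdim1 hWinj hrank in
/-- finite free modules are `W`-reflexive. -/
theorem isRefl_pi (n : ℕ) : IsRefl (R := O) W (Fin n → O) := by
  have hb := lsmul_bijective hfield hdim1 W hWinj hrank
  constructor
  · rw [injective_iff_map_eq_zero]
    intro f hf
    obtain ⟨w, hw⟩ := exists_ne (0 : W)
    funext l
    have := LinearMap.congr_fun hf (inj W n l w)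
    change inj W n l w f = 0 at this
    rw [inj_apply] at this
    exact (eq_zero_or_eq_zero_of_smul_eq_zero this).resolve_right hw
  · intro ξ
    have hal : ∀ l : Fin n, ∃ a : O, LinearMap.lsmul O W a = ξ ∘ₗ inj W n l := fun l => hb.2 _
    choose a ha using hal
    refine ⟨a, ?_⟩
    refine LinearMap.ext fun φ => ?_
    change φ a = ξ φ
    conv_rhs => rw [apply_eq_sum W n φ, map_sum]
    rw [LinearMap.pi_apply_eq_sum_univ φ a]
    refine Finset.sum_congr rfl fun l _ => ?_
    have := LinearMap.congr_fun (ha l) (prj W n l φ)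
    rw [LinearMap.lsmul_apply] at this
    exact this

include hfield hWinj in
/-- `Ext^j(Y, D(Oⁿ)) = 0` for finite torsion-free `Y`, `j ≥ 1`. -/
theorem ext_pi_vanish (n : ℕ) (Y : Type u) [AddCommGroup Y] [Module O Y] [Module.Finite O Y]
    [NoZeroSMulDivisors O Y] (j : ℕ) (hj : 1 ≤ j) :
    Subsingleton (Ext (ModuleCat.of O Y) (ModuleCat.of O ((Fin n → O) →ₗ[O] W)) j) :=
  subsingleton_ext_of_id_eq_sum (ModuleCat.of O Y) j Finset.univ (inj W n) (prj W n)
    (id_eq_sum W n) (ext_vanish hfield W hWinj Y j hj)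

include hfield hdim1 hWinj hrank in
/-- `ev_X` is onto for finite torsion-free `X`. -/
theorem ev_surjective (X : Type u) [AddCommGroup X] [Module O X] [Module.Finite O X]
    [NoZeroSMulDivisors O X] : Function.Surjective (ev (R := O) W X) := by
  obtain ⟨n, π, hπ⟩ := Module.Finite.exists_fin' O X
  let Z := LinearMap.ker π
  let ι : Z →ₗ[O] (Fin n → O) := Z.subtype
  have hex : Function.Exact ι π := by
    rw [LinearMap.exact_iff, Submodule.range_subtype]
  -- `C = DF / DX` embeds into `DZ`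
  let Dπ := LinearMap.lcomp O W π
  let Dι := LinearMap.lcomp O W ι
  have hDπ : Function.Injective Dπ := dual_injective W π hπ
  have hDex : Function.Exact Dπ Dι := dual_exact W ι π hπ hex
  let C := ((Fin n → O) →ₗ[O] W) ⧸ LinearMap.range Dπ
  have hle : LinearMap.range Dπ ≤ LinearMap.ker Dι := by
    rw [LinearMap.exact_iff.mp hDex]
  let κ : C →ₗ[O] (Z →ₗ[O] W) := (LinearMap.range Dπ).liftQ Dι hle
  have hκ : Function.Injective κ := by
    rw [← LinearMap.ker_eq_bot]
    apply Submodule.ker_liftQ_eq_bot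
    rw [LinearMap.exact_iff.mp hDex]
  haveI : NoZeroSMulDivisors O (Z →ₗ[O] W) := nzsd_hom
  haveI : NoZeroSMulDivisors O C := nzsd_of_injective κ hκ
  have hC : Subsingleton (Ext (ModuleCat.of O C) (ModuleCat.of O W) 1) :=
    ext_vanish hfield W hWinj C 1 le_rfl
  have hexC : Function.Exact Dπ (LinearMap.range Dπ).mkQ := by
    rw [LinearMap.exact_iff, Submodule.ker_mkQ]
  intro q
  obtain ⟨ξ, hξ⟩ := exists_extension Dπ (LinearMap.range Dπ).mkQ hDπ
    (Submodule.mkQ_surjective _) hexC hC q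
  obtain ⟨f, hf⟩ := (isRefl_pi hfield hdim1 W hWinj hrank n).2 ξ
  refine ⟨π f, ?_⟩
  rw [← hξ, ← hf]
  rfl

include hfield hdim1 hWinj hrank in
/-- finite torsion-free modules are `W`-reflexive. -/
theorem isRefl (X : Type u) [AddCommGroup X] [Module O X] [Module.Finite O X]
    [NoZeroSMulDivisors O X] : IsRefl (R := O) W X := by
  refine ⟨?_, ev_surjective hfield hdim1 W hWinj hrank X⟩
  obtain ⟨n, π, hπ⟩ := Module.Finite.exists_fin' O X
  let Z := LinearMap.ker π
  let ι : Z →ₗ[O] (Fin n → O) := Z.subtype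
  have hι : Function.Injective ι := Z.injective_subtype
  have hex : Function.Exact ι π := by
    rw [LinearMap.exact_iff, Submodule.range_subtype]
  let Dπ := LinearMap.lcomp O W π
  let Dι := LinearMap.lcomp O W ι
  have hDex : Function.Exact Dπ Dι := dual_exact W ι π hπ hex
  have hDι : Function.Surjective Dι :=
    dual_surjective W ι π hι hπ hex (ext_vanish hfield W hWinj X 1 le_rfl)
  haveI : NoZeroSMulDivisors O (Fin n → O) := inferInstance
  haveI : NoZeroSMulDivisors O Z := nzsd_of_injective ι hι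
  rw [injective_iff_map_eq_zero]
  intro x hx
  obtain ⟨f, rfl⟩ := hπ x
  -- `ev_F f` kills `ker Dι = range Dπ`
  have hker : LinearMap.ker Dι ≤ LinearMap.ker (ev (R := O) W (Fin n → O) f) := by
    intro φ hφ
    obtain ⟨ψ, rfl⟩ := (hDex φ).mp hφ
    exact LinearMap.congr_fun hx ψ
  obtain ⟨ζ, hζ⟩ := exists_factor Dι hDι _ hker
  obtain ⟨z, rfl⟩ := ev_surjective hfield hdim1 W hWinj hrank Z ζ
  have hfz : f = ι z := by
    apply (isRefl_pi hfield hdim1 W hWinj hrank n).1
    rw [← hζ]
    rfl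
  rw [hfz]
  exact hex.apply_apply_eq_zero z

include hfield hdim1 hWinj hrank in
theorem main_succ (N : Type u) [AddCommGroup N] [Module O N] [Module.Finite O N]
    [NoZeroSMulDivisors O N] (k : ℕ) :
    ∀ (X : Type u) [AddCommGroup X] [Module O X] [Module.Finite O X] [NoZeroSMulDivisors O X],
      Nonempty (Ext (ModuleCat.of O X) (ModuleCat.of O N) (k + 1) ≃+
        Ext (ModuleCat.of O (N →ₗ[O] W)) (ModuleCat.of O (X →ₗ[O] W)) (k + 1)) := by
  haveI : NoZeroSMulDivisors O (N →ₗ[O] W) := nzsd_hom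
  induction k with
  | zero =>
    intro X _ _ _ _
    obtain ⟨n, π, hπ⟩ := Module.Finite.exists_fin' O X
    let Z := LinearMap.ker π
    let ι : Z →ₗ[O] (Fin n → O) := Z.subtype
    have hι : Function.Injective ι := Z.injective_subtype
    have hex : Function.Exact ι π := by
      rw [LinearMap.exact_iff, Submodule.range_subtype]
    exact WDual.nonempty_ext_one_addEquiv W ι π hι hπ hex
      (isRefl hfield hdim1 W hWinj hrank N) (isRefl_pi hfield hdim1 W hWinj hrank n)
      (ext_vanish hfield W hWinj X 1 le_rfl)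
      (ext_pi_vanish hfield W hWinj n (N →ₗ[O] W) 1 le_rfl)
  | succ k ih =>
    intro X _ _ _ _
    obtain ⟨n, π, hπ⟩ := Module.Finite.exists_fin' O X
    let Z := LinearMap.ker π
    let ι : Z →ₗ[O] (Fin n → O) := Z.subtype
    have hι : Function.Injective ι := Z.injective_subtype
    have hex : Function.Exact ι π := by
      rw [LinearMap.exact_iff, Submodule.range_subtype]
    haveI : NoZeroSMulDivisors O Z := nzsd_of_injective ι hι
    obtain ⟨e⟩ := ih Z
    exact WDual.nonempty_ext_succ_addEquiv W ι π hι hπ hex k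
      (ext_vanish hfield W hWinj X 1 le_rfl)
      (ext_pi_vanish hfield W hWinj n (N →ₗ[O] W) (k + 1) (by omega))
      (ext_pi_vanish hfield W hWinj n (N →ₗ[O] W) (k + 2) (by omega)) e

include hfield hdim1 hWinj hrank in
/-- `Ext^i(X, N) ≃ Ext^i(DN, DX)` for finite torsion-free `X`, `N`. -/
theorem main (N X : Type u) [AddCommGroup N] [Module O N] [Module.Finite O N]
    [NoZeroSMulDivisors O N] [AddCommGroup X] [Module O X] [Module.Finite O X]
    [NoZeroSMulDivisors O X] (i : ℕ) :
    Nonempty (Ext (ModuleCat.of O X) (ModuleCat.of O N) i ≃+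
      Ext (ModuleCat.of O (N →ₗ[O] W)) (ModuleCat.of O (X →ₗ[O] W)) i) := by
  cases i with
  | zero => exact WDual.nonempty_ext_zero_addEquiv W (isRefl hfield hdim1 W hWinj hrank N)
  | succ k => exact main_succ hfield hdim1 W hWinj hrank N k X

end Core2

section Concrete

variable {O : Type u} [CommRing O] [IsDomain O] [IsNoetherianRing O] [IsLocalRing O]
  {K : Type u} [Field K] [Algebra O K] [IsFractionRing O K]

omit [IsNoetherianRing O] [IsLocalRing O] in
theorem nzsd_fractionRing : NoZeroSMulDivisors O K := by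
  refine ⟨fun {c x} h => ?_⟩
  rw [Algebra.smul_def, mul_eq_zero] at h
  rcases h with h | h
  · left
    exact IsFractionRing.injective O K (by rw [h, map_zero])
  · exact Or.inr h

omit [IsNoetherianRing O] [IsLocalRing O] in
/-- `O`-linear maps from a torsion-free rank-one module to `K` commute with multiplication by
elements of `K`. -/
theorem map_eq_mul {P : Type*} [AddCommGroup P] [Module O P] (j g : P →ₗ[O] K)
    (hj : Function.Injective j) (m : K) (p p' : P) (h : j p' = m * j p) : g p' = m * g p := by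
  obtain ⟨a, b, hb, rfl⟩ := IsFractionRing.div_surjective (A := O) m
  have hb0 : algebraMap O K b ≠ 0 :=
    IsFractionRing.to_map_ne_zero_of_mem_nonZeroDivisors hb
  have h1 : b • p' = a • p := by
    apply hj
    rw [map_smul, map_smul, h, Algebra.smul_def, Algebra.smul_def]
    field_simp
  have h2 := congrArg g h1
  rw [map_smul, map_smul, Algebra.smul_def, Algebra.smul_def] at h2
  field_simp
  rw [mul_comm, h2]

omit [IsNoetherianRing O] [IsLocalRing O] in
theorem hrank_submodule (ω : Submodule O K) (e : Module.End O ω) :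
    ∃ d a : O, d ≠ 0 ∧ d • e = a • LinearMap.id := by
  by_cases hω : ω = ⊥
  · refine ⟨1, 1, one_ne_zero, ?_⟩
    refine LinearMap.ext fun w => ?_
    have h0 : ∀ v : ω, v = 0 := fun v => by
      have h1 : (v : K) ∈ (⊥ : Submodule O K) := hω ▸ v.2
      exact Subtype.ext ((Submodule.mem_bot O).mp h1)
    rw [h0 (((1 : O) • e) w), h0 (((1 : O) • LinearMap.id) w)]
  obtain ⟨w₀, hw₀, hw₀0⟩ := Submodule.exists_mem_ne_zero_of_ne_bot hω
  obtain ⟨a, d, hd, had⟩ := IsFractionRing.div_surjective (A := O)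
    ((e ⟨w₀, hw₀⟩ : K) / w₀)
  have hd0 : algebraMap O K d ≠ 0 :=
    IsFractionRing.to_map_ne_zero_of_mem_nonZeroDivisors hd
  refine ⟨d, a, nonZeroDivisors.ne_zero hd, ?_⟩
  refine LinearMap.ext fun w => Subtype.ext ?_
  have key : (e w : K) = ((w : K) / w₀) * (e ⟨w₀, hw₀⟩ : K) :=
    map_eq_mul ω.subtype (ω.subtype ∘ₗ e) ω.injective_subtype ((w : K) / w₀) ⟨w₀, hw₀⟩ w
      (by simp [hw₀0])
  change d • (e w : K) = a • (w : K)
  rw [key, Algebra.smul_def, Algebra.smul_def]
  have h3 : (e ⟨w₀, hw₀⟩ : K) = algebraMap O K a / algebraMap O K d * w₀ := by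
    rw [had]
    field_simp
  rw [h3]
  field_simp

omit [IsNoetherianRing O] in
theorem hdim1_of_ringKrullDim (hdim : ringKrullDim O = 1) (P : Ideal O) (hP : P.IsPrime)
    (hP0 : P ≠ ⊥) : P = IsLocalRing.maximalIdeal O := by
  haveI : Ring.KrullDimLE 1 O := Ring.krullDimLE_iff.mpr hdim.le
  exact IsLocalRing.eq_maximalIdeal (hP.isMaximal_of_ne_bot hP0)

omit [IsNoetherianRing O] [IsLocalRing O] in
theorem not_isField_of_ringKrullDim (hdim : ringKrullDim O = 1) : ¬ IsField O := by
  intro hf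
  have := ringKrullDim_eq_zero_of_isField hf
  rw [hdim] at this
  exact one_ne_zero this

/-- **Duality**: `Ext^i(M, M) ≃ Ext^i(M*, M*)` with `M* = Hom(M, ω)`. -/
theorem ext_self_addEquiv (hdim : ringKrullDim O = 1) (ω : Submodule O K) (hω0 : ω ≠ ⊥)
    (hωfg : ω.FG) (hωinj : HasInjectiveDimensionLT (ModuleCat.of O ↥ω) 2)
    (M : Type u) [AddCommGroup M] [Module O M] [Module.Finite O M] [NoZeroSMulDivisors O M]
    (i : ℕ) :
    Nonempty (Ext (ModuleCat.of O M) (ModuleCat.of O M) i ≃+
      Ext (ModuleCat.of O (M →ₗ[O] ↥ω)) (ModuleCat.of O (M →ₗ[O] ↥ω)) i) := by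
  haveI : Module.Finite O ω := Module.Finite.iff_fg.mpr hωfg
  haveI : NoZeroSMulDivisors O K := nzsd_fractionRing
  haveI : NoZeroSMulDivisors O ω := nzsd_of_injective ω.subtype ω.injective_subtype
  haveI : Nontrivial ω := Submodule.nontrivial_iff_ne_bot.mpr hω0
  exact main (not_isField_of_ringKrullDim hdim) (hdim1_of_ringKrullDim hdim) ω hωinj
    (hrank_submodule ω) M M i

end Concrete

end Groth.Agent.Lib.helper11.TFDual
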