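import Groth.Agent.Lib.helper11.GenFreeBasic
import Mathlib.RingTheory.Flat.Localization
import Mathlib.RingTheory.Flat.Equalizer
import Mathlib.RingTheory.Flat.EquationalCriterion
import Mathlib.RingTheory.Flat.Stability

/-!
# Generic flatness: the predicate and its permanence properties (helper11)
-/

set_option autoImplicit false
set_option linter.dupNamespace false
set_option linter.style.haveILetI false
universe u v w

namespace Groth.Agent.Lib.helper11.GenFlat

open Function Groth.Agent.Lib.helper11.GenFree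

section Flat

variable {R : Type u} [CommRing R]
variable {N₁ : Type v} {N₂ : Type v} {N₃ : Type v} [AddCommGroup N₁] [Module R N₁]
  [AddCommGroup N₂] [Module R N₂] [AddCommGroup N₃] [Module R N₃]

/-- An extension of flat modules is flat. -/
theorem flat_of_exact_flat_flat (f : N₁ →ₗ[R] N₂) (g : N₂ →ₗ[R] N₃) (hf : Injective f)
    (hg : Surjective g) (hfg : Exact f g) [Module.Flat R N₁] [Module.Flat R N₃] :
    Module.Flat R N₂ := by
  rw [Module.Flat.iff_rTensor_preserves_injective_linearMap'.{u, u, v}]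
  intro X Y _ _ _ _ j hj
  rw [injective_iff_map_eq_zero]
  intro z hz
  have c1 : (j.rTensor N₃).comp (g.lTensor X) = (g.lTensor Y).comp (j.rTensor N₂) := by
    rw [LinearMap.rTensor_comp_lTensor, LinearMap.lTensor_comp_rTensor]
  have c2 : (j.rTensor N₂).comp (f.lTensor X) = (f.lTensor Y).comp (j.rTensor N₁) := by
    rw [LinearMap.rTensor_comp_lTensor, LinearMap.lTensor_comp_rTensor]
  have h1 : (j.rTensor N₃) ((g.lTensor X) z) = 0 := by
    have := LinearMap.congr_fun c1 z
    simp only [LinearMap.comp_apply] at this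
    rw [this, hz, map_zero]
  have h2 : g.lTensor X z = 0 :=
    (injective_iff_map_eq_zero _).mp
      (Module.Flat.rTensor_preserves_injective_linearMap j hj) _ h1
  obtain ⟨w, rfl⟩ := (lTensor_exact X hfg hg z).mp h2
  have h3 : f.lTensor Y (j.rTensor N₁ w) = 0 := by
    have := LinearMap.congr_fun c2 w
    simp only [LinearMap.comp_apply] at this
    rw [← this, hz]
  have h4 : j.rTensor N₁ w = 0 :=
    (injective_iff_map_eq_zero _).mp
      (LinearMap.lTensor_injective_of_exact_of_flat g hg f hf hfg Y) _ h3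
  have h5 : w = 0 :=
    (injective_iff_map_eq_zero _).mp
      (Module.Flat.rTensor_preserves_injective_linearMap j hj) _ h4
  rw [h5, map_zero]

/-- A module which is an increasing union of (images of) flat modules is flat. -/
theorem flat_of_chain_maps {X : Type v} [AddCommGroup X] [Module R X] (Xk : ℕ → Type w)
    [∀ k, AddCommGroup (Xk k)] [∀ k, Module R (Xk k)] (ι : ∀ k, Xk k →ₗ[R] X)
    (hι : ∀ k, Injective (ι k))
    (hmono : ∀ k, LinearMap.range (ι k) ≤ LinearMap.range (ι (k + 1)))
    (hflat : ∀ k, Module.Flat R (Xk k)) (hcov : ∀ x : X, ∃ k, x ∈ LinearMap.range (ι k)) :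
    Module.Flat R X := by
  classical
  have hmono' : Monotone fun k => LinearMap.range (ι k) := monotone_nat_of_le_succ hmono
  refine Module.Flat.of_forall_isTrivialRelation ?_
  intro l f x hfx
  choose kk hkk using hcov
  obtain ⟨K, hK⟩ : ∃ K, ∀ i, kk (x i) ≤ K :=
    ⟨Finset.univ.sup fun i => kk (x i), fun i => Finset.le_sup (f := fun i => kk (x i))
      (Finset.mem_univ i)⟩
  have hx : ∀ i, ∃ y : Xk K, ι K y = x i := fun i => hmono' (hK i) (hkk (x i))
  choose y hy using hx
  have h0 : ι K (∑ i, f i • y i) = 0 := by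
    rw [map_sum, ← hfx]
    refine Finset.sum_congr rfl fun i _ => ?_
    rw [map_smul, hy]
  have h1 : ∑ i, f i • y i = 0 := (injective_iff_map_eq_zero _).mp (hι K) _ h0
  haveI := hflat K
  obtain ⟨n, a, z, hz1, hz2⟩ := Module.Flat.isTrivialRelation_of_sum_smul_eq_zero h1
  refine ⟨n, a, fun m => ι K (z m), fun i => ?_, hz2⟩
  rw [← hy i, hz1 i, map_sum]
  refine Finset.sum_congr rfl fun m _ => ?_
  rw [map_smul]

end Flat

section FlatAt

variable {R : Type u} [CommRing R]

/-- `Q` becomes flat after inverting `h`. -/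
def FlatAt (h : R) (Q : Type v) [AddCommGroup Q] [Module R Q] : Prop :=
  Module.Flat R (LocalizedModule (Submonoid.powers h) Q)

/-- `Q` becomes flat after inverting any nonzero multiple of some nonzero `f`. -/
def GenFlat (R : Type u) [CommRing R] (Q : Type v) [AddCommGroup Q] [Module R Q] : Prop :=
  ∃ f : R, f ≠ 0 ∧ ∀ h : R, f ∣ h → h ≠ 0 → FlatAt h Q

variable {Q Q' N₁ N₂ N₃ : Type v} [AddCommGroup Q] [Module R Q] [AddCommGroup Q'] [Module R Q']
  [AddCommGroup N₁] [Module R N₁] [AddCommGroup N₂] [Module R N₂] [AddCommGroup N₃] [Module R N₃]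

theorem FlatAt.of_linearEquiv (h : R) (e : Q ≃ₗ[R] Q') (hQ : FlatAt h Q) : FlatAt h Q' := by
  unfold FlatAt at hQ ⊢
  exact Module.Flat.of_linearEquiv ((IsLocalizedModule.mapEquiv (Submonoid.powers h)
    (LocalizedModule.mkLinearMap (Submonoid.powers h) Q)
    (LocalizedModule.mkLinearMap (Submonoid.powers h) Q') (Localization.Away h) e).symm.restrictScalars R)

theorem FlatAt.of_free (h : R)
    [Module.Free (Localization.Away h) (LocalizedModule (Submonoid.powers h) Q)] :
    FlatAt h Q := by
  haveI : Module.Flat R (Localization.Away h) := IsLocalization.flat _ (Submonoid.powers h)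
  exact Module.Flat.trans R (Localization.Away h) _

theorem FlatAt.of_subsingleton (h : R) [Subsingleton Q] : FlatAt h Q := by
  haveI : Subsingleton (LocalizedModule (Submonoid.powers h) Q) := by
    refine ⟨fun a b => ?_⟩
    induction a using LocalizedModule.induction_on with
    | h q s =>
      induction b using LocalizedModule.induction_on with
      | h q' s' =>
        rw [Subsingleton.elim q 0, Subsingleton.elim q' 0, LocalizedModule.zero_mk,
          LocalizedModule.zero_mk]
  unfold FlatAt
  infer_instance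

theorem FlatAt.of_exact (h : R) (f : N₁ →ₗ[R] N₂) (g : N₂ →ₗ[R] N₃) (hf : Injective f)
    (hg : Surjective g) (hfg : Exact f g) (h₁ : FlatAt h N₁) (h₃ : FlatAt h N₃) :
    FlatAt h N₂ := by
  unfold FlatAt at h₁ h₃ ⊢
  set S := Submonoid.powers h
  let F : LocalizedModule S N₁ →ₗ[R] LocalizedModule S N₂ :=
    IsLocalizedModule.map S (LocalizedModule.mkLinearMap S N₁)
      (LocalizedModule.mkLinearMap S N₂) f
  let G : LocalizedModule S N₂ →ₗ[R] LocalizedModule S N₃ :=
    IsLocalizedModule.map S (LocalizedModule.mkLinearMap S N₂)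
      (LocalizedModule.mkLinearMap S N₃) g
  have hF : Injective F := IsLocalizedModule.map_injective S _ _ f hf
  have hG : Surjective G := IsLocalizedModule.map_surjective S _ _ g hg
  have hFG : Exact F G := IsLocalizedModule.map_exact S _ _ _ f g hfg
  exact flat_of_exact_flat_flat F G hF hG hFG

/-- Union of an increasing chain of (images of) modules which are flat after inverting `h`. -/
theorem FlatAt.of_chain_maps (h : R) (Qk : ℕ → Type v)
    [∀ k, AddCommGroup (Qk k)] [∀ k, Module R (Qk k)] (ι : ∀ k, Qk k →ₗ[R] Q)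
    (hι : ∀ k, Injective (ι k))
    (hmono : ∀ k, LinearMap.range (ι k) ≤ LinearMap.range (ι (k + 1)))
    (hflat : ∀ k, FlatAt h (Qk k)) (hcov : ∀ x : Q, ∃ k, x ∈ LinearMap.range (ι k)) :
    FlatAt h Q := by
  unfold FlatAt at hflat ⊢
  set S := Submonoid.powers h
  refine flat_of_chain_maps (fun k => LocalizedModule S (Qk k))
    (fun k => IsLocalizedModule.map S (LocalizedModule.mkLinearMap S (Qk k))
      (LocalizedModule.mkLinearMap S Q) (ι k))
    (fun k => IsLocalizedModule.map_injective S _ _ (ι k) (hι k)) ?_ hflat ?_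
  · rintro k _ ⟨a, rfl⟩
    induction a using LocalizedModule.induction_on with
    | h q s =>
      obtain ⟨q', hq'⟩ := hmono k ⟨q, rfl⟩
      refine ⟨LocalizedModule.mk q' s, ?_⟩
      rw [IsLocalizedModule.map_LocalizedModules, IsLocalizedModule.map_LocalizedModules, hq']
  · intro a
    induction a using LocalizedModule.induction_on with
    | h q s =>
      obtain ⟨k, q', hq'⟩ := hcov q
      refine ⟨k, LocalizedModule.mk q' s, ?_⟩
      rw [IsLocalizedModule.map_LocalizedModules, hq']

theorem GenFlat.of_genFree (hQ : GenFree R Q) : GenFlat R Q := by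
  obtain ⟨f, hf, H⟩ := hQ
  refine ⟨f, hf, fun h hd hh => ?_⟩
  haveI := H h hd hh
  exact FlatAt.of_free h

theorem GenFlat.of_linearEquiv (e : Q ≃ₗ[R] Q') (hQ : GenFlat R Q) : GenFlat R Q' := by
  obtain ⟨f, hf, H⟩ := hQ
  exact ⟨f, hf, fun h hd hh => (H h hd hh).of_linearEquiv h e⟩

theorem GenFlat.of_exact [IsDomain R] (f : N₁ →ₗ[R] N₂) (g : N₂ →ₗ[R] N₃) (hf : Injective f)
    (hg : Surjective g) (hfg : Exact f g) (h₁ : GenFlat R N₁) (h₃ : GenFlat R N₃) :
    GenFlat R N₂ := by
  obtain ⟨f₁, hf₁, H₁⟩ := h₁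
  obtain ⟨f₃, hf₃, H₃⟩ := h₃
  refine ⟨f₁ * f₃, mul_ne_zero hf₁ hf₃, fun h hd hh => ?_⟩
  exact FlatAt.of_exact h f g hf hg hfg (H₁ h (dvd_of_mul_right_dvd hd) hh)
    (H₃ h (dvd_of_mul_left_dvd hd) hh)

end FlatAt

section Chain

variable {R : Type u} [CommRing R] {C : Type w} [CommRing C] [Algebra R C]
  {Q : Type v} [AddCommGroup Q] [Module C Q] [Module R Q] [IsScalarTower R C Q]

/-- If the successive quotients of an increasing chain of submodules starting at `⊥` are flat
after inverting `h`, so is the union. -/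
theorem FlatAt.iSup_of_chain (h : R) (T : ℕ → Submodule C Q) (hmono : Monotone T)
    (h0 : T 0 = ⊥)
    (hG : ∀ k, FlatAt h ↥((T (k + 1)).map (T k).mkQ)) : FlatAt h ↥(⨆ k, T k) := by
  have hT : ∀ k, FlatAt h ↥(T k) := by
    intro k
    induction k with
    | zero =>
      haveI : Subsingleton ↥(T 0) := by
        rw [h0]
        infer_instance
      exact FlatAt.of_subsingleton h
    | succ k ih =>
      have hle : T k ≤ T (k + 1) := hmono (Nat.le_succ k)
      refine FlatAt.of_exact h ((Submodule.inclusion hle).restrictScalars R)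
        (((T k).mkQ.submoduleMap (T (k + 1))).restrictScalars R)
        (Submodule.inclusion_injective hle)
        ((T k).mkQ.submoduleMap_surjective (T (k + 1))) ?_ ih (hG k)
      intro y
      constructor
      · intro hy
        have hy' : (T k).mkQ (y : Q) = 0 := congrArg Subtype.val hy
        rw [Submodule.mkQ_apply, Submodule.Quotient.mk_eq_zero] at hy'
        exact ⟨⟨y, hy'⟩, Subtype.ext rfl⟩
      · rintro ⟨z, rfl⟩
        apply Subtype.ext
        change (T k).mkQ (z : Q) = 0
        rw [Submodule.mkQ_apply, Submodule.Quotient.mk_eq_zero]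
        exact z.2
  refine FlatAt.of_chain_maps h (fun k => ↥(T k))
    (fun k => (Submodule.inclusion (le_iSup T k)).restrictScalars R)
    (fun k => Submodule.inclusion_injective (le_iSup T k)) ?_ hT ?_
  · rintro k _ ⟨y, rfl⟩
    exact ⟨⟨y, hmono (Nat.le_succ k) y.2⟩, Subtype.ext rfl⟩
  · intro x
    obtain ⟨k, hk⟩ := (Submodule.mem_iSup_of_chain ⟨T, hmono⟩ x.1).mp x.2
    exact ⟨k, ⟨x.1, hk⟩, Subtype.ext rfl⟩

end Chain

end Groth.Agent.Lib.helper11.GenFlat
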