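import Groth.Agent.Lib.helper11.KerBC

/-!
# The kernel condition at a prime is membership in the free locus of the cokernel (helper11)
-/

set_option autoImplicit false

namespace Groth.Agent.Lib.helper11.KerBC

open TensorProduct Function

variable {R : Type*} [CommRing R] {M N : Type*} [AddCommGroup M] [AddCommGroup N]
  [Module R M] [Module R N] (d : M →ₗ[R] N)

lemma exact_baseChange_mkQ (S : Type*) [CommRing S] [Algebra R S] :
    Exact (d.baseChange S) ((LinearMap.range d).mkQ.baseChange S) := by
  have hexact : Function.Exact d (LinearMap.range d).mkQ := by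
    rw [LinearMap.exact_iff, Submodule.ker_mkQ]
  have := lTensor_exact S hexact (Submodule.mkQ_surjective _)
  intro z
  rw [LinearMap.baseChange_eq_ltensor, LinearMap.baseChange_eq_ltensor]
  exact this z

/-- the cokernel of the base change is the base change of the cokernel. -/
noncomputable def cokerBaseChangeEquiv (S : Type*) [CommRing S] [Algebra R S] :
    ((S ⊗[R] N) ⧸ LinearMap.range (d.baseChange S)) ≃ₗ[S] S ⊗[R] (N ⧸ LinearMap.range d) :=
  (Submodule.quotEquivOfEq _ _
    (LinearMap.exact_iff.mp (exact_baseChange_mkQ d S)).symm).trans
    (((LinearMap.range d).mkQ.baseChange S).quotKerEquivOfSurjective (by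
      rw [LinearMap.baseChange_eq_ltensor]
      exact LinearMap.lTensor_surjective _ (Submodule.mkQ_surjective _)))

lemma exact_baseChange_of_flat (S : Type*) [CommRing S] [Algebra R S] [Module.Flat R S] :
    Exact ((LinearMap.ker d).subtype.baseChange S) (d.baseChange S) := by
  have := Module.Flat.lTensor_exact S (LinearMap.exact_subtype_ker_map d)
  intro z
  rw [LinearMap.baseChange_eq_ltensor, LinearMap.baseChange_eq_ltensor]
  exact this z

theorem mem_freeLocus_iff [Module.Finite R M] [Module.Finite R N] [Module.Projective R N]
    (p : PrimeSpectrum R) :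
    p ∈ Module.freeLocus R (N ⧸ LinearMap.range d) ↔
      LinearMap.ker (d.baseChange p.asIdeal.ResidueField) ≤
        LinearMap.range ((LinearMap.ker d).subtype.baseChange p.asIdeal.ResidueField) := by
  rw [Module.mem_freeLocus_iff_tensor p (Localization.AtPrime p.asIdeal),
    ← ker_le_range_iff (S := Localization.AtPrime p.asIdeal) (K := p.asIdeal.ResidueField)]
  constructor
  · intro hfree
    have : Module.Flat (Localization.AtPrime p.asIdeal)
        (((Localization.AtPrime p.asIdeal) ⊗[R] N) ⧸
          LinearMap.range (d.baseChange (Localization.AtPrime p.asIdeal))) :=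
      Module.Flat.of_linearEquiv (cokerBaseChangeEquiv d (Localization.AtPrime p.asIdeal))
    exact ker_le_of_flat_coker _ _ (exact_baseChange_of_flat d (Localization.AtPrime p.asIdeal))
      p.asIdeal.ResidueField
  · intro h
    have : Module.Free (Localization.AtPrime p.asIdeal)
        ((Localization.AtPrime p.asIdeal) ⊗[R] N) := Module.free_of_flat_of_isLocalRing
    have hcomp : (d.baseChange (Localization.AtPrime p.asIdeal)) ∘ₗ
        ((LinearMap.ker d).subtype.baseChange (Localization.AtPrime p.asIdeal)) = 0 := by
      rw [← LinearMap.baseChange_comp]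
      have : d ∘ₗ (LinearMap.ker d).subtype = 0 := by
        ext k
        exact k.2
      rw [this, LinearMap.baseChange_zero]
    have hfree := free_coker_of_ker_le _ _ hcomp h
    exact Module.Free.of_equiv (cokerBaseChangeEquiv d (Localization.AtPrime p.asIdeal))

end Groth.Agent.Lib.helper11.KerBC
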