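import Groth.Agent.Lib.helper11.GenFreeTools
import Groth.Agent.Lib.helper11.KerBC2
import Mathlib.RingTheory.Localization.BaseChange
import Mathlib.RingTheory.Spectrum.Prime.Basic
import Mathlib.RingTheory.LocalRing.ResidueField.Ideal

/-!
# Generic exactness of fibre sequences over a domain (helper11)
-/

set_option autoImplicit false
universe u

namespace Groth.Agent.Lib.helper11.GenFreeExact

open Groth.Agent.Lib.helper11.GenFree Groth.Agent.Lib.helper11.GenFreeTools Function TensorProduct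

section Unit

variable {R T X : Type*} [CommRing R] [CommRing T] [Algebra R T] [AddCommGroup X] [Module R X]

/-- if `f` is invertible in `T` then `a ⊗ z` only depends on `f^m z` up to rescaling `a`. -/
theorem tmul_eq_of_isUnit (f : R) (hu : IsUnit (algebraMap R T f)) (a : T) (z : X) (m : ℕ) :
    a ⊗ₜ[R] z = (a * ((hu.unit⁻¹ : Tˣ) : T) ^ m) ⊗ₜ[R] (f ^ m • z) := by
  rw [← TensorProduct.smul_tmul, Algebra.smul_def, map_pow]
  congr 1
  have : algebraMap R T f * ((hu.unit⁻¹ : Tˣ) : T) = 1 := hu.mul_val_inv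
  calc a = a * (algebraMap R T f * ((hu.unit⁻¹ : Tˣ) : T)) ^ m := by rw [this, one_pow, mul_one]
    _ = algebraMap R T f ^ m * (a * ((hu.unit⁻¹ : Tˣ) : T) ^ m) := by rw [mul_pow]; ring

theorem tmul_eq_zero_of_isUnit (f : R) (hu : IsUnit (algebraMap R T f)) (a : T) (z : X) (m : ℕ)
    (hz : f ^ m • z = 0) : a ⊗ₜ[R] z = 0 := by
  rw [tmul_eq_of_isUnit f hu a z m, hz, TensorProduct.tmul_zero]

variable {F G H : Type*} [AddCommGroup F] [Module R F] [AddCommGroup G] [Module R G]
  [AddCommGroup H] [Module R H] (u : F →ₗ[R] G) (v : G →ₗ[R] H)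

/-- the composite vanishes after base change to `T` when it vanishes up to powers of `f`. -/
theorem baseChange_comp_eq_zero (f : R) (hu : IsUnit (algebraMap R T f))
    (h1 : ∀ x : F, ∃ m : ℕ, f ^ m • v (u x) = 0) (z : T ⊗[R] F) :
    v.baseChange T (u.baseChange T z) = 0 := by
  induction z using TensorProduct.induction_on with
  | zero => simp
  | tmul a x =>
    obtain ⟨m, hm⟩ := h1 x
    rw [LinearMap.baseChange_tmul, LinearMap.baseChange_tmul]
    exact tmul_eq_zero_of_isUnit f hu a _ m hm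
  | add a b ha hb => rw [map_add, map_add, ha, hb, add_zero]

/-- exactness after flat base change to `T` when it holds up to powers of `f`. -/
theorem exact_baseChange_of_pow [Module.Flat R T] (f : R) (hu : IsUnit (algebraMap R T f))
    (h1 : ∀ x : F, ∃ m : ℕ, f ^ m • v (u x) = 0)
    (h2 : ∀ y : G, v y = 0 → ∃ (m : ℕ) (x : F), f ^ m • y = u x) :
    Exact (u.baseChange T) (v.baseChange T) := by
  intro y
  constructor
  · intro hy
    obtain ⟨z, rfl⟩ := (KerBC.exact_baseChange_of_flat v T y).mp hy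
    clear hy
    induction z using TensorProduct.induction_on with
    | zero => exact ⟨0, by simp⟩
    | tmul a k =>
      obtain ⟨m, x, hx⟩ := h2 k.1 k.2
      refine ⟨(a * ((hu.unit⁻¹ : Tˣ) : T) ^ m) ⊗ₜ[R] x, ?_⟩
      rw [LinearMap.baseChange_tmul, LinearMap.baseChange_tmul, ← hx]
      exact (tmul_eq_of_isUnit f hu a _ m).symm
    | add a b ha hb =>
      obtain ⟨a', ha'⟩ := ha
      obtain ⟨b', hb'⟩ := hb
      exact ⟨a' + b', by rw [map_add, map_add, ha', hb']⟩
  · rintro ⟨z, rfl⟩
    exact baseChange_comp_eq_zero u v f hu h1 z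

end Unit

section Generic

variable {R : Type u} [CommRing R] [IsDomain R]
  {F G H : Type*} [AddCommGroup F] [Module R F] [AddCommGroup G] [Module R G]
  [AddCommGroup H] [Module R H] (u : F →ₗ[R] G) (v : G →ₗ[R] H)

/-- generic exactness makes the composite torsion. -/
theorem exists_smul_comp_eq_zero
    (hgen : Exact (u.baseChange (FractionRing R)) (v.baseChange (FractionRing R))) (x : F) :
    ∃ d : R, d ≠ 0 ∧ d • v (u x) = 0 := by
  have h0 : v.baseChange (FractionRing R) (u.baseChange (FractionRing R) (1 ⊗ₜ[R] x)) = 0 :=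
    (hgen _).mpr ⟨_, rfl⟩
  rw [LinearMap.baseChange_tmul, LinearMap.baseChange_tmul] at h0
  obtain ⟨s, hs⟩ := (IsLocalizedModule.eq_zero_iff (nonZeroDivisors R)
    (TensorProduct.mk R (FractionRing R) H 1)).mp h0
  exact ⟨s, nonZeroDivisors.ne_zero s.2, hs⟩

/-- generic exactness makes the homology torsion. -/
theorem exists_smul_mem_range
    (hgen : Exact (u.baseChange (FractionRing R)) (v.baseChange (FractionRing R))) (y : G)
    (hy : v y = 0) : ∃ d : R, d ≠ 0 ∧ ∃ x : F, d • y = u x := by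
  have h0 : v.baseChange (FractionRing R) (1 ⊗ₜ[R] y) = 0 := by
    rw [LinearMap.baseChange_tmul, hy, TensorProduct.tmul_zero]
  obtain ⟨z, hz⟩ := (hgen _).mp h0
  obtain ⟨⟨x, s⟩, hxs⟩ := IsLocalizedModule.surj (nonZeroDivisors R)
    (TensorProduct.mk R (FractionRing R) F 1) z
  have h1 : (1 : FractionRing R) ⊗ₜ[R] ((s : R) • y - u x) = 0 := by
    rw [TensorProduct.tmul_sub, TensorProduct.tmul_smul, ← hz, ← LinearMap.map_smul_of_tower
      (u.baseChange (FractionRing R)) (s : R) z]
    have : (s : R) • z = (1 : FractionRing R) ⊗ₜ[R] x := hxs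
    rw [this, LinearMap.baseChange_tmul, sub_self]
  obtain ⟨s', hs'⟩ := (IsLocalizedModule.eq_zero_iff (nonZeroDivisors R)
    (TensorProduct.mk R (FractionRing R) G 1)).mp h1
  refine ⟨(s' : R) * (s : R), mul_ne_zero (nonZeroDivisors.ne_zero s'.2)
    (nonZeroDivisors.ne_zero s.2), (s' : R) • x, ?_⟩
  have h2 : (s' : R) • ((s : R) • y - u x) = 0 := hs'
  rw [smul_sub, sub_eq_zero] at h2
  rw [mul_smul, h2, map_smul]

end Generic

section Fibre

variable {R B : Type u} [CommRing R] [IsDomain R] [CommRing B] [Algebra R B]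
  [Algebra.FiniteType R B]
  {F G H : Type u} [AddCommGroup F] [Module B F] [Module R F] [IsScalarTower R B F]
  [Module.Finite B F]
  [AddCommGroup G] [Module B G] [Module R G] [IsScalarTower R B G] [Module.Finite B G]
  [AddCommGroup H] [Module B H] [Module R H] [IsScalarTower R B H] [Module.Finite B H]

/-- **Generic exactness of fibre sequences.** -/
theorem exists_fibre_exact (u : F →ₗ[B] G) (v : G →ₗ[B] H)
    (hgen : Exact ((u.restrictScalars R).baseChange (FractionRing R))
      ((v.restrictScalars R).baseChange (FractionRing R))) :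
    ∃ f : R, f ≠ 0 ∧ ∀ p : PrimeSpectrum R, f ∉ p.asIdeal →
      Exact ((u.restrictScalars R).baseChange p.asIdeal.ResidueField)
        ((v.restrictScalars R).baseChange p.asIdeal.ResidueField) := by
  classical
  obtain ⟨f₁, hf₁, H₁⟩ := GenFree.exists_spec (genFree_of_finiteType (R := R) B (H ⧸ LinearMap.range v))
  obtain ⟨f₂, hf₂, H₂⟩ := GenFree.exists_spec (genFree_of_finiteType (R := R) B (G ⧸ LinearMap.range u))
  obtain ⟨f₃, hf₃, H₃⟩ :=
    GenFree.exists_spec (genFree_of_finiteType (R := R) B (LinearMap.range (v ∘ₗ u)))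
  have hf : f₁ * f₂ * f₃ ≠ 0 := mul_ne_zero (mul_ne_zero hf₁ hf₂) hf₃
  refine ⟨f₁ * f₂ * f₃, hf, fun p hp => ?_⟩
  set f := f₁ * f₂ * f₃ with hfdef
  set u' := u.restrictScalars R with hu'
  set v' := v.restrictScalars R with hv'
  have h1 : ∀ x : F, ∃ m : ℕ, f ^ m • v' (u' x) = 0 := by
    intro x
    obtain ⟨d, hd, hdx⟩ := exists_smul_comp_eq_zero u' v' hgen x
    let w : LinearMap.range (v ∘ₗ u) := ⟨v (u x), ⟨x, rfl⟩⟩
    have hw : d • w = 0 := Subtype.ext hdx
    obtain ⟨m, hm⟩ := (H₃ f ⟨f₁ * f₂, by rw [hfdef]; ring⟩ hf).2 w d hd hw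
    exact ⟨m, congrArg Subtype.val hm⟩
  have h2 : ∀ y : G, v' y = 0 → ∃ (m : ℕ) (x : F), f ^ m • y = u' x := by
    intro y hy
    obtain ⟨d, hd, x₀, hx₀⟩ := exists_smul_mem_range u' v' hgen y hy
    have hq : d • (LinearMap.range u).mkQ y = 0 := by
      rw [← LinearMap.map_smul_of_tower, hx₀]
      exact (Submodule.Quotient.mk_eq_zero _).mpr ⟨x₀, rfl⟩
    obtain ⟨m, hm⟩ := (H₂ f ⟨f₁ * f₃, by rw [hfdef]; ring⟩ hf).2 _ d hd hq
    rw [← LinearMap.map_smul_of_tower] at hm
    obtain ⟨x, hx⟩ := (Submodule.Quotient.mk_eq_zero _).mp hm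
    exact ⟨m, x, hx.symm⟩
  set A := Localization.Away f
  set k := p.asIdeal.ResidueField
  have hu_k : IsUnit (algebraMap R k f) := by
    rw [isUnit_iff_ne_zero]
    intro h0
    exact hp (Ideal.algebraMap_residueField_eq_zero.mp h0)
  letI : Algebra A k := (IsLocalization.Away.lift f hu_k).toAlgebra
  haveI : IsScalarTower R A k := IsScalarTower.of_algebraMap_eq
    (fun r => (IsLocalization.Away.lift_eq f hu_k r).symm)
  haveI : Module.Flat R A := IsLocalization.flat A (Submonoid.powers f)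
  have hexA : Exact (u'.baseChange A) (v'.baseChange A) :=
    exact_baseChange_of_pow u' v' f (IsLocalization.Away.algebraMap_isUnit f) h1 h2
  haveI : Module.Free A (A ⊗[R] (H ⧸ LinearMap.range v)) :=
    (H₁ f ⟨f₂ * f₃, by rw [hfdef]; ring⟩ hf).1
  haveI : Module.Flat A ((A ⊗[R] H) ⧸ LinearMap.range (v'.baseChange A)) := by
    have e₀ : (H ⧸ LinearMap.range v') ≃ₗ[R] (H ⧸ LinearMap.range v) :=
      Submodule.Quotient.restrictScalarsEquiv R (LinearMap.range v)
    have e₁ : (A ⊗[R] (H ⧸ LinearMap.range v')) ≃ₗ[A] (A ⊗[R] (H ⧸ LinearMap.range v)) :=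
      LinearEquiv.baseChange R A _ _ e₀
    exact Module.Flat.of_linearEquiv ((KerBC.cokerBaseChangeEquiv v' A).trans e₁)
  have hker := KerBC.ker_le_of_flat_coker (u'.baseChange A) (v'.baseChange A) hexA k
  have hker' := (KerBC.ker_le_range_iff (S := A) (K := k) u' v').mp hker
  intro y
  constructor
  · intro hy
    exact hker' hy
  · rintro ⟨z, rfl⟩
    exact baseChange_comp_eq_zero u' v' f hu_k h1 z

end Fibre

end Groth.Agent.Lib.helper11.GenFreeExact
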