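import Mathlib

/-!
# Kernels of maps with flat cokernel commute with base change (helper11)
-/

set_option autoImplicit false

namespace Groth.Agent.Lib.helper11.FlatKer

open TensorProduct Function

variable {R : Type*} [CommRing R]

section

variable {N₁ N₂ N₃ : Type*} [AddCommGroup N₁] [AddCommGroup N₂] [AddCommGroup N₃]
  [Module R N₁] [Module R N₂] [Module R N₃]

theorem lTensor_injective_of_flat_coker_aux (M G : Type*) [AddCommGroup M] [Module R M]
    [AddCommGroup G] [Module R G] [Module.Flat R G] (π : G →ₗ[R] M) (hπ : Surjective π)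
    {g₁ : N₁ →ₗ[R] N₂} {g₂ : N₂ →ₗ[R] N₃} (hex : Exact g₁ g₂) (hsurj : Surjective g₂)
    (hinj : Injective g₁) [Module.Flat R N₃] : Injective (g₁.lTensor M) := by
  have h1 : Injective ((LinearMap.ker π).subtype.rTensor N₃) :=
    Module.Flat.rTensor_preserves_injective_linearMap _ (Submodule.subtype_injective _)
  have h2 : Injective (g₁.lTensor G) :=
    Module.Flat.lTensor_preserves_injective_linearMap _ hinj
  have h0 : Exact (LinearMap.ker π).subtype π := LinearMap.exact_subtype_ker_map π
  exact lTensor_injective_of_exact_of_exact_of_rTensor_injective h0 hπ hex hsurj h1 h2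

/-- If `0 → N₁ → N₂ → N₃ → 0` is exact with `N₃` flat, then `M ⊗ N₁ → M ⊗ N₂` is injective for
every `M`. -/
theorem lTensor_injective_of_flat_coker (M : Type*) [AddCommGroup M] [Module R M]
    {g₁ : N₁ →ₗ[R] N₂} {g₂ : N₂ →ₗ[R] N₃} (hex : Exact g₁ g₂) (hsurj : Surjective g₂)
    (hinj : Injective g₁) [Module.Flat R N₃] : Injective (g₁.lTensor M) :=
  lTensor_injective_of_flat_coker_aux M (M →₀ R) (Finsupp.linearCombination R id)
    (Finsupp.linearCombination_id_surjective R M) hex hsurj hinj

/-- The kernel of a surjection of flat modules is flat. -/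
theorem flat_of_exact_of_flat {g₁ : N₁ →ₗ[R] N₂} {g₂ : N₂ →ₗ[R] N₃} (hex : Exact g₁ g₂)
    (hsurj : Surjective g₂) (hinj : Injective g₁) [Module.Flat R N₂] [Module.Flat R N₃] :
    Module.Flat R N₁ := by
  rw [Module.Flat.iff_rTensor_injective']
  intro I
  have h1 : Injective (g₁.lTensor I) := lTensor_injective_of_flat_coker I hex hsurj hinj
  have h2 : Injective (I.subtype.rTensor N₂) :=
    Module.Flat.rTensor_preserves_injective_linearMap I.subtype (Submodule.subtype_injective _)
  have h3 : (I.subtype.rTensor N₂) ∘ₗ (g₁.lTensor I) =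
      (g₁.lTensor R) ∘ₗ (I.subtype.rTensor N₁) := by
    rw [LinearMap.rTensor_comp_lTensor, LinearMap.lTensor_comp_rTensor]
  have h4 : Injective ((g₁.lTensor R) ∘ₗ (I.subtype.rTensor N₁)) := by
    rw [← h3]
    exact h2.comp h1
  exact Function.Injective.of_comp h4

end

section Ker

variable {Z X : Type*} [AddCommGroup Z] [AddCommGroup X] [Module R Z] [Module R X]

/-- If `X` and `coker f` are flat then `ker (K ⊗ f) = K ⊗ ker f`. -/
theorem ker_lTensor_eq (K : Type*) [AddCommGroup K] [Module R K] (f : Z →ₗ[R] X)
    [Module.Flat R X] [Module.Flat R (X ⧸ LinearMap.range f)] :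
    Injective ((LinearMap.ker f).subtype.lTensor K) ∧
      LinearMap.ker (f.lTensor K) = LinearMap.range ((LinearMap.ker f).subtype.lTensor K) := by
  have hex2 : Exact (LinearMap.range f).subtype (LinearMap.range f).mkQ :=
    LinearMap.exact_subtype_mkQ _
  have hB : Module.Flat R (LinearMap.range f) :=
    flat_of_exact_of_flat hex2 (Submodule.mkQ_surjective _) (Submodule.subtype_injective _)
  have hBinj : Injective ((LinearMap.range f).subtype.lTensor K) :=
    lTensor_injective_of_flat_coker K hex2 (Submodule.mkQ_surjective _)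
      (Submodule.subtype_injective _)
  have hex1 : Exact (LinearMap.ker f).subtype f.rangeRestrict := by
    intro m
    constructor
    · intro hm
      have : m ∈ LinearMap.ker f := by
        rw [LinearMap.mem_ker]
        exact congrArg Subtype.val hm
      exact ⟨⟨m, this⟩, rfl⟩
    · rintro ⟨k, rfl⟩
      apply Subtype.ext
      exact k.2
  have hHinj : Injective ((LinearMap.ker f).subtype.lTensor K) :=
    lTensor_injective_of_flat_coker K hex1 f.surjective_rangeRestrict
      (Submodule.subtype_injective _)
  refine ⟨hHinj, ?_⟩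
  have hex1' := lTensor_exact K hex1 f.surjective_rangeRestrict
  have hcomp : f.lTensor K =
      (LinearMap.range f).subtype.lTensor K ∘ₗ f.rangeRestrict.lTensor K := by
    rw [← LinearMap.lTensor_comp]
    rfl
  rw [hcomp, LinearMap.ker_comp_of_ker_eq_bot _ (LinearMap.ker_eq_bot.mpr hBinj)]
  exact LinearMap.exact_iff.mp hex1'

/-- dimension form. -/
theorem finrank_ker_baseChange (K : Type*) [Field K] [Algebra R K] (f : Z →ₗ[R] X)
    [Module.Flat R X] [Module.Flat R (X ⧸ LinearMap.range f)] :
    Module.finrank K (LinearMap.ker (f.baseChange K)) =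
      Module.finrank K (K ⊗[R] LinearMap.ker f) := by
  obtain ⟨hinj, hker⟩ := ker_lTensor_eq K f
  have hinj' : Injective ((LinearMap.ker f).subtype.baseChange K) := by
    rw [LinearMap.baseChange_eq_ltensor]
    exact hinj
  have hker' : LinearMap.ker (f.baseChange K) =
      LinearMap.range ((LinearMap.ker f).subtype.baseChange K) := by
    ext w
    rw [LinearMap.mem_ker, LinearMap.mem_range, LinearMap.baseChange_eq_ltensor,
      ← LinearMap.mem_ker, hker, LinearMap.mem_range]
    constructor
    · rintro ⟨y, hy⟩
      exact ⟨y, by rw [LinearMap.baseChange_eq_ltensor]; exact hy⟩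
    · rintro ⟨y, hy⟩
      exact ⟨y, by rw [LinearMap.baseChange_eq_ltensor] at hy; exact hy⟩
  rw [hker']
  exact (LinearEquiv.ofInjective _ hinj').finrank_eq.symm

end Ker

end Groth.Agent.Lib.helper11.FlatKer
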