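import Groth.Agent.Lib.helper11.TFunOpcycles
import Mathlib

/-!
# Base change of a flat complex and exactness properties of `T_p` (helper11)
-/

set_option autoImplicit false
universe u

namespace Groth.Agent.Lib.helper11.TFunBC

open CategoryTheory CategoryTheory.Limits MonoidalCategory CohIII TensorProduct
open Groth.Agent.Lib.helper11

attribute [-instance] CategoryTheory.ShortComplex.hasHomology_of_preserves

variable {A B : Type u} [CommRing A] [CommRing B]

section Inst

set_option backward.isDefEq.respectTransparency false in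
lemma flat_extendScalars_obj (φ : A →+* B) (M : ModuleCat.{u} A) [Module.Flat A M] :
    Module.Flat B ((ModuleCat.extendScalars φ).obj M) := by
  let := ((algebraMap B B).comp φ).toAlgebra
  exact inferInstanceAs (Module.Flat B (B ⊗[A] M))

/-- faithful flatness for an explicit algebra instance. -/
def FF (alg : Algebra A B) : Prop :=
  letI := alg
  Module.FaithfullyFlat A B

set_option backward.isDefEq.respectTransparency false in
lemma flat_of_flat_extendScalars_obj (φ : A →+* B)
    (hff : FF ((algebraMap B B).comp φ).toAlgebra) (M : ModuleCat.{u} A)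
    (h : Module.Flat B ((ModuleCat.extendScalars φ).obj M)) : Module.Flat A M := by
  let := ((algebraMap B B).comp φ).toAlgebra
  have : Module.FaithfullyFlat A B := hff
  have : Module.Flat B (B ⊗[A] M) := h
  exact Module.Flat.of_flat_tensorProduct A M B

lemma weird_eq (alg : Algebra A B) :
    ((algebraMap B B).comp (@algebraMap A B _ _ alg)).toAlgebra = alg := by
  apply Algebra.algebra_ext
  intro r
  rfl

end Inst

variable (φ : A →+* B) {ι : Type} {c : ComplexShape ι}
variable (P : HomologicalComplex (ModuleCat.{u} A) c) (p : ι)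

/-- `opcycles (P_B) ≅ B ⊗ opcycles P`. -/
noncomputable def opcyclesIsoBC :
    (bcCx φ P).opcycles p ≅ (ModuleCat.extendScalars φ).obj (P.opcycles p) :=
  IsColimit.coconePointUniqueUpToIso ((bcCx φ P).opcyclesIsCokernel (c.prev p) p rfl)
    (CokernelCofork.mapIsColimit _ (P.opcyclesIsCokernel (c.prev p) p rfl)
      (ModuleCat.extendScalars φ))

lemma flat_bcCx (hP : ∀ i, Module.Flat A (P.X i)) (i : ι) : Module.Flat B ((bcCx φ P).X i) := by
  have := hP i
  exact flat_extendScalars_obj φ (P.X i)

theorem flat_opcycles_bcCx (h : Module.Flat A (P.opcycles p)) :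
    Module.Flat B ((bcCx φ P).opcycles p) := by
  have := flat_extendScalars_obj φ (P.opcycles p)
  exact Module.Flat.of_linearEquiv (opcyclesIsoBC φ P p).toLinearEquiv

theorem flat_opcycles_of_bcCx (hff : FF ((algebraMap B B).comp φ).toAlgebra)
    (h : Module.Flat B ((bcCx φ P).opcycles p)) : Module.Flat A (P.opcycles p) := by
  apply flat_of_flat_extendScalars_obj φ hff
  exact Module.Flat.of_linearEquiv (opcyclesIsoBC φ P p).symm.toLinearEquiv

theorem preservesMono_bcCx (hP : ∀ i, Module.Flat A (P.X i))
    (h : (TFun P p).PreservesMonomorphisms) : (TFun (bcCx φ P) p).PreservesMonomorphisms := by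
  rw [TFunOpcycles.preservesMono_iff_flat_opcycles _ _ (flat_bcCx φ P hP)]
  rw [TFunOpcycles.preservesMono_iff_flat_opcycles _ _ hP] at h
  exact flat_opcycles_bcCx φ P p h

theorem preservesEpi_bcCx (hP : ∀ i, Module.Flat A (P.X i)) (q : ι) (hpq : c.Rel p q)
    (h : (TFun P p).PreservesEpimorphisms) : (TFun (bcCx φ P) p).PreservesEpimorphisms := by
  rw [TFunBasic.preservesEpi_iff_preservesMono _ (flat_bcCx φ P hP) p q hpq]
  rw [TFunBasic.preservesEpi_iff_preservesMono _ hP p q hpq] at h
  exact preservesMono_bcCx φ P q hP h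

theorem preservesMono_bcCx_iff (hff : FF ((algebraMap B B).comp φ).toAlgebra)
    (hP : ∀ i, Module.Flat A (P.X i)) :
    (TFun (bcCx φ P) p).PreservesMonomorphisms ↔ (TFun P p).PreservesMonomorphisms := by
  rw [TFunOpcycles.preservesMono_iff_flat_opcycles _ _ (flat_bcCx φ P hP),
    TFunOpcycles.preservesMono_iff_flat_opcycles _ _ hP]
  exact ⟨flat_opcycles_of_bcCx φ P p hff, flat_opcycles_bcCx φ P p⟩

theorem preservesEpi_bcCx_iff (hff : FF ((algebraMap B B).comp φ).toAlgebra)
    (hP : ∀ i, Module.Flat A (P.X i)) (q : ι) (hpq : c.Rel p q) :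
    (TFun (bcCx φ P) p).PreservesEpimorphisms ↔ (TFun P p).PreservesEpimorphisms := by
  rw [TFunBasic.preservesEpi_iff_preservesMono _ (flat_bcCx φ P hP) p q hpq,
    TFunBasic.preservesEpi_iff_preservesMono _ hP p q hpq]
  exact preservesMono_bcCx_iff φ P q hff hP

end Groth.Agent.Lib.helper11.TFunBC
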