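import Groth.Agent.Lib.helper11.DRankExact
import Groth.Agent.Lib.helper11.TFunBC
import Groth.Agent.Lib.helper11.FlatKer

/-!
# `dRank` of a flat complex when `T_p` is right exact (helper11)
-/

set_option autoImplicit false
universe u

namespace Groth.Agent.Lib.helper11.DRankFlat

open CategoryTheory CategoryTheory.Limits CohIII TensorProduct
open Groth.Agent.Lib.helper11 Groth.Agent.Lib.helper11.FibDim Groth.Agent.Lib.helper11.DRank

attribute [-instance] CategoryTheory.ShortComplex.hasHomology_of_preserves

section General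

variable {R : Type u} [CommRing R] {ι : Type} {c : ComplexShape ι}

/-- homology as the kernel of `fromOpcycles`. -/
noncomputable def homologyEquivKer (K : HomologicalComplex (ModuleCat.{u} R) c) (p j : ι)
    (hj : c.next p = j) : K.homology p ≃ₗ[R] LinearMap.ker (K.fromOpcycles p j).hom :=
  (IsLimit.conePointUniqueUpToIso (K.homologyIsKernel p j hj)
    (ModuleCat.kernelIsLimit (K.fromOpcycles p j))).toLinearEquiv

lemma range_fromOpcycles (K : HomologicalComplex (ModuleCat.{u} R) c) (p j : ι) :
    LinearMap.range (K.fromOpcycles p j).hom = LinearMap.range (K.d p j).hom := by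
  have h : K.d p j = K.pOpcycles p ≫ K.fromOpcycles p j := (K.p_fromOpcycles p j).symm
  have hs : Function.Surjective (K.pOpcycles p).hom :=
    (ModuleCat.epi_iff_surjective _).mp inferInstance
  rw [h, ModuleCat.hom_comp, LinearMap.range_comp, LinearMap.range_eq_top.mpr hs,
    Submodule.map_top]

end General

variable {A : Type u} [CommRing A] {ι : Type} {c : ComplexShape ι}

section Field

variable {K : Type u} [Field K]

/-- dimension of the kernel of the base change, for an explicit algebra instance. -/
noncomputable def kr (alg : Algebra A K) {M N : Type u} [AddCommGroup M] [Module A M]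
    [AddCommGroup N] [Module A N] (g : M →ₗ[A] N) : ℕ :=
  letI := alg
  Module.finrank K (LinearMap.ker (g.baseChange K))

set_option backward.isDefEq.respectTransparency false in
lemma finrank_ker_extendScalars_map (φ : A →+* K) {M N : ModuleCat.{u} A} (g : M ⟶ N) :
    Module.finrank K (LinearMap.ker ((ModuleCat.extendScalars φ).map g).hom) =
      kr ((algebraMap K K).comp φ).toAlgebra g.hom := rfl

lemma opcyclesIsoBC_hom_comp (φ : A →+* K) (P : HomologicalComplex (ModuleCat.{u} A) c)
    (p j : ι) :
    (TFunBC.opcyclesIsoBC φ P p).hom ≫ (ModuleCat.extendScalars φ).map (P.fromOpcycles p j) =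
      ((bcCx φ P).fromOpcycles p j :
        (bcCx φ P).opcycles p ⟶ (ModuleCat.extendScalars φ).obj (P.X j)) := by
  have h1 : (bcCx φ P).pOpcycles p ≫ (TFunBC.opcyclesIsoBC φ P p).hom =
      (ModuleCat.extendScalars φ).map (P.pOpcycles p) :=
    IsColimit.comp_coconePointUniqueUpToIso_hom
      ((bcCx φ P).opcyclesIsCokernel (c.prev p) p rfl)
      (CokernelCofork.mapIsColimit _ (P.opcyclesIsCokernel (c.prev p) p rfl)
        (ModuleCat.extendScalars φ)) WalkingParallelPair.one
  have h2 : (bcCx φ P).pOpcycles p ≫ ((bcCx φ P).fromOpcycles p j :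
      (bcCx φ P).opcycles p ⟶ (ModuleCat.extendScalars φ).obj (P.X j)) =
      (ModuleCat.extendScalars φ).map (P.d p j) := (bcCx φ P).p_fromOpcycles p j
  have h3 : (ModuleCat.extendScalars φ).map (P.pOpcycles p) ≫
      (ModuleCat.extendScalars φ).map (P.fromOpcycles p j) =
      (ModuleCat.extendScalars φ).map (P.d p j) := by
    rw [← Functor.map_comp, P.p_fromOpcycles]
  have h4 : (bcCx φ P).pOpcycles p ≫ ((TFunBC.opcyclesIsoBC φ P p).hom ≫
      (ModuleCat.extendScalars φ).map (P.fromOpcycles p j)) =
      (ModuleCat.extendScalars φ).map (P.d p j) :=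
    (Category.assoc _ _ _).symm.trans
      ((congrArg (fun t => t ≫ (ModuleCat.extendScalars φ).map (P.fromOpcycles p j)) h1).trans h3)
  exact (cancel_epi ((bcCx φ P).pOpcycles p)).mp (h4.trans h2.symm)

theorem finrank_homology_bcCx (φ : A →+* K) (P : HomologicalComplex (ModuleCat.{u} A) c)
    (p j : ι) (hj : c.next p = j) :
    Module.finrank K ((bcCx φ P).homology p) =
      kr ((algebraMap K K).comp φ).toAlgebra (P.fromOpcycles p j).hom := by
  rw [(homologyEquivKer (bcCx φ P) p j hj).finrank_eq, ← finrank_ker_extendScalars_map]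
  have hcomp : ∀ z, ((bcCx φ P).fromOpcycles p j).hom z =
      ((ModuleCat.extendScalars φ).map (P.fromOpcycles p j)).hom
        ((TFunBC.opcyclesIsoBC φ P p).hom.hom z) := by
    intro z
    have := congrArg (fun t => t.hom z) (opcyclesIsoBC_hom_comp φ P p j)
    exact this.symm
  have key : LinearMap.ker ((bcCx φ P).fromOpcycles p j).hom =
      Submodule.comap (TFunBC.opcyclesIsoBC φ P p).toLinearEquiv.toLinearMap
        (LinearMap.ker ((ModuleCat.extendScalars φ).map (P.fromOpcycles p j)).hom) := by
    ext z
    rw [LinearMap.mem_ker, Submodule.mem_comap, LinearMap.mem_ker, hcomp z]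
    rfl
  rw [key, Submodule.comap_equiv_eq_map_symm]
  exact LinearEquiv.finrank_map_eq _ _

end Field

theorem dRank_eq_fibDim_homology (P : HomologicalComplex (ModuleCat.{u} A) c)
    (hP : ∀ i, Module.Flat A (P.X i)) (p j : ι) (hpj : c.Rel p j)
    (he : (TFun P p).PreservesEpimorphisms) (x : PrimeSpectrum A) :
    dRank P p x = fibDim (P.homology p) x := by
  have hj : c.next p = j := c.next_eq' hpj
  unfold dRank
  rw [finrank_homology_bcCx _ P p j hj, DRank.weird_eq]
  have hXj := hP j
  have hC : Module.Flat A (P.X j ⧸ LinearMap.range (P.fromOpcycles p j).hom) := by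
    rw [range_fromOpcycles]
    exact (DRankExact.preservesEpi_iff_flat_coker P hP p j hpj).mp he
  have h1 := FlatKer.finrank_ker_baseChange x.asIdeal.ResidueField (P.fromOpcycles p j).hom
  unfold kr
  rw [h1]
  unfold fibDim
  exact (TensorProduct.AlgebraTensorModule.congr
    (LinearEquiv.refl x.asIdeal.ResidueField x.asIdeal.ResidueField)
    (homologyEquivKer P p j hj).symm).finrank_eq

end Groth.Agent.Lib.helper11.DRankFlat
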