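import Groth.Agent.Lib.helper11.RedFree

/-!
# Reduced ring, finite module, locally constant fibre dimension: finite presentation (helper11)
-/

set_option autoImplicit false

namespace Groth.Agent.Lib.helper11.RedFree

open TensorProduct Groth.Agent.Lib.helper11.FibDim

variable {R : Type*} [CommRing R] (Q : Type*) [AddCommGroup Q] [Module R Q]

theorem exists_presentation [IsReduced R] [Module.Finite R Q] (x : PrimeSpectrum R)
    (U : Set (PrimeSpectrum R)) (hU : IsOpen U) (hxU : x ∈ U)
    (hconst : ∀ y ∈ U, fibDim Q y = fibDim Q x) :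
    ∃ (g : (Fin (fibDim Q x) → R) →ₗ[R] Q) (f : R), f ∉ x.asIdeal ∧
      (∀ v, g v = 0 → f • v = 0) ∧
      Module.support R (Q ⧸ LinearMap.range g) ⊆ PrimeSpectrum.zeroLocus {f} := by
  obtain ⟨g, hx⟩ := exists_gen Q x
  have hV : IsOpen (Module.support R (Q ⧸ LinearMap.range g))ᶜ :=
    Module.isClosed_support.isOpen_compl
  obtain ⟨_, ⟨f, rfl⟩, hxf, hfU⟩ :=
    PrimeSpectrum.isTopologicalBasis_basic_opens.exists_subset_of_mem_open
      (⟨hxU, hx⟩ : x ∈ U ∩ (Module.support R (Q ⧸ LinearMap.range g))ᶜ) (hU.inter hV)
  refine ⟨g, f, hxf, ?_, ?_⟩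
  · intro v hv
    ext i
    have hnil : f * v i ∈ nilradical R := by
      rw [nilradical_eq_sInf, Ideal.mem_sInf]
      intro J hJ
      by_cases hfJ : f ∈ J
      · exact J.mul_mem_right _ hfJ
      · have hJ' : J.IsPrime := hJ
        let y : PrimeSpectrum R := ⟨J, hJ'⟩
        have hy : y ∈ (PrimeSpectrum.basicOpen f : Set _) := hfJ
        obtain ⟨hyU, hyV⟩ := hfU hy
        have hsurj : Function.Surjective (g.baseChange y.asIdeal.ResidueField) := by
          rw [baseChange_surjective_iff]
          rw [Set.mem_compl_iff, Module.mem_support_iff_nontrivial_residueField_tensorProduct,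
            not_nontrivial_iff_subsingleton] at hyV
          exact hyV
        exact J.mul_mem_left _ (coord_mem_of_mem_ker Q g y hsurj (hconst _ hyU) v hv i)
    rw [nilradical_eq_zero] at hnil
    simpa using hnil
  · intro y hy
    rw [PrimeSpectrum.mem_zeroLocus, Set.singleton_subset_iff]
    by_contra hfy
    exact (hfU (show y ∈ (PrimeSpectrum.basicOpen f : Set _) from hfy)).2 hy

theorem free_away [IsReduced R] [Module.Finite R Q] (x : PrimeSpectrum R)
    (U : Set (PrimeSpectrum R)) (hU : IsOpen U) (hxU : x ∈ U)
    (hconst : ∀ y ∈ U, fibDim Q y = fibDim Q x) :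
    ∃ f : R, f ∉ x.asIdeal ∧
      Module.Free (Localization.Away f) (LocalizedModule.Away f Q) := by
  obtain ⟨g, f, hfx, hker, hsupp⟩ := exists_presentation Q x U hU hxU hconst
  refine ⟨f, hfx, ?_⟩
  have hsurj : Function.Surjective (g.baseChange (Localization.Away f)) := by
    rw [baseChange_surjective_iff]
    have h1 : Subsingleton (LocalizedModule.Away f (Q ⧸ LinearMap.range g)) :=
      LocalizedModule.subsingleton_iff_support_subset.mpr hsupp
    exact (LocalizedModule.equivTensorProduct (Submonoid.powers f)
      (Q ⧸ LinearMap.range g)).symm.subsingleton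
  have hinj : Function.Injective (g.baseChange (Localization.Away f)) := by
    have hex : Function.Exact (LinearMap.ker g).subtype g := LinearMap.exact_subtype_ker_map g
    have hex' := Module.Flat.lTensor_exact (Localization.Away f) hex
    have key : ∀ w : (Localization.Away f) ⊗[R] LinearMap.ker g, w = 0 := by
      intro w
      induction w using TensorProduct.induction_on with
      | zero => rfl
      | tmul t k =>
        have hfu : IsUnit (algebraMap R (Localization.Away f) f) :=
          IsLocalization.Away.algebraMap_isUnit f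
        obtain ⟨u, hu⟩ := hfu
        have ht : t = f • (t * ↑u⁻¹) := by
          rw [Algebra.smul_def, ← hu, mul_comm t, ← mul_assoc, Units.mul_inv, one_mul]
        have hk : f • k = 0 := by
          apply Subtype.ext
          exact hker k.1 k.2
        rw [ht, TensorProduct.smul_tmul, hk, TensorProduct.tmul_zero]
      | add a b ha hb => rw [ha, hb, add_zero]
    rw [injective_iff_map_eq_zero]
    intro w hw
    rw [LinearMap.baseChange_eq_ltensor] at hw
    obtain ⟨u, rfl⟩ := (hex' w).mp hw
    rw [key u, map_zero]
  have hfree : Module.Free (Localization.Away f) ((Localization.Away f) ⊗[R] Q) :=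
    Module.Free.of_equiv
      (LinearEquiv.ofBijective (g.baseChange (Localization.Away f)) ⟨hinj, hsurj⟩)
  exact Module.Free.of_equiv (LocalizedModule.equivTensorProduct (Submonoid.powers f) Q).symm

/-- finite + locally constant fibre dimension over a reduced ring gives finite presentation. -/
theorem finitePresentation_of_fibDim_locallyConstant [IsReduced R] [Module.Finite R Q]
    (h : ∀ x : PrimeSpectrum R, ∃ U : Set (PrimeSpectrum R), IsOpen U ∧ x ∈ U ∧
      ∀ y ∈ U, fibDim Q y = fibDim Q x) : Module.FinitePresentation R Q := by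
  let s : Set R := {f | Module.Free (Localization.Away f) (LocalizedModule.Away f Q)}
  have hs : Ideal.span s = ⊤ := by
    by_contra hne
    obtain ⟨m, hm, hle⟩ := Ideal.exists_le_maximal _ hne
    obtain ⟨U, hU, hxU, hconst⟩ := h ⟨m, hm.isPrime⟩
    obtain ⟨f, hfx, hfree⟩ := free_away Q ⟨m, hm.isPrime⟩ U hU hxU hconst
    exact hfx (hle (Ideal.subset_span hfree))
  refine Module.FinitePresentation.of_localizationSpan s hs ?_
  rintro ⟨f, hf⟩
  have : Module.Free (Localization.Away f) (LocalizedModule.Away f Q) := hf
  have : Module.Finite (Localization.Away f) (LocalizedModule.Away f Q) := inferInstance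
  exact Module.finitePresentation_of_projective _ _

/-- finite + locally constant fibre dimension over a reduced ring gives projective. -/
theorem projective_of_finite_of_fibDim_locallyConstant [IsReduced R] [Module.Finite R Q]
    (h : ∀ x : PrimeSpectrum R, ∃ U : Set (PrimeSpectrum R), IsOpen U ∧ x ∈ U ∧
      ∀ y ∈ U, fibDim Q y = fibDim Q x) : Module.Projective R Q := by
  have := finitePresentation_of_fibDim_locallyConstant Q h
  exact projective_of_fibDim_locallyConstant Q h

end Groth.Agent.Lib.helper11.RedFree
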