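import Groth.Agent.Lib.helper11.TFunBC
import Mathlib

/-!
# Loci of exactness of `T_p` for the localizations (helper11)
-/

set_option autoImplicit false
universe u

namespace Groth.Agent.Lib.helper11.TFunBC2

open CategoryTheory CategoryTheory.Limits MonoidalCategory CohIII TensorProduct
open Groth.Agent.Lib.helper11 Groth.Agent.Lib.helper11.TFunBC

attribute [-instance] CategoryTheory.ShortComplex.hasHomology_of_preserves

variable {A B : Type u} [CommRing A] [CommRing B]

/-- freeness of the base change for an explicit algebra instance. -/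
def FreeBC (alg : Algebra A B) (M : Type u) [AddCommGroup M] [Module A M] : Prop :=
  letI := alg
  Module.Free B (B ⊗[A] M)

set_option backward.isDefEq.respectTransparency false in
lemma flat_extendScalars_obj_iff_free [IsLocalRing B] (φ : A →+* B) (M : ModuleCat.{u} A)
    [Module.Finite A M] :
    Module.Flat B ((ModuleCat.extendScalars φ).obj M) ↔
      FreeBC ((algebraMap B B).comp φ).toAlgebra M := by
  let := ((algebraMap B B).comp φ).toAlgebra
  change Module.Flat B (B ⊗[A] M) ↔ Module.Free B (B ⊗[A] M)
  constructor
  · intro h
    exact Module.free_of_flat_of_isLocalRing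
  · intro h
    exact Module.Flat.of_free

variable {ι : Type} {c : ComplexShape ι}
variable (P : HomologicalComplex (ModuleCat.{u} A) c)

lemma finite_opcycles (p : ι) [Module.Finite A (P.X p)] : Module.Finite A (P.opcycles p) := by
  have hs : Function.Surjective (P.pOpcycles p).hom :=
    (ModuleCat.epi_iff_surjective _).mp inferInstance
  exact Module.Finite.of_surjective (P.pOpcycles p).hom hs

theorem preservesMono_localization_iff (hP : ∀ i, Module.Flat A (P.X i)) (p : ι)
    [Module.Finite A (P.X p)] (y : PrimeSpectrum A) :
    (TFun (bcCx (algebraMap A (Localization.AtPrime y.asIdeal)) P) p).PreservesMonomorphisms ↔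
      y ∈ Module.freeLocus A (P.opcycles p) := by
  have := finite_opcycles P p
  rw [TFunOpcycles.preservesMono_iff_flat_opcycles _ _ (flat_bcCx _ P hP)]
  have h1 : Module.Flat (Localization.AtPrime y.asIdeal)
      ((bcCx (algebraMap A (Localization.AtPrime y.asIdeal)) P).opcycles p) ↔
      Module.Flat (Localization.AtPrime y.asIdeal)
        ((ModuleCat.extendScalars (algebraMap A (Localization.AtPrime y.asIdeal))).obj
          (P.opcycles p)) :=
    ⟨fun h => Module.Flat.of_linearEquiv (opcyclesIsoBC _ P p).symm.toLinearEquiv,
      fun h => Module.Flat.of_linearEquiv (opcyclesIsoBC _ P p).toLinearEquiv⟩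
  rw [h1, flat_extendScalars_obj_iff_free, weird_eq,
    Module.mem_freeLocus_iff_tensor y (Localization.AtPrime y.asIdeal)]
  rfl

theorem preservesEpi_localization_iff (hP : ∀ i, Module.Flat A (P.X i)) (p q : ι)
    (hpq : c.Rel p q) [Module.Finite A (P.X q)] (y : PrimeSpectrum A) :
    (TFun (bcCx (algebraMap A (Localization.AtPrime y.asIdeal)) P) p).PreservesEpimorphisms ↔
      y ∈ Module.freeLocus A (P.opcycles q) := by
  rw [TFunBasic.preservesEpi_iff_preservesMono _ (flat_bcCx _ P hP) p q hpq]
  exact preservesMono_localization_iff P hP q y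

lemma bot_mem_freeLocus [IsDomain A] (M : Type u) [AddCommGroup M] [Module A M] :
    (⟨⊥, Ideal.isPrime_bot⟩ : PrimeSpectrum A) ∈ Module.freeLocus A M := by
  rw [Module.mem_freeLocus]
  have hf : IsField (Localization.AtPrime (⊥ : Ideal A)) := by
    rw [IsLocalRing.isField_iff_maximalIdeal_eq, ← Localization.AtPrime.map_eq_maximalIdeal,
      Ideal.map_bot]
  let := hf.toField
  exact Module.Free.of_divisionRing _ _

end Groth.Agent.Lib.helper11.TFunBC2
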