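import Groth.Agent.Lib.helper11.DRankExact
import Groth.Agent.Lib.helper11.RedFree2
import Groth.Agent.Lib.helper11.DRankFlat
import Groth.Agent.Lib.helper11.TFunBC2

/-!
# Locally constant Betti numbers over a reduced ring give projective homology (helper11)
-/

set_option autoImplicit false
universe u

namespace Groth.Agent.Lib.helper11.DRankProj

open CategoryTheory CategoryTheory.Limits CohIII TensorProduct
open Groth.Agent.Lib.helper11 Groth.Agent.Lib.helper11.FibDim Groth.Agent.Lib.helper11.DRank

attribute [-instance] CategoryTheory.ShortComplex.hasHomology_of_preserves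

section LA

variable {R : Type*} [CommRing R] {Z X : Type*} [AddCommGroup Z] [AddCommGroup X] [Module R Z]
  [Module R X]

theorem ker_finite_projective (f : Z →ₗ[R] X) [Module.Finite R Z] [Module.Projective R Z]
    [Module.Projective R X] [Module.Projective R (X ⧸ LinearMap.range f)] :
    Module.Finite R (LinearMap.ker f) ∧ Module.Projective R (LinearMap.ker f) := by
  obtain ⟨s, hs⟩ := Module.projective_lifting_property (LinearMap.range f).mkQ LinearMap.id
    (Submodule.mkQ_surjective _)
  have hmem : ∀ x : X, x - s ((LinearMap.range f).mkQ x) ∈ LinearMap.range f := by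
    intro x
    rw [← Submodule.Quotient.mk_eq_zero, Submodule.Quotient.mk_sub, sub_eq_zero]
    have := LinearMap.congr_fun hs ((LinearMap.range f).mkQ x)
    simp only [LinearMap.comp_apply, LinearMap.id_apply, Submodule.mkQ_apply] at this
    exact this.symm
  let r : X →ₗ[R] LinearMap.range f :=
    (LinearMap.id - s ∘ₗ (LinearMap.range f).mkQ).codRestrict (LinearMap.range f) hmem
  have hr : r ∘ₗ (LinearMap.range f).subtype = LinearMap.id := by
    ext ⟨y, hy⟩
    have h0 : (LinearMap.range f).mkQ y = 0 := by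
      rw [Submodule.mkQ_apply, Submodule.Quotient.mk_eq_zero]
      exact hy
    simp [r, h0]
  have hR : Module.Projective R (LinearMap.range f) :=
    Module.Projective.of_split (LinearMap.range f).subtype r hr
  obtain ⟨t, ht⟩ := Module.projective_lifting_property f.rangeRestrict LinearMap.id
    f.surjective_rangeRestrict
  have hmem' : ∀ m : Z, m - t (f.rangeRestrict m) ∈ LinearMap.ker f := by
    intro m
    rw [LinearMap.mem_ker, map_sub, sub_eq_zero]
    have := LinearMap.congr_fun ht (f.rangeRestrict m)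
    simp only [LinearMap.comp_apply, LinearMap.id_apply] at this
    have h2 := congrArg Subtype.val this
    exact h2.symm
  let ρ : Z →ₗ[R] LinearMap.ker f :=
    (LinearMap.id - t ∘ₗ f.rangeRestrict).codRestrict (LinearMap.ker f) hmem'
  have hρ : ρ ∘ₗ (LinearMap.ker f).subtype = LinearMap.id := by
    ext ⟨y, hy⟩
    have h0 : f.rangeRestrict y = 0 := by
      apply Subtype.ext
      exact hy
    simp [ρ, h0]
  refine ⟨?_, Module.Projective.of_split (LinearMap.ker f).subtype ρ hρ⟩
  apply Module.Finite.of_surjective ρ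
  intro k
  exact ⟨k.1, LinearMap.congr_fun hρ k⟩

end LA

variable {A : Type u} [CommRing A] {ι : Type} {c : ComplexShape ι}
variable (P : HomologicalComplex (ModuleCat.{u} A) c)

theorem cokers_projective_of_dRank_const [IsReduced A]
    (hfin : ∀ i, Module.Finite A (P.X i)) (hproj : ∀ i, Module.Projective A (P.X i))
    (p i j : ι) (hi : c.prev p = i) (hj : c.next p = j)
    (h : ∀ x : PrimeSpectrum A, ∃ U : Set (PrimeSpectrum A), IsOpen U ∧ x ∈ U ∧
      ∀ y ∈ U, dRank P p y = dRank P p x) :
    Module.Projective A (P.X p ⧸ LinearMap.range (P.d i p).hom) ∧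
      Module.Projective A (P.X j ⧸ LinearMap.range (P.d p j).hom) := by
  have hfp : ∀ i, Module.FinitePresentation A (P.X i) :=
    fun i => Module.finitePresentation_of_projective A (P.X i)
  have key : ∀ x : PrimeSpectrum A, ∃ U : Set (PrimeSpectrum A), IsOpen U ∧ x ∈ U ∧
      ∀ y ∈ U, fibDim (P.X p ⧸ LinearMap.range (P.d i p).hom) y =
          fibDim (P.X p ⧸ LinearMap.range (P.d i p).hom) x ∧
        fibDim (P.X j ⧸ LinearMap.range (P.d p j).hom) y =
          fibDim (P.X j ⧸ LinearMap.range (P.d p j).hom) x := by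
    intro x
    obtain ⟨U₀, hU₀, hx₀, h₀⟩ := h x
    obtain ⟨U₁, hU₁, hx₁, h₁⟩ := exists_open_fibRank_ge (P.d i p).hom x
    obtain ⟨U₂, hU₂, hx₂, h₂⟩ := exists_open_fibRank_ge (P.d p j).hom x
    obtain ⟨U₃, hU₃, hx₃, h₃⟩ := exists_open_fibDim_eq (N := P.X p) x
    obtain ⟨U₄, hU₄, hx₄, h₄⟩ := exists_open_fibDim_eq (N := P.X j) x
    refine ⟨U₀ ∩ U₁ ∩ U₂ ∩ U₃ ∩ U₄, (((hU₀.inter hU₁).inter hU₂).inter hU₃).inter hU₄,
      ⟨⟨⟨⟨hx₀, hx₁⟩, hx₂⟩, hx₃⟩, hx₄⟩, ?_⟩
    rintro y ⟨⟨⟨⟨hy₀, hy₁⟩, hy₂⟩, hy₃⟩, hy₄⟩
    have a1 := dRank_add' P p i j hi hj x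
    have a2 := dRank_add' P p i j hi hj y
    have b1 := fibRank_add_fibDim_coker (P.d i p).hom x
    have b2 := fibRank_add_fibDim_coker (P.d i p).hom y
    have c1 := fibRank_add_fibDim_coker (P.d p j).hom x
    have c2 := fibRank_add_fibDim_coker (P.d p j).hom y
    have e0 := h₀ y hy₀
    have e1 := h₁ y hy₁
    have e2 := h₂ y hy₂
    have e3 := h₃ y hy₃
    have e4 := h₄ y hy₄
    constructor <;> omega
  constructor
  · apply RedFree.projective_of_finite_of_fibDim_locallyConstant
    intro x
    obtain ⟨U, hU, hxU, hc⟩ := key x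
    exact ⟨U, hU, hxU, fun y hy => (hc y hy).1⟩
  · apply RedFree.projective_of_finite_of_fibDim_locallyConstant
    intro x
    obtain ⟨U, hU, hxU, hc⟩ := key x
    exact ⟨U, hU, hxU, fun y hy => (hc y hy).2⟩

theorem homology_finite_projective [IsReduced A]
    (hfin : ∀ i, Module.Finite A (P.X i)) (hproj : ∀ i, Module.Projective A (P.X i))
    (p i j : ι) (hi : c.prev p = i) (hj : c.next p = j)
    (h : ∀ x : PrimeSpectrum A, ∃ U : Set (PrimeSpectrum A), IsOpen U ∧ x ∈ U ∧
      ∀ y ∈ U, dRank P p y = dRank P p x) :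
    Module.Finite A (P.homology p) ∧ Module.Projective A (P.homology p) := by
  obtain ⟨h1, h2⟩ := cokers_projective_of_dRank_const P hfin hproj p i j hi hj h
  have := hfin p
  have := hproj j
  have hZfin : Module.Finite A (P.opcycles p) := TFunBC2.finite_opcycles P p
  have hZproj : Module.Projective A (P.opcycles p) :=
    Module.Projective.of_equiv (DRankExact.opcyclesEquiv P i p hi).symm
  have hC : Module.Projective A (P.X j ⧸ LinearMap.range (P.fromOpcycles p j).hom) := by
    rw [DRankFlat.range_fromOpcycles]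
    exact h2
  obtain ⟨hkf, hkp⟩ := ker_finite_projective (P.fromOpcycles p j).hom
  exact ⟨Module.Finite.equiv (DRankFlat.homologyEquivKer P p j hj).symm,
    Module.Projective.of_equiv (DRankFlat.homologyEquivKer P p j hj).symm⟩

end Groth.Agent.Lib.helper11.DRankProj
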