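import Groth.Agent.Lib.helper11.TFunLocal

/-!
# Vanishing of `T_p` from vanishing of `T_p(k)` over a local ring (helper11)
-/

set_option autoImplicit false
universe u

namespace Groth.Agent.Lib.helper11.TFunLocal

open CategoryTheory CategoryTheory.Limits MonoidalCategory CohIII IsLocalRing
open Groth.Agent.Lib.helper11

attribute [-instance] CategoryTheory.ShortComplex.hasHomology_of_preserves

variable {A : Type u} [CommRing A] [IsLocalRing A] {ι : Type} {c : ComplexShape ι}
variable (P : HomologicalComplex (ModuleCat.{u} A) c)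

/-- S2408 for a general complex shape. -/
theorem isZero_of_isZero_residueField [IsNoetherianRing A]
    (hP : ∀ i, Module.Finite A (P.X i) ∧ Module.Flat A (P.X i))
    (p j : ι) (hpj : c.Rel p j)
    (hk : IsZero ((TFun P p).obj (ModuleCat.of A (ResidueField A)))) (M : ModuleCat.{u} A) :
    IsZero ((TFun P p).obj M) := by
  have hflat : ∀ i, Module.Flat A (P.X i) := fun i => (hP i).2
  have hsub := ModuleCat.subsingleton_of_isZero hk
  have hsurj : Function.Surjective ((TFun P p).map (resMap A)).hom := by
    intro y
    exact ⟨0, Subsingleton.elim _ _⟩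
  have he := preservesEpi_of_surjective P hP p j hpj hsurj
  let e := TFunEW.isoTensorLeft P p hflat
  have := (hP p).1
  have hfin : Module.Finite A ((TFun P p).obj (ModuleCat.of A A)) :=
    haveI : Module.Finite A (ModuleCat.of A A) := inferInstanceAs (Module.Finite A A)
    TFunExact.finite_TFun_obj P p (ModuleCat.of A A)
  have h1 : Subsingleton (TensorProduct A ((TFun P p).obj (ModuleCat.of A A)) (ResidueField A)) :=
    (e.app (ModuleCat.of A (ResidueField A))).toLinearEquiv.symm.subsingleton
  have h2 : Subsingleton (TensorProduct A (ResidueField A) ((TFun P p).obj (ModuleCat.of A A))) :=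
    (TensorProduct.comm A _ _).subsingleton
  have h3 : Subsingleton ((TFun P p).obj (ModuleCat.of A A)) :=
    IsLocalRing.subsingleton_tensorProduct.mp h2
  have h4 : Subsingleton (TensorProduct A ((TFun P p).obj (ModuleCat.of A A)) M) := inferInstance
  have h4' : Subsingleton ((tensorLeft ((TFun P p).obj (ModuleCat.of A A))).obj M) := h4
  have h5 : Subsingleton ((TFun P p).obj M) :=
    (e.app M).toLinearEquiv.subsingleton
  exact ModuleCat.isZero_of_subsingleton _

/-- S2411 for a general complex shape. -/
theorem exact_and_free_of_adjacent_vanishing [IsNoetherianRing A]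
    (hP : ∀ i, Module.Finite A (P.X i) ∧ Module.Flat A (P.X i))
    (p q r j : ι) (hpq : c.Rel p q) (hrp : c.Rel r p) (hqj : c.Rel q j)
    (hq : IsZero ((TFun P q).obj (ModuleCat.of A (ResidueField A))))
    (hr : IsZero ((TFun P r).obj (ModuleCat.of A (ResidueField A)))) :
    ((TFun P p).PreservesMonomorphisms ∧ (TFun P p).PreservesEpimorphisms) ∧
      Module.Free A ((TFun P p).obj (ModuleCat.of A A)) := by
  have hflat : ∀ i, Module.Flat A (P.X i) := fun i => (hP i).2
  have hq0 := isZero_of_isZero_residueField P hP q j hqj hq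
  have hr0 := isZero_of_isZero_residueField P hP r p hrp hr
  have hqm : (TFun P q).PreservesMonomorphisms := by
    refine ⟨fun {M N} g _ => ?_⟩
    exact ⟨fun a b _ => (hq0 M).eq_of_tgt a b⟩
  have hre : (TFun P r).PreservesEpimorphisms := by
    refine ⟨fun {M N} g _ => ?_⟩
    exact ⟨fun a b _ => (hr0 N).eq_of_src a b⟩
  have hpe : (TFun P p).PreservesEpimorphisms :=
    (TFunBasic.preservesEpi_iff_preservesMono P hflat p q hpq).mpr hqm
  have hpm : (TFun P p).PreservesMonomorphisms :=
    (TFunBasic.preservesEpi_iff_preservesMono P hflat r p hrp).mp hre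
  refine ⟨⟨hpm, hpe⟩, ?_⟩
  exact ((TFunExact.exact_iff_preservesEpi_and_free P p hP).mp ⟨hpm, hpe⟩).2

end Groth.Agent.Lib.helper11.TFunLocal
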