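import Groth.Prelude.Def_Pi1
import Groth.Agent.S0548
import Groth.Agent.Lib.Helper12.HensFCC

/-!
# Quotients of regular local rings by regular sequences are complete intersections
-/

set_option autoImplicit false
universe u

namespace Groth.Agent.Lib.helper11.CIQuot

open IsLocalRing RingTheory.Sequence

/-- A regular local ring modulo a regular sequence is a complete intersection
(in the sense of `Pi1.IsCompleteIntersection`: its completion is a regular local ring modulo a
regular sequence). -/
theorem isCompleteIntersection_quotient (P : Type u) [CommRing P] [IsRegularLocalRing P]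
    (fs : List P) (hmem : ∀ f ∈ fs, f ∈ maximalIdeal P) (hreg : IsWeaklyRegular P fs)
    (J : Ideal P) (hJ : J = Ideal.ofList fs) [IsLocalRing (P ⧸ J)] :
    Pi1.IsCompleteIntersection (P ⧸ J) := by
  haveI : IsNoetherianRing (AdicCompletion (maximalIdeal P) P) :=
    Groth.Agent.Lib.helper19.isNoetherianRing_adicCompletion P _
  haveI hB : IsRegularLocalRing (AdicCompletion (maximalIdeal P) P) :=
    (Groth.Agent.S0548.result P).1 inferInstance
  obtain ⟨hm1, hi1, hs1⟩ := Groth.Agent.Lib.Helper12.HensFC.level_hat P
  obtain ⟨_, ⟨e1⟩⟩ := Groth.Agent.Lib.Helper12.HensFC.nonempty_complEquiv_quotient P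
    (AdicCompletion (maximalIdeal P) P) (algebraMap P (AdicCompletion (maximalIdeal P) P))
    hm1 hi1 hs1 J
  have hmemB : ∀ r ∈ fs.map (algebraMap P (AdicCompletion (maximalIdeal P) P)),
      r ∈ maximalIdeal (AdicCompletion (maximalIdeal P) P) := by
    intro r hr
    obtain ⟨f, hf, rfl⟩ := List.mem_map.1 hr
    rw [← hm1]
    exact Ideal.mem_map_of_mem _ (hmem f hf)
  refine ⟨AdicCompletion (maximalIdeal P) P, inferInstance, hB,
    fs.map (algebraMap P (AdicCompletion (maximalIdeal P) P)), hmemB, ?_, ⟨e1.trans
      (Ideal.quotEquivOfEq ?_)⟩⟩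
  · exact (IsLocalRing.isRegular_iff_isWeaklyRegular_of_subset_maximalIdeal hmemB).2
      (IsWeaklyRegular.of_flat hreg)
  · rw [hJ, Ideal.map_ofList]

end Groth.Agent.Lib.helper11.CIQuot
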