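import Mathlib

/-!
# Projective dimension of `LocalizedModule` (helper11)
-/

set_option autoImplicit false

namespace Groth.Agent.Lib.helper11.LocalizedPD

open CategoryTheory

universe u

theorem hasProjectiveDimensionLE_localizedModule {A : Type u} [CommRing A] (S : Submonoid A)
    (M : Type u) [AddCommGroup M] [Module A M] (n : ℕ)
    (h : HasProjectiveDimensionLE (ModuleCat.of A M) n) :
    HasProjectiveDimensionLE (ModuleCat.of (Localization S) (LocalizedModule S M)) n := by
  have h2 := ModuleCat.localizedModule_hasProjectiveDimensionLE n S (ModuleCat.of A M)
  let e : (ModuleCat.of A M).localizedModule S ≅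
      ModuleCat.of (Localization S) (LocalizedModule S M) :=
    (Shrink.linearEquiv.{u} (Localization S) (LocalizedModule S M)).toModuleIso
  exact hasProjectiveDimensionLT_of_iso e _

end Groth.Agent.Lib.helper11.LocalizedPD
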