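import Mathlib
import Groth.Agent.Lib.helper11.ExtShift

/-!
# Projective dimension modulo a regular element (helper11)

If `x` is regular on `R` and on the finite `R`-module `M`, then
`pd_{R/x}(M/xM) ≤ pd_R(M)`.
-/

set_option autoImplicit false

namespace Groth.Agent.Lib.helper11.ChangeOfRingsPD

open CategoryTheory Groth.Agent.Lib.helper11.ExtShift

universe u

variable {R : Type u} [CommRing R]

/-- The `R/x`-linear map induced on quotients by `x`. -/
noncomputable def mapQ (x : R) {M N : Type u} [AddCommGroup M] [Module R M] [AddCommGroup N]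
    [Module R N] (f : M →ₗ[R] N) :
    QuotSMulTop x M →ₗ[R ⧸ Ideal.span {x}] QuotSMulTop x N :=
  (QuotSMulTop.map x f).extendScalarsOfSurjective Ideal.Quotient.mk_surjective

theorem mapQ_apply (x : R) {M N : Type u} [AddCommGroup M] [Module R M] [AddCommGroup N]
    [Module R N] (f : M →ₗ[R] N) (y : QuotSMulTop x M) :
    mapQ x f y = QuotSMulTop.map x f y := rfl

open Pointwise in
/-- Left exactness of reduction mod `x` when `x` is regular on the cokernel. -/
theorem mapQ_injective (x : R) {K P M : Type u} [AddCommGroup K] [Module R K] [AddCommGroup P]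
    [Module R P] [AddCommGroup M] [Module R M] (i : K →ₗ[R] P) (π : P →ₗ[R] M)
    (hi : Function.Injective i) (hex : Function.Exact i π) (hreg : IsSMulRegular M x) :
    Function.Injective (mapQ x i) := by
  rw [injective_iff_map_eq_zero]
  intro y hy
  obtain ⟨k, rfl⟩ := Submodule.Quotient.mk_surjective _ y
  rw [mapQ_apply, QuotSMulTop.map_apply_mk] at hy
  have h1 : i k ∈ x • (⊤ : Submodule R P) := (Submodule.Quotient.mk_eq_zero _).mp hy
  obtain ⟨p, -, hp⟩ := (Submodule.mem_smul_pointwise_iff_exists _ _ _).mp h1
  have h2 : x • π p = 0 := by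
    rw [← map_smul, hp]
    exact hex.apply_apply_eq_zero k
  have h3 : π p = 0 := hreg (by show x • π p = x • 0; rw [h2, smul_zero])
  obtain ⟨k', hk'⟩ := (hex p).mp h3
  have h4 : k = x • k' := by
    apply hi
    rw [map_smul, hk', hp]
  rw [Submodule.Quotient.mk_eq_zero, h4]
  exact Submodule.smul_mem_pointwise_smul _ _ _ Submodule.mem_top

variable [IsNoetherianRing R]

/-- `pd_{R/x}(M/xM) ≤ pd_R(M)` for `x` regular on `R` and on `M`. -/
theorem hasProjectiveDimensionLT_quotSMulTop (x : R) (hx : IsSMulRegular R x) :
    ∀ (n : ℕ) (M : Type u) [AddCommGroup M] [Module R M] [Module.Finite R M],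
      IsSMulRegular M x → HasProjectiveDimensionLT (ModuleCat.of R M) (n + 1) →
      HasProjectiveDimensionLT (ModuleCat.of (R ⧸ Ideal.span {x}) (QuotSMulTop x M)) (n + 1) := by
  intro n
  induction n with
  | zero =>
    intro M _ _ _ hreg h
    rw [zero_add, ← projective_iff_hasProjectiveDimensionLT_one, ← IsProjective.iff_projective] at h ⊢
    let e : QuotSMulTop x M ≃ₗ[R ⧸ Ideal.span {x}] TensorProduct R (R ⧸ Ideal.span {x}) M :=
      (QuotSMulTop.equivQuotTensor x M).extendScalarsOfSurjective Ideal.Quotient.mk_surjective
    exact Module.Projective.of_equiv e.symm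
  | succ n ih =>
    intro M _ _ _ hreg h
    rcases Module.exists_finite_presentation R M with ⟨P, _, _, _, _, f, surjf⟩
    let S := f.shortComplexKer
    have hS : S.ShortExact := LinearMap.shortExact_shortComplexKer surjf
    have proj : Projective S.X₂ := ModuleCat.projective_of_categoryTheory_projective S.X₂
    have hK : HasProjectiveDimensionLT (ModuleCat.of R (LinearMap.ker f)) (n + 1) :=
      (hS.hasProjectiveDimensionLT_X₃_iff n proj).mp h
    have hregP : IsSMulRegular P x := by
      let b := Module.Free.chooseBasis R P
      intro p q hpq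
      apply b.repr.injective
      ext j
      have h1 := congrArg (fun z => b.repr z j) hpq
      simp only [map_smul, Finsupp.smul_apply] at h1
      exact hx h1
    have hregK : IsSMulRegular (LinearMap.ker f) x := by
      intro p q hpq
      apply Subtype.ext
      apply hregP
      have := congrArg Subtype.val hpq
      simpa using this
    have hK' := ih (LinearMap.ker f) hregK hK
    have hex : Function.Exact (LinearMap.ker f).subtype f := LinearMap.exact_subtype_ker_map f
    have hS' := sc_shortExact (mapQ x (LinearMap.ker f).subtype) (mapQ x f)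
      (mapQ_injective x _ f (Submodule.injective_subtype _) hex hreg)
      (QuotSMulTop.map_surjective x surjf)
      (QuotSMulTop.map_exact x hex surjf)
    haveI : Module.Projective (R ⧸ Ideal.span {x}) (QuotSMulTop x P) :=
      Module.Projective.of_free
    have proj' : Projective (sc (mapQ x (LinearMap.ker f).subtype) (mapQ x f)
        (QuotSMulTop.map_exact x hex surjf)).X₂ := inferInstance
    exact (hS'.hasProjectiveDimensionLT_X₃_iff n proj').mpr hK'

end Groth.Agent.Lib.helper11.ChangeOfRingsPD
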