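import Groth.Agent.Lib.helper11.FibDim

/-!
# Over a reduced ring, a finite module with locally constant fibre dimension is locally free
(helper11)
-/

set_option autoImplicit false

namespace Groth.Agent.Lib.helper11.RedFree

open TensorProduct Groth.Agent.Lib.helper11.FibDim

variable {R : Type*} [CommRing R] (Q : Type*) [AddCommGroup Q] [Module R Q]

/-- coordinates of kernel elements vanish in the residue fields of the primes where the fibre map
is a surjection between spaces of the same dimension. -/
theorem coord_mem_of_mem_ker [Module.Finite R Q] {r : ℕ} (g : (Fin r → R) →ₗ[R] Q)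
    (y : PrimeSpectrum R)
    (hsurj : Function.Surjective (g.baseChange y.asIdeal.ResidueField))
    (hdim : fibDim Q y = r) (v : Fin r → R) (hv : g v = 0) (i : Fin r) : v i ∈ y.asIdeal := by
  set κ := y.asIdeal.ResidueField with hκ
  have : Nontrivial R := PrimeSpectrum.nonempty_iff_nontrivial.mp ⟨y⟩
  have hfr : Module.finrank κ (κ ⊗[R] (Fin r → R)) = Module.finrank κ (κ ⊗[R] Q) := by
    rw [Module.finrank_baseChange, Module.finrank_fin_fun]
    exact hdim.symm
  have hinj : Function.Injective (g.baseChange κ) :=
    (LinearMap.injective_iff_surjective_of_finrank_eq_finrank hfr).mpr hsurj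
  have h0 : (1 : κ) ⊗ₜ[R] v = 0 := by
    apply hinj
    rw [LinearMap.baseChange_tmul, hv, TensorProduct.tmul_zero, map_zero]
  have h1 := congrArg (fun t => TensorProduct.piScalarRight R κ κ (Fin r) t i) h0
  simp only [TensorProduct.piScalarRight_apply, TensorProduct.piScalarRightHom_tmul, map_zero,
    Pi.zero_apply] at h1
  rw [← Ideal.algebraMap_residueField_eq_zero, Algebra.algebraMap_eq_smul_one]
  exact h1

/-- generators at a point. -/
theorem exists_gen [Module.Finite R Q] (x : PrimeSpectrum R) :
    ∃ g : (Fin (fibDim Q x) → R) →ₗ[R] Q, x ∉ Module.support R (Q ⧸ LinearMap.range g) := by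
  classical
  set κ := x.asIdeal.ResidueField with hκ
  set s : Set (κ ⊗[R] Q) := Set.range (TensorProduct.mk R κ Q 1) with hs
  have hspan : Submodule.span κ s = ⊤ := by
    have h1 := Submodule.baseChange_top (R := R) (M := Q) κ
    rw [Submodule.baseChange_eq_span, Submodule.map_top] at h1
    rw [← h1, hs]
    rfl
  obtain ⟨f, hfs, hfspan, -⟩ := Submodule.exists_fun_fin_finrank_span_eq κ s
  have hn : Module.finrank κ (Submodule.span κ s) = fibDim Q x := by
    rw [hspan, finrank_top]
    rfl
  have hfspan' : Submodule.span κ (Set.range f) = ⊤ := hfspan.trans hspan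
  choose c hc using hfs
  let g : (Fin (Module.finrank κ (Submodule.span κ s)) → R) →ₗ[R] Q := Fintype.linearCombination R c
  have hgx : Function.Surjective (g.baseChange κ) := by
    rw [← LinearMap.range_eq_top, eq_top_iff, ← hfspan', Submodule.span_le]
    rintro _ ⟨i, rfl⟩
    refine ⟨(1 : κ) ⊗ₜ[R] (Pi.single i 1), ?_⟩
    rw [LinearMap.baseChange_tmul, ← hc i]
    simp [g]
  have hx : x ∉ Module.support R (Q ⧸ LinearMap.range g) := by
    rw [Module.mem_support_iff_nontrivial_residueField_tensorProduct, not_nontrivial_iff_subsingleton]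
    exact (baseChange_surjective_iff κ g).mp hgx
  clear_value g
  revert g
  rw [hn]
  intro g _ hx
  exact ⟨g, hx⟩

/-- the main local statement at a point. -/
theorem mem_freeLocus_of_fibDim_const [IsReduced R] [Module.Finite R Q] (x : PrimeSpectrum R)
    (U : Set (PrimeSpectrum R)) (hU : IsOpen U) (hxU : x ∈ U)
    (hconst : ∀ y ∈ U, fibDim Q y = fibDim Q x) : x ∈ Module.freeLocus R Q := by
  obtain ⟨g, hx⟩ := exists_gen Q x
  have hV : IsOpen (Module.support R (Q ⧸ LinearMap.range g))ᶜ :=
    Module.isClosed_support.isOpen_compl
  obtain ⟨_, ⟨f, rfl⟩, hxf, hfU⟩ :=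
    PrimeSpectrum.isTopologicalBasis_basic_opens.exists_subset_of_mem_open
      (⟨hxU, hx⟩ : x ∈ U ∩ (Module.support R (Q ⧸ LinearMap.range g))ᶜ) (hU.inter hV)
  have hker : ∀ v, g v = 0 → f • v = 0 := by
    intro v hv
    ext i
    have hnil : f * v i ∈ nilradical R := by
      rw [nilradical_eq_sInf, Ideal.mem_sInf]
      intro J hJ
      by_cases hfJ : f ∈ J
      · exact J.mul_mem_right _ hfJ
      · have hJ' : J.IsPrime := hJ
        let y : PrimeSpectrum R := ⟨J, hJ'⟩
        have hy : y ∈ (PrimeSpectrum.basicOpen f : Set _) := hfJ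
        obtain ⟨hyU, hyV⟩ := hfU hy
        have hsurj : Function.Surjective (g.baseChange y.asIdeal.ResidueField) := by
          rw [baseChange_surjective_iff]
          rw [Set.mem_compl_iff, Module.mem_support_iff_nontrivial_residueField_tensorProduct,
            not_nontrivial_iff_subsingleton] at hyV
          exact hyV
        exact J.mul_mem_left _ (coord_mem_of_mem_ker Q g y hsurj (hconst _ hyU) v hv i)
    rw [nilradical_eq_zero] at hnil
    simpa using hnil
  rw [Module.mem_freeLocus_iff_tensor x (Localization.AtPrime x.asIdeal)]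
  have hsurj : Function.Surjective (g.baseChange (Localization.AtPrime x.asIdeal)) := by
    rw [baseChange_surjective_iff]
    have h1 : Subsingleton (LocalizedModule x.asIdeal.primeCompl (Q ⧸ LinearMap.range g)) :=
      Module.notMem_support_iff.mp hx
    exact (LocalizedModule.equivTensorProduct x.asIdeal.primeCompl
      (Q ⧸ LinearMap.range g)).symm.subsingleton
  have hinj : Function.Injective (g.baseChange (Localization.AtPrime x.asIdeal)) := by
    have hex : Function.Exact (LinearMap.ker g).subtype g := LinearMap.exact_subtype_ker_map g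
    have hex' := Module.Flat.lTensor_exact (Localization.AtPrime x.asIdeal) hex
    have key : ∀ w : (Localization.AtPrime x.asIdeal) ⊗[R] LinearMap.ker g, w = 0 := by
      intro w
      induction w using TensorProduct.induction_on with
      | zero => rfl
      | tmul t k =>
        have hfu : IsUnit (algebraMap R (Localization.AtPrime x.asIdeal) f) :=
          IsLocalization.map_units (Localization.AtPrime x.asIdeal)
            (⟨f, hxf⟩ : x.asIdeal.primeCompl)
        obtain ⟨u, hu⟩ := hfu
        have ht : t = f • (t * ↑u⁻¹) := by
          rw [Algebra.smul_def, ← hu, mul_comm t, ← mul_assoc, Units.mul_inv, one_mul]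
        have hk : f • k = 0 := by
          apply Subtype.ext
          exact hker k.1 k.2
        rw [ht, TensorProduct.smul_tmul, hk, TensorProduct.tmul_zero]
      | add a b ha hb => rw [ha, hb, add_zero]
    rw [injective_iff_map_eq_zero]
    intro w hw
    rw [LinearMap.baseChange_eq_ltensor] at hw
    obtain ⟨u, rfl⟩ := (hex' w).mp hw
    rw [key u, map_zero]
  exact Module.Free.of_equiv
    (LinearEquiv.ofBijective (g.baseChange (Localization.AtPrime x.asIdeal)) ⟨hinj, hsurj⟩)

/-- Over a reduced ring, a finitely presented module with locally constant fibre dimension is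
projective. -/
theorem projective_of_fibDim_locallyConstant [IsReduced R] [Module.FinitePresentation R Q]
    (h : ∀ x : PrimeSpectrum R, ∃ U : Set (PrimeSpectrum R), IsOpen U ∧ x ∈ U ∧
      ∀ y ∈ U, fibDim Q y = fibDim Q x) : Module.Projective R Q := by
  rw [← Module.freeLocus_eq_univ_iff, Set.eq_univ_iff_forall]
  intro x
  obtain ⟨U, hU, hxU, hconst⟩ := h x
  exact mem_freeLocus_of_fibDim_const Q x U hU hxU hconst

/-- Over a reduced local ring, a finite module whose fibre dimension at every minimal prime equals
that at the closed point is free. -/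
theorem free_of_fibDim_minimalPrimes [IsReduced R] [IsLocalRing R] [Module.Finite R Q]
    (h : ∀ y : PrimeSpectrum R, y.asIdeal ∈ minimalPrimes R →
      fibDim Q y = fibDim Q (IsLocalRing.closedPoint R)) : Module.Free R Q := by
  obtain ⟨g, hx⟩ := exists_gen Q (IsLocalRing.closedPoint R)
  have hC : Subsingleton (Q ⧸ LinearMap.range g) := by
    rw [← Module.support_eq_empty_iff (R := R), Set.eq_empty_iff_forall_notMem]
    intro y hy
    exact hx (Module.mem_support_mono (IsLocalRing.le_maximalIdeal y.2.1) hy)
  have hsurj : Function.Surjective g := by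
    rw [← LinearMap.range_eq_top]
    exact Submodule.Quotient.subsingleton_iff.mp hC
  have hinj : Function.Injective g := by
    rw [injective_iff_map_eq_zero]
    intro v hv
    ext i
    have hnil : v i ∈ nilradical R := by
      change v i ∈ (⊥ : Ideal R).radical
      rw [← Ideal.sInf_minimalPrimes (I := (⊥ : Ideal R)), Ideal.mem_sInf]
      intro J hJ
      have hJp : J.IsPrime := hJ.1.1
      let y : PrimeSpectrum R := ⟨J, hJp⟩
      have hs : Function.Surjective (g.baseChange y.asIdeal.ResidueField) := by
        rw [LinearMap.baseChange_eq_ltensor]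
        exact LinearMap.lTensor_surjective _ hsurj
      exact coord_mem_of_mem_ker Q g y hs (h y hJ) v hv i
    rw [nilradical_eq_zero] at hnil
    simpa using hnil
  exact Module.Free.of_equiv (LinearEquiv.ofBijective g ⟨hinj, hsurj⟩)

end Groth.Agent.Lib.helper11.RedFree
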