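import Groth.Agent.Lib.helper11.DRank2
import Groth.Agent.Lib.helper11.RedFree
import Groth.Agent.Lib.helper11.TFunOpcycles

/-!
# `dRank` locally constant versus exactness of `T_p` (helper11)
-/

set_option autoImplicit false
universe u

namespace Groth.Agent.Lib.helper11.DRankExact

open CategoryTheory CategoryTheory.Limits CohIII TensorProduct
open Groth.Agent.Lib.helper11 Groth.Agent.Lib.helper11.FibDim Groth.Agent.Lib.helper11.DRank

attribute [-instance] CategoryTheory.ShortComplex.hasHomology_of_preserves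

variable {A : Type u} [CommRing A] {ι : Type} {c : ComplexShape ι}
variable (P : HomologicalComplex (ModuleCat.{u} A) c)

/-- opcycles as a quotient. -/
noncomputable def opcyclesEquiv (i j : ι) (hij : c.prev j = i) :
    P.opcycles j ≃ₗ[A] (P.X j ⧸ LinearMap.range (P.d i j).hom) :=
  (IsColimit.coconePointUniqueUpToIso (P.opcyclesIsCokernel i j hij)
      (ModuleCat.cokernelIsColimit (P.d i j))).toLinearEquiv

theorem flat_opcycles_iff (i j : ι) (hij : c.prev j = i) :
    Module.Flat A (P.opcycles j) ↔ Module.Flat A (P.X j ⧸ LinearMap.range (P.d i j).hom) :=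
  ⟨fun _ => Module.Flat.of_linearEquiv (opcyclesEquiv P i j hij).symm,
    fun _ => Module.Flat.of_linearEquiv (opcyclesEquiv P i j hij)⟩

theorem preservesMono_iff_flat_coker (hP : ∀ i, Module.Flat A (P.X i)) (i p : ι)
    (hi : c.prev p = i) :
    (TFun P p).PreservesMonomorphisms ↔
      Module.Flat A (P.X p ⧸ LinearMap.range (P.d i p).hom) := by
  rw [TFunOpcycles.preservesMono_iff_flat_opcycles P p hP, flat_opcycles_iff P i p hi]

theorem preservesEpi_iff_flat_coker (hP : ∀ i, Module.Flat A (P.X i)) (p j : ι)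
    (hpj : c.Rel p j) :
    (TFun P p).PreservesEpimorphisms ↔
      Module.Flat A (P.X j ⧸ LinearMap.range (P.d p j).hom) := by
  rw [TFunBasic.preservesEpi_iff_preservesMono P hP p j hpj,
    preservesMono_iff_flat_coker P hP p j (c.prev_eq' hpj)]

section Noeth

variable [IsNoetherianRing A]

theorem dRank_const_of_exact (hP : ∀ i, Module.Finite A (P.X i) ∧ Module.Flat A (P.X i))
    (p i j : ι) (hi : c.prev p = i) (hj : c.next p = j) (hpj : c.Rel p j)
    (hm : (TFun P p).PreservesMonomorphisms) (he : (TFun P p).PreservesEpimorphisms)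
    (x : PrimeSpectrum A) :
    ∃ U : Set (PrimeSpectrum A), IsOpen U ∧ x ∈ U ∧ ∀ y ∈ U, dRank P p y = dRank P p x := by
  have hfin : ∀ i, Module.Finite A (P.X i) := fun i => (hP i).1
  have hflat : ∀ i, Module.Flat A (P.X i) := fun i => (hP i).2
  have hfp : ∀ i, Module.FinitePresentation A (P.X i) :=
    fun i => Module.finitePresentation_of_finite A (P.X i)
  rw [preservesMono_iff_flat_coker P hflat i p hi] at hm
  rw [preservesEpi_iff_flat_coker P hflat p j hpj] at he
  have hfp1 : Module.FinitePresentation A (P.X p ⧸ LinearMap.range (P.d i p).hom) :=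
    Module.finitePresentation_of_finite A _
  have hfp2 : Module.FinitePresentation A (P.X j ⧸ LinearMap.range (P.d p j).hom) :=
    Module.finitePresentation_of_finite A _
  obtain ⟨U₁, hU₁, hx₁, h₁⟩ :=
    exists_open_fibDim_eq (N := P.X p ⧸ LinearMap.range (P.d i p).hom) x
  obtain ⟨U₂, hU₂, hx₂, h₂⟩ :=
    exists_open_fibDim_eq (N := P.X j ⧸ LinearMap.range (P.d p j).hom) x
  obtain ⟨U₃, hU₃, hx₃, h₃⟩ := exists_open_fibDim_eq (N := P.X p) x
  obtain ⟨U₄, hU₄, hx₄, h₄⟩ := exists_open_fibDim_eq (N := P.X j) x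
  refine ⟨U₁ ∩ U₂ ∩ U₃ ∩ U₄, ((hU₁.inter hU₂).inter hU₃).inter hU₄, ⟨⟨⟨hx₁, hx₂⟩, hx₃⟩, hx₄⟩, ?_⟩
  rintro y ⟨⟨⟨hy₁, hy₂⟩, hy₃⟩, hy₄⟩
  have a1 := dRank_add' P p i j hi hj x
  have a2 := dRank_add' P p i j hi hj y
  have b1 := fibRank_add_fibDim_coker (P.d i p).hom x
  have b2 := fibRank_add_fibDim_coker (P.d i p).hom y
  have c1 := fibRank_add_fibDim_coker (P.d p j).hom x
  have c2 := fibRank_add_fibDim_coker (P.d p j).hom y
  have e1 := h₁ y hy₁
  have e2 := h₂ y hy₂
  have e3 := h₃ y hy₃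
  have e4 := h₄ y hy₄
  omega

theorem exact_of_dRank_const [IsReduced A]
    (hP : ∀ i, Module.Finite A (P.X i) ∧ Module.Flat A (P.X i))
    (p i j : ι) (hi : c.prev p = i) (hj : c.next p = j) (hpj : c.Rel p j)
    (h : ∀ x : PrimeSpectrum A, ∃ U : Set (PrimeSpectrum A), IsOpen U ∧ x ∈ U ∧
      ∀ y ∈ U, dRank P p y = dRank P p x) :
    (TFun P p).PreservesMonomorphisms ∧ (TFun P p).PreservesEpimorphisms := by
  have hfin : ∀ i, Module.Finite A (P.X i) := fun i => (hP i).1
  have hflat : ∀ i, Module.Flat A (P.X i) := fun i => (hP i).2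
  have hfp : ∀ i, Module.FinitePresentation A (P.X i) :=
    fun i => Module.finitePresentation_of_finite A (P.X i)
  have hfp1 : Module.FinitePresentation A (P.X p ⧸ LinearMap.range (P.d i p).hom) :=
    Module.finitePresentation_of_finite A _
  have hfp2 : Module.FinitePresentation A (P.X j ⧸ LinearMap.range (P.d p j).hom) :=
    Module.finitePresentation_of_finite A _
  have key : ∀ x : PrimeSpectrum A, ∃ U : Set (PrimeSpectrum A), IsOpen U ∧ x ∈ U ∧
      ∀ y ∈ U, fibDim (P.X p ⧸ LinearMap.range (P.d i p).hom) y =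
          fibDim (P.X p ⧸ LinearMap.range (P.d i p).hom) x ∧
        fibDim (P.X j ⧸ LinearMap.range (P.d p j).hom) y =
          fibDim (P.X j ⧸ LinearMap.range (P.d p j).hom) x := by
    intro x
    obtain ⟨U₀, hU₀, hx₀, h₀⟩ := h x
    obtain ⟨U₁, hU₁, hx₁, h₁⟩ := exists_open_fibRank_ge (P.d i p).hom x
    obtain ⟨U₂, hU₂, hx₂, h₂⟩ := exists_open_fibRank_ge (P.d p j).hom x
    obtain ⟨U₃, hU₃, hx₃, h₃⟩ := exists_open_fibDim_eq (N := P.X p) x
    obtain ⟨U₄, hU₄, hx₄, h₄⟩ := exists_open_fibDim_eq (N := P.X j) x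
    refine ⟨U₀ ∩ U₁ ∩ U₂ ∩ U₃ ∩ U₄, (((hU₀.inter hU₁).inter hU₂).inter hU₃).inter hU₄,
      ⟨⟨⟨⟨hx₀, hx₁⟩, hx₂⟩, hx₃⟩, hx₄⟩, ?_⟩
    rintro y ⟨⟨⟨⟨hy₀, hy₁⟩, hy₂⟩, hy₃⟩, hy₄⟩
    have a1 := dRank_add' P p i j hi hj x
    have a2 := dRank_add' P p i j hi hj y
    have b1 := fibRank_add_fibDim_coker (P.d i p).hom x
    have b2 := fibRank_add_fibDim_coker (P.d i p).hom y
    have c1 := fibRank_add_fibDim_coker (P.d p j).hom x
    have c2 := fibRank_add_fibDim_coker (P.d p j).hom y
    have e0 := h₀ y hy₀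
    have e1 := h₁ y hy₁
    have e2 := h₂ y hy₂
    have e3 := h₃ y hy₃
    have e4 := h₄ y hy₄
    constructor <;> omega
  have hpr1 : Module.Projective A (P.X p ⧸ LinearMap.range (P.d i p).hom) := by
    apply RedFree.projective_of_fibDim_locallyConstant
    intro x
    obtain ⟨U, hU, hxU, hc⟩ := key x
    exact ⟨U, hU, hxU, fun y hy => (hc y hy).1⟩
  have hpr2 : Module.Projective A (P.X j ⧸ LinearMap.range (P.d p j).hom) := by
    apply RedFree.projective_of_fibDim_locallyConstant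
    intro x
    obtain ⟨U, hU, hxU, hc⟩ := key x
    exact ⟨U, hU, hxU, fun y hy => (hc y hy).2⟩
  rw [preservesMono_iff_flat_coker P hflat i p hi, preservesEpi_iff_flat_coker P hflat p j hpj]
  exact ⟨inferInstance, inferInstance⟩

theorem exact_of_dRank_minimalPrimes [IsLocalRing A] [IsReduced A]
    (hP : ∀ i, Module.Finite A (P.X i) ∧ Module.Flat A (P.X i))
    (p i j : ι) (hi : c.prev p = i) (hj : c.next p = j) (hpj : c.Rel p j)
    (h : ∀ q : PrimeSpectrum A, q.asIdeal ∈ minimalPrimes A →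
      dRank P p q = dRank P p (IsLocalRing.closedPoint A)) :
    (TFun P p).PreservesMonomorphisms ∧ (TFun P p).PreservesEpimorphisms := by
  have hfin : ∀ i, Module.Finite A (P.X i) := fun i => (hP i).1
  have hflat : ∀ i, Module.Flat A (P.X i) := fun i => (hP i).2
  have hfp : ∀ i, Module.FinitePresentation A (P.X i) :=
    fun i => Module.finitePresentation_of_finite A (P.X i)
  have huniv : ∀ U : Set (PrimeSpectrum A), IsOpen U → IsLocalRing.closedPoint A ∈ U →
      ∀ y, y ∈ U := fun U hU hx y => (IsLocalRing.specializes_closedPoint y).mem_open hU hx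
  have key : ∀ q : PrimeSpectrum A, q.asIdeal ∈ minimalPrimes A →
      fibDim (P.X p ⧸ LinearMap.range (P.d i p).hom) q =
          fibDim (P.X p ⧸ LinearMap.range (P.d i p).hom) (IsLocalRing.closedPoint A) ∧
        fibDim (P.X j ⧸ LinearMap.range (P.d p j).hom) q =
          fibDim (P.X j ⧸ LinearMap.range (P.d p j).hom) (IsLocalRing.closedPoint A) := by
    intro y hy
    obtain ⟨U₁, hU₁, hx₁, h₁⟩ := exists_open_fibRank_ge (P.d i p).hom (IsLocalRing.closedPoint A)
    obtain ⟨U₂, hU₂, hx₂, h₂⟩ := exists_open_fibRank_ge (P.d p j).hom (IsLocalRing.closedPoint A)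
    obtain ⟨U₃, hU₃, hx₃, h₃⟩ := exists_open_fibDim_eq (N := P.X p) (IsLocalRing.closedPoint A)
    obtain ⟨U₄, hU₄, hx₄, h₄⟩ := exists_open_fibDim_eq (N := P.X j) (IsLocalRing.closedPoint A)
    have a1 := dRank_add' P p i j hi hj (IsLocalRing.closedPoint A)
    have a2 := dRank_add' P p i j hi hj y
    have b1 := fibRank_add_fibDim_coker (P.d i p).hom (IsLocalRing.closedPoint A)
    have b2 := fibRank_add_fibDim_coker (P.d i p).hom y
    have c1 := fibRank_add_fibDim_coker (P.d p j).hom (IsLocalRing.closedPoint A)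
    have c2 := fibRank_add_fibDim_coker (P.d p j).hom y
    have e0 := h y hy
    have e1 := h₁ y (huniv U₁ hU₁ hx₁ y)
    have e2 := h₂ y (huniv U₂ hU₂ hx₂ y)
    have e3 := h₃ y (huniv U₃ hU₃ hx₃ y)
    have e4 := h₄ y (huniv U₄ hU₄ hx₄ y)
    constructor <;> omega
  have hpr1 : Module.Free A (P.X p ⧸ LinearMap.range (P.d i p).hom) :=
    RedFree.free_of_fibDim_minimalPrimes _ (fun y hy => (key y hy).1)
  have hpr2 : Module.Free A (P.X j ⧸ LinearMap.range (P.d p j).hom) :=
    RedFree.free_of_fibDim_minimalPrimes _ (fun y hy => (key y hy).2)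
  rw [preservesMono_iff_flat_coker P hflat i p hi, preservesEpi_iff_flat_coker P hflat p j hpj]
  exact ⟨inferInstance, inferInstance⟩

end Noeth

end Groth.Agent.Lib.helper11.DRankExact
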