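import Groth.Agent.Lib.helper11.TFunOpcycles
import Mathlib

/-!
# `T_p` over a Dedekind domain (helper11)
-/

set_option autoImplicit false
universe u

namespace Groth.Agent.Lib.helper11.TFunDedekind

open CategoryTheory CategoryTheory.Limits MonoidalCategory CohIII
open Groth.Agent.Lib.helper11

attribute [-instance] CategoryTheory.ShortComplex.hasHomology_of_preserves

variable {A : Type u} [CommRing A] {ι : Type} {c : ComplexShape ι}
variable (P : HomologicalComplex (ModuleCat.{u} A) c)

/-- elementwise exactness of `H_p → opcycles_p → P_j`. -/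
lemma exists_homologyι_eq (p : ι) (x : P.opcycles p)
    (hx : (P.fromOpcycles p (c.next p)).hom x = 0) :
    ∃ h : P.homology p, (P.homologyι p).hom h = x := by
  let K := LinearMap.ker (P.fromOpcycles p (c.next p)).hom
  let k : ModuleCat.of A K ⟶ P.opcycles p := ModuleCat.ofHom K.subtype
  have hk : k ≫ P.fromOpcycles p (c.next p) = 0 := by
    ext y
    exact y.2
  let hK := P.homologyIsKernel p (c.next p) rfl
  let l : ModuleCat.of A K ⟶ P.homology p := hK.lift (KernelFork.ofι k hk)
  have hl : l ≫ P.homologyι p = k := Fork.IsLimit.lift_ι hK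
  refine ⟨l.hom ⟨x, hx⟩, ?_⟩
  have := congrArg (fun t => t.hom ⟨x, hx⟩) hl
  exact this

variable [IsDedekindDomain A]

theorem flat_opcycles_iff_flat_homology (p : ι) [Module.Flat A (P.X (c.next p))] :
    Module.Flat A (P.opcycles p) ↔ Module.Flat A (P.homology p) := by
  rw [IsDedekindDomain.flat_iff_torsion_eq_bot, IsDedekindDomain.flat_iff_torsion_eq_bot]
  have hX : Submodule.torsion A (P.X (c.next p)) = ⊥ :=
    IsDedekindDomain.flat_iff_torsion_eq_bot.mp inferInstance
  have hinj : Function.Injective (P.homologyι p).hom :=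
    (ModuleCat.mono_iff_injective _).mp inferInstance
  constructor
  · intro h
    rw [eq_bot_iff]
    intro y hy
    rw [Submodule.mem_torsion_iff] at hy
    obtain ⟨a, ha⟩ := hy
    rw [Submonoid.smul_def] at ha
    have : (P.homologyι p).hom y ∈ Submodule.torsion A (P.opcycles p) := by
      rw [Submodule.mem_torsion_iff]
      exact ⟨a, by rw [Submonoid.smul_def, ← map_smul, ha, map_zero]⟩
    rw [h, Submodule.mem_bot] at this
    rw [Submodule.mem_bot]
    exact hinj (by rw [this, map_zero])
  · intro h
    rw [eq_bot_iff]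
    intro x hx
    rw [Submodule.mem_torsion_iff] at hx
    obtain ⟨a, ha⟩ := hx
    rw [Submonoid.smul_def] at ha
    have h1 : (P.fromOpcycles p (c.next p)).hom x ∈ Submodule.torsion A (P.X (c.next p)) := by
      rw [Submodule.mem_torsion_iff]
      exact ⟨a, by rw [Submonoid.smul_def, ← map_smul, ha, map_zero]⟩
    rw [hX, Submodule.mem_bot] at h1
    obtain ⟨y, rfl⟩ := exists_homologyι_eq P p x h1
    have h2 : y ∈ Submodule.torsion A (P.homology p) := by
      rw [Submodule.mem_torsion_iff]
      refine ⟨a, hinj ?_⟩
      rw [Submonoid.smul_def, map_smul, ha, map_zero]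
    rw [h, Submodule.mem_bot] at h2
    rw [h2, map_zero]
    exact Submodule.zero_mem _

/-- S4489, first part. -/
theorem preservesMono_iff_flat_homology (hP : ∀ i, Module.Flat A (P.X i)) (p : ι) :
    (TFun P p).PreservesMonomorphisms ↔ Module.Flat A (P.homology p) := by
  have := hP (c.next p)
  rw [TFunOpcycles.preservesMono_iff_flat_opcycles P p hP, flat_opcycles_iff_flat_homology]

/-- S4489, second part. -/
theorem exact_iff_flat_homology (hP : ∀ i, Module.Flat A (P.X i)) (p q : ι) (hpq : c.Rel p q) :
    ((TFun P p).PreservesMonomorphisms ∧ (TFun P p).PreservesEpimorphisms) ↔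
      (Module.Flat A (P.homology p) ∧ Module.Flat A (P.homology q)) := by
  rw [TFunBasic.preservesEpi_iff_preservesMono P hP p q hpq,
    preservesMono_iff_flat_homology P hP p, preservesMono_iff_flat_homology P hP q]

end Groth.Agent.Lib.helper11.TFunDedekind
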