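import Groth.Agent.Lib.helper11.FibDim
import Groth.Prelude.Def_ega3

/-!
# The function `dRank` (helper11)

`dRank P p x + rank (d_{p+1} ⊗ κ(x)) + rank (d_p ⊗ κ(x)) = dim (P_p ⊗ κ(x))`, and consequences.
-/

set_option autoImplicit false
universe u

namespace Groth.Agent.Lib.helper11.DRank

open CategoryTheory CohIII TensorProduct
open Groth.Agent.Lib.helper11.FibDim

section Field

variable {k : Type u} [Field k]

/-- Homology dimension of a short complex of vector spaces. -/
theorem finrank_homology_add (S : ShortComplex (ModuleCat.{u} k)) [Module.Finite k S.X₂] :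
    Module.finrank k S.homology + Module.finrank k (LinearMap.range S.f.hom) +
      Module.finrank k (LinearMap.range S.g.hom) = Module.finrank k S.X₂ := by
  have e : S.homology ≃ₗ[k] (LinearMap.ker S.g.hom ⧸ LinearMap.range S.moduleCatToCycles) :=
    S.moduleCatHomologyIso.toLinearEquiv
  have h1 := Submodule.finrank_quotient_add_finrank (LinearMap.range S.moduleCatToCycles)
  have h2 : Module.finrank k (LinearMap.range S.moduleCatToCycles) =
      Module.finrank k (LinearMap.range S.f.hom) := by
    have : LinearMap.range S.f.hom =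
        (LinearMap.range S.moduleCatToCycles).map (LinearMap.ker S.g.hom).subtype := by
      rw [← LinearMap.range_comp]
      rfl
    rw [this, Submodule.finrank_map_subtype_eq]
  have h3 := LinearMap.finrank_range_add_finrank_ker S.g.hom
  rw [e.finrank_eq]
  omega

end Field

section BaseChange

variable {A : Type u} [CommRing A] {κ : Type u} [Field κ]

/-- rank of the base change, for an explicit algebra instance -/
noncomputable def rk (alg : Algebra A κ) {M N : Type u} [AddCommGroup M] [Module A M] [AddCommGroup N] [Module A N]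
    (g : M →ₗ[A] N) : ℕ :=
  letI := alg
  Module.finrank κ (LinearMap.range (g.baseChange κ))

noncomputable def dm (alg : Algebra A κ) (M : Type u) [AddCommGroup M] [Module A M] : ℕ :=
  letI := alg
  Module.finrank κ (κ ⊗[A] M)

set_option backward.isDefEq.respectTransparency false in
lemma finrank_range_extendScalars_map (φ : A →+* κ) {M N : ModuleCat.{u} A} (g : M ⟶ N) :
    Module.finrank κ (LinearMap.range ((ModuleCat.extendScalars φ).map g).hom) =
      rk ((algebraMap κ κ).comp φ).toAlgebra g.hom := rfl

set_option backward.isDefEq.respectTransparency false in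
lemma finrank_extendScalars_obj (φ : A →+* κ) (M : ModuleCat.{u} A) :
    Module.finrank κ ((ModuleCat.extendScalars φ).obj M) =
      dm ((algebraMap κ κ).comp φ).toAlgebra M := rfl

set_option backward.isDefEq.respectTransparency false in
lemma finite_extendScalars_obj (φ : A →+* κ) (M : ModuleCat.{u} A) [Module.Finite A M] :
    Module.Finite κ ((ModuleCat.extendScalars φ).obj M) := by
  let := ((algebraMap κ κ).comp φ).toAlgebra
  exact inferInstanceAs (Module.Finite κ (κ ⊗[A] M))

lemma weird_eq (alg : Algebra A κ) :
    ((algebraMap κ κ).comp (@algebraMap A κ _ _ alg)).toAlgebra = alg := by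
  apply Algebra.algebra_ext
  intro r
  rfl

variable {ι : Type} {c : ComplexShape ι}

theorem dRank_add (P : HomologicalComplex (ModuleCat.{u} A) c) (p : ι) [Module.Finite A (P.X p)]
    (x : PrimeSpectrum A) :
    dRank P p x + fibRank (P.d (c.prev p) p).hom x + fibRank (P.d p (c.next p)).hom x =
      fibDim (P.X p) x := by
  let φ : A →+* x.asIdeal.ResidueField := algebraMap A x.asIdeal.ResidueField
  let S := (bcCx φ P).sc p
  have hfin0 : Module.Finite x.asIdeal.ResidueField (x.asIdeal.ResidueField ⊗[A] P.X p) :=
    inferInstance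
  have hX : Module.finrank x.asIdeal.ResidueField S.X₂ = fibDim (P.X p) x := by
    have h1 : Module.finrank x.asIdeal.ResidueField S.X₂ =
        dm ((algebraMap x.asIdeal.ResidueField x.asIdeal.ResidueField).comp φ).toAlgebra (P.X p) :=
      finrank_extendScalars_obj φ (P.X p)
    rw [h1, weird_eq]
    rfl
  have hf : Module.finrank x.asIdeal.ResidueField (LinearMap.range S.f.hom) =
      fibRank (P.d (c.prev p) p).hom x := by
    have h1 : Module.finrank x.asIdeal.ResidueField (LinearMap.range S.f.hom) =
        rk ((algebraMap x.asIdeal.ResidueField x.asIdeal.ResidueField).comp φ).toAlgebra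
          (P.d (c.prev p) p).hom :=
      finrank_range_extendScalars_map φ (P.d (c.prev p) p)
    rw [h1, weird_eq]
    rfl
  have hg : Module.finrank x.asIdeal.ResidueField (LinearMap.range S.g.hom) =
      fibRank (P.d p (c.next p)).hom x := by
    have h1 : Module.finrank x.asIdeal.ResidueField (LinearMap.range S.g.hom) =
        rk ((algebraMap x.asIdeal.ResidueField x.asIdeal.ResidueField).comp φ).toAlgebra
          (P.d p (c.next p)).hom :=
      finrank_range_extendScalars_map φ (P.d p (c.next p))
    rw [h1, weird_eq]
    rfl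
  have hfin : Module.Finite x.asIdeal.ResidueField S.X₂ :=
    finite_extendScalars_obj φ (P.X p)
  have := Groth.Agent.Lib.helper11.DRank.finrank_homology_add S
  rw [hX, hf, hg] at this
  exact this

/-- S2380 for a general complex shape. -/
theorem dRank_upperSemicontinuous [IsNoetherianRing A]
    (P : HomologicalComplex (ModuleCat.{u} A) c)
    (hP : ∀ i, Module.Finite A (P.X i) ∧ Module.Flat A (P.X i)) (p : ι) :
    UpperSemicontinuous (dRank P p) := by
  apply upperSemicontinuous_of_local
  intro x
  have hfin : ∀ i, Module.Finite A (P.X i) := fun i => (hP i).1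
  have hflat : ∀ i, Module.Flat A (P.X i) := fun i => (hP i).2
  have hfp : ∀ i, Module.FinitePresentation A (P.X i) :=
    fun i => Module.finitePresentation_of_finite A (P.X i)
  obtain ⟨U₁, hU₁, hx₁, h₁⟩ := exists_open_fibDim_eq (N := P.X p) x
  obtain ⟨U₂, hU₂, hx₂, h₂⟩ := exists_open_fibRank_ge (P.d (c.prev p) p).hom x
  obtain ⟨U₃, hU₃, hx₃, h₃⟩ := exists_open_fibRank_ge (P.d p (c.next p)).hom x
  refine ⟨U₁ ∩ U₂ ∩ U₃, (hU₁.inter hU₂).inter hU₃, ⟨⟨hx₁, hx₂⟩, hx₃⟩, ?_⟩
  rintro y ⟨⟨hy₁, hy₂⟩, hy₃⟩
  have a1 := dRank_add P p x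
  have a2 := dRank_add P p y
  have c1 := h₁ y hy₁
  have c2 := h₂ y hy₂
  have c3 := h₃ y hy₃
  omega

end BaseChange

end Groth.Agent.Lib.helper11.DRank
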