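import Mathlib

/-!
# A ring map is bijective if it is so after localizing at every maximal ideal (pushout form, helper11)
-/

set_option autoImplicit false
set_option linter.style.haveILetI false
universe u
open CategoryTheory CategoryTheory.Limits

namespace Groth.Agent.Lib.helper11.H0

/-- data at one maximal ideal -/
theorem local_facts {R M : Type u} [CommRing R] [CommRing M] (a : R →+* M) (P : Ideal R)
    [P.IsPrime] (C : CommRingCat.{u}) (c : CommRingCat.of M ⟶ C)
    (d : CommRingCat.of (Localization.AtPrime P) ⟶ C)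
    (hpo : IsPushout (CommRingCat.ofHom a)
      (CommRingCat.ofHom (algebraMap R (Localization.AtPrime P))) c d)
    (hd : Function.Bijective d.hom) :
    (∀ r : R, a r = 0 → ∃ v : R, v ∉ P ∧ v * r = 0) ∧
    (∀ σ : M, ∃ v : R, v ∉ P ∧ ∃ r : R, a v * σ = a r) := by
  algebraize [a, c.hom, d.hom, c.hom.comp a]
  haveI : IsScalarTower R M C := .of_algebraMap_eq' rfl
  have hw : c.hom.comp a = d.hom.comp (algebraMap R (Localization.AtPrime P)) := by
    have := congrArg CommRingCat.Hom.hom hpo.w
    exact this
  haveI : IsScalarTower R (Localization.AtPrime P) C := .of_algebraMap_eq' hw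
  have hP : Algebra.IsPushout R (Localization.AtPrime P) M C :=
    CommRingCat.isPushout_iff_isPushout.mp hpo.flip
  have hbc : IsBaseChange (Localization.AtPrime P) (IsScalarTower.toAlgHom R M C).toLinearMap :=
    hP.out
  haveI hloc : IsLocalizedModule P.primeCompl (IsScalarTower.toAlgHom R M C).toLinearMap :=
    (isLocalizedModule_iff_isBaseChange P.primeCompl (Localization.AtPrime P) _).mpr hbc
  have hker : ∀ m : M, c.hom m = 0 → ∃ v : R, v ∉ P ∧ a v * m = 0 := by
    intro m hm
    obtain ⟨⟨v, hv⟩, hvm⟩ := (IsLocalizedModule.eq_zero_iff P.primeCompl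
      (IsScalarTower.toAlgHom R M C).toLinearMap (m := m)).mp hm
    refine ⟨v, hv, ?_⟩
    have : v • m = 0 := hvm
    rwa [Algebra.smul_def] at this
  constructor
  · intro r hr
    have h1 : d.hom (algebraMap R (Localization.AtPrime P) r) = 0 := by
      have := RingHom.congr_fun hw r
      simp only [RingHom.comp_apply] at this
      rw [← this, hr, map_zero]
    have h2 : algebraMap R (Localization.AtPrime P) r = 0 := hd.1 (by rw [h1, map_zero])
    obtain ⟨⟨v, hv⟩, hvr⟩ := (IsLocalization.map_eq_zero_iff P.primeCompl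
      (Localization.AtPrime P) r).mp h2
    exact ⟨v, hv, hvr⟩
  · intro σ
    obtain ⟨ρ, hρ⟩ := hd.2 (c.hom σ)
    obtain ⟨⟨r, ⟨u, hu⟩⟩, hru⟩ := IsLocalization.surj P.primeCompl ρ
    have hru' : ρ * algebraMap R (Localization.AtPrime P) u =
        algebraMap R (Localization.AtPrime P) r := hru
    have h1 : c.hom (a u * σ - a r) = 0 := by
      have e1 := RingHom.congr_fun hw u
      have e2 := RingHom.congr_fun hw r
      simp only [RingHom.comp_apply] at e1 e2
      rw [map_sub, map_mul, e1, e2, ← hρ, ← map_mul, mul_comm, hru', sub_self]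
    obtain ⟨v, hv, hvm⟩ := hker _ h1
    refine ⟨v * u, ?_, v * r, ?_⟩
    · exact fun h => (Ideal.IsPrime.mem_or_mem inferInstance h).elim hv hu
    · rw [mul_sub, sub_eq_zero] at hvm
      rw [map_mul, map_mul, mul_assoc, hvm]

theorem bijective_of_forall_maximal_isPushout {R M : Type u} [CommRing R] [CommRing M]
    (a : R →+* M)
    (H : ∀ (P : Ideal R) [P.IsMaximal], ∃ (C : CommRingCat.{u}) (c : CommRingCat.of M ⟶ C)
      (d : CommRingCat.of (Localization.AtPrime P) ⟶ C),
      IsPushout (CommRingCat.ofHom a)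
        (CommRingCat.ofHom (algebraMap R (Localization.AtPrime P))) c d ∧
      Function.Bijective d.hom) :
    Function.Bijective a := by
  constructor
  · rw [injective_iff_map_eq_zero]
    intro r hr
    by_contra hr0
    let J : Ideal R := Ideal.span {r} |>.annihilator
    have hJ : J ≠ ⊤ := by
      intro h
      have h1 : (1 : R) ∈ J := h ▸ Submodule.mem_top
      have := (Submodule.mem_annihilator.mp h1) r (Ideal.subset_span rfl)
      exact hr0 (by simpa using this)
    obtain ⟨P, hPmax, hJP⟩ := Ideal.exists_le_maximal J hJ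
    obtain ⟨C, c, d, hpo, hd⟩ := H P
    obtain ⟨v, hv, hvr⟩ := (local_facts a P C c d hpo hd).1 r hr
    apply hv
    apply hJP
    rw [Submodule.mem_annihilator_span_singleton]
    exact hvr
  · intro σ
    let I : Ideal R :=
      { carrier := {x | ∃ r, a x * σ = a r}
        add_mem' := by
          rintro x y ⟨r, hr⟩ ⟨s, hs⟩
          exact ⟨r + s, by rw [map_add, add_mul, hr, hs, map_add]⟩
        zero_mem' := ⟨0, by simp⟩
        smul_mem' := by
          rintro z x ⟨r, hr⟩
          exact ⟨z * r, by rw [smul_eq_mul, map_mul, mul_assoc, hr, map_mul]⟩ }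
    by_cases hI : I = ⊤
    · have h1 : (1 : R) ∈ I := hI ▸ Submodule.mem_top
      obtain ⟨r, hr⟩ := h1
      exact ⟨r, by rw [← hr, map_one, one_mul]⟩
    · exfalso
      obtain ⟨P, hPmax, hIP⟩ := Ideal.exists_le_maximal I hI
      obtain ⟨C, c, d, hpo, hd⟩ := H P
      obtain ⟨v, hv, r, hvr⟩ := (local_facts a P C c d hpo hd).2 σ
      exact hv (hIP ⟨r, hvr⟩)

end Groth.Agent.Lib.helper11.H0
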