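import Mathlib

/-!
# Global functions of a scheme over a field and field extensions (helper11)

For a cartesian square `F' = F ×_k K` with `F` quasi-compact quasi-separated over the field `k`:
`K → Γ(F', O)` is an isomorphism iff `k → Γ(F, O)` is.
-/

set_option autoImplicit false
set_option linter.style.haveILetI false
universe u
open CategoryTheory CategoryTheory.Limits AlgebraicGeometry Opposite TopologicalSpace

namespace Groth.Agent.Lib.helper11.H0

theorem faithfullyFlat_appTop_SpecMap {R R' : CommRingCat.{u}} (hR : IsField R) (hR' : IsField R')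
    (φ : R ⟶ R') : (Spec.map φ).appTop.hom.FaithfullyFlat := by
  letI := hR.toField
  letI := hR'.toField
  have hnat : (Spec.map φ).appTop = (Scheme.ΓSpecIso R).hom ≫ φ ≫ (Scheme.ΓSpecIso R').inv := by
    rw [← Category.assoc, ← Scheme.ΓSpecIso_naturality, Category.assoc, Iso.hom_inv_id,
      Category.comp_id]
  rw [hnat]
  have h1 : (Scheme.ΓSpecIso R).hom.hom.FaithfullyFlat :=
    RingHom.FaithfullyFlat.of_bijective
      ((ConcreteCategory.isIso_iff_bijective (Scheme.ΓSpecIso R).hom).mp inferInstance)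
  have h3 : (Scheme.ΓSpecIso R').inv.hom.FaithfullyFlat :=
    RingHom.FaithfullyFlat.of_bijective
      ((ConcreteCategory.isIso_iff_bijective (Scheme.ΓSpecIso R').inv).mp inferInstance)
  have h2 : φ.hom.FaithfullyFlat := by
    algebraize [φ.hom]
    rw [← RingHom.algebraMap_toAlgebra φ.hom, RingHom.faithfullyFlat_algebraMap_iff]
    infer_instance
  exact RingHom.FaithfullyFlat.stableUnderComposition _ _ h1
    (RingHom.FaithfullyFlat.stableUnderComposition _ _ h2 h3)

theorem isIso_appTop_iff_of_isPullback_field {F F' : Scheme.{u}} {R R' : CommRingCat.{u}}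
    (hR : IsField R) (hR' : IsField R') (φ : R ⟶ R') (p : F ⟶ Spec R) (p' : F' ⟶ Spec R')
    (q : F' ⟶ F)
    (H : IsPullback q p' p (Spec.map φ)) [CompactSpace F] [QuasiSeparatedSpace F] :
    IsIso p'.appTop ↔ IsIso p.appTop := by
  letI := hR.toField
  letI := hR'.toField
  have hUST : (⊤ : (Spec R').Opens) ≤ (Spec.map φ) ⁻¹ᵁ ⊤ := le_rfl
  have hUSX : (⊤ : F.Opens) ≤ p ⁻¹ᵁ ⊤ := le_rfl
  have hUY : (⊤ : F'.Opens) = q ⁻¹ᵁ ⊤ ⊓ p' ⁻¹ᵁ ⊤ := by simp
  haveI : Flat (Spec.map φ) := by
    rw [HasRingHomProperty.Spec_iff (P := @Flat)]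
    algebraize [φ.hom]
    rw [← RingHom.algebraMap_toAlgebra φ.hom, RingHom.flat_algebraMap_iff]
    infer_instance
  have hiso := isIso_pushoutSection_of_isQuasiSeparated_of_flat_right H hUST hUSX hUY
    (isAffineOpen_top _) (isAffineOpen_top _) (show IsCompact (Set.univ : Set F) from isCompact_univ)
    (show IsQuasiSeparated (Set.univ : Set F) from isQuasiSeparated_univ_iff.mpr inferInstance)
  have hpo := (isIso_pushoutSection_iff H hUST hUSX hUY).mp hiso
  have e1 : p.appLE ⊤ ⊤ hUSX = p.appTop := by simp [Scheme.Hom.appLE, Scheme.Hom.appTop]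
  have e2 : p'.appLE ⊤ ⊤ le_rfl = p'.appTop := by
    simp [Scheme.Hom.appLE, Scheme.Hom.appTop]
  have e3 : (Spec.map φ).appLE ⊤ ⊤ hUST = (Spec.map φ).appTop := by
    simp [Scheme.Hom.appLE, Scheme.Hom.appTop]
  rw [e1, e2, e3] at hpo
  constructor
  · intro h'
    -- faithfully flat descent
    have hff := faithfullyFlat_appTop_SpecMap hR hR' φ
    have hbij : Function.Bijective p'.appTop.hom :=
      (ConcreteCategory.isIso_iff_bijective p'.appTop).mp h'
    generalize p.appTop = a at hpo ⊢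
    generalize (Spec.map φ).appTop = b at hpo hff
    generalize p'.appTop = d at hpo hbij
    generalize q.appLE ⊤ ⊤ _ = c at hpo
    algebraize [a.hom, b.hom, c.hom, d.hom, (c.hom.comp a.hom)]
    haveI : IsScalarTower Γ(Spec R, ⊤) Γ(F, ⊤) Γ(F', ⊤) := .of_algebraMap_eq' rfl
    haveI : IsScalarTower Γ(Spec R, ⊤) Γ(Spec R', ⊤) Γ(F', ⊤) := .of_algebraMap_eq' (by
      have := congrArg CommRingCat.Hom.hom hpo.w
      exact this)
    have hP : Algebra.IsPushout Γ(Spec R, ⊤) Γ(F, ⊤) Γ(Spec R', ⊤) Γ(F', ⊤) :=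
      CommRingCat.isPushout_iff_isPushout.mp hpo
    have := RingHom.FaithfullyFlat.codescendsAlong_bijective
      (R := Γ(Spec R, ⊤)) (S := Γ(F, ⊤)) (R' := Γ(Spec R', ⊤)) (S' := Γ(F', ⊤)) hff hbij
    exact (ConcreteCategory.isIso_iff_bijective a).mpr this
  · intro h'
    exact hpo.isIso_inr_of_isIso

end Groth.Agent.Lib.helper11.H0
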