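import Mathlib
import Groth.Agent.Lib.Helper22.LimBaseChange

/-!
# Global functions of a base change along a limit, "local" case (helper11)

Abstract limit argument: if every stage `h_k` of a base-change system has `O(U) ≅ O(h_k⁻¹ U)` on some
open `U` through which the limit projection factors, then the limit has `O(⊤) ≅ O(p⁻¹ ⊤)`.
-/

set_option autoImplicit false
set_option linter.style.haveILetI false
universe u
open CategoryTheory CategoryTheory.Limits AlgebraicGeometry Opposite TopologicalSpace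

namespace Groth.Agent.Lib.helper11.H0

open Groth.Agent.Lib.Helper22

theorem appLE_congr_hom {X Y : Scheme.{u}} {m₁ m₂ : X ⟶ Y} (e : m₁ = m₂) (U : Y.Opens)
    (W : X.Opens) (h₁ : W ≤ m₁ ⁻¹ᵁ U) (h₂ : W ≤ m₂ ⁻¹ᵁ U) :
    m₁.appLE U W h₁ = m₂.appLE U W h₂ := by
  subst e; rfl

theorem appLE_top_top {X Y : Scheme.{u}} (m : X ⟶ Y) (h : (⊤ : X.Opens) ≤ m ⁻¹ᵁ ⊤) :
    m.appLE ⊤ ⊤ h = m.appTop := by
  simp [Scheme.Hom.appLE, Scheme.Hom.appTop]

section

variable {J : Type u} [SmallCategory J] [IsCofiltered J] (D : J ⥤ Scheme.{u}) (c : Cone D)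
  (hc : IsLimit c) [∀ (i j : J) (f : i ⟶ j), IsAffineHom (D.map f)]
  [∀ i, CompactSpace (D.obj i)] [∀ i, QuasiSeparatedSpace (D.obj i)]
  (j₀ : J) {Y₀ : Scheme.{u}} [CompactSpace Y₀] [QuasiSeparatedSpace Y₀] (h₀ : Y₀ ⟶ D.obj j₀)

include hc in
theorem isIso_appTop_fst_of_stages
    (H : ∀ k : Over j₀, ∃ U : (D.obj k.left).Opens, (c.π.app k.left) ⁻¹ᵁ U = ⊤ ∧
      IsIso ((pullback.fst (D.map k.hom) h₀).app U)) :
    IsIso (pullback.fst (c.π.app j₀) h₀).appTop := by
  let E := bcDiag D j₀ h₀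
  let eC := bcCone D c j₀ h₀
  have hE : IsLimit eC := bcIsLimit D hc j₀ h₀
  haveI : ∀ {k k' : Over j₀} (φ : k ⟶ k'), IsAffineHom (E.map φ) := fun φ => inferInstance
  haveI : ∀ k : Over j₀, CompactSpace (E.obj k) := fun k => inferInstance
  haveI : ∀ k : Over j₀, QuasiSeparatedSpace (E.obj k) := fun k => by
    haveI : IsAffineHom (pullback.snd (D.map k.hom) h₀) :=
      MorphismProperty.pullback_snd (P := @IsAffineHom) _ _ inferInstance
    show QuasiSeparatedSpace ↥(pullback (D.map k.hom) h₀)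
    exact quasiSeparatedSpace_of_quasiSeparated (pullback.snd (D.map k.hom) h₀)
  let p₁ := pullback.fst (c.π.app j₀) h₀
  let hk : ∀ k : Over j₀, pullback (D.map k.hom) h₀ ⟶ D.obj k.left := fun k =>
    pullback.fst (D.map k.hom) h₀
  let πk : ∀ k : Over j₀, pullback (c.π.app j₀) h₀ ⟶ pullback (D.map k.hom) h₀ :=
    fun k => eC.π.app k
  let ρk : ∀ k : Over j₀, c.pt ⟶ D.obj k.left := fun k => c.π.app k.left
  have hsq : ∀ k : Over j₀, πk k ≫ hk k = p₁ ≫ ρk k := fun k => bcCone_π_fst D c j₀ h₀ k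
  -- key identity
  have K1 : ∀ (k : Over j₀) (U : (D.obj k.left).Opens) (hU : (ρk k) ⁻¹ᵁ U = ⊤),
      (ρk k).appLE U ⊤ (by rw [hU]) ≫ p₁.appTop =
      (hk k).app U ≫ (πk k).appLE ((hk k) ⁻¹ᵁ U) ⊤ (by
        rw [← Scheme.Hom.comp_preimage, hsq k, Scheme.Hom.comp_preimage, hU]; exact le_rfl) := by
    intro k U hU
    rw [← appLE_top_top p₁ le_rfl, Scheme.Hom.appLE_comp_appLE, Scheme.Hom.app_eq_appLE,
      Scheme.Hom.appLE_comp_appLE]
    exact (appLE_congr_hom (hsq k) U ⊤ _ _).symm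
  rw [ConcreteCategory.isIso_iff_bijective]
  constructor
  · -- injectivity
    rw [injective_iff_map_eq_zero]
    intro b hb
    obtain ⟨i, t, ht⟩ := exists_appTop_π_eq_of_isLimit D c hc b
    obtain ⟨W, fi, g, -⟩ := IsCofilteredOrEmpty.cone_objs i j₀
    let k : Over j₀ := Over.mk g
    let β : Γ(D.obj k.left, ⊤) := (D.map fi).appTop t
    have hβ : (ρk k).appTop β = b := by
      rw [ht]
      change ((D.map fi).appTop ≫ (c.π.app W).appTop) t = _
      rw [← Scheme.Hom.comp_appTop, c.w fi]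
    let τ : Γ(E.obj k, ⊤) := (hk k).appTop β
    have hτ : (eC.π.app k).appTop τ = 0 := by
      change ((hk k).appTop ≫ (πk k).appTop) β = 0
      rw [← Scheme.Hom.comp_appTop, hsq k, Scheme.Hom.comp_appTop]
      change p₁.appTop ((ρk k).appTop β) = 0
      rw [hβ, hb]
    obtain ⟨k', φ, hφ⟩ := exists_appTop_map_eq_zero_of_isLimit E eC hE τ hτ
    let β' : Γ(D.obj k'.left, ⊤) := (D.map φ.left).appTop β
    have hβ' : (ρk k').appTop β' = b := by
      rw [← hβ]
      change ((D.map φ.left).appTop ≫ (c.π.app k'.left).appTop) β = _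
      rw [← Scheme.Hom.comp_appTop, c.w φ.left]
    have h0 : (hk k').appTop β' = 0 := by
      change ((D.map φ.left).appTop ≫ (hk k').appTop) β = 0
      rw [← Scheme.Hom.comp_appTop]
      have : hk k' ≫ D.map φ.left = E.map φ ≫ hk k := (bcDiag_map_fst D j₀ h₀ φ).symm
      rw [this, Scheme.Hom.comp_appTop]
      exact hφ
    obtain ⟨U', hU', hiso⟩ := H k'
    have hinj : Function.Injective ((hk k').app U') :=
      ((ConcreteCategory.isIso_iff_bijective _).mp hiso).1
    have h1 : (D.obj k'.left).presheaf.map (homOfLE (le_top : U' ≤ ⊤)).op β' = 0 := by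
      apply hinj
      rw [map_zero]
      have hnat := (hk k').naturality (homOfLE (le_top : U' ≤ ⊤)).op
      have := congrArg (fun m => m.hom β') hnat
      simp only [CommRingCat.hom_comp, RingHom.comp_apply] at this
      rw [this]
      change _ = (0 : Γ(pullback (D.map k'.hom) h₀, (hk k') ⁻¹ᵁ U'))
      have h0' : ((hk k').app ⊤).hom β' = 0 := h0
      rw [h0', map_zero]
    rw [← hβ']
    have h2 : (ρk k').appTop = (D.obj k'.left).presheaf.map (homOfLE (le_top : U' ≤ ⊤)).op ≫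
        (ρk k').appLE U' ⊤ (by rw [hU']) := by
      rw [Scheme.Hom.map_appLE, appLE_top_top]
    rw [h2]
    change ((ρk k').appLE U' ⊤ _).hom ((D.obj k'.left).presheaf.map (homOfLE (le_top : U' ≤ ⊤)).op β') = 0
    rw [h1, map_zero]
  · -- surjectivity
    intro σ
    obtain ⟨k, τ₀, hτ₀⟩ := exists_appTop_π_eq_of_isLimit E eC hE σ
    obtain ⟨τ, hτ⟩ : ∃ τ : Γ(pullback (D.map k.hom) h₀, ⊤), σ = (πk k).appTop τ := ⟨τ₀, hτ₀⟩
    obtain ⟨U, hU, hiso⟩ := H k
    obtain ⟨β, hβ⟩ := ((ConcreteCategory.isIso_iff_bijective _).mp hiso).2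
      ((pullback (D.map k.hom) h₀).presheaf.map (homOfLE (le_top : (hk k) ⁻¹ᵁ U ≤ ⊤)).op τ)
    refine ⟨(ρk k).appLE U ⊤ (by rw [hU]) β, ?_⟩
    have := congrArg (fun m => m.hom β) (K1 k U hU)
    simp only [CommRingCat.hom_comp, RingHom.comp_apply] at this
    refine this.trans ?_
    rw [hτ]
    have hβ' : ((hk k).app U).hom β =
        ((pullback (D.map k.hom) h₀).presheaf.map
          (homOfLE (le_top : (hk k) ⁻¹ᵁ U ≤ ⊤)).op).hom τ := hβ
    rw [hβ']
    have K2 : (pullback (D.map k.hom) h₀).presheaf.map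
        (homOfLE (le_top : (hk k) ⁻¹ᵁ U ≤ ⊤)).op ≫
        (πk k).appLE ((hk k) ⁻¹ᵁ U) ⊤ (by
          rw [← Scheme.Hom.comp_preimage, hsq k, Scheme.Hom.comp_preimage, hU]; exact le_rfl) =
        (πk k).appTop := by
      rw [Scheme.Hom.map_appLE, appLE_top_top]
    exact congrArg (fun m => m.hom τ) K2

end

end Groth.Agent.Lib.helper11.H0
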