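import Mathlib
import Groth.Agent.Lib.lead.HensKD
import Groth.Agent.Lib.Helper13.LimDescendFlat

/-!
# Proper flat finitely presented models over a stage of a limit (helper11)
-/

set_option autoImplicit false
set_option linter.style.haveILetI false
universe u
open CategoryTheory CategoryTheory.Limits AlgebraicGeometry Opposite TopologicalSpace

namespace Groth.Agent.Lib.helper11.H0

open Groth.Agent.Lib.Helper22 Groth.Agent.Lib.Helper13.LimDescend Groth.Agent.Lib.lead.HensK

variable {J : Type u} [SmallCategory J] [IsCofiltered J] (D : J ⥤ Scheme.{u}) (c : Cone D)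
  (hc : IsLimit c)

/-- a property stable under base change and isomorphisms passes from `f` to the first projection
of a pullback presentation -/
theorem prop_fst_of_isPullback (P : MorphismProperty Scheme.{u}) [P.RespectsIso] {X Y B C : Scheme.{u}}
    {f : X ⟶ C} {h : Y ⟶ B} {g : X ⟶ Y} {π : C ⟶ B} (hpb : IsPullback g f h π) (hf : P f) :
    P (pullback.fst π h) := by
  have h1 : hpb.flip.isoPullback.inv ≫ f = pullback.fst π h :=
    IsPullback.isoPullback_inv_fst _
  rw [← h1]
  exact (P.cancel_left_of_respectsIso _ _).mpr hf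

include hc in
theorem exists_proper_flat_fp_model [∀ (i j : J) (f : i ⟶ j), IsAffineHom (D.map f)]
    [∀ i, CompactSpace (D.obj i)] [∀ i, QuasiSeparatedSpace (D.obj i)]
    {X : Scheme.{u}} (f : X ⟶ c.pt) [IsProper f] [Flat f] [LocallyOfFinitePresentation f] :
    ∃ (j : J) (Y : Scheme.{u}) (h : Y ⟶ D.obj j) (g : X ⟶ Y),
      IsProper h ∧ Flat h ∧ LocallyOfFinitePresentation h ∧ IsPullback g f h (c.π.app j) := by
  obtain ⟨i, Xi, fi, g, hfp, hqc, hqs, hpb⟩ := Groth.Agent.S0591.result D c hc X f
  haveI := hfp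
  haveI := hqc
  haveI := hqs
  haveI : CompactSpace Xi := QuasiCompact.compactSpace_of_compactSpace fi
  haveI : QuasiSeparatedSpace Xi := quasiSeparatedSpace_of_quasiSeparated fi
  have hprop : IsProper (pullback.fst (c.π.app i) fi) :=
    prop_fst_of_isPullback @IsProper hpb inferInstance
  obtain ⟨j₁, ψ₁, hj₁⟩ := Groth.Agent.Lib.lead.LimProper.core_isProper D c hc i fi hprop
  -- the model over `j₁`
  obtain ⟨g₁, hpb₁⟩ := model_pullback D c ψ₁ f fi g hpb
  let a₁ : pullback (D.map ψ₁) fi ⟶ D.obj j₁ := pullback.fst (D.map ψ₁) fi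
  haveI : IsProper a₁ := hj₁
  haveI : LocallyOfFinitePresentation a₁ :=
    MorphismProperty.pullback_fst (P := @LocallyOfFinitePresentation) _ _ inferInstance
  haveI : CompactSpace ↥(pullback (D.map ψ₁) fi) := QuasiCompact.compactSpace_of_compactSpace a₁
  have hflat : Flat (pullback.fst (c.π.app j₁) a₁) :=
    prop_fst_of_isPullback @Flat hpb₁ inferInstance
  obtain ⟨j₂, ψ₂, hj₂⟩ := core_flat D c hc j₁ a₁ hflat
  obtain ⟨g₂, hpb₂⟩ := model_pullback D c ψ₂ f a₁ g₁ hpb₁
  refine ⟨j₂, pullback (D.map ψ₂) a₁, pullback.fst (D.map ψ₂) a₁, g₂, ?_, hj₂, ?_, hpb₂⟩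
  · exact MorphismProperty.pullback_fst (P := @IsProper) _ _ inferInstance
  · exact MorphismProperty.pullback_fst (P := @LocallyOfFinitePresentation) _ _ inferInstance

end Groth.Agent.Lib.helper11.H0
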