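import Groth.Prelude.Def_ega3
import Mathlib.Algebra.Homology.HomologySequence
import Mathlib.Algebra.Homology.HomologicalComplexAbelian
import Mathlib.RingTheory.Flat.CategoryTheory
import Mathlib.Algebra.Category.ModuleCat.Monoidal.Closed
import Mathlib.CategoryTheory.Monoidal.Preadditive
import Mathlib.CategoryTheory.Monoidal.Linear
import Mathlib.Algebra.Homology.ShortComplex.Linear
import Mathlib.Algebra.Homology.Linear

/-!
# Basic properties of the functors `T_p(M) = H_p(P ⊗ M)` (helper11)

* additivity / linearity of `CohIII.TFun P p`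
* for a complex `P` of flat modules, the short exact sequence of complexes
  `0 → P ⊗ M' → P ⊗ M → P ⊗ M'' → 0` and the long exact homology sequence.
-/

set_option autoImplicit false
universe u

namespace Groth.Agent.Lib.helper11.TFunBasic

open CategoryTheory CategoryTheory.Limits MonoidalCategory CohIII

variable {A : Type u} [CommRing A] {ι : Type} {c : ComplexShape ι}

lemma tensorMap_f (P : HomologicalComplex (ModuleCat.{u} A) c) {M N : ModuleCat.{u} A}
    (g : M ⟶ N) (i : ι) : (tensorMap P g).f i = P.X i ◁ g := rfl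

lemma tensorMap_comp (P : HomologicalComplex (ModuleCat.{u} A) c) {M N L : ModuleCat.{u} A}
    (g : M ⟶ N) (h : N ⟶ L) : tensorMap P (g ≫ h) = tensorMap P g ≫ tensorMap P h := by
  ext i : 1
  change P.X i ◁ (g ≫ h) = P.X i ◁ g ≫ P.X i ◁ h
  simp

lemma tensorMap_zero (P : HomologicalComplex (ModuleCat.{u} A) c) (M N : ModuleCat.{u} A) :
    tensorMap P (0 : M ⟶ N) = 0 := by
  ext i : 1
  change P.X i ◁ (0 : M ⟶ N) = 0
  simp

lemma tensorMap_add (P : HomologicalComplex (ModuleCat.{u} A) c) {M N : ModuleCat.{u} A}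
    (g h : M ⟶ N) : tensorMap P (g + h) = tensorMap P g + tensorMap P h := by
  ext i : 1
  change P.X i ◁ (g + h) = P.X i ◁ g + P.X i ◁ h
  simp [MonoidalPreadditive.whiskerLeft_add]

lemma tensorMap_smul (P : HomologicalComplex (ModuleCat.{u} A) c) {M N : ModuleCat.{u} A}
    (a : A) (g : M ⟶ N) : tensorMap P (a • g) = a • tensorMap P g := by
  ext i : 1
  change P.X i ◁ (a • g) = a • P.X i ◁ g
  simp [MonoidalLinear.whiskerLeft_smul]

lemma TFun_map (P : HomologicalComplex (ModuleCat.{u} A) c) (p : ι) {M N : ModuleCat.{u} A}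
    (g : M ⟶ N) : (TFun P p).map g = HomologicalComplex.homologyMap (tensorMap P g) p := rfl

lemma homologyMap_smul' {K L : HomologicalComplex (ModuleCat.{u} A) c} (a : A) (φ : K ⟶ L)
    (p : ι) : HomologicalComplex.homologyMap (a • φ) p =
      a • HomologicalComplex.homologyMap φ p := by
  exact ShortComplex.homologyMap_smul
    ((HomologicalComplex.shortComplexFunctor (ModuleCat.{u} A) c p).map φ) a

instance (P : HomologicalComplex (ModuleCat.{u} A) c) (p : ι) : (TFun P p).Additive where
  map_add {M N g h} := by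
    rw [TFun_map, TFun_map, TFun_map, tensorMap_add, HomologicalComplex.homologyMap_add]
    rfl

instance (P : HomologicalComplex (ModuleCat.{u} A) c) (p : ι) : (TFun P p).Linear A where
  map_smul {M N} g a := by
    rw [TFun_map, TFun_map, tensorMap_smul, homologyMap_smul']
    rfl

/-- The short complex of complexes `P ⊗ S`. -/
noncomputable def tensorSC (P : HomologicalComplex (ModuleCat.{u} A) c)
    (S : ShortComplex (ModuleCat.{u} A)) :
    ShortComplex (HomologicalComplex (ModuleCat.{u} A) c) :=
  ShortComplex.mk (tensorMap P S.f) (tensorMap P S.g)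
    (by rw [← tensorMap_comp, S.zero, tensorMap_zero])

lemma tensorSC_shortExact (P : HomologicalComplex (ModuleCat.{u} A) c)
    (hP : ∀ i, Module.Flat A (P.X i)) (S : ShortComplex (ModuleCat.{u} A)) (hS : S.ShortExact) :
    (tensorSC P S).ShortExact := by
  apply HomologicalComplex.shortExact_of_degreewise_shortExact
  intro i
  have := hP i
  have hmono := hS.mono_f
  have hepi := hS.epi_g
  have h1 : ((tensorSC P S).map (HomologicalComplex.eval _ c i)) = S.map (tensorLeft (P.X i)) := rfl
  rw [h1]
  exact hS.map_of_exact (tensorLeft (P.X i))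

section LES

variable (P : HomologicalComplex (ModuleCat.{u} A) c) (hP : ∀ i, Module.Flat A (P.X i))
  (S : ShortComplex (ModuleCat.{u} A)) (hS : S.ShortExact)

include hP hS in
/-- `T_p` is half exact when `P` is flat. -/
lemma TFun_halfExact (p : ι) : (S.map (TFun P p)).Exact :=
  (tensorSC_shortExact P hP S hS).homology_exact₂ p

/-- the connecting homomorphism `T_p(M'') ⟶ T_q(M')`. -/
noncomputable def δ (p q : ι) (hpq : c.Rel p q) :
    (TFun P p).obj S.X₃ ⟶ (TFun P q).obj S.X₁ :=
  (tensorSC_shortExact P hP S hS).δ p q hpq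

lemma map_g_comp_δ (p q : ι) (hpq : c.Rel p q) :
    (TFun P p).map S.g ≫ δ P hP S hS p q hpq = 0 :=
  (tensorSC_shortExact P hP S hS).comp_δ p q hpq

lemma δ_comp_map_f (p q : ι) (hpq : c.Rel p q) :
    δ P hP S hS p q hpq ≫ (TFun P q).map S.f = 0 :=
  (tensorSC_shortExact P hP S hS).δ_comp p q hpq

lemma exact₃ (p q : ι) (hpq : c.Rel p q) :
    (ShortComplex.mk _ _ (map_g_comp_δ P hP S hS p q hpq)).Exact :=
  (tensorSC_shortExact P hP S hS).homology_exact₃ p q hpq

lemma exact₁ (p q : ι) (hpq : c.Rel p q) :
    (ShortComplex.mk _ _ (δ_comp_map_f P hP S hS p q hpq)).Exact :=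
  (tensorSC_shortExact P hP S hS).homology_exact₁ p q hpq

end LES

/-- `T_p` preserves epis iff `T_q` preserves monos, for `c.Rel p q` and `P` flat. -/
theorem preservesEpi_iff_preservesMono (P : HomologicalComplex (ModuleCat.{u} A) c)
    (hP : ∀ i, Module.Flat A (P.X i)) (p q : ι) (hpq : c.Rel p q) :
    (TFun P p).PreservesEpimorphisms ↔ (TFun P q).PreservesMonomorphisms := by
  constructor
  · intro h
    refine ⟨fun {M' M} f hf => ?_⟩
    let S : ShortComplex (ModuleCat.{u} A) := ShortComplex.mk f (cokernel.π f) (by simp)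
    have hS : S.ShortExact := { exact := ShortComplex.exact_cokernel f }
    have hepi : Epi ((TFun P p).map S.g) := inferInstance
    have hδ : δ P hP S hS p q hpq = 0 := by
      rw [← cancel_epi ((TFun P p).map S.g), map_g_comp_δ, comp_zero]
    exact (exact₁ P hP S hS p q hpq).mono_g hδ
  · intro h
    refine ⟨fun {M M''} g hg => ?_⟩
    let S : ShortComplex (ModuleCat.{u} A) := ShortComplex.mk (kernel.ι g) g (by simp)
    have hS : S.ShortExact := { exact := ShortComplex.exact_kernel g }
    have hmono : Mono ((TFun P q).map S.f) := inferInstance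
    have hδ : δ P hP S hS p q hpq = 0 := by
      rw [← cancel_mono ((TFun P q).map S.f), δ_comp_map_f, zero_comp]
    exact (exact₃ P hP S hS p q hpq).epi_f hδ

end Groth.Agent.Lib.helper11.TFunBasic
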