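import Groth.Agent.Lib.helper11.TensALin1
import Groth.Agent.Lib.helper11.TFunBasic

/-!
# A-linearity of `tensorAFunctor` (helper11), part 2: upgrading natural isomorphisms of
`Ab`-valued functors to `A`-linear ones.

* `HAb_map_smul` : `H^p(T(a • 𝟙)) x = a • x`.
* `linEquivOfNatIso` : a natural iso `tensorAFunctor A F ⋙ HAb X p ≅ G' ⋙ forget₂` with `G'` an
  `A`-linear functor has `A`-linear components `H^p(X, T M) ≃ₗ[A] G'.obj M`.
* `liftIso` : an iso `G ⋙ forget₂ ≅ G' ⋙ forget₂` between `A`-linear endofunctors of `ModuleCat A`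
  lifts to `G ≅ G'`.
* `gammaIso` : `globalSectionsA A ⋙ forget₂ ≅ HAb X 0`.
* `linear_tensorA_globalSections` : `M ↦ Γ(X, T M)` is `A`-linear.
-/

set_option autoImplicit false
universe u

open CategoryTheory AlgebraicGeometry Opposite

namespace Groth.Agent.Lib.helper11.TensALin

variable (A : Type u) [CommRing A] {X : Scheme.{u}} [X.Over (Spec (CommRingCat.of A))]

/-- `H^p` of multiplication by `a` on `T M` is multiplication by `a`. -/
theorem HAb_map_smul (F : X.Modules) (M : ModuleCat.{u} A) (a : A) (p : ℕ)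
    (x : Coh.HH X ((CohIII.tensorAFunctor A F).obj M) p) :
    ((CohIII.tensorAFunctor A F ⋙ CohIII.HAb X p).map (a • 𝟙 M)).hom x = a • x := by
  change ((CohIII.HAb X p).map ((CohIII.tensorAFunctor A F).map (a • 𝟙 M))).hom x = _
  rw [tensorAFunctor_map_smul]
  rfl

/-- The components of a natural isomorphism from `M ↦ H^p(X, T M)` to (the underlying abelian groups of)
an `A`-linear functor are `A`-linear. -/
noncomputable def linEquivOfNatIso (F : X.Modules) (p : ℕ)
    (G' : ModuleCat.{u} A ⥤ ModuleCat.{u} A) [G'.Additive] [G'.Linear A]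
    (e : CohIII.tensorAFunctor A F ⋙ CohIII.HAb X p ≅
      G' ⋙ forget₂ (ModuleCat.{u} A) AddCommGrpCat.{u}) (M : ModuleCat.{u} A) :
    Coh.HH X ((CohIII.tensorAFunctor A F).obj M) p ≃ₗ[A] G'.obj M where
  toFun x := (e.hom.app M).hom x
  invFun y := (e.inv.app M).hom y
  map_add' x y := map_add _ x y
  map_smul' a x := by
    have h : (e.hom.app M).hom
          (((CohIII.tensorAFunctor A F ⋙ CohIII.HAb X p).map (a • 𝟙 M)).hom x) =
        ((G' ⋙ forget₂ (ModuleCat.{u} A) AddCommGrpCat.{u}).map (a • 𝟙 M)).hom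
          ((e.hom.app M).hom x) :=
      congrArg (fun φ => φ.hom x) (e.hom.naturality (a • 𝟙 M))
    have h2 := HAb_map_smul A F M a p x
    have h3 : ((G' ⋙ forget₂ (ModuleCat.{u} A) AddCommGrpCat.{u}).map (a • 𝟙 M)).hom
        ((e.hom.app M).hom x) = a • (show G'.obj M from (e.hom.app M).hom x) := by
      change (G'.map (a • 𝟙 M)).hom _ = _
      rw [Functor.map_smul, CategoryTheory.Functor.map_id]
      rfl
    exact ((congrArg (fun z => (e.hom.app M).hom z) h2).symm.trans h).trans h3
  left_inv x := by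
    have h := congrArg (fun φ => φ.hom x) (e.hom_inv_id_app M)
    exact h
  right_inv y := by
    have h := congrArg (fun φ => φ.hom y) (e.inv_hom_id_app M)
    exact h

/-- An isomorphism between the underlying `Ab`-valued functors of two `A`-linear endofunctors of
`ModuleCat A` lifts to an isomorphism of functors. -/
noncomputable def liftIso (G G' : ModuleCat.{u} A ⥤ ModuleCat.{u} A)
    (hG : ∀ (M : ModuleCat.{u} A) (a : A), G.map (a • 𝟙 M) = a • 𝟙 (G.obj M))
    (hG' : ∀ (M : ModuleCat.{u} A) (a : A), G'.map (a • 𝟙 M) = a • 𝟙 (G'.obj M))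
    (e : G ⋙ forget₂ (ModuleCat.{u} A) AddCommGrpCat.{u} ≅
      G' ⋙ forget₂ (ModuleCat.{u} A) AddCommGrpCat.{u}) : G ≅ G' :=
  NatIso.ofComponents (fun M => LinearEquiv.toModuleIso
    { toFun := fun x => (e.hom.app M).hom x
      invFun := fun y => (e.inv.app M).hom y
      map_add' := fun x y => map_add (e.hom.app M).hom x y
      map_smul' := fun a x => by
        have h : (e.hom.app M).hom
              (((G ⋙ forget₂ (ModuleCat.{u} A) AddCommGrpCat.{u}).map (a • 𝟙 M)).hom x) =
            ((G' ⋙ forget₂ (ModuleCat.{u} A) AddCommGrpCat.{u}).map (a • 𝟙 M)).hom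
              ((e.hom.app M).hom x) :=
          congrArg (fun φ => φ.hom x) (e.hom.naturality (a • 𝟙 M))
        have h2 : ((G ⋙ forget₂ (ModuleCat.{u} A) AddCommGrpCat.{u}).map (a • 𝟙 M)).hom x =
            a • x := by
          change (G.map (a • 𝟙 M)).hom x = _
          rw [hG]
          rfl
        have h3 : ((G' ⋙ forget₂ (ModuleCat.{u} A) AddCommGrpCat.{u}).map (a • 𝟙 M)).hom
            ((e.hom.app M).hom x) = a • (show G'.obj M from (e.hom.app M).hom x) := by
          change (G'.map (a • 𝟙 M)).hom _ = _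
          rw [hG']
          rfl
        exact ((congrArg (fun z => (e.hom.app M).hom z) h2).symm.trans h).trans h3
      left_inv := fun x => congrArg (fun φ => φ.hom x) (e.hom_inv_id_app M)
      right_inv := fun y => congrArg (fun φ => φ.hom y) (e.inv_hom_id_app M) })
    (by
      intro M N f
      ext x
      exact congrArg (fun φ => φ.hom x) (e.hom.naturality f))

/-- `H^0(X, P) ≃+ Γ(X, P)`, typed on the prelude's `globalSectionsA`. -/
noncomputable def gammaAddEquiv (P : X.Modules) :
    Coh.HH X P 0 ≃+ ((CohIII.globalSectionsA A).obj P) :=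
  Sheaf.H.equiv₀ (Coh.toAb P) Limits.isTerminalTop

/-- `H^0(X, -) ≅ Γ(X, -)` as functors to abelian groups. -/
noncomputable def gammaIso :
    CohIII.HAb X 0 ≅ CohIII.globalSectionsA A ⋙ forget₂ (ModuleCat.{u} A) AddCommGrpCat.{u} :=
  NatIso.ofComponents (fun P => AddEquiv.toAddCommGrpIso (gammaAddEquiv A P)) (by
    intro P Q φ
    ext x
    exact (Sheaf.H.equiv₀_naturality (Limits.isTerminalTop (α := TopologicalSpace.Opens X))
      ((SheafOfModules.toSheaf X.ringCatSheaf).map φ) x).symm)

/-- `M ↦ Γ(X, T M)` sends multiplication by `a` to multiplication by `a`. -/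
theorem tensorA_globalSections_map_smul (F : X.Modules) (M : ModuleCat.{u} A) (a : A) :
    (CohIII.tensorAFunctor A F ⋙ CohIII.globalSectionsA A).map (a • 𝟙 M) =
      a • 𝟙 ((CohIII.tensorAFunctor A F ⋙ CohIII.globalSectionsA A).obj M) := by
  change (moduleSpecΓFunctor (R := CommRingCat.of A)).map
    ((Scheme.Modules.pushforward (X ↘ Spec (CommRingCat.of A))).map
      ((CohIII.tensorAFunctor A F).map (a • 𝟙 M))) = _
  rw [tensorAFunctor_map_smul]
  refine (congrArg (fun φ => (moduleSpecΓFunctor (R := CommRingCat.of A)).map φ)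
    (pushforward_map_smulModΓ (X ↘ Spec (CommRingCat.of A)) _ (gsec A a))).trans ?_
  exact Γ_map_smulModΓ A _ a

/-- From a natural iso `H^0(X, T -) ≅ G'` of `Ab`-valued functors (with `G'` `A`-linear) to an
isomorphism `Γ(X, T -) ≅ G'` of functors to `A`-modules. -/
noncomputable def globalSectionsIso (F : X.Modules)
    (G' : ModuleCat.{u} A ⥤ ModuleCat.{u} A) [G'.Additive] [G'.Linear A]
    (e : CohIII.tensorAFunctor A F ⋙ CohIII.HAb X 0 ≅
      G' ⋙ forget₂ (ModuleCat.{u} A) AddCommGrpCat.{u}) :
    CohIII.tensorAFunctor A F ⋙ CohIII.globalSectionsA A ≅ G' :=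
  liftIso A _ G' (tensorA_globalSections_map_smul A F)
    (fun M a => by rw [Functor.map_smul, CategoryTheory.Functor.map_id])
    (Functor.associator _ _ _ ≪≫
      Functor.isoWhiskerLeft (CohIII.tensorAFunctor A F) (gammaIso A).symm ≪≫ e)

end Groth.Agent.Lib.helper11.TensALin
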