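import Groth.Agent.Lib.Helper6.GrothLocalC
import Groth.Agent.Lib.Helper6.TensAQuotB
import Groth.Agent.Lib.Helper13.AlbTriv
import Groth.Agent.Lib.Helper25.UnitDense
import Groth.Agent.Lib.Helper6.DevRed
import Groth.Agent.Lib.helper11.TensALin2
import Mathlib

/-!
# The unit-section trick (helper11)

`f : X ⟶ Y` proper flat, `Y` locally noetherian, `κ(y) → Γ(X_y, O)` bijective.  Then `(f_* O_X)_y`
is free of rank one over `O_{Y,y}` and `O_Y(V) → O_X(f⁻¹V)` is an isomorphism for all `V` in a
neighbourhood of `y` (EGA III 7.8.8 for the structure sheaf).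

Key point (`surjective_resMap_of_unit`): with the natural isomorphism `H^0(X, F ⊗_A -) ≅ T^0` of the
Grothendieck complex, if `F` is generated by a global section and `T^0(κ)` is one-dimensional then
`T^0(A) → T^0(κ)` is surjective: otherwise the epimorphism `O_X → F → F ⊗_A κ` would vanish on the
global section `1`, hence vanish, so `F ⊗_A κ = 0` and `T^0(κ) = 0`.
-/

set_option backward.isDefEq.respectTransparency.types false
set_option autoImplicit false
set_option linter.style.haveILetI false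
set_option linter.unusedSectionVars false
universe u
open CategoryTheory CategoryTheory.Limits AlgebraicGeometry Opposite TopologicalSpace

noncomputable section
namespace Groth.Agent.Lib.helper11.UnitSec

open Groth.Agent.Lib.Helper6.FibreLink Groth.Agent.Lib.Helper6.GrothLocal

section Ring

/-- A ring map `φ : B → R` such that `R` is "free of rank one over `B`" (an additive bijection
`ε : R ≃+ B` with `ε (φ b * r) = b * ε r`) is bijective. -/
theorem bijective_of_rankOne {B R : Type*} [CommRing B] [CommRing R] (φ : B →+* R) (ε : R ≃+ B)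
    (hε : ∀ (b : B) (r : R), ε (φ b * r) = b * ε r) : Function.Bijective φ := by
  set e : R := ε.symm 1 with he
  have hεe : ε e = 1 := ε.apply_symm_apply 1
  have hrep : ∀ r : R, r = φ (ε r) * e := fun r => by
    apply ε.injective
    rw [hε, hεe, mul_one]
  set a : B := ε 1 with ha
  set b : B := ε (e * e) with hb
  have h1 : (1 : R) = φ a * e := hrep 1
  have h2 : e * e = φ b * e := hrep (e * e)
  have hab : a * b = 1 := by
    have h3 : e = φ (a * b) * e := by
      calc e = e * 1 := (mul_one e).symm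
        _ = e * (φ a * e) := by rw [← h1]
        _ = φ a * (e * e) := by ring
        _ = φ a * (φ b * e) := by rw [h2]
        _ = φ (a * b) * e := by rw [map_mul]; ring
    have h4 := congrArg ε h3
    rw [hε, hεe, mul_one] at h4
    exact h4.symm
  have hebφ : e = φ b := by
    calc e = φ (a * b) * e := by rw [hab, map_one, one_mul]
      _ = φ b * (φ a * e) := by rw [map_mul]; ring
      _ = φ b := by rw [← h1, mul_one]
  constructor
  · intro c c' hcc
    have h5 : ε (φ c * e) = ε (φ c' * e) := by rw [hcc]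
    rw [hε, hε, hεe, mul_one, mul_one] at h5
    exact h5
  · intro r
    exact ⟨ε r * b, by rw [map_mul, ← hebφ]; exact (hrep r).symm⟩

end Ring

section Sections

variable {X Y : Scheme.{u}} (f : X ⟶ Y)

/-- if `(f_* O_X)|_U ≅ O_U` as modules then `O_Y(V) → O_X(f⁻¹V)` is an isomorphism for `V ≤ U`. -/
theorem isIso_app_of_restrict_iso (U : Y.Opens)
    (e : ((Scheme.Modules.pushforward f).obj (Coh.structureModule X)).restrict U.ι ≅
      Coh.structureModule (↑U : Scheme.{u})) (V : Y.Opens) (hV : V ≤ U) : IsIso (f.app V) := by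
  set W : (↑U : Scheme.{u}).Opens := U.ι ⁻¹ᵁ V with hW
  have hV' : U.ι ''ᵁ W = V := by
    rw [hW, Scheme.Hom.image_preimage_eq_opensRange_inf, Scheme.Opens.opensRange_ι]
    exact inf_eq_right.2 hV
  suffices h : IsIso (f.app (U.ι ''ᵁ W)) by rwa [hV'] at h
  set V' : Y.Opens := U.ι ''ᵁ W with hV'def
  -- the additive bijection
  let E : Γ(X, f ⁻¹ᵁ V') ≃+ Γ((↑U : Scheme.{u}), W) :=
    (asIso (e.hom.app W)).addCommGroupIsoToAddEquiv
  have hE : ∀ (r : Γ((↑U : Scheme.{u}), W)) (x : Γ(X, f ⁻¹ᵁ V')),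
      E ((f.app V').hom ((U.ι.appIso W).inv.hom r) * x) = r * E x := by
    intro r x
    exact Scheme.Modules.Hom.app_smul e.hom r x
  let ε : Γ(X, f ⁻¹ᵁ V') ≃+ Γ(Y, V') :=
    E.trans (U.ι.appIso W).symm.commRingCatIsoToRingEquiv.toAddEquiv
  have hε : ∀ (b : Γ(Y, V')) (x : Γ(X, f ⁻¹ᵁ V')), ε ((f.app V').hom b * x) = b * ε x := by
    intro b x
    have h1 := hE ((U.ι.appIso W).hom.hom b) x
    have h2 : (U.ι.appIso W).inv.hom ((U.ι.appIso W).hom.hom b) = b := by
      have := congrArg (fun g => g.hom b) (U.ι.appIso W).hom_inv_id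
      exact this
    rw [h2] at h1
    change (U.ι.appIso W).inv.hom (E ((f.app V').hom b * x)) = b * (U.ι.appIso W).inv.hom (E x)
    rw [h1, map_mul, h2]
  have hbij := bijective_of_rankOne (f.app V').hom ε hε
  exact (ConcreteCategory.isIso_iff_bijective (f.app V')).2 hbij

end Sections

section Unit

variable {X : Scheme.{u}}

/-- a morphism out of the structure module which kills the global section `1` is zero -/
theorem hom_eq_zero_of_app_top_one (G : X.Modules) (φ : Coh.structureModule X ⟶ G)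
    (h : (φ.app ⊤).hom (show Γ(Coh.structureModule X, ⊤) from (1 : Γ(X, ⊤))) = 0) : φ = 0 := by
  apply Scheme.Modules.hom_ext
  intro U
  ext x
  have hx : x = (show Γ(X, U) from x) • (show Γ(Coh.structureModule X, U) from (1 : Γ(X, U))) := by
    change x = (show Γ(X, U) from x) * (1 : Γ(X, U))
    rw [mul_one]
  have h1 : (show Γ(Coh.structureModule X, U) from (1 : Γ(X, U))) =
      ((Coh.structureModule X).presheaf.map (homOfLE (le_top : U ≤ ⊤)).op).hom
        (show Γ(Coh.structureModule X, ⊤) from (1 : Γ(X, ⊤))) := by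
    change (1 : Γ(X, U)) = (X.presheaf.map (homOfLE (le_top : U ≤ ⊤)).op).hom (1 : Γ(X, ⊤))
    rw [map_one]
  have h2 := congrArg (fun g => g.hom (show Γ(Coh.structureModule X, ⊤) from (1 : Γ(X, ⊤))))
    (φ.mapPresheaf.naturality (homOfLE (le_top : U ≤ ⊤)).op)
  simp only [Scheme.Modules.mapPresheaf_app] at h2
  rw [hx, Scheme.Modules.Hom.app_smul, h1]
  change (show Γ(X, U) from x) • ((Coh.structureModule X).presheaf.map (homOfLE (le_top : U ≤ ⊤)).op ≫ φ.app U).hom _ = _
  erw [h2]
  change (show Γ(X, U) from x) • (G.presheaf.map (homOfLE (le_top : U ≤ ⊤)).op).hom ((φ.app ⊤).hom _) = _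
  rw [h, map_zero, smul_zero]
  rfl

/-- if `P` is generated by a global section (an epi `O_X → P`) and `g : P → Q` is an epimorphism
which is zero on `H^0`, then `Q = 0`. -/
theorem isZero_of_epi_of_HAb_map_eq_zero {P Q : X.Modules} (ψ : Coh.structureModule X ⟶ P) [Epi ψ]
    (g : P ⟶ Q) [Epi g] (h : (CohIII.HAb X 0).map g = 0) : IsZero Q := by
  have hg : ∀ s : Γ(P, ⊤), (g.app ⊤).hom s = 0 := by
    intro s
    have h1 := Sheaf.H.equiv₀_naturality (Limits.isTerminalTop (α := TopologicalSpace.Opens X))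
      ((SheafOfModules.toSheaf X.ringCatSheaf).map g)
      ((Sheaf.H.equiv₀ (Coh.toAb P) Limits.isTerminalTop).symm s)
    have h0 : (Sheaf.H.equiv₀ ((SheafOfModules.toSheaf X.ringCatSheaf).obj P) Limits.isTerminalTop)
        ((Sheaf.H.equiv₀ (Coh.toAb P) Limits.isTerminalTop).symm s) = s :=
      AddEquiv.apply_symm_apply (Sheaf.H.equiv₀ (Coh.toAb P) Limits.isTerminalTop) s
    rw [h0] at h1
    have h2 : Sheaf.H.map ((SheafOfModules.toSheaf X.ringCatSheaf).map g) 0
        ((Sheaf.H.equiv₀ (Coh.toAb P) Limits.isTerminalTop).symm s) = 0 := by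
      have := congrArg (fun k => k.hom ((Sheaf.H.equiv₀ (Coh.toAb P) Limits.isTerminalTop).symm s)) h
      exact this
    rw [h2, map_zero] at h1
    exact h1
  have hφ : ψ ≫ g = 0 := by
    apply hom_eq_zero_of_app_top_one
    rw [Scheme.Modules.Hom.comp_app]
    exact hg _
  exact IsZero.of_epi_eq_zero (ψ ≫ g) hφ

end Unit

section Alg

variable {A : Type u} [CommRing A] [IsLocalRing A]

/-- `T^p(κ)` as the restriction of scalars of a `κ(x)`-vector space, `x` the closed point -/
def jIso (L : CochainComplex (ModuleCat.{u} A) ℤ) (p : ℤ) :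
    (CohIII.TFun L p).obj (ModuleCat.of A (IsLocalRing.ResidueField A)) ≅
      (ModuleCat.restrictScalars (algebraMap A (IsLocalRing.closedPoint A).asIdeal.ResidueField)).obj
        ((CohIII.bcCx (algebraMap A (IsLocalRing.closedPoint A).asIdeal.ResidueField) L).homology p) :=
  (CohIII.TFun L p).mapIso (resFieldIso A ≪≫ ofIsoBA (IsLocalRing.closedPoint A).asIdeal.ResidueField) ≪≫
    (homologyBcIso (algebraMap A (IsLocalRing.closedPoint A).asIdeal.ResidueField) L p).symm

/-- if `dim T^p(κ) = 1`, a nonzero map into `T^p(κ)` is surjective -/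
theorem surjective_of_ne_zero (L : CochainComplex (ModuleCat.{u} A) ℤ) (p : ℤ)
    (hr : CohIII.dRank L p (IsLocalRing.closedPoint A) = 1) {N : ModuleCat.{u} A}
    (g : N ⟶ (CohIII.TFun L p).obj (ModuleCat.of A (IsLocalRing.ResidueField A))) (hg : g ≠ 0) :
    Function.Surjective g.hom := by
  set x := IsLocalRing.closedPoint A with hx
  set φ := algebraMap A x.asIdeal.ResidueField with hφ
  haveI : x.asIdeal.IsMaximal := by
    rw [hx]; exact IsLocalRing.maximalIdeal.isMaximal A
  have hφs : Function.Surjective φ := Ideal.algebraMap_residueField_surjective x.asIdeal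
  set H := (CohIII.bcCx φ L).homology p with hH
  have hr' : Module.finrank x.asIdeal.ResidueField H = 1 := hr
  let j := jIso L p
  have hne : ∃ n : N, (j.hom.hom (g.hom n) : H) ≠ 0 := by
    by_contra hcon
    push Not at hcon
    apply hg
    ext n
    have := hcon n
    have h2 : j.hom.hom (g.hom n) = 0 := this
    have h3 := congrArg j.inv.hom h2
    rw [map_zero] at h3
    have h4 : j.inv.hom (j.hom.hom (g.hom n)) = g.hom n := by
      have := congrArg (fun k => k.hom (g.hom n)) j.hom_inv_id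
      exact this
    rw [h4] at h3
    exact h3
  obtain ⟨n, hn⟩ := hne
  have hspan := (finrank_eq_one_iff_of_nonzero' (j.hom.hom (g.hom n) : H) hn).1 hr'
  intro w
  obtain ⟨c, hc⟩ := hspan (j.hom.hom w : H)
  obtain ⟨a, rfl⟩ := hφs c
  refine ⟨a • n, ?_⟩
  have hinj : Function.Injective j.hom.hom := by
    intro u v huv
    have h3 := congrArg j.inv.hom huv
    have h4 : ∀ z, j.inv.hom (j.hom.hom z) = z := fun z => by
      have := congrArg (fun k => k.hom z) j.hom_inv_id
      exact this
    rwa [h4, h4] at h3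
  apply hinj
  rw [map_smul, map_smul]
  exact hc

end Alg


section Geo

variable (A : Type u) [CommRing A] [IsLocalRing A] {X : Scheme.{u}} [X.Over (Spec (CommRingCat.of A))]

theorem subsingleton_HH_zero_of_isZero {Q : X.Modules} (hQ : IsZero Q) : Subsingleton (Coh.HH X Q 0) := by
  have hΓ : Subsingleton Γ(Q, ⊤) := by
    refine ⟨fun a b => ?_⟩
    have h1 : (𝟙 Q : Q ⟶ Q) = 0 := hQ.eq_of_src _ _
    have ha : a = ((𝟙 Q : Q ⟶ Q).app ⊤).hom a := by rw [Scheme.Modules.Hom.id_app]; rfl
    have hb : b = ((𝟙 Q : Q ⟶ Q).app ⊤).hom b := by rw [Scheme.Modules.Hom.id_app]; rfl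
    rw [ha, hb, h1, Scheme.Modules.Hom.zero_app]
    rfl
  haveI : Subsingleton ((Coh.toAb Q).obj.obj (op ⊤)) := hΓ
  exact (Sheaf.H.equiv₀ (Coh.toAb Q) Limits.isTerminalTop).toEquiv.subsingleton

/-- **The unit-section trick.**  If `F` is generated by a global section, `T^0(κ)` is one-dimensional
and `H^0(X, F ⊗ -) ≅ T^0` naturally, then `T^0(A) → T^0(κ)` is surjective. -/
theorem surjective_resMap_of_unit (F : X.Modules) (ψ : Coh.structureModule X ⟶ F) [Epi ψ]
    (L : CochainComplex (ModuleCat.{u} A) ℤ)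
    (e : CohIII.tensorAFunctor A F ⋙ CohIII.HAb X 0 ≅
      CohIII.TFun L 0 ⋙ forget₂ (ModuleCat.{u} A) AddCommGrpCat.{u})
    (hr : CohIII.dRank L 0 (IsLocalRing.closedPoint A) = 1) :
    Function.Surjective ((CohIII.TFun L 0).map (TFunLocal.resMap A)).hom := by
  apply surjective_of_ne_zero L 0 hr
  intro h0
  have h1 : (CohIII.tensorAFunctor A F ⋙ CohIII.HAb X 0).map (TFunLocal.resMap A) = 0 := by
    have hn := e.hom.naturality (TFunLocal.resMap A)
    have h2 : (CohIII.TFun L 0 ⋙ forget₂ (ModuleCat.{u} A) AddCommGrpCat.{u}).map (TFunLocal.resMap A) = 0 := by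
      change (forget₂ (ModuleCat.{u} A) AddCommGrpCat.{u}).map ((CohIII.TFun L 0).map (TFunLocal.resMap A)) = 0
      rw [h0]
      rfl
    rw [h2, comp_zero] at hn
    exact (cancel_mono (e.hom.app _)).1 (hn.trans zero_comp.symm)
  haveI : Epi (TFunLocal.resMap A) := by
    rw [ModuleCat.epi_iff_surjective]
    exact Ideal.Quotient.mk_surjective
  haveI : Epi ((CohIII.tensorAFunctor A F).map (TFunLocal.resMap A)) := inferInstance
  have hz : IsZero ((CohIII.tensorAFunctor A F).obj (ModuleCat.of A (IsLocalRing.ResidueField A))) :=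
    isZero_of_epi_of_HAb_map_eq_zero
      (ψ ≫ (Groth.Agent.Lib.Helper6.TensAQuot.tensorAFunctorSelfIso (A := A) F).inv)
      ((CohIII.tensorAFunctor A F).map (TFunLocal.resMap A)) h1
  haveI hs := subsingleton_HH_zero_of_isZero hz
  -- transport along `e`
  haveI hs2 : Subsingleton ((CohIII.TFun L 0).obj (ModuleCat.of A (IsLocalRing.ResidueField A)) :
      ModuleCat.{u} A) := by
    let ee := (e.app (ModuleCat.of A (IsLocalRing.ResidueField A))).addCommGroupIsoToAddEquiv
    haveI : Subsingleton ((CohIII.tensorAFunctor A F ⋙ CohIII.HAb X 0).obj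
        (ModuleCat.of A (IsLocalRing.ResidueField A)) : AddCommGrpCat.{u}) := hs
    exact ee.symm.toEquiv.subsingleton
  haveI hs3 : Subsingleton ((CohIII.bcCx (algebraMap A (IsLocalRing.closedPoint A).asIdeal.ResidueField) L).homology
      (0 : ℤ) : ModuleCat.{u} (IsLocalRing.closedPoint A).asIdeal.ResidueField) :=
    (jIso L 0).toLinearEquiv.symm.toEquiv.subsingleton
  have : CohIII.dRank L 0 (IsLocalRing.closedPoint A) = 0 := Module.finrank_zero_of_subsingleton
  omega

end Geo

section Main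

variable {X Y : Scheme.{u}} (f : X ⟶ Y) (y : Y) [IsProper f] [IsLocallyNoetherian Y]
  [HasInjectiveResolutions X.Modules] (F : X.Modules)

/-- helper6's local complex, together with the natural isomorphism of functors -/
theorem exists_local_complex_nat (hF : Coh.IsCoh F) (hfl : FlatMod.IsFlatOver f F) :
    ∃ (L : CochainComplex (ModuleCat.{u} (Y.presheaf.stalk y)) ℤ) (t : ℕ),
      (∀ i, Module.Finite (Y.presheaf.stalk y) (L.X i) ∧ Module.Free (Y.presheaf.stalk y) (L.X i)) ∧
      (∀ i : ℤ, (t : ℤ) ≤ i → IsZero (L.X i)) ∧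
      (∀ p : ℕ, Nonempty (CohIII.tensorAFunctor (Y.presheaf.stalk y) (FL f y F) ⋙ CohIII.HAb (XL f y) p ≅
        CohIII.TFun L (p : ℤ) ⋙ forget₂ (ModuleCat.{u} (Y.presheaf.stalk y)) AddCommGrpCat.{u})) ∧
      (∀ p : ℕ, Nonempty (((Coh.Rpush f p).obj F).presheaf.stalk y ≃ₗ[Y.presheaf.stalk y]
        (L.homology (p : ℤ) : ModuleCat.{u} (Y.presheaf.stalk y)))) ∧
      (∀ (p : ℕ) (𝔮 : PrimeSpectrum (Y.presheaf.stalk y)),
        CohIII.dRank L (p : ℤ) 𝔮 = CohIII.fiberRank f F p (Y.fromSpecStalk y 𝔮)) ∧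
      (∀ i : ℤ, i < 0 → ∀ M : ModuleCat.{u} (Y.presheaf.stalk y), IsZero ((CohIII.TFun L i).obj M)) := by
  haveI : F.IsQuasicoherent := hF.1
  haveI : (FL f y F).IsQuasicoherent := (isCoh_FL f y F hF).1
  obtain ⟨L, t, h1, h2, hnat, hbc, hneg⟩ := exists_grothendieck_complex_fibre' (Y.presheaf.stalk y) (XL f y)
    (FL f y F) (isCoh_FL f y F hF) (isFlatOver_FL f y F hfl)
  refine ⟨L, t, h1, h2, hnat, fun p => ?_, fun p 𝔮 => ?_, hneg⟩
  · obtain ⟨V, hV, hyV, -⟩ := (Opens.isBasis_iff_nbhd.1 Y.isBasis_affineOpens)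
      (show y ∈ (⊤ : Y.Opens) from trivial)
    obtain ⟨-, ⟨e1⟩⟩ := Groth.Agent.Lib.Helper6.StalkFFC.main_of_affine f F hF y p (XL f y) (gL f y)
      (isPullback_XL f y) V hV hyV
    obtain ⟨e2⟩ := nonempty_linearEquiv_homology (Y.presheaf.stalk y) (XL f y) (FL f y F) L hbc p
    exact ⟨e1 ≪≫ₗ e2⟩
  · rw [dRank_eq_fiberRank (FL f y F) L hbc p 𝔮]
    exact fiberRank_baseChange f (XL f y ↘ Spec (CommRingCat.of (Y.presheaf.stalk y))) (gL f y)
      (Y.fromSpecStalk y) (isPullback_XL f y) F p 𝔮

end Main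

section Rank

variable {X Y : Scheme.{u}} (f : X ⟶ Y) (y : Y)

/-- if `κ(y) → Γ(X_y, O)` is bijective then `h^0(X_y, O_{X_y}) = 1` -/
theorem fiberRank_structureModule_zero
    (hy : Function.Bijective (algebraMap (Y.residueField y) Γ(f.fiber y, ⊤))) :
    CohIII.fiberRank f (Coh.structureModule X) 0 y = 1 := by
  unfold CohIII.fiberRank
  letI : (f.fiber y).Over (Spec (CommRingCat.of ↑(Y.residueField y))) :=
    ⟨f.fiberToSpecResidueField y⟩
  let i : CohIII.fiberMod f (Coh.structureModule X) y ≅ Coh.structureModule (f.fiber y) :=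
    Groth.Agent.Lib.Helper16.RS.pullbackUnitIso (f.fiberι y)
  let e1 : CohIII.fiberH f (Coh.structureModule X) y 0 ≃ₗ[Y.residueField y]
      Coh.HH (f.fiber y) (Coh.structureModule (f.fiber y)) 0 :=
    ((Groth.Agent.Lib.Helper4.HHFun.HHfun (Y.residueField y) (X := f.fiber y) 0).mapIso i).toLinearEquiv
  let e0 := Groth.Agent.Lib.Helper13.AlbTriv.e0 (f.fiber y)
  let e2 : Coh.HH (f.fiber y) (Coh.structureModule (f.fiber y)) 0 ≃ₗ[Y.residueField y] (Y.residueField y) :=
    { toFun := fun x => (Equiv.ofBijective _ hy).symm (e0 x)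
      invFun := fun c => e0.symm (algebraMap (Y.residueField y) Γ(f.fiber y, ⊤) c)
      map_add' := fun a b => by
        apply hy.1
        simp only [Equiv.ofBijective_apply_symm_apply, map_add]
        rfl
      map_smul' := fun c x => by
        apply hy.1
        simp only [Equiv.ofBijective_apply_symm_apply, RingHom.id_apply, smul_eq_mul, map_mul]
        exact Groth.Agent.Lib.Helper13.AlbTriv.e0_smul (Y.residueField y) (f.fiber y) c x
      left_inv := fun x => by
        simp only [Equiv.ofBijective_apply_symm_apply, AddEquiv.symm_apply_apply]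
      right_inv := fun c => by
        simp only [AddEquiv.apply_symm_apply, Equiv.ofBijective_symm_apply_apply] }
  rw [(e1 ≪≫ₗ e2).finrank_eq]
  exact Module.finrank_self _

end Rank

section Final

variable {X Y : Scheme.{u}} (f : X ⟶ Y) (y : Y) [IsProper f] [Flat f] [IsLocallyNoetherian Y]
  [HasInjectiveResolutions X.Modules]

/-- `(R^0 f_* O_X)_y` is free of rank one when `κ(y) → Γ(X_y, O)` is bijective -/
theorem free_stalk_Rpush_zero_structureModule
    (hy : Function.Bijective (algebraMap (Y.residueField y) Γ(f.fiber y, ⊤))) :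
    Module.Free (Y.presheaf.stalk y)
        (((Coh.Rpush f 0).obj (Coh.structureModule X)).presheaf.stalk y) ∧
      Module.finrank (Y.presheaf.stalk y)
        (((Coh.Rpush f 0).obj (Coh.structureModule X)).presheaf.stalk y) = 1 := by
  have hF : Coh.IsCoh (Coh.structureModule X) := Groth.Agent.Lib.Helper6.DevRed.isCoh_structureModule
  have hfl : FlatMod.IsFlatOver f (Coh.structureModule X) :=
    Groth.Agent.Lib.Helper25.UnitDense.isFlatOver_structureModule f
  obtain ⟨L, t, h1, h2, hnat, hst, hdr, hneg⟩ :=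
    exists_local_complex_nat f y (Coh.structureModule X) hF hfl
  have hP : ∀ i, Module.Finite (Y.presheaf.stalk y) (L.X i) ∧ Module.Flat (Y.presheaf.stalk y) (L.X i) :=
    fun i => ⟨(h1 i).1, haveI := (h1 i).2; inferInstance⟩
  have hflat : ∀ i, Module.Flat (Y.presheaf.stalk y) (L.X i) := fun i => (hP i).2
  have hr : CohIII.dRank L 0 (IsLocalRing.closedPoint (Y.presheaf.stalk y)) = 1 := by
    have h5 := hdr 0 (IsLocalRing.closedPoint (Y.presheaf.stalk y))
    rw [Scheme.fromSpecStalk_closedPoint, Nat.cast_zero] at h5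
    rw [h5]
    exact fiberRank_structureModule_zero f y hy
  obtain ⟨e⟩ := hnat 0
  let ψ : Coh.structureModule (XL f y) ⟶ FL f y (Coh.structureModule X) :=
    (Groth.Agent.Lib.Helper16.RS.pullbackUnitIso (gL f y)).inv
  have hsurj : Function.Surjective ((CohIII.TFun L 0).map
      (TFunLocal.resMap (Y.presheaf.stalk y))).hom :=
    surjective_resMap_of_unit (Y.presheaf.stalk y) (FL f y (Coh.structureModule X)) ψ L e hr
  have he : (CohIII.TFun L 0).PreservesEpimorphisms :=
    TFunLocal.preservesEpi_of_surjective L hP 0 1 (by simp) hsurj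
  have hm : (CohIII.TFun L 0).PreservesMonomorphisms := by
    refine (TFunBasic.preservesEpi_iff_preservesMono L hflat (-1) 0 (by simp)).1 ⟨fun {M N} g _ => ?_⟩
    exact (hneg (-1) (by omega) N).epi _
  haveI hfree : Module.Free (Y.presheaf.stalk y)
      ((CohIII.TFun L 0).obj (ModuleCat.of (Y.presheaf.stalk y) (Y.presheaf.stalk y))) :=
    ((TFunExact.exact_iff_preservesEpi_and_free L 0 hP).1 ⟨hm, he⟩).2
  haveI hfree' : Module.Free (Y.presheaf.stalk y)
      (CohIII.T L (0 : ℤ) (ModuleCat.of (Y.presheaf.stalk y) (Y.presheaf.stalk y)) :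
        ModuleCat.{u} (Y.presheaf.stalk y)) := hfree
  haveI hfreeH : Module.Free (Y.presheaf.stalk y)
      (L.homology (0 : ℤ) : ModuleCat.{u} (Y.presheaf.stalk y)) :=
    Module.Free.of_equiv (Groth.Agent.Lib.helper11.DRankFlat.TAEquiv L (0 : ℤ))
  obtain ⟨e0⟩ := hst 0
  rw [Nat.cast_zero] at e0
  refine ⟨Module.Free.of_equiv e0.symm, ?_⟩
  rw [e0.finrank_eq, ← hr, Groth.Agent.Lib.helper11.DRankFlat.dRank_eq_fibDim_homology L hflat 0 1
    (by simp) he]
  unfold Groth.Agent.Lib.helper11.FibDim.fibDim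
  exact (Module.finrank_baseChange).symm

/-- **EGA III 7.8.8 for the structure sheaf**: `f` proper and flat, `κ(y) → Γ(X_y, O)` bijective
⇒ `O_Y(V) → O_X(f⁻¹V)` is an isomorphism for every open `V` in a neighbourhood of `y`. -/
theorem exists_nhd_isIso_app
    (hy : Function.Bijective (algebraMap (Y.residueField y) Γ(f.fiber y, ⊤))) :
    ∃ U : Y.Opens, y ∈ U ∧ ∀ V : Y.Opens, V ≤ U → IsIso (f.app V) := by
  obtain ⟨hfree, hrank⟩ := free_stalk_Rpush_zero_structureModule f y hy
  haveI := hfree
  have hF : Coh.IsCoh (Coh.structureModule X) := Groth.Agent.Lib.Helper6.DevRed.isCoh_structureModule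
  obtain ⟨U, hyU, ⟨e⟩⟩ := Groth.Agent.Lib.Helper7.StalkFree.exists_iso_freeMod_of_free_stalk Y
    ((Coh.Rpush f 0).obj (Coh.structureModule X))
    (Groth.Agent.Lib.Helper4.RpushCoh.isCoh_Rpush f (Coh.structureModule X) hF 0) y
  rw [hrank] at e
  haveI : PreservesFiniteLimits (Scheme.Modules.pushforward f) := by
    haveI : (Scheme.Modules.pushforward f).IsRightAdjoint :=
      (Scheme.Modules.pullbackPushforwardAdjunction f).isRightAdjoint
    infer_instance
  let i0 : (Coh.Rpush f 0).obj (Coh.structureModule X) ≅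
      (Scheme.Modules.pushforward f).obj (Coh.structureModule X) :=
    ((Scheme.Modules.pushforward f).rightDerivedZeroIsoSelf).app _
  let i1 : FlatMod.freeMod (↑U : Scheme.{u}) 1 ≅ Coh.structureModule (↑U : Scheme.{u}) :=
    Limits.coproductUniqueIso (fun _ : Fin 1 => Coh.structureModule (↑U : Scheme.{u}))
  let e' : ((Scheme.Modules.pushforward f).obj (Coh.structureModule X)).restrict U.ι ≅
      Coh.structureModule (↑U : Scheme.{u}) :=
    (Scheme.Modules.restrictFunctor U.ι).mapIso i0.symm ≪≫ e ≪≫ i1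
  exact ⟨U, hyU, fun V hV => isIso_app_of_restrict_iso f U e' V hV⟩

end Final

end Groth.Agent.Lib.helper11.UnitSec
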