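import Mathlib
import Groth.Agent.S2393
import Groth.Agent.Lib.lead.HensKC
import Groth.Agent.Lib.helper11.H0Model
import Groth.Agent.Lib.helper11.H0Desc
import Groth.Agent.Lib.helper11.H0LimA

/-!
# `B ≅ Γ(X, O_X)` for proper flat finitely presented `X` over a local ring `B` with `H⁰` of the closed
fibre equal to the residue field (helper11)

No Noetherian hypothesis: all Noetherian models over finitely generated subrings, the Noetherian case
(S2393) at the image of the closed point, and a limit argument.
-/

set_option autoImplicit false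
set_option linter.style.haveILetI false
universe u
open CategoryTheory CategoryTheory.Limits AlgebraicGeometry Opposite TopologicalSpace

namespace Groth.Agent.Lib.helper11.H0

open Groth.Agent.Lib.Helper22 Groth.Agent.Lib.lead.HensK

theorem bijective_algebraMap_of_isIso_appTop {X Y : Scheme.{u}} (f : X ⟶ Y) (y : Y)
    (h : IsIso (f.fiberToSpecResidueField y).appTop) :
    Function.Bijective (algebraMap (Y.residueField y) Γ(f.fiber y, ⊤)) := by
  show Function.Bijective (((f.fiberToSpecResidueField y).appTop.hom.comp
    (Scheme.ΓSpecIso (Y.residueField y)).inv.hom))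
  have h1 : Function.Bijective (f.fiberToSpecResidueField y).appTop.hom :=
    (ConcreteCategory.isIso_iff_bijective _).mp h
  have h2 : Function.Bijective (Scheme.ΓSpecIso (Y.residueField y)).inv.hom :=
    (ConcreteCategory.isIso_iff_bijective (Scheme.ΓSpecIso (Y.residueField y)).inv).mp
      inferInstance
  exact h1.comp h2

theorem preimage_eq_top_of_closedPoint_mem {B : Type u} [CommRing B] [IsLocalRing B] {Z : Scheme.{u}}
    (m : Spec (CommRingCat.of B) ⟶ Z) (U : Z.Opens) (h : m (IsLocalRing.closedPoint B) ∈ U) :
    m ⁻¹ᵁ U = ⊤ := by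
  refine eq_top_iff.mpr fun x _ => ?_
  have hx : x ⤳ IsLocalRing.closedPoint B := IsLocalRing.specializes_closedPoint (R := B) x
  exact (hx.map m.continuous).mem_open U.2 h

theorem isIso_appTop_of_isLocalRing (B : Type u) [CommRing B] [IsLocalRing B] {X : Scheme.{u}}
    (f : X ⟶ Spec (CommRingCat.of B)) [IsProper f] [Flat f] [LocallyOfFinitePresentation f]
    (h0 : IsIso (f.fiberToSpecResidueField (IsLocalRing.closedPoint B)).appTop) :
    IsIso f.appTop := by
  let D := fgDiag B
  let c := fgCone B
  have hc : IsLimit c := fgIsLimit B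
  haveI : ∀ i, CompactSpace (D.obj i) := fun i => inferInstance
  haveI : ∀ i, QuasiSeparatedSpace (D.obj i) := fun i => inferInstance
  haveI : ∀ (i j : (Finset B)ᵒᵖ) (a : i ⟶ j), IsAffineHom (D.map a) := fun i j a => inferInstance
  let f' : X ⟶ c.pt := f
  haveI : IsProper f' := ‹IsProper f›
  haveI : Flat f' := ‹Flat f›
  haveI : LocallyOfFinitePresentation f' := ‹LocallyOfFinitePresentation f›
  obtain ⟨j₀, Y₀, h₀, g₀, hprop, hflat, hfp, hpb⟩ := exists_proper_flat_fp_model D c hc f'
  haveI := hprop
  haveI := hflat
  haveI := hfp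
  haveI : CompactSpace Y₀ := QuasiCompact.compactSpace_of_compactSpace h₀
  haveI : QuasiSeparatedSpace Y₀ := quasiSeparatedSpace_of_quasiSeparated h₀
  have key : IsIso (pullback.fst (c.π.app j₀) h₀).appTop := by
    refine isIso_appTop_fst_of_stages D c hc j₀ h₀ (fun k => ?_)
    obtain ⟨gk, hpbk⟩ := model_pullback D c k.hom f' h₀ g₀ hpb
    haveI : IsProper (pullback.fst (D.map k.hom) h₀) :=
      MorphismProperty.pullback_fst (P := @IsProper) _ _ inferInstance
    haveI : Flat (pullback.fst (D.map k.hom) h₀) :=
      MorphismProperty.pullback_fst (P := @Flat) _ _ inferInstance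
    have hfib := isPullback_fiberToSpecResidueField_of_isPullback hpbk (IsLocalRing.closedPoint B)
    haveI : CompactSpace ↥((pullback.fst (D.map k.hom) h₀).fiber
        ((c.π.app k.left) (IsLocalRing.closedPoint B))) :=
      QuasiCompact.compactSpace_of_compactSpace
        ((pullback.fst (D.map k.hom) h₀).fiberToSpecResidueField _)
    haveI : QuasiSeparated ((pullback.fst (D.map k.hom) h₀).fiberToSpecResidueField
        ((c.π.app k.left) (IsLocalRing.closedPoint B))) :=
      MorphismProperty.pullback_snd (P := @QuasiSeparated) _ _ inferInstance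
    haveI : QuasiSeparatedSpace ↥((pullback.fst (D.map k.hom) h₀).fiber
        ((c.π.app k.left) (IsLocalRing.closedPoint B))) :=
      quasiSeparatedSpace_of_quasiSeparated
        ((pullback.fst (D.map k.hom) h₀).fiberToSpecResidueField _)
    have hiso : IsIso ((pullback.fst (D.map k.hom) h₀).fiberToSpecResidueField
        ((c.π.app k.left) (IsLocalRing.closedPoint B))).appTop :=
      (isIso_appTop_iff_of_isPullback_field (Field.toIsField _) (Field.toIsField _) _ _ _ _
        hfib).mp h0
    have hy := bijective_algebraMap_of_isIso_appTop _ _ hiso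
    haveI : IsLocallyNoetherian (D.obj k.left) := by
      show IsLocallyNoetherian (Spec (CommRingCat.of (fgSub B k.left.unop)))
      infer_instance
    obtain ⟨U, htU, hU⟩ := Groth.Agent.S2393.result (pullback.fst (D.map k.hom) h₀)
      ((c.π.app k.left) (IsLocalRing.closedPoint B)) hy
    exact ⟨U, preimage_eq_top_of_closedPoint_mem (c.π.app k.left) U htU, hU U le_rfl⟩
  have h1 : hpb.flip.isoPullback.hom ≫ pullback.fst (c.π.app j₀) h₀ = f' :=
    IsPullback.isoPullback_hom_fst _
  have h2 : f.appTop = (pullback.fst (c.π.app j₀) h₀).appTop ≫ hpb.flip.isoPullback.hom.appTop := by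
    rw [← Scheme.Hom.comp_appTop, h1]
    rfl
  haveI : IsIso hpb.flip.isoPullback.hom.appTop :=
    inferInstanceAs (IsIso (Scheme.Γ.map hpb.flip.isoPullback.hom.op))
  have hI : IsIso hpb.flip.isoPullback.hom.appTop :=
    inferInstanceAs (IsIso (Scheme.Γ.map hpb.flip.isoPullback.hom.op))
  rw [h2]
  exact @IsIso.comp_isIso _ _ _ _ _ _ _ key hI

end Groth.Agent.Lib.helper11.H0
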