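import Mathlib
import Groth.Agent.Lib.helper11.H0Local
import Groth.Agent.Lib.helper11.H0Alg

/-!
# `O_S ≅ f_* O_X` for proper flat finitely presented `f` with `H⁰(X_s, O) = κ(s)` (helper11)

No Noetherian hypothesis (EGA III 7.8.8 / Stacks 0E62-type statement).
-/

set_option autoImplicit false
set_option linter.style.haveILetI false
universe u
open CategoryTheory CategoryTheory.Limits AlgebraicGeometry Opposite TopologicalSpace

namespace Groth.Agent.Lib.helper11.H0

/-- flat base change of sections over an affine open, pushout form -/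
theorem isPushout_app_of_flat {X Y T : Scheme.{u}} (f : X ⟶ Y) [QuasiCompact f]
    [QuasiSeparated f] [IsAffine T] (h : T ⟶ Y) [Flat h] (U : Y.Opens) (hU : IsAffineOpen U)
    (hUST : (⊤ : T.Opens) ≤ h ⁻¹ᵁ U) :
    ∃ (hle : (⊤ : (pullback f h).Opens) ≤ (pullback.fst f h) ⁻¹ᵁ (f ⁻¹ᵁ U)),
      IsPushout (f.app U) (h.appLE U ⊤ hUST) ((pullback.fst f h).appLE (f ⁻¹ᵁ U) ⊤ hle)
        (pullback.snd f h).appTop := by
  have H : IsPullback (pullback.fst f h) (pullback.snd f h) f h := IsPullback.of_hasPullback f h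
  have hUSX : f ⁻¹ᵁ U ≤ f ⁻¹ᵁ U := le_rfl
  have hUY : (⊤ : (pullback f h).Opens) =
      (pullback.fst f h) ⁻¹ᵁ (f ⁻¹ᵁ U) ⊓ (pullback.snd f h) ⁻¹ᵁ ⊤ := by
    ext z
    simp only [Opens.coe_top, Set.mem_univ, Opens.coe_inf, Set.mem_inter_iff, true_iff]
    refine ⟨?_, trivial⟩
    change f (pullback.fst f h z) ∈ U
    rw [← Scheme.Hom.comp_apply, pullback.condition, Scheme.Hom.comp_apply]
    exact hUST (Set.mem_univ _)
  have hiso := isIso_pushoutSection_of_isQuasiSeparated_of_flat_right H hUST hUSX hUY hU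
    (isAffineOpen_top _) (f.isCompact_preimage hU.isCompact)
    (f.isQuasiSeparated_preimage hU.isQuasiSeparated)
  have hpo := (isIso_pushoutSection_iff H hUST hUSX hUY).mp hiso
  have e1 : f.appLE U (f ⁻¹ᵁ U) hUSX = f.app U := (Scheme.Hom.app_eq_appLE f).symm
  have e2 : (pullback.snd f h).appLE ⊤ ⊤ le_rfl = (pullback.snd f h).appTop :=
    appLE_top_top _ _
  rw [e1, e2] at hpo
  exact ⟨_, hpo⟩

theorem fibre_condition_baseChange {X S T : Scheme.{u}} (f : X ⟶ S) [QuasiCompact f]
    [QuasiSeparated f] (g : T ⟶ S)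
    (h : ∀ s : S, IsIso (f.fiberToSpecResidueField s).appTop) (t : T) :
    IsIso ((pullback.snd f g).fiberToSpecResidueField t).appTop := by
  have hfib := isPullback_fiberToSpecResidueField_of_isPullback (IsPullback.of_hasPullback f g) t
  haveI : QuasiCompact (f.fiberToSpecResidueField (g t)) :=
    MorphismProperty.pullback_snd (P := @QuasiCompact) _ _ inferInstance
  haveI : QuasiSeparated (f.fiberToSpecResidueField (g t)) :=
    MorphismProperty.pullback_snd (P := @QuasiSeparated) _ _ inferInstance
  haveI : CompactSpace ↥(f.fiber (g t)) :=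
    QuasiCompact.compactSpace_of_compactSpace (f.fiberToSpecResidueField (g t))
  haveI : QuasiSeparatedSpace ↥(f.fiber (g t)) :=
    quasiSeparatedSpace_of_quasiSeparated (f.fiberToSpecResidueField (g t))
  haveI : CompactSpace ↥(pullback f (S.fromSpecResidueField (g t))) :=
    ‹CompactSpace ↥(f.fiber (g t))›
  haveI : QuasiSeparatedSpace ↥(pullback f (S.fromSpecResidueField (g t))) :=
    ‹QuasiSeparatedSpace ↥(f.fiber (g t))›
  exact (isIso_appTop_iff_of_isPullback_field (Field.toIsField _) (Field.toIsField _) _ _ _ _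
    hfib).mpr (h (g t))

section

variable {X : Scheme.{u}}

/-- the affine case -/
theorem isIso_appTop_of_affine (R₀ : CommRingCat.{u}) (f : X ⟶ Spec R₀) [IsProper f] [Flat f]
    [LocallyOfFinitePresentation f]
    (h : ∀ s : Spec R₀, IsIso (f.fiberToSpecResidueField s).appTop) : IsIso f.appTop := by
  let a : R₀ →+* Γ(X, f ⁻¹ᵁ ⊤) := (f.app ⊤).hom.comp (Scheme.ΓSpecIso R₀).inv.hom
  have ha : Function.Bijective a := by
    refine bijective_of_forall_maximal_isPushout a (fun P hP => ?_)
    let g : Spec (CommRingCat.of (Localization.AtPrime P)) ⟶ Spec R₀ :=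
      Spec.map (CommRingCat.ofHom (algebraMap R₀ (Localization.AtPrime P)))
    haveI : Flat g := by
      rw [HasRingHomProperty.Spec_iff (P := @Flat)]
      exact RingHom.flat_algebraMap_iff.mpr inferInstance
    haveI : IsProper (pullback.snd f g) :=
      MorphismProperty.pullback_snd (P := @IsProper) _ _ inferInstance
    haveI : Flat (pullback.snd f g) :=
      MorphismProperty.pullback_snd (P := @Flat) _ _ inferInstance
    haveI : LocallyOfFinitePresentation (pullback.snd f g) :=
      MorphismProperty.pullback_snd (P := @LocallyOfFinitePresentation) _ _ inferInstance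
    have hd : IsIso (pullback.snd f g).appTop :=
      isIso_appTop_of_isLocalRing (Localization.AtPrime P) (pullback.snd f g)
        (fibre_condition_baseChange f g h _)
    obtain ⟨hle, hpo⟩ := isPushout_app_of_flat f g ⊤ (isAffineOpen_top _) le_rfl
    refine ⟨Γ(pullback f g, ⊤), (pullback.fst f g).appLE (f ⁻¹ᵁ ⊤) ⊤ hle,
      (Scheme.ΓSpecIso (CommRingCat.of (Localization.AtPrime P))).inv ≫ (pullback.snd f g).appTop,
      ?_, ?_⟩
    · refine hpo.of_iso (Scheme.ΓSpecIso R₀) (Iso.refl _)
        (Scheme.ΓSpecIso (CommRingCat.of (Localization.AtPrime P))) (Iso.refl _) ?_ ?_ ?_ ?_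
      · rw [Iso.refl_hom, Category.comp_id]
        change _ = (Scheme.ΓSpecIso R₀).hom ≫ (Scheme.ΓSpecIso R₀).inv ≫ f.app ⊤
        rw [Iso.hom_inv_id_assoc]
      · rw [appLE_top_top]
        exact Scheme.ΓSpecIso_naturality _
      · simp only [Iso.refl_hom, Category.comp_id, Category.id_comp]
      · simp only [Iso.refl_hom, Category.comp_id, Iso.hom_inv_id_assoc]
    · have h1 : Function.Bijective (pullback.snd f g).appTop.hom :=
        (ConcreteCategory.isIso_iff_bijective _).mp hd
      have h2 : Function.Bijective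
          (Scheme.ΓSpecIso (CommRingCat.of (Localization.AtPrime P))).inv.hom :=
        (ConcreteCategory.isIso_iff_bijective
          (Scheme.ΓSpecIso (CommRingCat.of (Localization.AtPrime P))).inv).mp inferInstance
      exact h1.comp h2
  have h2 : Function.Bijective (Scheme.ΓSpecIso R₀).hom.hom :=
    (ConcreteCategory.isIso_iff_bijective (Scheme.ΓSpecIso R₀).hom).mp inferInstance
  have h3 : Function.Bijective (f.app ⊤).hom := by
    have : (f.app ⊤).hom = a.comp (Scheme.ΓSpecIso R₀).hom.hom := by
      ext x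
      simp only [a, RingHom.comp_apply]
      congr 1
      exact (congrArg (fun m => m.hom x) (Scheme.ΓSpecIso R₀).hom_inv_id).symm
    rw [this]
    exact ha.comp h2
  exact (ConcreteCategory.isIso_iff_bijective (f.app ⊤)).mpr h3

end

section

variable {X S : Scheme.{u}} (f : X ⟶ S) [IsProper f] [Flat f] [LocallyOfFinitePresentation f]

theorem isIso_app_of_isAffineOpen
    (h : ∀ s : S, IsIso (f.fiberToSpecResidueField s).appTop) (V : S.Opens)
    (hV : IsAffineOpen V) : IsIso (f.app V) := by
  let g := hV.fromSpec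
  haveI : IsProper (pullback.snd f g) :=
    MorphismProperty.pullback_snd (P := @IsProper) _ _ inferInstance
  haveI : Flat (pullback.snd f g) :=
    MorphismProperty.pullback_snd (P := @Flat) _ _ inferInstance
  haveI : LocallyOfFinitePresentation (pullback.snd f g) :=
    MorphismProperty.pullback_snd (P := @LocallyOfFinitePresentation) _ _ inferInstance
  have hd : IsIso (pullback.snd f g).appTop :=
    isIso_appTop_of_affine Γ(S, V) (pullback.snd f g) (fibre_condition_baseChange f g h)
  have hUST : (⊤ : (Spec Γ(S, V)).Opens) ≤ g ⁻¹ᵁ V := by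
    rw [hV.fromSpec_preimage_self]
  obtain ⟨hle, hpo⟩ := isPushout_app_of_flat f g V hV hUST
  haveI hb : IsIso (g.appLE V ⊤ hUST) := by
    have e0 : g.appLE V ⊤ hUST = g.app V ≫ (Spec Γ(S, V)).presheaf.map (homOfLE hUST).op := rfl
    have e1 : (homOfLE hUST).op = eqToHom (congrArg op hV.fromSpec_preimage_self) :=
      Subsingleton.elim _ _
    rw [e0, e1, eqToHom_map, hV.fromSpec_app_self]
    infer_instance
  haveI hc : IsIso ((pullback.fst f g).appLE (f ⁻¹ᵁ V) ⊤ hle) := hpo.isIso_inl_of_isIso
  have hw := hpo.w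
  have : f.app V = g.appLE V ⊤ hUST ≫ (pullback.snd f g).appTop ≫
      inv ((pullback.fst f g).appLE (f ⁻¹ᵁ V) ⊤ hle) := by
    rw [← Category.assoc, ← hw, Category.assoc, IsIso.hom_inv_id, Category.comp_id]
  rw [this]
  infer_instance

/-- **`O_S ≅ f_* O_X`** for `f` proper flat of finite presentation with `H⁰(X_s, O) = κ(s)` for all
`s` (S0980). -/
theorem isIso_app (h : ∀ s : S, IsIso (f.fiberToSpecResidueField s).appTop) (V : S.Opens) :
    IsIso (f.app V) := by
  let F : TopCat.Sheaf CommRingCat S := S.sheaf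
  let G : TopCat.Sheaf CommRingCat S :=
    (TopCat.Sheaf.pushforward CommRingCat f.base).obj X.sheaf
  let φ : F ⟶ G := ⟨f.c⟩
  let B : S.affineOpens → S.Opens := fun V => V.1
  have hB : Opens.IsBasis (Set.range B) := by
    have : Set.range B = S.affineOpens := by
      ext W
      simp [B]
    rw [this]
    exact S.isBasis_affineOpens
  haveI : IsIso φ := by
    refine TopCat.Sheaf.isIso_iff_isIso_basis hB (fun W => ?_)
    show IsIso (f.app W.1)
    exact isIso_app_of_isAffineOpen f h W.1 W.2
  have h2 : IsIso ((TopCat.Sheaf.forget CommRingCat S).map φ) := inferInstance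
  exact NatIso.isIso_app_of_isIso ((TopCat.Sheaf.forget CommRingCat S).map φ) (op V)

end

end Groth.Agent.Lib.helper11.H0
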