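import Mathlib
import Groth.Prelude.Def_ega3
import Groth.Agent.Lib.helper11.H0Global

/-!
# `h⁰(X_y, O) = 1` for all `y` iff `O_T = (f_T)_* O` universally (helper11)
-/

set_option autoImplicit false
set_option linter.style.haveILetI false
universe u
open CategoryTheory CategoryTheory.Limits AlgebraicGeometry Opposite TopologicalSpace

namespace Groth.Agent.Lib.helper11.H0

theorem finrank_eq_one_iff_isIso_appTop {X Y : Scheme.{u}} (f : X ⟶ Y) (y : Y) :
    Module.finrank (Y.residueField y) Γ(f.fiber y, ⊤) = 1 ↔
      IsIso (f.fiberToSpecResidueField y).appTop := by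
  rw [Algebra.finrank_eq_one_iff_bijective_algebraMap]
  have h1 : algebraMap (Y.residueField y) Γ(f.fiber y, ⊤) =
      ((Scheme.ΓSpecIso (Y.residueField y)).inv ≫ (f.fiberToSpecResidueField y).appTop).hom := rfl
  rw [h1, ← ConcreteCategory.isIso_iff_bijective]
  constructor
  · intro h
    have : (f.fiberToSpecResidueField y).appTop = (Scheme.ΓSpecIso (Y.residueField y)).hom ≫
        ((Scheme.ΓSpecIso (Y.residueField y)).inv ≫ (f.fiberToSpecResidueField y).appTop) := by
      simp
    rw [this]
    infer_instance
  · intro h
    infer_instance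

theorem finrank_iff_universal {X Y : Scheme.{u}} (f : X ⟶ Y)
    [IsProper f] [Flat f] [LocallyOfFinitePresentation f] :
    (∀ y : Y, Module.finrank (Y.residueField y) Γ(f.fiber y, ⊤) = 1) ↔
      ∀ (T : Scheme.{u}) (g : T ⟶ Y) (U : T.Opens), IsIso ((pullback.snd f g).app U) := by
  constructor
  · intro h T g U
    have h' : ∀ s : Y, IsIso (f.fiberToSpecResidueField s).appTop :=
      fun s => (finrank_eq_one_iff_isIso_appTop f s).mp (h s)
    haveI : IsProper (pullback.snd f g) :=
      MorphismProperty.pullback_snd (P := @IsProper) _ _ inferInstance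
    haveI : Flat (pullback.snd f g) :=
      MorphismProperty.pullback_snd (P := @Flat) _ _ inferInstance
    haveI : LocallyOfFinitePresentation (pullback.snd f g) :=
      MorphismProperty.pullback_snd (P := @LocallyOfFinitePresentation) _ _ inferInstance
    exact isIso_app (pullback.snd f g) (fibre_condition_baseChange f g h') U
  · intro h y
    rw [finrank_eq_one_iff_isIso_appTop]
    exact h _ (Y.fromSpecResidueField y) ⊤

end Groth.Agent.Lib.helper11.H0
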