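import Mathlib
import Groth.Agent.Lib.helper11.H0Global
import Groth.Agent.Lib.Helper12.HCoupA

/-!
# `O_S ≅ f_* O_X` for proper flat finitely presented `f` with geometrically reduced and
geometrically connected fibres (helper11)
-/

set_option autoImplicit false
set_option linter.style.haveILetI false
universe u
open CategoryTheory CategoryTheory.Limits AlgebraicGeometry Opposite TopologicalSpace

namespace Groth.Agent.Lib.helper11.H0

section Algebra

open Polynomial

/-- In a reduced algebra with trivial idempotents, integral over a field, every element is zero or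
a unit. -/
theorem eq_zero_or_isUnit_of_isIntegral {K A : Type*} [Field K] [CommRing A] [Algebra K A]
    [IsReduced A] (hid : ∀ e : A, IsIdempotentElem e → e = 0 ∨ e = 1) (x : A)
    (hx : IsIntegral K x) : x = 0 ∨ IsUnit x := by
  obtain ⟨p, hpm, hp⟩ := hx
  have hp0 : p ≠ 0 := hpm.ne_zero
  obtain ⟨q, hq, hnd⟩ := Polynomial.exists_eq_pow_rootMultiplicity_mul_and_not_dvd p hp0 0
  set m := p.rootMultiplicity 0 with hm
  rw [map_zero, sub_zero] at hq hnd
  have hc : q.coeff 0 ≠ 0 := fun h => hnd (Polynomial.X_dvd_iff.mpr h)
  set c := q.coeff 0 with hcdef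
  set y : A := Polynomial.aeval x q with hy
  have hxy : x ^ m * y = 0 := by
    have : Polynomial.aeval x p = 0 := by rw [Polynomial.aeval_def]; exact hp
    rw [hq, map_mul, map_pow, Polynomial.aeval_X] at this
    exact this
  have hyeq : y = Polynomial.aeval x q.divX * x + algebraMap K A c := by
    conv_lhs => rw [hy, ← Polynomial.divX_mul_X_add q]
    rw [map_add, map_mul, Polynomial.aeval_X, Polynomial.aeval_C]
  have hcop : IsCoprime x y := by
    refine ⟨-(algebraMap K A c⁻¹) * Polynomial.aeval x q.divX, algebraMap K A c⁻¹, ?_⟩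
    rw [hyeq, mul_add, ← map_mul, inv_mul_cancel₀ hc, map_one]
    ring
  obtain ⟨u, v, huv⟩ := hcop.pow_left (m := m)
  have he : IsIdempotentElem (u * x ^ m) := by
    have h1 : u * x ^ m * (v * y) = 0 := by
      calc u * x ^ m * (v * y) = u * v * (x ^ m * y) := by ring
        _ = 0 := by rw [hxy, mul_zero]
    have h2 : v * y = 1 - u * x ^ m := by rw [← huv]; ring
    rw [h2, mul_sub, mul_one, sub_eq_zero] at h1
    exact h1.symm
  rcases hid _ he with h0 | h1
  · left
    rw [h0, zero_add] at huv
    have : x ^ m = 0 := by
      calc x ^ m = x ^ m * (v * y) := by rw [huv, mul_one]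
        _ = v * (x ^ m * y) := by ring
        _ = 0 := by rw [hxy, mul_zero]
    exact IsReduced.eq_zero x ⟨m, this⟩
  · right
    have hu : IsUnit (x ^ m) := IsUnit.of_mul_eq_one u (by rw [mul_comm]; exact h1)
    by_cases hm0 : m = 0
    · rw [hm0, pow_zero, one_mul] at hxy
      rw [hxy] at hcop
      exact isCoprime_zero_right.mp hcop
    · exact (isUnit_pow_iff hm0).mp hu

/-- A nontrivial reduced algebra with trivial idempotents, integral over an algebraically closed
field `K`, is `K`. -/
theorem bijective_algebraMap_of_isIntegral_of_isAlgClosed {K A : Type*} [Field K] [IsAlgClosed K]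
    [CommRing A] [Algebra K A] [Algebra.IsIntegral K A] [IsReduced A] [Nontrivial A]
    (hid : ∀ e : A, IsIdempotentElem e → e = 0 ∨ e = 1) :
    Function.Bijective (algebraMap K A) := by
  have hdom : IsDomain A := by
    haveI : NoZeroDivisors A := ⟨fun {a b} hab => by
      rcases eq_zero_or_isUnit_of_isIntegral hid a (Algebra.IsIntegral.isIntegral (R := K) a) with h | h
      · exact Or.inl h
      · exact Or.inr ((h.mul_right_eq_zero).mp hab)⟩
    exact NoZeroDivisors.to_isDomain A
  exact IsAlgClosed.algebraMap_bijective_of_isIntegral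

end Algebra


/-- global functions on a reduced connected scheme universally closed over an algebraically
closed field are constants -/
theorem isIso_appTop_of_isReduced_of_connectedSpace {Y : Scheme.{u}} (K : Type u) [Field K]
    [IsAlgClosed K] (p : Y ⟶ Spec (CommRingCat.of K)) [UniversallyClosed p] [IsReduced Y]
    [ConnectedSpace Y] : IsIso p.appTop := by
  haveI : CompactSpace Y := (quasiCompact_iff_compactSpace p).mp inferInstance
  let F : CommRingCat.of K ⟶ Γ(Y, ⊤) := (Scheme.ΓSpecIso _).inv ≫ p.appTop
  have hF : F.hom.IsIntegral := by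
    apply RingHom.isIntegral_respectsIso.2 (e := (Scheme.ΓSpecIso _).symm.commRingCatIsoToRingEquiv)
    exact isIntegral_appTop_of_universallyClosed p
  suffices hbij : Function.Bijective F.hom by
    have hiso : IsIso F := (ConcreteCategory.isIso_iff_bijective F).mpr hbij
    have : p.appTop = (Scheme.ΓSpecIso _).hom ≫ F := by simp [F]
    rw [this]
    infer_instance
  have hid : ∀ e : Γ(Y, ⊤), IsIdempotentElem e → e = 0 ∨ e = 1 := by
    intro e he
    have hcl : IsClopen (Y.basicOpen e : Set Y) :=
      ⟨Groth.Agent.Lib.Helper12.HCoup.isClosed_basicOpen_of_isIdempotentElem Y e he,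
        (Y.basicOpen e).isOpen⟩
    rcases isClopen_iff.mp hcl with h | h
    · left
      refine Groth.Agent.Lib.Helper12.HCoup.idempotent_eq_of_basicOpen_eq Y e 0 he
        IsIdempotentElem.zero ?_
      rw [Y.basicOpen_zero]
      exact Opens.ext h
    · right
      refine Groth.Agent.Lib.Helper12.HCoup.idempotent_eq_of_basicOpen_eq Y e 1 he
        IsIdempotentElem.one ?_
      rw [Y.basicOpen_of_isUnit isUnit_one]
      exact Opens.ext h
  haveI : Nonempty ↥(⊤ : Y.Opens) := ⟨⟨Classical.arbitrary Y, trivial⟩⟩
  algebraize [F.hom]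
  haveI : Algebra.IsIntegral K Γ(Y, ⊤) := ⟨hF⟩
  exact bijective_algebraMap_of_isIntegral_of_isAlgClosed hid


/-- geometrically reduced and connected fibres give `H⁰(X_s, O) = κ(s)` -/
theorem isIso_fiberToSpecResidueField_appTop {X S : Scheme.{u}} (f : X ⟶ S) [IsProper f]
    (h : ∀ (K : Type u) [Field K] [IsAlgClosed K] (g : Spec (CommRingCat.of K) ⟶ S),
      IsReduced (pullback f g) ∧ ConnectedSpace ↥(pullback f g)) (s : S) :
    IsIso (f.fiberToSpecResidueField s).appTop := by
  let k := S.residueField s
  let K := AlgebraicClosure k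
  let φ : S.residueField s ⟶ CommRingCat.of K := CommRingCat.ofHom (algebraMap k K)
  let g : Spec (CommRingCat.of K) ⟶ S := Spec.map φ ≫ S.fromSpecResidueField s
  obtain ⟨hred, hconn⟩ := h K g
  haveI : UniversallyClosed (pullback.snd f g) :=
    MorphismProperty.pullback_snd (P := @UniversallyClosed) _ _ inferInstance
  have h1 : IsIso (pullback.snd f g).appTop :=
    isIso_appTop_of_isReduced_of_connectedSpace K (pullback.snd f g)
  let q : pullback f g ⟶ f.fiber s :=
    pullback.lift (pullback.fst f g) (pullback.snd f g ≫ Spec.map φ)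
      (by rw [pullback.condition, Category.assoc])
  have hbig : IsPullback (q ≫ pullback.fst f (S.fromSpecResidueField s)) (pullback.snd f g) f
      (Spec.map φ ≫ S.fromSpecResidueField s) := by
    have : q ≫ pullback.fst f (S.fromSpecResidueField s) = pullback.fst f g :=
      pullback.lift_fst _ _ _
    rw [this]
    exact IsPullback.of_hasPullback f g
  have hq : IsPullback q (pullback.snd f g) (f.fiberToSpecResidueField s) (Spec.map φ) :=
    IsPullback.of_right hbig (pullback.lift_snd _ _ _)
      (IsPullback.of_hasPullback f (S.fromSpecResidueField s))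
  haveI : QuasiCompact (f.fiberToSpecResidueField s) :=
    MorphismProperty.pullback_snd (P := @QuasiCompact) _ _ inferInstance
  haveI : QuasiSeparated (f.fiberToSpecResidueField s) :=
    MorphismProperty.pullback_snd (P := @QuasiSeparated) _ _ inferInstance
  haveI : CompactSpace ↥(f.fiber s) :=
    QuasiCompact.compactSpace_of_compactSpace (f.fiberToSpecResidueField s)
  haveI : QuasiSeparatedSpace ↥(f.fiber s) :=
    quasiSeparatedSpace_of_quasiSeparated (f.fiberToSpecResidueField s)
  exact (isIso_appTop_iff_of_isPullback_field (Field.toIsField _) (Field.toIsField _) φ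
    (f.fiberToSpecResidueField s) (pullback.snd f g) q hq).mp h1

/-- EGA III 7.8.6-type statement: proper flat finitely presented with geometrically reduced and
geometrically connected fibres implies `O_S ≅ f_* O_X`. -/
theorem isIso_app_of_geometric {X S : Scheme.{u}} (f : X ⟶ S) [IsProper f] [Flat f]
    [LocallyOfFinitePresentation f]
    (h : ∀ (K : Type u) [Field K] [IsAlgClosed K] (g : Spec (CommRingCat.of K) ⟶ S),
      IsReduced (pullback f g) ∧ ConnectedSpace ↥(pullback f g)) (V : S.Opens) :
    IsIso (f.app V) :=
  isIso_app f (isIso_fiberToSpecResidueField_appTop f h) V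

end Groth.Agent.Lib.helper11.H0
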