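import Mathlib

/-!
# Big projective modules, part 1: Kaplansky-lite

* a projective module `P` with `𝔧 P = P` for an ideal `𝔧` in the Jacobson radical is zero;
* a projective module over a local ring which is finitely generated modulo the maximal ideal is
  finitely generated;
* the same statement for the localization at a maximal ideal of a projective module.
-/

set_option autoImplicit false

namespace Groth.Agent.Lib.helper11.Big1

open scoped BigOperators

universe u

section Coord

variable {A : Type*} [CommRing A] {P : Type*} [AddCommGroup P] [Module A P]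

/-- coordinates of an element of `I • ⊤` lie in `I`. -/
theorem coord_mem_of_mem_smul_top (s : P →ₗ[A] P →₀ A) (I : Ideal A) {p : P}
    (hp : p ∈ (I • ⊤ : Submodule A P)) (l : P) : s p l ∈ I := by
  refine Submodule.smul_induction_on hp ?_ ?_
  · intro r hr n _
    rw [map_smul, Finsupp.smul_apply, smul_eq_mul]
    exact I.mul_mem_right _ hr
  · intro x y hx hy
    rw [map_add, Finsupp.add_apply]
    exact I.add_mem hx hy

/-- an element all of whose coordinates lie in `I` lies in `I • ⊤`. -/
theorem mem_smul_top_of_coord_mem (s : P →ₗ[A] P →₀ A)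
    (hs : Finsupp.linearCombination A id ∘ₗ s = LinearMap.id) (I : Ideal A) {p : P}
    (hp : ∀ l, s p l ∈ I) : p ∈ (I • ⊤ : Submodule A P) := by
  have h1 : p = Finsupp.linearCombination A id (s p) := (LinearMap.congr_fun hs p).symm
  rw [h1, Finsupp.linearCombination_apply, Finsupp.sum]
  exact Submodule.sum_mem _ (fun l _ => Submodule.smul_mem_smul (hp l) trivial)

end Coord

/-- Bass: a projective module `P` with `𝔧 P = P`, `𝔧` inside the Jacobson radical, is zero. -/
theorem eq_zero_of_smul_top_eq_top {A : Type*} [CommRing A] (𝔧 : Ideal A)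
    (h𝔧 : 𝔧 ≤ Ideal.jacobson ⊥) {P : Type*} [AddCommGroup P] [Module A P]
    [Module.Projective A P] (hP : (𝔧 • ⊤ : Submodule A P) = ⊤) (p : P) : p = 0 := by
  classical
  obtain ⟨s, hs⟩ := Module.projective_def'.mp ‹Module.Projective A P›
  have hcoord : ∀ (q l : P), s q l ∈ 𝔧 := fun q l =>
    coord_mem_of_mem_smul_top s 𝔧 (by rw [hP]; trivial) l
  set c := s p with hc
  set S := c.support with hS
  have hp : p = ∑ j ∈ S, c j • j := by
    have h1 : p = Finsupp.linearCombination A id (s p) := (LinearMap.congr_fun hs p).symm
    rw [h1, Finsupp.linearCombination_apply, Finsupp.sum]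
    rfl
  -- the key identity
  have hkey : ∀ l : P, c l = ∑ j ∈ S, c j * s j l := by
    intro l
    have h1 : s p = ∑ j ∈ S, c j • s j := by
      conv_lhs => rw [hp]
      rw [map_sum]
      exact Finset.sum_congr rfl (fun j _ => map_smul _ _ _)
    calc c l = (∑ j ∈ S, c j • s j) l := by rw [← h1]
      _ = ∑ j ∈ S, c j * s j l := by
        rw [Finsupp.finset_sum_apply]
        exact Finset.sum_congr rfl (fun j _ => by rw [Finsupp.smul_apply, smul_eq_mul])
  -- the matrix
  let C : Matrix S S A := fun l j => s (j : P) (l : P)
  let v : S → A := fun j => c (j : P)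
  have hv : (1 - C).mulVec v = 0 := by
    funext l
    rw [Matrix.sub_mulVec, Matrix.one_mulVec]
    simp only [Pi.sub_apply, Pi.zero_apply, Matrix.mulVec, dotProduct, C, v]
    rw [sub_eq_zero, hkey l, ← Finset.sum_coe_sort S]
    exact Finset.sum_congr rfl (fun j _ => mul_comm _ _)
  have hdet : IsUnit (1 - C).det := by
    apply Ideal.isUnit_of_sub_one_mem_jacobson_bot
    apply h𝔧
    rw [← Ideal.Quotient.eq_zero_iff_mem, map_sub, map_one, RingHom.map_det]
    have : (Ideal.Quotient.mk 𝔧).mapMatrix (1 - C) = 1 := by
      ext l j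
      simp only [RingHom.mapMatrix_apply, Matrix.map_apply, Matrix.sub_apply, map_sub, C]
      rw [Ideal.Quotient.eq_zero_iff_mem.mpr (hcoord _ _), sub_zero]
      by_cases hlj : l = j
      · subst hlj; simp
      · simp [Matrix.one_apply_ne hlj]
    rw [this, Matrix.det_one, sub_self]
  have hv0 : v = 0 := by
    have h1 : (1 - C).adjugate.mulVec ((1 - C).mulVec v) = (1 - C).det • v := by
      rw [Matrix.mulVec_mulVec, Matrix.adjugate_mul, Matrix.smul_mulVec, Matrix.one_mulVec]
    rw [hv, Matrix.mulVec_zero] at h1
    obtain ⟨u, hu⟩ := hdet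
    have h2 : (u⁻¹ : Aˣ) • ((1 - C).det • v) = v := by
      rw [← hu, Units.smul_def, smul_smul, Units.inv_mul, one_smul]
    rw [← h2, ← h1, smul_zero]
  rw [hp]
  refine Finset.sum_eq_zero (fun j hj => ?_)
  have : c j = 0 := congrFun hv0 ⟨j, hj⟩
  rw [this, zero_smul]

/-- splitting off a unimodular element. -/
noncomputable def splitEquiv {A : Type*} [CommRing A] {P : Type*} [AddCommGroup P] [Module A P]
    (φ : P →ₗ[A] A) (x : P) (hφ : φ x = 1) : P ≃ₗ[A] (LinearMap.ker φ × A) where
  toFun p := (⟨p - φ p • x, by
    rw [LinearMap.mem_ker, map_sub, map_smul, hφ, smul_eq_mul, mul_one, sub_self]⟩, φ p)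
  map_add' a b := by
    refine Prod.ext (Subtype.ext ?_) ?_
    · simp only [map_add, add_smul, Submodule.coe_add, Prod.fst_add]; abel
    · simp
  map_smul' c a := by
    refine Prod.ext (Subtype.ext ?_) ?_
    · simp only [map_smul, smul_eq_mul, RingHom.id_apply, Prod.smul_fst, Submodule.coe_smul,
        smul_sub, mul_smul]
    · simp
  invFun q := (q.1 : P) + q.2 • x
  left_inv p := by simp
  right_inv q := by
    obtain ⟨k, r⟩ := q
    have hk : φ (k : P) = 0 := k.2
    refine Prod.ext (Subtype.ext ?_) ?_
    · simp only [map_add, map_smul, hk, hφ, smul_eq_mul, mul_one, zero_add]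
      abel
    · simp only [map_add, map_smul, hk, hφ, smul_eq_mul, mul_one, zero_add]

theorem splitEquiv_fst {A : Type*} [CommRing A] {P : Type*} [AddCommGroup P] [Module A P]
    (φ : P →ₗ[A] A) (x : P) (hφ : φ x = 1) (p : P) :
    (((splitEquiv φ x hφ p).1 : LinearMap.ker φ) : P) = p - φ p • x := rfl

/-- a projective module over a local ring, generated modulo the maximal ideal by `n` elements, is
finitely generated. -/
theorem finite_of_span_sup_smul_eq_top {A : Type u} [CommRing A] [IsLocalRing A] :
    ∀ (n : ℕ) (P : Type u) [AddCommGroup P] [Module A P] [Module.Projective A P] (p : Fin n → P),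
      Submodule.span A (Set.range p) ⊔ (IsLocalRing.maximalIdeal A • ⊤ : Submodule A P) = ⊤ →
      Module.Finite A P := by
  classical
  intro n
  induction n with
  | zero =>
    intro P _ _ _ p h
    have h0 : (IsLocalRing.maximalIdeal A • ⊤ : Submodule A P) = ⊤ := by
      have h' := h
      have : Set.range p = ∅ := Set.range_eq_empty p
      rwa [this, Submodule.span_empty, bot_sup_eq] at h' 
    haveI : Subsingleton P := ⟨fun a b => by
      rw [eq_zero_of_smul_top_eq_top _ (IsLocalRing.maximalIdeal_le_jacobson ⊥) h0 a,
        eq_zero_of_smul_top_eq_top _ (IsLocalRing.maximalIdeal_le_jacobson ⊥) h0 b]⟩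
    infer_instance
  | succ n ih =>
    intro P _ _ _ p h
    by_cases hall : ∀ i, p i ∈ (IsLocalRing.maximalIdeal A • ⊤ : Submodule A P)
    · have h0 : (IsLocalRing.maximalIdeal A • ⊤ : Submodule A P) = ⊤ := by
        have h' : Submodule.span A (Set.range p) ≤
            (IsLocalRing.maximalIdeal A • ⊤ : Submodule A P) := by
          rw [Submodule.span_le]
          rintro _ ⟨i, rfl⟩
          exact hall i
        rw [eq_top_iff]
        calc (⊤ : Submodule A P) = Submodule.span A (Set.range p) ⊔
            (IsLocalRing.maximalIdeal A • ⊤ : Submodule A P) := h.symm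
          _ ≤ _ := sup_le h' le_rfl
      haveI : Subsingleton P := ⟨fun a b => by
        rw [eq_zero_of_smul_top_eq_top _ (IsLocalRing.maximalIdeal_le_jacobson ⊥) h0 a,
          eq_zero_of_smul_top_eq_top _ (IsLocalRing.maximalIdeal_le_jacobson ⊥) h0 b]⟩
      infer_instance
    · push Not at hall
      obtain ⟨i, hi⟩ := hall
      obtain ⟨s, hs⟩ := Module.projective_def'.mp ‹Module.Projective A P›
      -- a unit coordinate
      have hex : ∃ l, s (p i) l ∉ IsLocalRing.maximalIdeal A := by
        by_contra hcon
        push Not at hcon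
        exact hi (mem_smul_top_of_coord_mem s hs _ hcon)
      obtain ⟨l, hl⟩ := hex
      have hunit : IsUnit (s (p i) l) := by
        rwa [IsLocalRing.mem_maximalIdeal, mem_nonunits_iff, not_not] at hl
      obtain ⟨w, hw⟩ := hunit
      let φ : P →ₗ[A] A := (↑w⁻¹ : A) • (Finsupp.lapply l ∘ₗ s)
      have hφ : φ (p i) = 1 := by
        simp only [φ, LinearMap.smul_apply, LinearMap.coe_comp, Function.comp_apply,
          Finsupp.lapply_apply, smul_eq_mul, ← hw, Units.inv_mul]
      let e := splitEquiv φ (p i) hφ
      let K := LinearMap.ker φ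
      let ρ : P →ₗ[A] K := LinearMap.fst A K A ∘ₗ e.toLinearMap
      let ι : K →ₗ[A] P := e.symm.toLinearMap ∘ₗ LinearMap.inl A K A
      have hρι : ρ ∘ₗ ι = LinearMap.id := by
        ext k
        simp [ρ, ι]
      haveI : Module.Projective A K := Module.Projective.of_split ι ρ hρι
      have hρ : ∀ q : P, ((ρ q : K) : P) = q - φ q • p i := fun q => rfl
      have hρK : ∀ k : K, ρ (k : P) = k := by
        intro k
        apply Subtype.ext
        rw [hρ]
        have : φ (k : P) = 0 := k.2
        rw [this, zero_smul, sub_zero]
      -- the new generating family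
      have hK : Submodule.span A (Set.range (fun j : Fin n => ρ (p (i.succAbove j)))) ⊔
          (IsLocalRing.maximalIdeal A • ⊤ : Submodule A K) = ⊤ := by
        rw [eq_top_iff]
        intro k _
        have hk : (k : P) ∈ Submodule.span A (Set.range p) ⊔
            (IsLocalRing.maximalIdeal A • ⊤ : Submodule A P) := by rw [h]; trivial
        obtain ⟨y, hy, z, hz, hyz⟩ := Submodule.mem_sup.mp hk
        have h1 : k = ρ y + ρ z := by rw [← map_add, hyz, hρK]
        rw [h1]
        refine Submodule.add_mem_sup ?_ ?_
        · -- ρ y in the span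
          have : Submodule.span A (Set.range p) ≤
              (Submodule.span A (Set.range (fun j : Fin n => ρ (p (i.succAbove j))))).comap ρ := by
            rw [Submodule.span_le]
            rintro _ ⟨j, rfl⟩
            rw [SetLike.mem_coe, Submodule.mem_comap]
            rcases eq_or_ne j i with rfl | hji
            · have : ρ (p j) = 0 := by
                apply Subtype.ext
                rw [hρ, hφ, one_smul, sub_self]; rfl
              rw [this]; exact Submodule.zero_mem _
            · obtain ⟨j', rfl⟩ := Fin.exists_succAbove_eq hji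
              exact Submodule.subset_span ⟨j', rfl⟩
          exact this hy
        · -- ρ z in 𝔪 K
          have : (IsLocalRing.maximalIdeal A • ⊤ : Submodule A P) ≤
              (IsLocalRing.maximalIdeal A • ⊤ : Submodule A K).comap ρ := by
            rw [Submodule.smul_le]
            intro r hr q _
            rw [Submodule.mem_comap, map_smul]
            exact Submodule.smul_mem_smul hr trivial
          exact this hz
      haveI : Module.Finite A K := ih K _ hK
      exact Module.Finite.equiv e.symm

/-- a projective module, generated modulo a maximal ideal `𝔪` by finitely many elements, has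
finitely generated localization at `𝔪`. -/
theorem localized_finite_of_span (R : Type u) [CommRing R] (𝔪 : Ideal R) [𝔪.IsMaximal]
    (P : Type u) [AddCommGroup P] [Module R P] [Module.Projective R P] (n : ℕ) (p : Fin n → P)
    (h : Submodule.span R (Set.range p) ⊔ (𝔪 • ⊤ : Submodule R P) = ⊤) :
    Module.Finite (Localization.AtPrime 𝔪) (LocalizedModule 𝔪.primeCompl P) := by
  set A := Localization.AtPrime 𝔪
  set S := 𝔪.primeCompl
  let mk := LocalizedModule.mkLinearMap S P
  refine finite_of_span_sup_smul_eq_top n (LocalizedModule S P) (fun i => mk (p i)) ?_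
  rw [eq_top_iff]
  intro y _
  set W : Submodule A (LocalizedModule S P) :=
    Submodule.span A (Set.range (fun i => mk (p i))) ⊔
      (IsLocalRing.maximalIdeal A • ⊤ : Submodule A (LocalizedModule S P)) with hW
  obtain ⟨⟨q, t⟩, hqt⟩ := IsLocalizedModule.surj S mk y
  -- mk q ∈ W
  have hmk : ∀ q : P, mk q ∈ W := by
    intro q
    have hq : q ∈ Submodule.span R (Set.range p) ⊔ (𝔪 • ⊤ : Submodule R P) := by rw [h]; trivial
    obtain ⟨a, ha, b, hb, rfl⟩ := Submodule.mem_sup.mp hq
    rw [map_add]
    refine W.add_mem ?_ ?_
    · have : Submodule.span R (Set.range p) ≤ (W.restrictScalars R).comap mk := by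
        rw [Submodule.span_le]
        rintro _ ⟨i, rfl⟩
        exact Submodule.mem_sup_left (Submodule.subset_span ⟨i, rfl⟩)
      exact this ha
    · have : (𝔪 • ⊤ : Submodule R P) ≤ (W.restrictScalars R).comap mk := by
        rw [Submodule.smul_le]
        intro r hr q' _
        show mk (r • q') ∈ W
        rw [map_smul, ← algebraMap_smul A r (mk q')]
        refine Submodule.mem_sup_right (Submodule.smul_mem_smul ?_ trivial)
        exact (IsLocalization.AtPrime.to_map_mem_maximal_iff A 𝔪 r).mpr hr
      exact this hb
  have h1 : (t : R) • y ∈ W := by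
    have : (t : R) • y = mk q := hqt
    rw [this]; exact hmk q
  have hu : IsUnit (algebraMap R A (t : R)) := IsLocalization.map_units A t
  obtain ⟨w, hw⟩ := hu
  have h2 : y = (↑w⁻¹ : A) • ((t : R) • y) := by
    rw [← algebraMap_smul A (t : R) y, ← hw, smul_smul, Units.inv_mul, one_smul]
  rw [h2]
  exact W.smul_mem _ h1

end Groth.Agent.Lib.helper11.Big1
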