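import Mathlib
import Groth.Agent.Lib.helper11.Big1

/-!
# Big projective modules, part 2: Bass' unimodular element lemma
-/

set_option autoImplicit false

namespace Groth.Agent.Lib.helper11.Big2

open scoped BigOperators
open Groth.Agent.Lib.helper11.Big1

universe u

theorem isNoetherian_of_ring_quot {R : Type*} [CommRing R] (J : Ideal R)
    [IsNoetherianRing (R ⧸ J)] : IsNoetherian R (R ⧸ J) := by
  constructor
  intro N
  let N' : Ideal (R ⧸ J) :=
    { carrier := N
      add_mem' := N.add_mem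
      zero_mem' := N.zero_mem
      smul_mem' := by
        rintro c x hx
        obtain ⟨r, rfl⟩ := Ideal.Quotient.mk_surjective c
        exact N.smul_mem r hx }
  have hfg : N'.FG := IsNoetherian.noetherian N'
  obtain ⟨T, hT⟩ := hfg
  refine ⟨T, ?_⟩
  have h1 := Submodule.restrictScalars_span R (R ⧸ J)
    (show Function.Surjective (algebraMap R (R ⧸ J)) from Ideal.Quotient.mk_surjective)
    (T : Set (R ⧸ J))
  have h2 : Submodule.span (R ⧸ J) (T : Set (R ⧸ J)) = N' := hT
  rw [← h1, h2]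
  ext x
  rfl

theorem main (R : Type u) [CommRing R] [IsNoetherianRing (R ⧸ (⊥ : Ideal R).jacobson)]
    (P : Type u) [AddCommGroup P] [Module R P] [Module.Projective R P]
    (hP : ∀ (m : Ideal R) [m.IsMaximal],
      ¬ Module.Finite (Localization.AtPrime m) (LocalizedModule m.primeCompl P))
    (s : P) (M : Submodule R P) (hM : Submodule.span R {s} ⊔ M = ⊤) :
    ∃ m ∈ M, ∃ φ : P →ₗ[R] R, φ (s + m) = 1 := by
  classical
  set J : Ideal R := (⊥ : Ideal R).jacobson with hJ
  haveI : IsNoetherian R (R ⧸ J) := isNoetherian_of_ring_quot J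
  obtain ⟨sec, hsec⟩ := Module.projective_def'.mp ‹Module.Projective R P›
  -- order ideals
  let o : P → Ideal R := fun p => LinearMap.range (LinearMap.applyₗ p : (P →ₗ[R] R) →ₗ[R] R)
  have coord_mem : ∀ p l, sec p l ∈ o p := fun p l => ⟨Finsupp.lapply l ∘ₗ sec, rfl⟩
  have o_le : ∀ (p : P) (I : Ideal R), (∀ l, sec p l ∈ I) → o p ≤ I := by
    rintro p I h _ ⟨φ, rfl⟩
    have h1 : p = Finsupp.linearCombination R id (sec p) := (LinearMap.congr_fun hsec p).symm
    show φ p ∈ I
    rw [h1, Finsupp.linearCombination_apply, Finsupp.sum, map_sum]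
    exact I.sum_mem (fun l _ => by
      rw [map_smul]; exact I.mul_mem_right _ (h l))
  have mem_sup_of_mk_mem : ∀ (I : Ideal R) (x : R),
      Ideal.Quotient.mk J x ∈ I.map (Ideal.Quotient.mk J) → x ∈ I ⊔ J := by
    intro I x hx
    obtain ⟨a, ha, hax⟩ := (Ideal.mem_map_iff_of_surjective _ Ideal.Quotient.mk_surjective).mp hx
    have : x - a ∈ J := by
      rw [← Ideal.Quotient.eq_zero_iff_mem, map_sub, hax, sub_self]
    have h2 : x = a + (x - a) := by ring
    rw [h2]
    exact Submodule.add_mem_sup ha this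
  -- a maximal order ideal modulo J
  let 𝒮 : Set (Ideal (R ⧸ J)) := {I | ∃ m ∈ M, I = (o (s + m)).map (Ideal.Quotient.mk J)}
  have h𝒮 : 𝒮.Nonempty := ⟨_, 0, M.zero_mem, rfl⟩
  obtain ⟨I₀, ⟨m₀, hm₀, rfl⟩, hmax⟩ := set_has_maximal_iff_noetherian.mpr
    (inferInstance : IsNoetherian (R ⧸ J) (R ⧸ J)) 𝒮 h𝒮
  set σ : P := s + m₀ with hσ
  have hclaim : o σ ⊔ J = ⊤ := by
    by_contra hne
    obtain ⟨𝔪, h𝔪, hle⟩ := Ideal.exists_le_maximal _ hne
    haveI := h𝔪
    have hJ𝔪 : J ≤ 𝔪 := le_sup_right.trans hle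
    have hσ𝔪 : o σ ≤ 𝔪 := le_sup_left.trans hle
    set J₀ : Finset P := (sec σ).support with hJ₀
    set M' : Submodule R P := M ⊔ (J • ⊤ : Submodule R P) with hM'
    -- P ⧸ M' is noetherian
    have hJker : (J : Submodule R R) ≤
        LinearMap.ker (LinearMap.toSpanSingleton R (P ⧸ M') (M'.mkQ s)) := by
      intro r hr
      rw [LinearMap.mem_ker, LinearMap.toSpanSingleton_apply, ← map_smul,
        Submodule.mkQ_apply, Submodule.Quotient.mk_eq_zero]
      exact Submodule.mem_sup_right (Submodule.smul_mem_smul hr trivial)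
    let f : (R ⧸ J) →ₗ[R] (P ⧸ M') :=
      Submodule.liftQ J (LinearMap.toSpanSingleton R (P ⧸ M') (M'.mkQ s)) hJker
    have hf : LinearMap.range f = ⊤ := by
      rw [eq_top_iff]
      rintro y -
      obtain ⟨q, rfl⟩ := Submodule.mkQ_surjective _ y
      have hq : q ∈ Submodule.span R {s} ⊔ M := by rw [hM]; trivial
      obtain ⟨a, ha, b, hb, rfl⟩ := Submodule.mem_sup.mp hq
      obtain ⟨c, rfl⟩ := Submodule.mem_span_singleton.mp ha
      refine ⟨Submodule.Quotient.mk c, ?_⟩
      have hb' : M'.mkQ b = 0 := by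
        rw [Submodule.mkQ_apply, Submodule.Quotient.mk_eq_zero]
        exact Submodule.mem_sup_left hb
      rw [map_add, hb', add_zero, map_smul]
      rfl
    haveI : IsNoetherian R (P ⧸ M') := isNoetherian_of_surjective f hf
    -- the map Ψ
    let Ψ : P →ₗ[R] ((J₀ → R ⧸ J) × (P ⧸ M')) :=
      LinearMap.prod (LinearMap.pi fun j : J₀ => (Submodule.mkQ J) ∘ₗ Finsupp.lapply (j : P) ∘ₗ sec)
        M'.mkQ
    have hfg : (LinearMap.range Ψ).FG := IsNoetherian.noetherian _
    obtain ⟨n, g, hg⟩ := Submodule.fg_iff_exists_fin_generating_family.mp hfg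
    have hgmem : ∀ i, g i ∈ LinearMap.range Ψ := fun i => by
      rw [← hg]; exact Submodule.subset_span ⟨i, rfl⟩
    choose p hp using hgmem
    have hspan : Submodule.span R (Set.range p) ⊔ LinearMap.ker Ψ = ⊤ := by
      rw [eq_top_iff]
      intro q _
      have h1 : Ψ q ∈ Submodule.span R (Set.range g) := by rw [hg]; exact ⟨q, rfl⟩
      have h2 : Set.range g = Ψ '' Set.range p := by
        rw [← Set.range_comp]
        congr 1
        funext i
        exact (hp i).symm
      rw [h2, ← Submodule.map_span] at h1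
      obtain ⟨y, hy, hyq⟩ := h1
      have h3 : q = y + (q - y) := by abel
      rw [h3]
      refine Submodule.add_mem_sup hy ?_
      rw [LinearMap.mem_ker, map_sub, hyq, sub_self]
    -- an element of the kernel outside 𝔪 P
    have hex : ∃ q ∈ LinearMap.ker Ψ, q ∉ (𝔪 • ⊤ : Submodule R P) := by
      by_contra hcon
      push Not at hcon
      have h1 : Submodule.span R (Set.range p) ⊔ (𝔪 • ⊤ : Submodule R P) = ⊤ := by
        rw [eq_top_iff]
        calc (⊤ : Submodule R P) = Submodule.span R (Set.range p) ⊔ LinearMap.ker Ψ := hspan.symm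
          _ ≤ _ := sup_le_sup_left hcon _
      exact hP 𝔪 (localized_finite_of_span R 𝔪 P n p h1)
    obtain ⟨q, hqker, hq𝔪⟩ := hex
    have hq1 : ∀ j ∈ J₀, sec q j ∈ J := by
      intro j hj
      have h1 := congrArg Prod.fst (LinearMap.mem_ker.mp hqker)
      have h2 := congrFun h1 ⟨j, hj⟩
      simp only [Ψ, LinearMap.prod_apply, LinearMap.pi_apply, LinearMap.coe_comp,
        Function.comp_apply, Finsupp.lapply_apply, Submodule.mkQ_apply, Prod.fst_zero,
        Pi.zero_apply, Pi.prod] at h2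
      exact (Submodule.Quotient.mk_eq_zero J).mp h2
    have hq2 : q ∈ M' := by
      have h1 := congrArg Prod.snd (LinearMap.mem_ker.mp hqker)
      simp only [Ψ, LinearMap.prod_apply, Pi.prod, Prod.snd_zero, Submodule.mkQ_apply] at h1
      exact (Submodule.Quotient.mk_eq_zero M').mp h1
    obtain ⟨m, hm, j', hj', hmj⟩ := Submodule.mem_sup.mp hq2
    have hj'𝔪 : j' ∈ (𝔪 • ⊤ : Submodule R P) :=
      Submodule.smul_mono_left hJ𝔪 hj'
    have hm𝔪 : m ∉ (𝔪 • ⊤ : Submodule R P) := by
      intro h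
      apply hq𝔪
      rw [← hmj]
      exact Submodule.add_mem _ h hj'𝔪
    have hm1 : ∀ j ∈ J₀, sec m j ∈ J := by
      intro j hj
      have h0 : sec q j = sec m j + sec j' j := by
        rw [← hmj, map_add, Finsupp.add_apply]
      have h1 : sec m j = sec q j - sec j' j := by
        rw [h0]; ring
      rw [h1]
      exact J.sub_mem (hq1 j hj) (coord_mem_of_mem_smul_top sec J hj' j)
    have hl₀ : ∃ l₀, sec m l₀ ∉ 𝔪 := by
      by_contra hcon
      push Not at hcon
      exact hm𝔪 (mem_smul_top_of_coord_mem sec hsec 𝔪 hcon)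
    obtain ⟨l₀, hl₀⟩ := hl₀
    have hl₀J : l₀ ∉ J₀ := fun h => hl₀ (hJ𝔪 (hm1 l₀ h))
    -- compare the order ideals
    have hmem𝒮 : (o (σ + m)).map (Ideal.Quotient.mk J) ∈ 𝒮 :=
      ⟨m₀ + m, M.add_mem hm₀ hm, by rw [hσ, add_assoc]⟩
    have hle01 : (o σ).map (Ideal.Quotient.mk J) ≤ (o (σ + m)).map (Ideal.Quotient.mk J) := by
      rw [Ideal.map_le_iff_le_comap]
      apply o_le
      intro l
      rw [Ideal.mem_comap]
      by_cases hl : l ∈ J₀
      · have h0 : sec (σ + m) l = sec σ l + sec m l := by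
          rw [map_add sec σ m, Finsupp.add_apply]
        have h1 : sec σ l = sec (σ + m) l - sec m l := by
          rw [h0]; ring
        rw [h1, map_sub, Ideal.Quotient.eq_zero_iff_mem.mpr (hm1 l hl), sub_zero]
        exact Ideal.mem_map_of_mem _ (coord_mem _ _)
      · have h1 : sec σ l = 0 := Finsupp.notMem_support_iff.mp hl
        rw [h1, map_zero]
        exact Ideal.zero_mem _
    have heq : (o (σ + m)).map (Ideal.Quotient.mk J) = (o σ).map (Ideal.Quotient.mk J) := by
      by_contra hne'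
      exact hmax _ hmem𝒮 (lt_of_le_of_ne hle01 (Ne.symm hne'))
    have h1 : sec (σ + m) l₀ ∈ o σ ⊔ J := by
      apply mem_sup_of_mk_mem
      rw [← heq]
      exact Ideal.mem_map_of_mem _ (coord_mem _ _)
    have h2 : sec (σ + m) l₀ = sec m l₀ := by
      rw [map_add sec σ m, Finsupp.add_apply, Finsupp.notMem_support_iff.mp hl₀J, zero_add]
    rw [h2] at h1
    exact hl₀ (hle h1)
  -- conclusion
  have h1 : (1 : R) ∈ o σ ⊔ J := by rw [hclaim]; trivial
  obtain ⟨a, ⟨φ, rfl⟩, b, hb, hab⟩ := Submodule.mem_sup.mp h1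
  have hab' : φ σ + b = 1 := hab
  have hu : IsUnit (φ σ) := by
    apply Ideal.isUnit_of_sub_one_mem_jacobson_bot
    have : φ σ - 1 = -b := by rw [← hab']; ring
    rw [this]
    exact J.neg_mem hb
  obtain ⟨w, hw⟩ := hu
  refine ⟨m₀, hm₀, (↑w⁻¹ : R) • φ, ?_⟩
  rw [LinearMap.smul_apply, smul_eq_mul, ← hσ, ← hw, Units.inv_mul]

end Groth.Agent.Lib.helper11.Big2
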