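import Mathlib
import Groth.Statements.S7839
import Groth.Agent.Lib.helper19.RestrUniv4
import Groth.Agent.Lib.Helper29.OmegaUniv
import Groth.Agent.Lib.Helper4.GrpSmoothFib
import Groth.Agent.Lib.Helper16.RS6
import Groth.Agent.Lib.Helper23.ProjF.ProjMap
import Groth.Agent.Lib.Helper28.AmpleUnit
import Groth.Agent.Lib.helper11.H0Geom
import Groth.Agent.S1937

/-!
# Differentials of abelian schemes (helper11), S7839
-/

set_option autoImplicit false
universe u

open CategoryTheory Limits MonoidalCategory CartesianMonoidalCategory MonObj GrpObj AlgebraicGeometry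

namespace Groth.Agent.Lib.helper11.AbOmega

/-- the sheaf of differentials of a smooth quasi-separated morphism is finite locally free -/
theorem isFinLocFree_omega {X S : Scheme.{u}} (f : X ⟶ S) [Smooth f] [QuasiSeparated f] :
    FlatMod.IsFinLocFree (Omega.sheaf f) := by
  intro x
  obtain ⟨U, n, hxU, hiso, -⟩ :=
    Groth.Agent.Lib.Helper19.RestrUniv4.exists_free_nhd_of_smooth f (Omega.sheaf f)
      (OmegaSh.dOmega f) (Groth.Agent.Lib.Helper29.OmegaUniv.isUniversal_dOmega f) x
  exact ⟨U, n, hxU, hiso⟩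

theorem part1 {S : Scheme.{u}} (X : Over S) [GrpObj X] [IsProper X.hom] [Flat X.hom]
    [LocallyOfFinitePresentation X.hom] [GeometricallyReduced X.hom] :
    FlatMod.IsFinLocFree ((Scheme.Modules.pullback η[X].left).obj (Omega.sheaf X.hom)) := by
  haveI : Smooth X.hom := by
    haveI : GrpObj (Over.mk X.hom) := inferInstanceAs (GrpObj X)
    exact Groth.Agent.Lib.Helper4.GrpSmoothFib.smooth_of_flat_geometricallyReduced X.hom
  exact Groth.Agent.Lib.Helper16.RS.isFinLocFree_pullback _ _ (isFinLocFree_omega X.hom)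

open Groth.Agent.Lib.Helper2.GSplit2 in
/-- `O_S ≅ f_* O_X` as modules -/
theorem isIso_unitToPush {X S : Scheme.{u}} (f : X ⟶ S) (h : ∀ V : S.Opens, IsIso (f.app V)) :
    IsIso (ClSub.unitToPush f) := by
  refine Groth.Agent.Lib.Helper28.TensorIso.isIso_of_bijective_on_basis _ (fun _ => True)
    (fun U x hx => ⟨U, trivial, hx, le_rfl⟩) ?_
  intro W _
  haveI := h W
  have hb : Function.Bijective (f.app W).hom :=
    (ConcreteCategory.isIso_iff_bijective (f.app W)).mp inferInstance
  constructor
  · intro a b hab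
    exact hb.1 hab
  · intro b
    obtain ⟨a, ha⟩ := hb.2 b
    exact ⟨a, ha⟩

open Groth.Agent.Lib.Helper2.GSplit2 in
theorem nonempty_TL_unit {X : Scheme.{u}} (M : X.Modules) :
    Nonempty ((TL M).obj (Coh.structureModule X) ≅ M) :=
  Groth.Agent.Lib.Helper28.AmpleUnit.nonempty_tensor_unit_iso M

open Groth.Agent.Lib.Helper2.GSplit2 in
/-- `f_* f^* E ≅ E` for `E` finite locally free when `O_S ≅ f_* O_X` -/
theorem nonempty_push_pull_iso {X S : Scheme.{u}} (f : X ⟶ S) [IsIso (ClSub.unitToPush f)]
    (E : S.Modules) (hE : FlatMod.IsFinLocFree E) :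
    Nonempty ((Scheme.Modules.pushforward f).obj ((Scheme.Modules.pullback f).obj E) ≅ E) := by
  let uO := asIso (ClSub.unitToPush f)
  obtain ⟨ru⟩ := nonempty_TL_unit ((Scheme.Modules.pullback f).obj E)
  let c2 : (Scheme.Modules.pushforward f).obj ((Scheme.Modules.pullback f).obj E) ≅
      (Scheme.Modules.pushforward f).obj
        ((TL ((Scheme.Modules.pullback f).obj E)).obj (Coh.structureModule X)) :=
    (Scheme.Modules.pushforward f).mapIso ru.symm
  let c3 : (Scheme.Modules.pushforward f).obj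
        ((TL ((Scheme.Modules.pullback f).obj E)).obj (Coh.structureModule X)) ≅
      (TL E).obj ((Scheme.Modules.pushforward f).obj (Coh.structureModule X)) :=
    ((Groth.Agent.Lib.Helper23.ProjF.projNatIso f E hE).app (Coh.structureModule X)).symm
  let c4 : (TL E).obj ((Scheme.Modules.pushforward f).obj (Coh.structureModule X)) ≅
      (TL E).obj (Coh.structureModule S) := (TL E).mapIso uO.symm
  obtain ⟨c5⟩ := nonempty_TL_unit E
  exact ⟨c2 ≪≫ c3 ≪≫ c4 ≪≫ c5⟩

/-- `e^* f^* C ≅ C` for a section -/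
noncomputable def pullSection {X S : Scheme.{u}} (f : X ⟶ S) (e : S ⟶ X) (hef : e ≫ f = 𝟙 S)
    (C : S.Modules) :
    (Scheme.Modules.pullback e).obj ((Scheme.Modules.pullback f).obj C) ≅ C :=
  (Scheme.Modules.pullbackComp e f).app C ≪≫
    (Scheme.Modules.pullbackCongr hef).app C ≪≫ (Scheme.Modules.pullbackId S).app C

theorem part2 {S : Scheme.{u}} (X : Over S) [GrpObj X] [IsProper X.hom] [Flat X.hom]
    [LocallyOfFinitePresentation X.hom] [GeometricallyReduced X.hom]
    [GeometricallyConnected X.hom] :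
    Nonempty ((Coh.push X.hom).obj (Omega.sheaf X.hom) ≅
      (Scheme.Modules.pullback η[X].left).obj (Omega.sheaf X.hom)) := by
  have hef : η[X].left ≫ X.hom = 𝟙 S := by simpa using Over.w η[X]
  obtain ⟨e1⟩ := (Groth.Agent.S1937.result S X).1
  let e2 : (Scheme.Modules.pullback η[X].left).obj (Omega.sheaf X.hom) ≅
      Omega.conormal η[X].left :=
    (Scheme.Modules.pullback η[X].left).mapIso e1 ≪≫ pullSection X.hom η[X].left hef _
  let e3 : Omega.sheaf X.hom ≅ (Scheme.Modules.pullback X.hom).obj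
      ((Scheme.Modules.pullback η[X].left).obj (Omega.sheaf X.hom)) :=
    e1 ≪≫ (Scheme.Modules.pullback X.hom).mapIso e2.symm
  have hE := part1 X
  haveI : IsIso (ClSub.unitToPush X.hom) := by
    apply isIso_unitToPush
    intro V
    apply Groth.Agent.Lib.helper11.H0.isIso_app_of_geometric X.hom
    intro K _ _ y
    exact ⟨GeometricallyReduced.geometrically_isReduced y _ _ (.of_hasPullback _ _),
      GeometricallyConnected.geometrically_connectedSpace y _ _ (.of_hasPullback _ _)⟩
  obtain ⟨c⟩ := nonempty_push_pull_iso X.hom _ hE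
  exact ⟨(Scheme.Modules.pushforward X.hom).mapIso e3 ≪≫ c⟩

end Groth.Agent.Lib.helper11.AbOmega
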