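import Mathlib
import Groth.Statements.S15144
import Groth.Agent.Lib.helper11.AbOmega

/-!
# Global 1-forms on abelian schemes are invariant (helper11), S15144
-/

set_option autoImplicit false
universe u

open CategoryTheory Limits MonoidalCategory CartesianMonoidalCategory MonObj GrpObj AlgebraicGeometry
  Opposite

namespace Groth.Agent.Lib.helper11.AbOmega2

open Groth.Agent.Lib.Helper8.PullBasis Groth.Agent.Lib.Helper28.PullbackInv
  Groth.Agent.Lib.Helper28.QCohLoc

/-- the unit `E ⟶ f_* f^* E` is an isomorphism for `E` finite locally free when `f^♯` is bijective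
on all opens -/
theorem isIso_unit_of_isFinLocFree {X S : Scheme.{u}} (f : X ⟶ S)
    (h : ∀ V : S.Opens, IsIso (f.app V)) (E : S.Modules) (hE : FlatMod.IsFinLocFree E) :
    IsIso ((Scheme.Modules.pullbackPushforwardAdjunction f).unit.app E) := by
  refine Groth.Agent.Lib.Helper28.TensorIso.isIso_of_bijective_on_basis _
    (fun W => ∃ (n : ℕ) (τ : Fin n → Γ(E, W)), IsFreeBasisOn E W τ) ?_ ?_
  · intro U x hx
    obtain ⟨U₀, n, hxU₀, ⟨e⟩⟩ := hE x
    obtain ⟨τ, hτ⟩ := exists_isFreeBasisOn_of_iso E U₀ n e
    exact ⟨U₀ ⊓ U, ⟨n, _, hτ.mono inf_le_left⟩, ⟨hxU₀, hx⟩, inf_le_right⟩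
  · rintro W ⟨n, τ, hτ⟩
    change Function.Bijective (pbs f E W)
    have h1 := hτ W le_rfl
    have h2 := isFreeBasisOn_pbs (f := f) hτ (f ⁻¹ᵁ W) le_rfl
    haveI := h W
    have hb : Function.Bijective (f.app W).hom :=
      (ConcreteCategory.isIso_iff_bijective (f.app W)).mp inferInstance
    have hb' : Function.Bijective (fun c : Fin n → Γ(S, W) => fun j => (f.app W).hom (c j)) := by
      constructor
      · intro c c' hcc
        funext j
        exact hb.1 (congrFun hcc j)
      · intro c'
        choose c hc using fun j => hb.2 (c' j)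
        exact ⟨c, funext hc⟩
    have hcomp : (pbs f E W) ∘ (fun c : Fin n → Γ(S, W) => (∑ j, c j • res E (le_refl W) (τ j) : Γ(E, W))) =
        (fun c : Fin n → Γ(X, f ⁻¹ᵁ W) => (∑ j, c j • res _ (le_refl (f ⁻¹ᵁ W)) (pbs f E W (τ j)) :
          Γ((Scheme.Modules.pullback f).obj E, f ⁻¹ᵁ W))) ∘
        (fun c : Fin n → Γ(S, W) => fun j => (f.app W).hom (c j)) := by
      funext c
      simp only [Function.comp_apply]
      rw [pbs_sum]
      refine Finset.sum_congr rfl fun j _ => ?_
      rw [pbs_smul, res_self, res_self]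
    have h3 : Function.Bijective ((pbs f E W) ∘
        (fun c : Fin n → Γ(S, W) => (∑ j, c j • res E (le_refl W) (τ j) : Γ(E, W)))) := by
      rw [hcomp]
      exact h2.comp hb'
    exact (Function.Bijective.of_comp_iff (pbs f E W) h1).mp h3

/-- for a section `e` of `f`, the composite of units `M ⟶ f_* f^* M ⟶ f_* e_* e^* f^* M` is an
isomorphism -/
theorem isIso_comp_unit {X S : Scheme.{u}} (f : X ⟶ S) (e : S ⟶ X) (hef : e ≫ f = 𝟙 S)
    (M : S.Modules) :
    IsIso ((Scheme.Modules.pullbackPushforwardAdjunction f).unit.app M ≫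
      (Scheme.Modules.pushforward f).map
        ((Scheme.Modules.pullbackPushforwardAdjunction e).unit.app
          ((Scheme.Modules.pullback f).obj M))) := by
  let adj := (Scheme.Modules.pullbackPushforwardAdjunction f).comp
    (Scheme.Modules.pullbackPushforwardAdjunction e)
  have iL : Scheme.Modules.pullback f ⋙ Scheme.Modules.pullback e ≅ 𝟭 S.Modules :=
    Scheme.Modules.pullbackComp e f ≪≫ Scheme.Modules.pullbackCongr hef ≪≫
      Scheme.Modules.pullbackId S
  haveI : (Scheme.Modules.pullback f ⋙ Scheme.Modules.pullback e).Full :=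
    Functor.Full.of_iso iL.symm
  haveI : (Scheme.Modules.pullback f ⋙ Scheme.Modules.pullback e).Faithful :=
    Functor.Faithful.of_iso iL.symm
  have h1 : IsIso (adj.unit.app M) := inferInstance
  rwa [Adjunction.comp_unit_app] at h1

theorem main {S : Scheme.{u}} (A : Over S) [GrpObj A]
    [IsProper A.hom] [Flat A.hom] [LocallyOfFinitePresentation A.hom]
    [GeometricallyReduced A.hom] [GeometricallyConnected A.hom] :
    Function.Bijective
      (((Scheme.Modules.pullbackPushforwardAdjunction η[A].left).unit.app
        (Omega.sheaf A.hom)).val.app (op ⊤)).hom := by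
  have hef : η[A].left ≫ A.hom = 𝟙 S := by simpa using Over.w η[A]
  obtain ⟨e1⟩ := (Groth.Agent.S1937.result S A).1
  set E := (Scheme.Modules.pullback η[A].left).obj (Omega.sheaf A.hom) with hEdef
  let e2 : E ≅ Omega.conormal η[A].left :=
    (Scheme.Modules.pullback η[A].left).mapIso e1 ≪≫ AbOmega.pullSection A.hom η[A].left hef _
  let e3 : Omega.sheaf A.hom ≅ (Scheme.Modules.pullback A.hom).obj E :=
    e1 ≪≫ (Scheme.Modules.pullback A.hom).mapIso e2.symm
  have hE : FlatMod.IsFinLocFree E := AbOmega.part1 A
  have hiso : ∀ V : S.Opens, IsIso (A.hom.app V) := by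
    intro V
    apply Groth.Agent.Lib.helper11.H0.isIso_app_of_geometric A.hom
    intro K _ _ y
    exact ⟨GeometricallyReduced.geometrically_isReduced y _ _ (.of_hasPullback _ _),
      GeometricallyConnected.geometrically_connectedSpace y _ _ (.of_hasPullback _ _)⟩
  haveI hu : IsIso ((Scheme.Modules.pullbackPushforwardAdjunction A.hom).unit.app E) :=
    isIso_unit_of_isFinLocFree A.hom hiso E hE
  have hc := isIso_comp_unit A.hom η[A].left hef E
  -- `f_* (u^e_{f^* E})` is an isomorphism
  haveI h2 : IsIso ((Scheme.Modules.pushforward A.hom).map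
      ((Scheme.Modules.pullbackPushforwardAdjunction η[A].left).unit.app
        ((Scheme.Modules.pullback A.hom).obj E))) :=
    IsIso.of_isIso_comp_left ((Scheme.Modules.pullbackPushforwardAdjunction A.hom).unit.app E) _
  -- naturality of the unit along `e3`
  have hnat : e3.hom ≫ (Scheme.Modules.pullbackPushforwardAdjunction η[A].left).unit.app
        ((Scheme.Modules.pullback A.hom).obj E) =
      (Scheme.Modules.pullbackPushforwardAdjunction η[A].left).unit.app (Omega.sheaf A.hom) ≫
        (Scheme.Modules.pullback η[A].left ⋙ Scheme.Modules.pushforward η[A].left).map e3.hom :=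
    (Scheme.Modules.pullbackPushforwardAdjunction η[A].left).unit.naturality e3.hom
  -- `f_* (u^e_Ω)` is an isomorphism
  have h3 : IsIso ((Scheme.Modules.pushforward A.hom).map
      ((Scheme.Modules.pullbackPushforwardAdjunction η[A].left).unit.app (Omega.sheaf A.hom))) := by
    have hEq : (Scheme.Modules.pullbackPushforwardAdjunction η[A].left).unit.app
        (Omega.sheaf A.hom) = e3.hom ≫
        (Scheme.Modules.pullbackPushforwardAdjunction η[A].left).unit.app
          ((Scheme.Modules.pullback A.hom).obj E) ≫
        (Scheme.Modules.pullback η[A].left ⋙ Scheme.Modules.pushforward η[A].left).map e3.inv := by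
      rw [← Category.assoc, hnat, Category.assoc, ← Functor.map_comp, Iso.hom_inv_id,
        CategoryTheory.Functor.map_id, Category.comp_id]
    rw [hEq, Functor.map_comp, Functor.map_comp]
    infer_instance
  -- take global sections
  have h4 := (ConcreteCategory.isIso_iff_bijective (Scheme.Modules.Hom.app
    ((Scheme.Modules.pushforward A.hom).map
      ((Scheme.Modules.pullbackPushforwardAdjunction η[A].left).unit.app (Omega.sheaf A.hom))) ⊤)).mp
    inferInstance
  exact h4

end Groth.Agent.Lib.helper11.AbOmega2
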