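import Mathlib

/-!
# The acyclicity lemma (Peskine–Szpiro), elementwise form (helper11)

A complex `… → M 2 → M 1 → M 0` with `d i = 0` for `i ≥ e`, a sequence `rs` of length `e`
weakly regular on every `M i`, and homology at `M (i+1)` (`i < e`) which is `s`-power torsion for
each `s ∈ rs`, is exact at `M (i+1)` for `i < e`.
-/

set_option autoImplicit false

namespace Groth.Agent.Lib.helper11.Acyclic

open RingTheory.Sequence Pointwise

universe u v

variable {R : Type u} [CommRing R]

lemma mem_smul_top_iff {M : Type v} [AddCommGroup M] [Module R M] (x : R) (m : M) :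
    m ∈ (x • ⊤ : Submodule R M) ↔ ∃ u, m = x • u := by
  rw [Submodule.mem_smul_pointwise_iff_exists]
  constructor
  · rintro ⟨u, -, rfl⟩
    exact ⟨u, rfl⟩
  · rintro ⟨u, rfl⟩
    exact ⟨u, trivial, rfl⟩

theorem acyclic (e : ℕ) : ∀ (M : ℕ → Type v) [∀ i, AddCommGroup (M i)] [∀ i, Module R (M i)]
    (d : ∀ i, M (i + 1) →ₗ[R] M i)
    (_hd : ∀ i (z : M (i + 2)), d i (d (i + 1) z) = 0)
    (_hz : ∀ i, e ≤ i → d i = 0)
    (rs : List R) (_hlen : rs.length = e)
    (_hreg : ∀ i, IsWeaklyRegular (M i) rs)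
    (_hfl : ∀ i, i < e → ∀ z, d i z = 0 → ∀ s ∈ rs, ∃ N : ℕ, ∃ w, d (i + 1) w = s ^ N • z),
    ∀ i, i < e → ∀ z, d i z = 0 → ∃ w, d (i + 1) w = z := by
  induction e with
  | zero =>
    intro M _ _ d _ _ rs _ _ _ i hi
    exact absurd hi (Nat.not_lt_zero _)
  | succ e ih =>
    intro M _ _ d hd hz rs hlen hreg hfl
    obtain ⟨x, rs', rfl⟩ : ∃ x rs', rs = x :: rs' := by
      cases rs with
      | nil => simp at hlen
      | cons x rs' => exact ⟨x, rs', rfl⟩
    have hlen' : rs'.length = e := by simpa using hlen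
    have hx : ∀ i, IsSMulRegular (M i) x := fun i =>
      ((isWeaklyRegular_cons_iff (M i) x rs').mp (hreg i)).1
    have hreg' : ∀ i, IsWeaklyRegular (QuotSMulTop x (M i)) rs' := fun i =>
      ((isWeaklyRegular_cons_iff (M i) x rs').mp (hreg i)).2
    -- the exactness of `M/x`
    have hE : ∀ j, j < e → ∀ z : M (j + 2), (∃ v, d (j + 1) z = x • v) →
        ∃ w u, z = d (j + 2) w + x • u := by
      have key := ih (fun j => QuotSMulTop x (M (j + 1)))
        (fun j => QuotSMulTop.map x (d (j + 1))) ?_ ?_ rs' hlen' (fun j => hreg' (j + 1)) ?_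
      · intro j hj z ⟨v, hv⟩
        obtain ⟨w', hw'⟩ := key j hj (Submodule.Quotient.mk z) (by
          rw [QuotSMulTop.map_apply_mk, Submodule.Quotient.mk_eq_zero, mem_smul_top_iff]
          exact ⟨v, hv⟩)
        obtain ⟨w, rfl⟩ := Submodule.Quotient.mk_surjective (x • ⊤ : Submodule R (M (j + 2 + 1))) w'
        rw [QuotSMulTop.map_apply_mk, Submodule.Quotient.eq, mem_smul_top_iff] at hw'
        obtain ⟨u, hu⟩ := hw'
        refine ⟨w, -u, ?_⟩
        rw [smul_neg, ← hu]
        abel
      · intro j z'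
        obtain ⟨z, rfl⟩ := Submodule.Quotient.mk_surjective (x • ⊤ : Submodule R (M (j + 2 + 1))) z'
        rw [QuotSMulTop.map_apply_mk, QuotSMulTop.map_apply_mk, hd]
        rfl
      · intro j hj
        rw [hz (j + 1) (by omega), map_zero]
      · intro j hj z' hz' s hs
        obtain ⟨z, rfl⟩ := Submodule.Quotient.mk_surjective (x • ⊤ : Submodule R (M (j + 1 + 1))) z'
        rw [QuotSMulTop.map_apply_mk, Submodule.Quotient.mk_eq_zero, mem_smul_top_iff] at hz'
        obtain ⟨v, hv⟩ := hz'
        have hdv : d j v = 0 := by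
          apply hx j
          change x • d j v = x • 0
          rw [smul_zero, ← map_smul, ← hv, hd]
        obtain ⟨N, y, hy⟩ := hfl j (by omega) v hdv s (List.mem_cons_of_mem _ hs)
        have hcyc : d (j + 1) (s ^ N • z - x • y) = 0 := by
          rw [map_sub, map_smul, map_smul, hy, hv, smul_comm, sub_self]
        obtain ⟨N', w, hw⟩ := hfl (j + 1) (by omega) _ hcyc s (List.mem_cons_of_mem _ hs)
        refine ⟨N' + N, Submodule.Quotient.mk w, ?_⟩
        rw [QuotSMulTop.map_apply_mk, hw, ← Submodule.Quotient.mk_smul, Submodule.Quotient.eq,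
          mem_smul_top_iff]
        refine ⟨-(s ^ N' • y), ?_⟩
        rw [smul_sub, pow_add, mul_smul, smul_neg, smul_comm x (s ^ N') y]
        abel
    -- `x` is injective on homology
    have hinj : ∀ i, i < e + 1 → ∀ z : M (i + 1), d i z = 0 → (∃ y, d (i + 1) y = x • z) →
        ∃ u, d (i + 1) u = z := by
      intro i hi z hz0 ⟨y, hy⟩
      by_cases hie : i < e
      · obtain ⟨w, u, hwu⟩ := hE i hie y ⟨z, hy⟩
        refine ⟨u, ?_⟩
        apply hx (i + 1)
        change x • d (i + 1) u = x • z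
        rw [← hy, hwu, map_add, hd, zero_add, map_smul]
      · have hie' : i = e := by omega
        subst hie'
        refine ⟨0, ?_⟩
        rw [map_zero]
        apply hx (i + 1)
        change x • (0 : M (i + 1)) = x • z
        rw [smul_zero, ← hy, hz (i + 1) le_rfl]
        rfl
    intro i hi z hz0
    obtain ⟨N, w, hw⟩ := hfl i hi z hz0 x (List.mem_cons_self)
    induction N generalizing w with
    | zero => exact ⟨w, by rw [hw, pow_zero, one_smul]⟩
    | succ N ihN =>
      have h1 : d i (x ^ N • z) = 0 := by rw [map_smul, hz0, smul_zero]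
      obtain ⟨u, hu⟩ := hinj i hi (x ^ N • z) h1 ⟨w, by rw [hw, pow_succ', mul_smul]⟩
      exact ihN u hu

end Groth.Agent.Lib.helper11.Acyclic
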