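import Mathlib
import Groth.Agent.Lib.helper11.Acyclic

/-!
# The acyclicity lemma for complexes of matrices (helper11)
-/

set_option autoImplicit false

namespace Groth.Agent.Lib.helper11.AcyclicMat

open RingTheory.Sequence Pointwise

universe u

variable {R : Type u} [CommRing R]

/-- If for every prime `p` not containing `s` some `t ∉ p` has `t • z ∈ S`, then a power of `s`
moves `z` into `S`. -/
theorem exists_pow_smul_mem {M : Type*} [AddCommGroup M] [Module R M] (S : Submodule R M) (z : M)
    (s : R)
    (h : ∀ (p : Ideal R) [p.IsPrime], s ∉ p → ∃ t, t ∉ p ∧ t • z ∈ S) :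
    ∃ N : ℕ, s ^ N • z ∈ S := by
  let I : Ideal R :=
    { carrier := {r | r • z ∈ S}
      add_mem' := fun {a b} ha hb => by
        change (a + b) • z ∈ S
        rw [add_smul]
        exact S.add_mem ha hb
      zero_mem' := by
        change (0 : R) • z ∈ S
        rw [zero_smul]
        exact S.zero_mem
      smul_mem' := fun c {a} ha => by
        change (c • a) • z ∈ S
        rw [smul_eq_mul, mul_smul]
        exact S.smul_mem c ha }
  by_contra hcon
  have hs : s ∉ I.radical := by
    rintro ⟨N, hN⟩
    exact hcon ⟨N, hN⟩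
  rw [Ideal.radical_eq_sInf, Submodule.mem_sInf] at hs
  push_neg at hs
  obtain ⟨p, ⟨hIp, hp⟩, hsp⟩ := hs
  obtain ⟨t, htp, htS⟩ := h p hsp
  exact htp (hIp htS)

/-- a vector dying in the localization is killed by an element outside `p`. -/
theorem exists_smul_eq_zero {b : ℕ} (p : Ideal R) [p.IsPrime] (v : Fin b → R)
    (hv : ∀ j, algebraMap R (Localization.AtPrime p) (v j) = 0) :
    ∃ u, u ∉ p ∧ u • v = 0 := by
  classical
  have h1 : ∀ j, ∃ m : p.primeCompl, (m : R) * v j = 0 := fun j =>
    (IsLocalization.map_eq_zero_iff p.primeCompl (Localization.AtPrime p) (v j)).mp (hv j)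
  choose m hm using h1
  refine ⟨((∏ j, m j : p.primeCompl) : R), (∏ j, m j : p.primeCompl).2, ?_⟩
  funext j
  rw [Pi.smul_apply, Pi.zero_apply, smul_eq_mul, Submonoid.coe_finsetProd,
    ← Finset.prod_erase_mul _ _ (Finset.mem_univ j), mul_assoc, hm j, mul_zero]

theorem localize_mulVec {a b : ℕ} (p : Ideal R) [p.IsPrime] (A : Matrix (Fin a) (Fin b) R)
    (z : Fin b → R) :
    (A.map (algebraMap R (Localization.AtPrime p))).mulVecLin
        (algebraMap R (Localization.AtPrime p) ∘ z) =
      algebraMap R (Localization.AtPrime p) ∘ (A.mulVecLin z) := by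
  funext i
  rw [Matrix.mulVecLin_apply, Function.comp_apply, Matrix.mulVecLin_apply, RingHom.map_mulVec]

/-- top case. -/
theorem torsion_of_ker_eq_bot {a b : ℕ} (A : Matrix (Fin a) (Fin b) R) (s : R)
    (hloc : ∀ (p : Ideal R) [p.IsPrime], s ∉ p →
      LinearMap.ker ((A.map (algebraMap R (Localization.AtPrime p))).mulVecLin) = ⊥)
    (z : Fin b → R) (hz : A.mulVecLin z = 0) : ∃ N : ℕ, s ^ N • z = 0 := by
  obtain ⟨N, hN⟩ := exists_pow_smul_mem (⊥ : Submodule R (Fin b → R)) z s (by
    intro p _ hsp
    have hker : (algebraMap R (Localization.AtPrime p) ∘ z) ∈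
        LinearMap.ker ((A.map (algebraMap R (Localization.AtPrime p))).mulVecLin) := by
      rw [LinearMap.mem_ker, localize_mulVec, hz]
      funext i
      simp
    rw [hloc p hsp, Submodule.mem_bot] at hker
    obtain ⟨u, hu, huz⟩ := exists_smul_eq_zero p z (fun j => congrFun hker j)
    exact ⟨u, hu, by rw [huz]; exact Submodule.zero_mem _⟩)
  exact ⟨N, (Submodule.mem_bot R).mp hN⟩

/-- middle case. -/
theorem torsion_of_ker_eq_range {a b c : ℕ} (A : Matrix (Fin a) (Fin b) R)
    (B : Matrix (Fin b) (Fin c) R) (s : R)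
    (hloc : ∀ (p : Ideal R) [p.IsPrime], s ∉ p →
      LinearMap.ker ((A.map (algebraMap R (Localization.AtPrime p))).mulVecLin) =
        LinearMap.range ((B.map (algebraMap R (Localization.AtPrime p))).mulVecLin))
    (z : Fin b → R) (hz : A.mulVecLin z = 0) : ∃ N : ℕ, ∃ w, B.mulVecLin w = s ^ N • z := by
  obtain ⟨N, w, hw⟩ := exists_pow_smul_mem (LinearMap.range B.mulVecLin) z s (by
    intro p _ hsp
    have hker : (algebraMap R (Localization.AtPrime p) ∘ z) ∈
        LinearMap.ker ((A.map (algebraMap R (Localization.AtPrime p))).mulVecLin) := by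
      rw [LinearMap.mem_ker, localize_mulVec, hz]
      funext i
      simp
    rw [hloc p hsp] at hker
    obtain ⟨w, hw⟩ := hker
    obtain ⟨t, ht⟩ := IsLocalization.exist_integer_multiples_of_finite p.primeCompl w
    choose w₀ hw₀ using ht
    -- `t • z - B w₀` dies in the localization
    obtain ⟨u, hu, huz⟩ := exists_smul_eq_zero p ((t : R) • z - B.mulVecLin w₀) (by
      intro j
      have h0 : (algebraMap R (Localization.AtPrime p) ∘ w₀) =
          (algebraMap R (Localization.AtPrime p) (t : R)) • w := by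
        funext l
        rw [Function.comp_apply, hw₀ l, Pi.smul_apply, Algebra.smul_def, smul_eq_mul]
      have h1 : (algebraMap R (Localization.AtPrime p) ∘ (B.mulVecLin w₀)) =
          (algebraMap R (Localization.AtPrime p) (t : R)) •
            (algebraMap R (Localization.AtPrime p) ∘ z) := by
        rw [← localize_mulVec, h0, map_smul, hw]
      have h2 := congrFun h1 j
      rw [Function.comp_apply, Pi.smul_apply, Function.comp_apply, smul_eq_mul] at h2
      rw [Pi.sub_apply, map_sub, Pi.smul_apply, smul_eq_mul, map_mul, h2, sub_self])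
    refine ⟨u * t, ?_, u • w₀, ?_⟩
    · exact fun h => (Ideal.IsPrime.mem_or_mem ‹_› h).elim hu t.2
    · rw [smul_sub, sub_eq_zero] at huz
      rw [map_smul, mul_smul, huz])
  exact ⟨N, w, hw⟩

end Groth.Agent.Lib.helper11.AcyclicMat
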