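import Mathlib
import Groth.Agent.Lib.helper11.AcyclicMat

/-!
# Local step of Buchsbaum–Eisenbud (helper11)
-/

set_option autoImplicit false

namespace Groth.Agent.Lib.helper11.AcyclicMat2

open RingTheory.Sequence Pointwise
open Groth.Agent.Lib.helper11.Acyclic Groth.Agent.Lib.helper11.AcyclicMat

universe u

variable {R : Type u} [CommRing R]

theorem isWeaklyRegular_pi (rs : List R) (h : IsWeaklyRegular R rs) (b : ℕ) :
    IsWeaklyRegular (Fin b → R) rs := by
  have h1 : IsWeaklyRegular (TensorProduct R (Fin b → R) R) rs :=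
    IsWeaklyRegular.isWeaklyRegular_lTensor (M₂ := Fin b → R) h
  exact ((TensorProduct.rid R (Fin b → R)).isWeaklyRegular_congr rs).mp h1

/-- acyclicity lemma for matrices, general form: `m` any ideal containing `rs`. -/
theorem acyclic_matrices (m : Ideal R)
    (e : ℕ) (he : 1 ≤ e) (n : ℕ → ℕ) (A : (i : ℕ) → Matrix (Fin (n i)) (Fin (n (i + 1))) R)
    (hA : ∀ i, i + 2 ≤ e → A i * A (i + 1) = 0)
    (rs : List R) (hlen : rs.length = e) (hmem : ∀ x ∈ rs, x ∈ m)
    (hreg : IsWeaklyRegular R rs)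
    (hloc : ∀ (p : Ideal R) [p.IsPrime], ¬ m ≤ p →
      LinearMap.ker ((A (e - 1)).map (algebraMap R (Localization.AtPrime p))).mulVecLin = ⊥ ∧
        ∀ i, i + 2 ≤ e →
          LinearMap.ker ((A i).map (algebraMap R (Localization.AtPrime p))).mulVecLin =
            LinearMap.range ((A (i + 1)).map (algebraMap R (Localization.AtPrime p))).mulVecLin) :
    LinearMap.ker (A (e - 1)).mulVecLin = ⊥ ∧
      ∀ i, i + 2 ≤ e → LinearMap.ker (A i).mulVecLin = LinearMap.range (A (i + 1)).mulVecLin := by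
  classical
  let d : ∀ i, (Fin (n (i + 1)) → R) →ₗ[R] (Fin (n i) → R) := fun i =>
    if i < e then (A i).mulVecLin else 0
  have hd_lt : ∀ i, i < e → d i = (A i).mulVecLin := fun i hi => if_pos hi
  have hd_ge : ∀ i, e ≤ i → d i = 0 := fun i hi => if_neg (by omega)
  have hcomp : ∀ i, i + 2 ≤ e → ∀ z, (A i).mulVecLin ((A (i + 1)).mulVecLin z) = 0 := by
    intro i hi z
    rw [← LinearMap.comp_apply, ← Matrix.mulVecLin_mul, hA i hi]
    simp
  have key := acyclic (R := R) e (fun i => Fin (n i) → R) d ?_ hd_ge rs hlen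
    (fun i => isWeaklyRegular_pi rs hreg (n i)) ?_
  · constructor
    · rw [LinearMap.ker_eq_bot']
      intro z hz
      obtain ⟨w, hw⟩ := key (e - 1) (by omega) z (by rw [hd_lt (e - 1) (by omega)]; exact hz)
      rw [hd_ge (e - 1 + 1) (by omega)] at hw
      exact hw.symm
    · intro i hi
      apply le_antisymm
      · intro z hz
        rw [LinearMap.mem_ker] at hz
        obtain ⟨w, hw⟩ := key i (by omega) z (by rw [hd_lt i (by omega)]; exact hz)
        rw [hd_lt (i + 1) (by omega)] at hw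
        exact ⟨w, hw⟩
      · rintro _ ⟨w, rfl⟩
        rw [LinearMap.mem_ker]
        exact hcomp i hi w
  · intro i z
    by_cases hi : i + 2 ≤ e
    · rw [hd_lt i (by omega), hd_lt (i + 1) (by omega)]
      exact hcomp i hi z
    · rw [hd_ge (i + 1) (by omega)]
      simp
  · intro i hi z hz s hs
    rw [hd_lt i hi] at hz
    have hsm : s ∈ m := hmem s hs
    by_cases hie : i + 2 ≤ e
    · rw [hd_lt (i + 1) (by omega)]
      exact torsion_of_ker_eq_range (A i) (A (i + 1)) s (fun p _ hsp =>
        (hloc p (fun hmp => hsp (hmp hsm))).2 i hie) z hz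
    · have hie' : i = e - 1 := by omega
      subst hie'
      obtain ⟨N, hN⟩ := torsion_of_ker_eq_bot (A (e - 1)) s (fun p _ hsp =>
        (hloc p (fun hmp => hsp (hmp hsm))).1) z hz
      exact ⟨N, 0, by rw [map_zero, hN]⟩

end Groth.Agent.Lib.helper11.AcyclicMat2
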