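import Mathlib
import Groth.Agent.Lib.Helper6.RightRes

/-!
# Objects of an adapted class are acyclic (S8626)
-/

set_option autoImplicit false
universe u v u' v'

namespace Groth.Agent.Lib.helper11.AdaptedAcyclic

open CategoryTheory CategoryTheory.Limits HomologicalComplex CochainComplex

section Abstract

variable {C : Type u} [Category.{v} C] [Abelian C]
variable (L : CochainComplex C ℕ) {X : C} (φ : (CochainComplex.single₀ C).obj X ⟶ L) [QuasiIso φ]

include φ in
lemma exactAt_succ (n : ℕ) : L.ExactAt (n + 1) := by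
  rw [← quasiIsoAt_iff_exactAt φ (n + 1) (exactAt_succ_single_obj _ _)]
  infer_instance

set_option backward.isDefEq.respectTransparency false in
lemma f_zero_comp_d : φ.f 0 ≫ L.d 0 1 = 0 := by
  rw [φ.comm 0 1]
  simp

set_option backward.defeqAttrib.useBackward true in
set_option backward.isDefEq.respectTransparency false in
/-- `X` is the kernel of `L⁰ ⟶ L¹`. -/
noncomputable def isLimitKernelFork : IsLimit (KernelFork.ofι (φ.f 0) (f_zero_comp_d L φ)) := by
  refine IsLimit.ofIsoLimit (L.cyclesIsKernel 0 1 (by simp)) (Iso.symm ?_)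
  refine Fork.ext ((singleObjHomologySelfIso _ _ _).symm ≪≫
    isoOfQuasiIsoAt φ 0 ≪≫ L.isoHomologyπ₀.symm) ?_
  rw [← cancel_epi (singleObjHomologySelfIso (ComplexShape.up ℕ) _ _).hom,
    ← cancel_epi (isoHomologyπ₀ _).hom,
    ← cancel_epi (singleObjCyclesSelfIso (ComplexShape.up ℕ) _ _).inv]
  simp

lemma mono_f_zero : Mono (φ.f 0) := mono_of_isLimit_fork (isLimitKernelFork L φ)

lemma exact_zero : (ShortComplex.mk (φ.f 0) (L.d 0 1) (f_zero_comp_d L φ)).Exact :=
  ShortComplex.exact_of_f_is_kernel _ (isLimitKernelFork L φ)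

/-- the augmented complex. -/
noncomputable def aug : CochainComplex C ℕ := L.augment (φ.f 0) (f_zero_comp_d L φ)

lemma aug_acyclic : (aug L φ).Acyclic := by
  intro i
  match i with
  | 0 =>
    rw [HomologicalComplex.exactAt_iff' _ 0 0 1 (by simp) (by simp),
      ShortComplex.exact_iff_mono _ ((aug L φ).shape 0 0 (by simp))]
    exact mono_f_zero L φ
  | 1 =>
    rw [HomologicalComplex.exactAt_iff' _ 0 1 2 (by simp) (by simp)]
    exact exact_zero L φ
  | n + 2 =>
    rw [HomologicalComplex.exactAt_iff' _ (n + 1) (n + 2) (n + 3) (by simp) (by simp)]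
    exact (HomologicalComplex.exactAt_iff' _ n (n + 1) (n + 2) (by simp) (by simp)).1
      (exactAt_succ L φ n)

end Abstract

section MapExact

variable {A : Type u} [Category.{v} A] [Abelian A] {B : Type u'} [Category.{v'} B] [Abelian B]
  (f : A ⥤ B) [f.Additive]
variable (L : CochainComplex A ℕ) {X : A} (φ : (CochainComplex.single₀ A).obj X ⟶ L) [QuasiIso φ]

lemma map_exactAt_succ
    (h : ((f.mapHomologicalComplex (ComplexShape.up ℕ)).obj (aug L φ)).Acyclic) (n : ℕ) :
    ((f.mapHomologicalComplex (ComplexShape.up ℕ)).obj L).ExactAt (n + 1) := by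
  have := h (n + 2)
  rw [HomologicalComplex.exactAt_iff' _ (n + 1) (n + 2) (n + 3) (by simp) (by simp)] at this
  rw [HomologicalComplex.exactAt_iff' _ n (n + 1) (n + 2) (by simp) (by simp)]
  exact this

end MapExact

section Retract

open DerivedCategory

variable {A : Type u} [Category.{v} A] [Abelian A]

attribute [local instance] HasDerivedCategory.standard in
lemma exists_retraction_int {K L : CochainComplex A ℤ} [K.IsKInjective] (f : K ⟶ L)
    [QuasiIso f] : ∃ g : L ⟶ K, Nonempty (Homotopy (f ≫ g) (𝟙 K)) := by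
  obtain ⟨g, hg⟩ := (IsKInjective.Qh_map_bijective _ K).surjective
    ((quotientCompQhIso A).hom.app L ≫ inv (Q.map f) ≫ (quotientCompQhIso A).inv.app K)
  have h : (HomotopyCategory.quotient _ _).map f ≫ g = 𝟙 _ :=
    (IsKInjective.Qh_map_bijective _ _).injective (by simp [hg])
  obtain ⟨g₀, rfl⟩ := (HomotopyCategory.quotient _ _).map_surjective g
  refine ⟨g₀, ⟨HomotopyCategory.homotopyOfEq _ _ ?_⟩⟩
  rw [Functor.map_comp, h, CategoryTheory.Functor.map_id]

lemma exists_retraction {I L : CochainComplex A ℕ} [∀ n, Injective (I.X n)] (α : I ⟶ L)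
    [QuasiIso α] : ∃ r : L ⟶ I, Nonempty (Homotopy (α ≫ r) (𝟙 I)) := by
  obtain ⟨g, ⟨H⟩⟩ := exists_retraction_int (extendMap α ComplexShape.embeddingUpNat)
  let r : L ⟶ I := (ComplexShape.embeddingUpNat.extendFunctor A).preimage g
  have hr : extendMap r ComplexShape.embeddingUpNat = g :=
    (ComplexShape.embeddingUpNat.extendFunctor A).map_preimage g
  refine ⟨r, ⟨Homotopy.ofExtend (e := ComplexShape.embeddingUpNat) ?_⟩⟩
  rw [extendMap_comp, hr, extendMap_id]
  exact H

end Retract

section Main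

variable {A : Type u} [Category.{v} A] [Abelian A] [EnoughInjectives A]
  {B : Type u'} [Category.{v'} B] [Abelian B] (f : A ⥤ B) [f.Additive] (𝒪 : ObjectProperty A)
  (h1 : ∀ K : CochainComplex A ℕ, (∀ i, 𝒪 (K.X i)) → K.Acyclic →
    ((f.mapHomologicalComplex (ComplexShape.up ℕ)).obj K).Acyclic)
  (h2 : ∀ X : A, ∃ (Y : A) (i : X ⟶ Y), 𝒪 Y ∧ Mono i)

include h1 h2 in
theorem main (X : A) (hX : 𝒪 X) (n : ℕ) (hn : 0 < n) :
    IsZero ((f.rightDerived n).obj X) := by
  obtain ⟨k, rfl⟩ : ∃ k, n = k + 1 := ⟨n - 1, by omega⟩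
  let Ires := InjectiveResolution.of X
  obtain ⟨L, α, hL, hmono, hq⟩ :=
    Groth.Agent.Lib.Helper6.RightRes.exists_nat 𝒪 h2 Ires.cocomplex
  let φ := Ires.ι ≫ α
  haveI : QuasiIso φ := inferInstance
  have hacyc := h1 (aug L φ) (by
    intro i
    cases i with
    | zero => exact hX
    | succ i => exact hL i) (aug_acyclic L φ)
  have hex := map_exactAt_succ f L φ hacyc k
  obtain ⟨r, ⟨H⟩⟩ := exists_retraction α
  refine IsZero.of_iso ?_ (Ires.isoRightDerivedObj f (k + 1))
  have hz : IsZero (((f.mapHomologicalComplex (ComplexShape.up ℕ)).obj L).homology (k + 1)) :=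
    (HomologicalComplex.exactAt_iff_isZero_homology _ _).1 hex
  have e1 := (f.mapHomotopy H).homologyMap_eq (k + 1)
  rw [Functor.map_comp, homologyMap_comp, CategoryTheory.Functor.map_id, homologyMap_id] at e1
  rw [IsZero.iff_id_eq_zero]
  change 𝟙 (((f.mapHomologicalComplex (ComplexShape.up ℕ)).obj Ires.cocomplex).homology (k + 1)) = 0
  rw [← e1, hz.eq_of_tgt (homologyMap _ _) 0, zero_comp]

end Main

end Groth.Agent.Lib.helper11.AdaptedAcyclic
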