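import Mathlib

/-!
# Colength of a subspace of `k⟦X⟧` containing `X^c k⟦X⟧` via its value set (helper11)

Generalisation of helper4's `Gaps.main'` from subalgebras to arbitrary `k`-subspaces.
-/

set_option autoImplicit false

namespace Groth.Agent.Lib.helper11.PSGaps
open PowerSeries

variable {k : Type*} [Field k]

/-- If a `k`-subspace `S` of `k⟦X⟧` contains `X^c k⟦X⟧` and `Γ` is the set of orders of its
elements, then `k⟦X⟧/S` is finite-dimensional of dimension `#(ℕ ∖ Γ)`. -/
theorem main (S : Submodule k (PowerSeries k)) (c : ℕ) (hc : ∀ f : PowerSeries k, X ^ c * f ∈ S)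
    (Γ : Set ℕ) (hΓ : ∀ n : ℕ, n ∈ Γ ↔ ∃ f ∈ S, PowerSeries.order f = n) :
    Γᶜ.Finite ∧ Module.Finite k (PowerSeries k ⧸ S) ∧
      Module.finrank k (PowerSeries k ⧸ S) = Γᶜ.ncard := by
  classical
  have hlt : ∀ n, n ∈ Γᶜ → n < c := by
    intro n hn
    by_contra hnc
    push Not at hnc
    apply hn
    rw [hΓ]
    refine ⟨X ^ n, ?_, order_X_pow n⟩
    have := hc (X ^ (n - c))
    rwa [← pow_add, Nat.add_sub_cancel' hnc] at this
  have hfin : Γᶜ.Finite := (Set.finite_lt_nat c).subset hlt
  refine ⟨hfin, ?_⟩
  haveI : Fintype ↥Γᶜ := hfin.fintype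
  let v : ↥Γᶜ → PowerSeries k ⧸ S := fun n => S.mkQ (X ^ n.1)
  have hli : LinearIndependent k v := by
    rw [linearIndependent_iff']
    intro s g hsum
    by_contra hne
    push Not at hne
    set p : PowerSeries k := ∑ i ∈ s, g i • X ^ i.1 with hp
    have hpA : p ∈ S := by
      have : S.mkQ p = 0 := by
        rw [hp, map_sum]
        simpa [v] using hsum
      rwa [Submodule.mkQ_apply, Submodule.Quotient.mk_eq_zero] at this
    have hcoeff : ∀ m, coeff m p = ∑ i ∈ s, if m = i.1 then g i else 0 := by
      intro m
      rw [hp, map_sum]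
      refine Finset.sum_congr rfl fun i _ => ?_
      rw [map_smul, coeff_X_pow, smul_eq_mul]
      split_ifs <;> simp
    obtain ⟨i₁, hi₁s, hi₁g⟩ := hne
    have hT : (s.filter fun i => g i ≠ 0).Nonempty := ⟨i₁, Finset.mem_filter.mpr ⟨hi₁s, hi₁g⟩⟩
    obtain ⟨i₀, hi₀T, hi₀min⟩ := Finset.exists_min_image _ (fun i : ↥Γᶜ => i.1) hT
    obtain ⟨hi₀s, hi₀g⟩ := Finset.mem_filter.mp hi₀T
    have hord : p.order = (i₀.1 : ℕ) := by
      rw [order_eq_nat]
      constructor
      · rw [hcoeff, Finset.sum_eq_single i₀]
        · simpa using hi₀g
        · intro i _ hi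
          rw [if_neg]
          intro h; exact hi (Subtype.ext h.symm)
        · intro h; exact absurd hi₀s h
      · intro m hm
        rw [hcoeff]
        refine Finset.sum_eq_zero fun i hi => ?_
        split_ifs with h
        · by_contra hgi
          have := hi₀min i (Finset.mem_filter.mpr ⟨hi, hgi⟩)
          omega
        · rfl
    exact i₀.2 ((hΓ _).mpr ⟨p, hpA, hord⟩)
  have hspan : ⊤ ≤ Submodule.span k (Set.range v) := by
    have key : ∀ j : ℕ, ∀ f : PowerSeries k, (∀ i, i + j < c → coeff i f = 0) →
        S.mkQ f ∈ Submodule.span k (Set.range v) := by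
      intro j
      induction j with
      | zero =>
        intro f hf
        have : X ^ c ∣ f := X_pow_dvd_iff.mpr fun i hi => hf i (by omega)
        obtain ⟨g, rfl⟩ := this
        have : S.mkQ (X ^ c * g) = 0 := by
          rw [Submodule.mkQ_apply, Submodule.Quotient.mk_eq_zero]; exact hc g
        rw [this]; exact Submodule.zero_mem _
      | succ j ih =>
        intro f hf
        by_cases hjc : c ≤ j
        · exact ih f fun i hi => absurd hi (by omega)
        push Not at hjc
        obtain ⟨n, hn⟩ : ∃ n, n + (j + 1) = c := ⟨c - (j + 1), by omega⟩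
        by_cases hnΓ : n ∈ Γ
        · obtain ⟨a, haA, haord⟩ := (hΓ n).mp hnΓ
          obtain ⟨han, halt⟩ := order_eq_nat.mp haord
          set f' := f - (coeff n f / coeff n a) • a with hf'
          have h1 : S.mkQ f' ∈ Submodule.span k (Set.range v) := by
            apply ih
            intro i hi
            rw [hf', map_sub, map_smul, smul_eq_mul]
            rcases Nat.lt_or_ge i n with h | h
            · rw [hf i (by omega), halt i h]; simp
            · have : i = n := by omega
              subst this
              field_simp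
              ring
          have h2 : S.mkQ f = S.mkQ f' := by
            rw [hf', map_sub, map_smul]
            have : S.mkQ a = 0 := by
              rw [Submodule.mkQ_apply, Submodule.Quotient.mk_eq_zero]; exact haA
            rw [this, smul_zero, sub_zero]
          rw [h2]; exact h1
        · set f' := f - (coeff n f) • X ^ n with hf'
          have h1 : S.mkQ f' ∈ Submodule.span k (Set.range v) := by
            apply ih
            intro i hi
            rw [hf', map_sub, map_smul, smul_eq_mul, coeff_X_pow]
            rcases Nat.lt_or_ge i n with h | h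
            · rw [hf i (by omega), if_neg (by omega)]; simp
            · have : i = n := by omega
              subst this
              simp
          have h2 : S.mkQ f = S.mkQ f' + (coeff n f) • v ⟨n, hnΓ⟩ := by
            rw [hf', map_sub, map_smul]
            simp [v]
          rw [h2]
          exact Submodule.add_mem _ h1 (Submodule.smul_mem _ _ (Submodule.subset_span ⟨_, rfl⟩))
    intro x _
    obtain ⟨f, rfl⟩ := S.mkQ_surjective x
    exact key c f fun i hi => absurd hi (by omega)
  refine ⟨Module.Finite.of_basis (Module.Basis.mk hli hspan), ?_⟩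
  rw [Module.finrank_eq_card_basis (Module.Basis.mk hli hspan), ← Nat.card_eq_fintype_card]
  rfl

end Groth.Agent.Lib.helper11.PSGaps
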