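import Mathlib
import Groth.Agent.Lib.helper11.PSGaps

/-!
# Subalgebras of `k⟦X⟧` containing a power of the maximal ideal (helper11)

Let `A ⊆ k⟦X⟧` be a `k`-subalgebra with `X ^ c • k⟦X⟧ ⊆ A`.  Then `A` is a one-dimensional
Noetherian local domain with residue field `k`.
-/

set_option autoImplicit false

namespace Groth.Agent.Lib.helper11.PSRing

open PowerSeries IsLocalRing

universe u

variable {k : Type u} [Field k] (A : Subalgebra k (PowerSeries k)) (c : ℕ)
  (hc : ∀ f : PowerSeries k, X ^ c * f ∈ A)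

include hc

theorem mem_of_le_order {f : PowerSeries k} (hf : (c : ℕ∞) ≤ order f) : f ∈ A := by
  have : X ^ c ∣ f := by
    rw [X_pow_dvd_iff]
    intro m hm
    exact coeff_of_lt_order m (lt_of_lt_of_le (by exact_mod_cast hm) hf)
  obtain ⟨g, rfl⟩ := this
  exact hc g

/-- elements of `A` with nonzero constant coefficient are invertible in `A`. -/
theorem exists_inv_mem {f : PowerSeries k} (hf : f ∈ A) (h0 : constantCoeff f ≠ 0) :
    ∃ g ∈ A, f * g = 1 := by
  set a₀ := constantCoeff f with ha₀
  set h : PowerSeries k := 1 - C a₀⁻¹ * f with hh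
  have hhA : h ∈ A := A.sub_mem A.one_mem (A.mul_mem (by
    have : (C a₀⁻¹ : PowerSeries k) = algebraMap k (PowerSeries k) a₀⁻¹ := rfl
    rw [this]
    exact A.algebraMap_mem _) hf)
  have hh0 : constantCoeff h = 0 := by
    rw [hh, map_sub, map_one, map_mul, constantCoeff_C, ← ha₀, inv_mul_cancel₀ h0, sub_self]
  -- the inverse of `f` in `k⟦X⟧`
  have hunit : IsUnit f := isUnit_iff_constantCoeff.mpr (IsUnit.mk0 _ h0)
  obtain ⟨u, hu⟩ := hunit
  set g : PowerSeries k := ((u⁻¹ : (PowerSeries k)ˣ) : PowerSeries k) with hg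
  have hfg : f * g = 1 := by rw [← hu, hg]; exact Units.mul_inv u
  refine ⟨g, ?_, hfg⟩
  -- `g = C a₀⁻¹ * Σ_{i<c} h^i + g * h^c`
  have hgeo : (1 - h) * (∑ i ∈ Finset.range c, h ^ i) = 1 - h ^ c := by
    rw [mul_comm]; exact geom_sum_mul_neg h c
  have h1h : 1 - h = C a₀⁻¹ * f := by rw [hh]; ring
  have hkey : g = C a₀⁻¹ * (∑ i ∈ Finset.range c, h ^ i) + g * h ^ c := by
    have e1 : g * (1 - h ^ c) = C a₀⁻¹ * (∑ i ∈ Finset.range c, h ^ i) := by
      rw [← hgeo, h1h]
      calc g * (C a₀⁻¹ * f * ∑ i ∈ Finset.range c, h ^ i)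
          = (f * g) * (C a₀⁻¹ * ∑ i ∈ Finset.range c, h ^ i) := by ring
        _ = _ := by rw [hfg, one_mul]
    rw [← e1]; ring
  rw [hkey]
  refine A.add_mem (A.mul_mem ?_ (Subalgebra.sum_mem _ fun i _ => A.pow_mem hhA i)) ?_
  · have : (C a₀⁻¹ : PowerSeries k) = algebraMap k (PowerSeries k) a₀⁻¹ := rfl
    rw [this]
    exact A.algebraMap_mem _
  · apply mem_of_le_order A c hc
    calc (c : ℕ∞) ≤ order (h ^ c) := le_order_pow_of_constantCoeff_eq_zero c hh0
      _ ≤ order (g * h ^ c) := by
        rw [order_mul]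
        exact le_add_self

omit hc in
/-- the residue map `A → k`. -/
noncomputable def ev : ↥A →+* k := (constantCoeff (R := k)).comp A.val.toRingHom

omit hc in
theorem ev_apply (a : ↥A) : ev A a = constantCoeff (a : PowerSeries k) := rfl

theorem isUnit_iff (a : ↥A) : IsUnit a ↔ ev A a ≠ 0 := by
  constructor
  · intro h
    exact (h.map (ev A)).ne_zero
  · intro h
    obtain ⟨g, hgA, hfg⟩ := exists_inv_mem A c hc a.2 h
    exact IsUnit.of_mul_eq_one ⟨g, hgA⟩ (Subtype.ext hfg)

theorem isLocalRing : IsLocalRing ↥A := by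
  refine IsLocalRing.of_isUnit_or_isUnit_one_sub_self fun a => ?_
  by_cases h : ev A a = 0
  · right
    rw [isUnit_iff A c hc, map_sub, map_one, h, sub_zero]
    exact one_ne_zero
  · left
    exact (isUnit_iff A c hc a).mpr h

theorem mem_maximalIdeal_iff (a : ↥A) :
    letI := isLocalRing A c hc
    a ∈ maximalIdeal ↥A ↔ constantCoeff (a : PowerSeries k) = 0 := by
  letI := isLocalRing A c hc
  rw [IsLocalRing.mem_maximalIdeal, mem_nonunits_iff, isUnit_iff A c hc, not_not, ev_apply]

/-- the residue field of `A` is `k`. -/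
theorem length_residueField :
    letI := isLocalRing A c hc
    Module.length (ResidueField k) (ResidueField ↥A) = 1 := by
  letI := isLocalRing A c hc
  have hsurj : Function.Surjective (algebraMap (ResidueField k) (ResidueField ↥A)) := by
    intro z
    obtain ⟨a, rfl⟩ := IsLocalRing.residue_surjective z
    refine ⟨IsLocalRing.residue k (constantCoeff (a : PowerSeries k)), ?_⟩
    have h1 : algebraMap (ResidueField k) (ResidueField ↥A)
        (IsLocalRing.residue k (constantCoeff (a : PowerSeries k))) =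
        IsLocalRing.residue ↥A (algebraMap k ↥A (constantCoeff (a : PowerSeries k))) := rfl
    rw [h1, ← sub_eq_zero, ← map_sub, IsLocalRing.residue_eq_zero_iff,
      mem_maximalIdeal_iff A c hc]
    have h2 : ((algebraMap k ↥A (constantCoeff (a : PowerSeries k)) - a : ↥A) : PowerSeries k) =
        C (constantCoeff (a : PowerSeries k)) - (a : PowerSeries k) := rfl
    rw [h2, map_sub, constantCoeff_C, sub_self]
  let e : ResidueField k ≃ₗ[ResidueField k] ResidueField ↥A :=
    LinearEquiv.ofBijective (Algebra.linearMap (ResidueField k) (ResidueField ↥A))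
      ⟨(algebraMap (ResidueField k) (ResidueField ↥A)).injective, hsurj⟩
  rw [← e.length_eq, Module.length_eq_finrank, Module.finrank_self, Nat.cast_one]

/-- for `A`-modules, length over `A` is the `k`-dimension. -/
theorem length_eq_finrank (M : Type*) [AddCommGroup M] [Module ↥A M] [Module k M]
    [IsScalarTower k ↥A M] [Module.Finite k M] :
    Module.length ↥A M = Module.finrank k M := by
  letI := isLocalRing A c hc
  have h := IsLocalRing.length_restrictScalars k ↥A M
  rw [length_residueField A c hc, mul_one, Module.length_eq_finrank] at h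
  exact h.symm

/-- divisibility inside `A`: if `order y ≥ order x + c` then `y = x * q` with `q ∈ A`. -/
theorem exists_mul_eq {x : PowerSeries k} (hx : x ≠ 0) {y : PowerSeries k}
    (hy : ((order x).toNat + c : ℕ) ≤ order y) : ∃ q ∈ A, y = x * q := by
  obtain ⟨u, hu⟩ := isUnit_divided_by_X_pow_order hx
  have hxu : x = X ^ (order x).toNat * (u : PowerSeries k) := by
    rw [hu]; exact (X_pow_order_mul_divXPowOrder (f := x)).symm
  have hdvd : X ^ ((order x).toNat + c) ∣ y := by
    rw [X_pow_dvd_iff]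
    intro m hm
    exact coeff_of_lt_order m (lt_of_lt_of_le (by exact_mod_cast hm) hy)
  obtain ⟨r, hr⟩ := hdvd
  refine ⟨X ^ c * (((u⁻¹ : (PowerSeries k)ˣ) : PowerSeries k) * r), hc _, ?_⟩
  rw [hr]
  conv_rhs => rw [hxu]
  have : (u : PowerSeries k) * ((u⁻¹ : (PowerSeries k)ˣ) : PowerSeries k) = 1 := Units.mul_inv u
  calc X ^ ((order x).toNat + c) * r
      = X ^ (order x).toNat * X ^ c * (((u : PowerSeries k) *
          ((u⁻¹ : (PowerSeries k)ˣ) : PowerSeries k)) * r) := by rw [this, one_mul, pow_add]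
    _ = _ := by ring

/-- `k⟦X⟧` is a Noetherian `A`-module. -/
theorem isNoetherian_powerSeries [Module.Finite ↥A (PowerSeries k)] :
    IsNoetherian ↥A (PowerSeries k) := by
  rw [isNoetherian_def]
  intro N
  by_cases hN : N = ⊥
  · rw [hN]; exact Submodule.fg_bot
  obtain ⟨f, hfN, hf0⟩ := Submodule.exists_mem_ne_zero_of_ne_bot hN
  set e : ℕ := (order f).toNat + c with he
  let J : Submodule ↥A (PowerSeries k) :=
    (Ideal.span {(X : PowerSeries k) ^ e}).restrictScalars ↥A
  have hJmem : ∀ g, g ∈ J ↔ X ^ e ∣ g := fun g => by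
    change g ∈ Ideal.span {(X : PowerSeries k) ^ e} ↔ _
    exact Ideal.mem_span_singleton
  have hJN : J ≤ N := by
    intro g hg
    obtain ⟨r, rfl⟩ := (hJmem g).mp hg
    have hord : ((order f).toNat + c : ℕ) ≤ order (X ^ e * r) := by
      rw [order_mul, order_X_pow, ← he]
      exact le_self_add
    obtain ⟨q, hqA, hq⟩ := exists_mul_eq A c hc hf0 hord
    rw [hq]
    have : f * q = (⟨q, hqA⟩ : ↥A) • f := by
      rw [mul_comm]; rfl
    rw [this]
    exact N.smul_mem _ hfN
  -- `J` is finitely generated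
  have hJfg : J.FG := by
    have hrange : J = LinearMap.range (LinearMap.mulLeft ↥A ((X : PowerSeries k) ^ e)) := by
      ext g
      rw [hJmem, LinearMap.mem_range]
      constructor
      · rintro ⟨r, rfl⟩; exact ⟨r, rfl⟩
      · rintro ⟨r, rfl⟩; exact ⟨r, rfl⟩
    rw [hrange, LinearMap.range_eq_map]
    exact Submodule.FG.map _ Module.Finite.fg_top
  -- the quotient is finite-dimensional over `k`
  have hfin := (Groth.Agent.Lib.helper11.PSGaps.main (J.restrictScalars k) e
    (fun g => (hJmem _).mpr (dvd_mul_right _ _))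
    {n | ∃ g ∈ J.restrictScalars k, order g = n} (fun n => Iff.rfl)).2.1
  haveI : Module.Finite k (PowerSeries k ⧸ J) :=
    Module.Finite.equiv (Submodule.Quotient.restrictScalarsEquiv k J)
  haveI : IsNoetherian k (PowerSeries k ⧸ J) := inferInstance
  haveI : IsNoetherian ↥A (PowerSeries k ⧸ J) := isNoetherian_of_tower k inferInstance
  apply Submodule.fg_of_fg_map_of_fg_inf_ker J.mkQ
  · exact IsNoetherian.noetherian _
  · rw [Submodule.ker_mkQ, inf_eq_right.mpr hJN]
    exact hJfg

theorem isNoetherianRing [Module.Finite ↥A (PowerSeries k)] : IsNoetherianRing ↥A := by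
  haveI := isNoetherian_powerSeries A c hc
  exact isNoetherian_of_injective (Algebra.linearMap ↥A (PowerSeries k)) Subtype.val_injective

theorem ringKrullDim_eq_one (hc0 : c ≠ 0) :
    ringKrullDim ↥A = 1 := by
  letI := isLocalRing A c hc
  rw [ringKrullDim_eq_one_iff_of_isLocalRing_isDomain]
  constructor
  · intro hfield
    have hXA : (X : PowerSeries k) ^ c ∈ A := by
      have := hc 1
      rwa [mul_one] at this
    have hne : (⟨X ^ c, hXA⟩ : ↥A) ≠ 0 := by
      intro h
      have : (X : PowerSeries k) ^ c = 0 := congrArg Subtype.val h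
      exact pow_ne_zero c X_ne_zero this
    obtain ⟨b, hb⟩ := hfield.mul_inv_cancel hne
    have hu : IsUnit (⟨X ^ c, hXA⟩ : ↥A) := IsUnit.of_mul_eq_one b hb
    rw [isUnit_iff A c hc, ev_apply] at hu
    apply hu
    change constantCoeff ((X : PowerSeries k) ^ c) = 0
    rw [map_pow, constantCoeff_X, zero_pow hc0]
  · intro x hx g hg
    rw [mem_maximalIdeal_iff A c hc] at hg
    have hx' : (x : PowerSeries k) ≠ 0 := fun h => hx (Subtype.ext h)
    refine ⟨(order (x : PowerSeries k)).toNat + c, ?_⟩
    have hord : ((order (x : PowerSeries k)).toNat + c : ℕ) ≤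
        order ((g : PowerSeries k) ^ ((order (x : PowerSeries k)).toNat + c)) :=
      le_order_pow_of_constantCoeff_eq_zero _ hg
    obtain ⟨q, hqA, hq⟩ := exists_mul_eq A c hc hx' hord
    rw [Ideal.mem_span_singleton]
    exact ⟨⟨q, hqA⟩, Subtype.ext hq⟩

end Groth.Agent.Lib.helper11.PSRing
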