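import Mathlib
import Groth.Agent.Lib.helper11.PSRing
import Groth.Agent.Lib.helper11.TFLen

/-!
# Submodules of `k⟦X⟧` over a subalgebra `A`, viewed inside the fraction field (helper11)
-/

set_option autoImplicit false

namespace Groth.Agent.Lib.helper11.PSFrac

open PowerSeries IsLocalRing Groth.Agent.Lib.helper11.TFLen

universe u

variable {k : Type u} [Field k] (A : Subalgebra k (PowerSeries k))

/-- the embedding `k⟦X⟧ → Frac k⟦X⟧` as an `A`-linear map. -/
noncomputable def ι : PowerSeries k →ₗ[↥A] FractionRing (PowerSeries k) :=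
  (IsScalarTower.toAlgHom ↥A (PowerSeries k) (FractionRing (PowerSeries k))).toLinearMap

theorem ι_apply (p : PowerSeries k) :
    ι A p = algebraMap (PowerSeries k) (FractionRing (PowerSeries k)) p := rfl

theorem ι_injective : Function.Injective (ι A) :=
  IsFractionRing.injective (PowerSeries k) (FractionRing (PowerSeries k))

theorem ι_mul (p q : PowerSeries k) : ι A (p * q) = ι A p * ι A q := by
  rw [ι_apply, ι_apply, ι_apply, map_mul]

theorem ι_one : ι A 1 = 1 := by rw [ι_apply, map_one]

/-- the image of an `A`-submodule of `k⟦X⟧` in the fraction field. -/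
noncomputable def im (N : Submodule ↥A (PowerSeries k)) :
    Submodule ↥A (FractionRing (PowerSeries k)) := N.map (ι A)

theorem mem_im {N : Submodule ↥A (PowerSeries k)} {p : PowerSeries k} :
    ι A p ∈ im A N ↔ p ∈ N := by
  constructor
  · rintro ⟨q, hq, h⟩
    rwa [← ι_injective A h]
  · intro h
    exact ⟨p, h, rfl⟩

theorem im_mono {N₁ N₂ : Submodule ↥A (PowerSeries k)} (h : N₁ ≤ N₂) : im A N₁ ≤ im A N₂ :=
  Submodule.map_mono h

/-- the colon `(ω : M)` inside `k⟦X⟧`. -/
def colon (ω M : Submodule ↥A (PowerSeries k)) : Submodule ↥A (PowerSeries k) where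
  carrier := {u | ∀ m ∈ M, u * m ∈ ω}
  add_mem' := by
    intro a b ha hb m hm
    rw [add_mul]
    exact ω.add_mem (ha m hm) (hb m hm)
  zero_mem' := by
    intro m _
    rw [zero_mul]
    exact ω.zero_mem
  smul_mem' := by
    intro a u hu m hm
    have : a • u * m = a • (u * m) := smul_mul_assoc a u m
    rw [this]
    exact ω.smul_mem a (hu m hm)

theorem mem_colon {ω M : Submodule ↥A (PowerSeries k)} {u : PowerSeries k} :
    u ∈ colon A ω M ↔ ∀ m ∈ M, u * m ∈ ω := Iff.rfl

theorem im_colon (ω M : Submodule ↥A (PowerSeries k)) (hM1 : (1 : PowerSeries k) ∈ M) :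
    im A (colon A ω M) = im A ω / im A M := by
  ext z
  rw [Submodule.mem_div_iff_forall_mul_mem]
  constructor
  · rintro ⟨u, hu, rfl⟩ y ⟨m, hm, rfl⟩
    rw [← ι_mul]
    exact (mem_im A).mpr (hu m hm)
  · intro hz
    have h1 := hz (ι A 1) ((mem_im A).mpr hM1)
    rw [ι_one, mul_one] at h1
    obtain ⟨u, hu, rfl⟩ := h1
    refine ⟨u, ?_, rfl⟩
    intro m hm
    have h2 := hz (ι A m) ((mem_im A).mpr hm)
    rw [← ι_mul] at h2
    exact (mem_im A).mp h2

/-- lengths: `ℓ(P'/N') = ℓ(P/N)`. -/
theorem qlen_im_top (N : Submodule ↥A (PowerSeries k)) :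
    qlen (im A N) (im A ⊤) = Module.length ↥A (PowerSeries k ⧸ N) := by
  unfold qlen
  symm
  apply LinearEquiv.length_eq
  let e : PowerSeries k ≃ₗ[↥A] ↥(im A ⊤) :=
    (LinearEquiv.ofInjective (ι A) (ι_injective A)).trans
      (LinearEquiv.ofEq _ _ (by rw [im, Submodule.map_top]))
  refine Submodule.Quotient.equiv _ _ e ?_
  ext y
  rw [Submodule.mem_map, Submodule.mem_comap]
  constructor
  · rintro ⟨p, hp, rfl⟩
    exact (mem_im A).mpr hp
  · intro hy
    obtain ⟨p, hp, hpy⟩ := hy
    refine ⟨p, hp, ?_⟩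
    apply Subtype.ext
    exact hpy

theorem isFractionRing (c : ℕ) (hc : ∀ f : PowerSeries k, X ^ c * f ∈ A) :
    IsFractionRing ↥A (FractionRing (PowerSeries k)) := by
  have hinj : Function.Injective (algebraMap ↥A (FractionRing (PowerSeries k))) := by
    intro a b hab
    exact Subtype.ext (IsFractionRing.injective (PowerSeries k) (FractionRing (PowerSeries k)) hab)
  haveI : FaithfulSMul ↥A (FractionRing (PowerSeries k)) :=
    (faithfulSMul_iff_algebraMap_injective _ _).mpr hinj
  refine IsFractionRing.of_field ↥A (FractionRing (PowerSeries k)) ?_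
  intro z
  obtain ⟨p, q, hq, rfl⟩ := IsFractionRing.div_surjective (A := PowerSeries k) z
  refine ⟨⟨X ^ c * p, hc p⟩, ⟨X ^ c * q, hc q⟩, ?_⟩
  have hX : algebraMap (PowerSeries k) (FractionRing (PowerSeries k)) (X ^ c) ≠ 0 := by
    rw [Ne, map_eq_zero_iff _ (IsFractionRing.injective (PowerSeries k) _)]
    exact pow_ne_zero c X_ne_zero
  have hq0 : algebraMap (PowerSeries k) (FractionRing (PowerSeries k)) q ≠ 0 :=
    IsFractionRing.to_map_ne_zero_of_mem_nonZeroDivisors hq
  change _ = algebraMap (PowerSeries k) (FractionRing (PowerSeries k)) (X ^ c * p) /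
    algebraMap (PowerSeries k) (FractionRing (PowerSeries k)) (X ^ c * q)
  rw [map_mul, map_mul]
  field_simp

end Groth.Agent.Lib.helper11.PSFrac
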