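import Mathlib
import Groth.Agent.Lib.helper11.PSFrac

/-!
# Duality of value sets with respect to a canonical ideal in `k⟦X⟧` (helper11)

`A ⊆ k⟦X⟧` a subalgebra with conductor `X^c k⟦X⟧`, `ω` a canonical ideal with `1 ∈ ω`,
`M` a finitely generated `A`-submodule with `1 ∈ M`.  Then the value set of `(ω : M)` is
`{n | c ≤ n ∨ c - 1 - n ∉ v(M)}`.
-/

set_option autoImplicit false

namespace Groth.Agent.Lib.helper11.PSDual

open PowerSeries IsLocalRing CategoryTheory
open Groth.Agent.Lib.helper11.TFLen Groth.Agent.Lib.helper11.PSFrac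

universe u

variable {k : Type u} [Field k] (A : Subalgebra k (PowerSeries k)) (c : ℕ)
  (hc : ∀ f : PowerSeries k, X ^ c * f ∈ A)

section Basic

include hc

/-- a submodule containing `1` contains everything of order `≥ c`. -/
theorem mem_of_le_order (N : Submodule ↥A (PowerSeries k)) (h1 : (1 : PowerSeries k) ∈ N)
    {f : PowerSeries k} (hf : (c : ℕ∞) ≤ order f) : f ∈ N := by
  have hfA : f ∈ A := Groth.Agent.Lib.helper11.PSRing.mem_of_le_order A c hc hf
  have : f = (⟨f, hfA⟩ : ↥A) • (1 : PowerSeries k) := by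
    change f = f * 1
    rw [mul_one]
  rw [this]
  exact N.smul_mem _ h1

omit hc in
/-- `(ω : ⊤)` is an ideal of `k⟦X⟧`. -/
theorem colon_top_mul (ω : Submodule ↥A (PowerSeries k)) {u : PowerSeries k}
    (hu : u ∈ colon A ω ⊤) (p : PowerSeries k) : u * p ∈ colon A ω ⊤ := by
  intro m _
  rw [mul_assoc]
  exact hu (p * m) trivial

theorem le_order_mem_colon_top (ω : Submodule ↥A (PowerSeries k)) (h1 : (1 : PowerSeries k) ∈ ω)
    {f : PowerSeries k} (hf : (c : ℕ∞) ≤ order f) : f ∈ colon A ω ⊤ := by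
  intro m _
  apply mem_of_le_order A c hc ω h1
  rw [order_mul]
  exact le_trans hf le_self_add

/-- if `ω` contains an element of order `c - 1` then `X^(c-1) ∈ (ω : ⊤)`. -/
theorem X_pow_mem_colon_top (ω : Submodule ↥A (PowerSeries k)) (h1 : (1 : PowerSeries k) ∈ ω)
    (hc0 : c ≠ 0) {w : PowerSeries k} (hw : w ∈ ω) (hord : order w = ((c - 1 : ℕ) : ℕ∞)) :
    X ^ (c - 1) ∈ colon A ω ⊤ := by
  have hw0 : w ≠ 0 := by
    intro h
    rw [h, order_zero] at hord
    exact ENat.top_ne_coe _ hord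
  obtain ⟨u, hu⟩ := isUnit_divided_by_X_pow_order hw0
  have hwu : w = X ^ (c - 1) * (u : PowerSeries k) := by
    have := (X_pow_order_mul_divXPowOrder (f := w)).symm
    rw [hord, ENat.toNat_coe, ← hu] at this
    exact this
  intro p _
  -- `X^(c-1) p = w q` with `q = u⁻¹ p`
  set q : PowerSeries k := ((u⁻¹ : (PowerSeries k)ˣ) : PowerSeries k) * p with hq
  have hwq : X ^ (c - 1) * p = w * q := by
    rw [hwu, hq]
    have : (u : PowerSeries k) * ((u⁻¹ : (PowerSeries k)ˣ) : PowerSeries k) = 1 := Units.mul_inv u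
    calc X ^ (c - 1) * p = X ^ (c - 1) * (((u : PowerSeries k) *
          ((u⁻¹ : (PowerSeries k)ˣ) : PowerSeries k)) * p) := by rw [this, one_mul]
      _ = _ := by ring
  rw [hwq]
  have hsplit : w * q = (algebraMap k ↥A (constantCoeff q)) • w + w * (q - C (constantCoeff q)) := by
    have : (algebraMap k ↥A (constantCoeff q)) • w = C (constantCoeff q) * w := rfl
    rw [this]; ring
  rw [hsplit]
  refine ω.add_mem (ω.smul_mem _ hw) ?_
  apply mem_of_le_order A c hc ω h1
  have h0 : constantCoeff (q - C (constantCoeff q)) = 0 := by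
    rw [map_sub, constantCoeff_C, sub_self]
  have h1' : (1 : ℕ∞) ≤ order (q - C (constantCoeff q)) :=
    one_le_order_iff_constCoeff_eq_zero.mpr h0
  rw [order_mul, hord]
  have hc1 : ((c - 1 : ℕ) : ℕ∞) + 1 = c := by
    have : c - 1 + 1 = c := Nat.sub_add_cancel (Nat.one_le_iff_ne_zero.mpr hc0)
    exact_mod_cast this
  calc (c : ℕ∞) = ((c - 1 : ℕ) : ℕ∞) + 1 := hc1.symm
    _ ≤ _ := by gcongr

end Basic

section Duality

theorem im_ne_bot (ω : Submodule ↥A (PowerSeries k)) (hω1 : (1 : PowerSeries k) ∈ ω) :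
    im A ω ≠ ⊥ := by
  intro h
  have h1 : ι A 1 ∈ im A ω := (mem_im A).mpr hω1
  rw [h, Submodule.mem_bot, ι_one] at h1
  exact one_ne_zero h1

theorem injdim_of_equiv {O : Type u} [CommRing O] {X Y : Type u} [AddCommGroup X] [Module O X]
    [AddCommGroup Y] [Module O Y] (e : X ≃ₗ[O] Y)
    (h : HasInjectiveDimensionLT (ModuleCat.of O X) 2) :
    HasInjectiveDimensionLT (ModuleCat.of O Y) 2 :=
  hasInjectiveDimensionLT_of_iso e.toModuleIso 2

theorem im_injdim (ω : Submodule ↥A (PowerSeries k))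
    (hωinj : HasInjectiveDimensionLT (ModuleCat.of ↥A ↥ω) 2) :
    HasInjectiveDimensionLT (ModuleCat.of ↥A ↥(im A ω)) 2 := by
  let e : ↥ω ≃ₗ[↥A] ↥(im A ω) := Submodule.equivMapOfInjective (ι A) (ι_injective A) ω
  exact injdim_of_equiv e hωinj

variable [Module.Finite ↥A (PowerSeries k)] (hc0 : c ≠ 0)
  (ω : Submodule ↥A (PowerSeries k)) (hω1 : (1 : PowerSeries k) ∈ ω) (hωfg : ω.FG)
  (hωinj : HasInjectiveDimensionLT (ModuleCat.of ↥A ↥ω) 2)

include hc hc0 hω1 hωfg hωinj

/-- `(ω : k⟦X⟧) = (A : k⟦X⟧)`. -/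
theorem mul_mem_of_mem_colon_top {u : PowerSeries k} (hu : u ∈ colon A ω ⊤) (g : PowerSeries k) :
    g * u ∈ A := by
  letI := Groth.Agent.Lib.helper11.PSRing.isLocalRing A c hc
  haveI := Groth.Agent.Lib.helper11.PSRing.isNoetherianRing A c hc
  haveI := isFractionRing A c hc
  have hdim := Groth.Agent.Lib.helper11.PSRing.ringKrullDim_eq_one A c hc hc0
  have hself := div_self_eq_one hdim (im A ω) (im_ne_bot A ω hω1) (hωfg.map _)
    (im_injdim A ω hωinj)
  have hmem : ι A (g * u) ∈ im A ω / im A ω := by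
    rw [Submodule.mem_div_iff_forall_mul_mem]
    rintro y ⟨w, hw, rfl⟩
    rw [← ι_mul]
    apply (mem_im A).mpr
    have : g * u * w = u * (g * w) := by ring
    rw [this]
    exact hu (g * w) trivial
  rw [hself, Submodule.mem_one] at hmem
  obtain ⟨a, ha⟩ := hmem
  have : (a : PowerSeries k) = g * u :=
    IsFractionRing.injective (PowerSeries k) (FractionRing (PowerSeries k)) ha
  rw [← this]
  exact a.2

/-- the duality of colengths. -/
theorem length_dual (M : Submodule ↥A (PowerSeries k)) (hMfg : M.FG)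
    (hM1 : (1 : PowerSeries k) ∈ M) (hCM : colon A ω ⊤ ≤ M) :
    Module.length ↥A (PowerSeries k ⧸ colon A ω ⊤) =
      Module.length ↥A (PowerSeries k ⧸ colon A ω M) +
        Module.length ↥A (PowerSeries k ⧸ M) := by
  letI := Groth.Agent.Lib.helper11.PSRing.isLocalRing A c hc
  haveI := Groth.Agent.Lib.helper11.PSRing.isNoetherianRing A c hc
  haveI := isFractionRing A c hc
  have hdim := Groth.Agent.Lib.helper11.PSRing.ringKrullDim_eq_one A c hc hc0
  have hω'0 := im_ne_bot A ω hω1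
  have hω'fg : (im A ω).FG := hωfg.map _
  have hω'inj := im_injdim A ω hωinj
  rw [← qlen_im_top, ← qlen_im_top, ← qlen_im_top]
  have hPfg : (im A (⊤ : Submodule ↥A (PowerSeries k))).FG :=
    (Module.Finite.fg_top (R := ↥A) (M := PowerSeries k)).map _
  have hP0 : im A (⊤ : Submodule ↥A (PowerSeries k)) ≠ ⊥ := im_ne_bot A ⊤ trivial
  have hC0 : im A (colon A ω ⊤) ≠ ⊥ := by
    intro h
    have hX : (X : PowerSeries k) ^ c ∈ colon A ω ⊤ :=
      le_order_mem_colon_top A c hc ω hω1 (by rw [order_X_pow])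
    have h1 : ι A (X ^ c) ∈ im A (colon A ω ⊤) := (mem_im A).mpr hX
    rw [h, Submodule.mem_bot] at h1
    have : (X : PowerSeries k) ^ c = 0 := ι_injective A (by rw [h1, map_zero])
    exact pow_ne_zero c X_ne_zero this
  have hdiv := qlen_div hdim (im A ω) hω'0 hω'fg hω'inj (im A (colon A ω ⊤)) (im A M)
    (im_mono A hCM) hC0 (hMfg.map _)
  have hPP : im A ω / im A (colon A ω ⊤) = im A ⊤ := by
    rw [im_colon A ω ⊤ trivial]
    exact div_div_eq hdim (im A ω) hω'0 hω'fg hω'inj _ hP0 hPfg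
  rw [← im_colon A ω M hM1, hPP] at hdiv
  rw [← hdiv]
  exact qlen_add (im_mono A hCM) (im_mono A le_top)

end Duality

section Count

/-- the value set of a submodule. -/
def vset (N : Submodule ↥A (PowerSeries k)) : Set ℕ := {n | ∃ f ∈ N, order f = (n : ℕ∞)}

include hc in
/-- colength = number of gaps. -/
theorem colength (N : Submodule ↥A (PowerSeries k)) (hN : ∀ f : PowerSeries k, X ^ c * f ∈ N) :
    (vset A N)ᶜ.Finite ∧
      Module.length ↥A (PowerSeries k ⧸ N) = (((vset A N)ᶜ.ncard : ℕ) : ℕ∞) := by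
  obtain ⟨h1, h2, h3⟩ := Groth.Agent.Lib.helper11.PSGaps.main (N.restrictScalars k) c hN
    (vset A N) (fun n => Iff.rfl)
  refine ⟨h1, ?_⟩
  let e : (PowerSeries k ⧸ N.restrictScalars k) ≃ₗ[k] PowerSeries k ⧸ N :=
    Submodule.Quotient.restrictScalarsEquiv k N
  haveI : Module.Finite k (PowerSeries k ⧸ N) := Module.Finite.equiv e
  rw [Groth.Agent.Lib.helper11.PSRing.length_eq_finrank A c hc (PowerSeries k ⧸ N),
    ← e.finrank_eq, h3]

omit A in
theorem ncard_compl_Ici (c : ℕ) : ({n : ℕ | c ≤ n}ᶜ).ncard = c := by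
  have : {n : ℕ | c ≤ n}ᶜ = ((Finset.range c : Finset ℕ) : Set ℕ) := by
    ext n
    simp
  rw [this, Set.ncard_coe_finset, Finset.card_range]

end Count

section Main

variable [Module.Finite ↥A (PowerSeries k)] (hc0 : c ≠ 0)
  (hcondEq : ∀ f : PowerSeries k, (∀ g : PowerSeries k, g * f ∈ A) → (c : ℕ∞) ≤ order f)
  (ω : Submodule ↥A (PowerSeries k)) (hω1 : (1 : PowerSeries k) ∈ ω) (hωfg : ω.FG)
  (hωinj : HasInjectiveDimensionLT (ModuleCat.of ↥A ↥ω) 2)
  (M : Submodule ↥A (PowerSeries k)) (hMfg : M.FG) (hM1 : (1 : PowerSeries k) ∈ M)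

include hc hc0 hcondEq hω1 hωfg hωinj hMfg hM1

/-- **Duality of value sets**: `v((ω : M)) = {n | c ≤ n ∨ c - 1 - n ∉ v(M)}`. -/
theorem vset_colon (n : ℕ) :
    n ∈ vset A (colon A ω M) ↔ (c ≤ n ∨ (c - 1 - n) ∉ vset A M) := by
  classical
  have hC₀order : ∀ u ∈ colon A ω ⊤, (c : ℕ∞) ≤ order u := fun u hu =>
    hcondEq u (mul_mem_of_mem_colon_top A c hc hc0 ω hω1 hωfg hωinj hu)
  have hCM : colon A ω ⊤ ≤ M := fun u hu => mem_of_le_order A c hc M hM1 (hC₀order u hu)
  -- the three colengths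
  obtain ⟨hfC, hlC⟩ := colength A c hc (colon A ω ⊤)
    (fun f => le_order_mem_colon_top A c hc ω hω1 (by
      rw [order_mul, order_X_pow]; exact le_self_add))
  obtain ⟨hfD, hlD⟩ := colength A c hc (colon A ω M) (fun f m _ =>
    mem_of_le_order A c hc ω hω1 (by
      rw [order_mul, order_mul, order_X_pow, add_assoc]; exact le_self_add))
  obtain ⟨hfM, hlM⟩ := colength A c hc M (fun f =>
    mem_of_le_order A c hc M hM1 (by rw [order_mul, order_X_pow]; exact le_self_add))
  have hvC : vset A (colon A ω ⊤) = {n | c ≤ n} := by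
    ext j
    constructor
    · rintro ⟨u, hu, hord⟩
      have := hC₀order u hu
      rw [hord] at this
      exact_mod_cast this
    · intro hj
      refine ⟨X ^ j, le_order_mem_colon_top A c hc ω hω1 ?_, order_X_pow j⟩
      rw [order_X_pow]
      exact_mod_cast hj
  have hdual := length_dual A c hc hc0 ω hω1 hωfg hωinj M hMfg hM1 hCM
  rw [hlC, hlD, hlM, hvC, ncard_compl_Ici] at hdual
  have hsum : c = (vset A (colon A ω M))ᶜ.ncard + (vset A M)ᶜ.ncard := by exact_mod_cast hdual
  -- `⊆`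
  have hsub : ∀ j ∈ vset A (colon A ω M), c ≤ j ∨ (c - 1 - j) ∉ vset A M := by
    rintro j ⟨u, hu, hordu⟩
    by_contra hcon
    push_neg at hcon
    obtain ⟨hjc, m, hm, hordm⟩ := hcon
    have hw : u * m ∈ ω := hu m hm
    have hordw : order (u * m) = ((c - 1 : ℕ) : ℕ∞) := by
      rw [order_mul, hordu, hordm]
      have : j + (c - 1 - j) = c - 1 := by omega
      exact_mod_cast this
    have hX := X_pow_mem_colon_top A c hc ω hω1 hc0 hw hordw
    have := hC₀order _ hX
    rw [order_X_pow] at this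
    have : c ≤ c - 1 := by exact_mod_cast this
    omega
  -- the complement of the right-hand side
  set T : Set ℕ := {j | c ≤ j ∨ (c - 1 - j) ∉ vset A M} with hT
  have hTsub : Tᶜ ⊆ (vset A (colon A ω M))ᶜ := by
    intro j hj hjD
    exact hj (hsub j hjD)
  have hMsub : (vset A M)ᶜ ⊆ Set.Iio c := by
    intro j hj
    by_contra hjc
    apply hj
    have hcj : c ≤ j := by
      rw [Set.mem_Iio, not_lt] at hjc
      exact hjc
    exact ⟨X ^ j, mem_of_le_order A c hc M hM1 (by rw [order_X_pow]; exact_mod_cast hcj),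
      order_X_pow j⟩
  have hTcard : Tᶜ.ncard = c - (vset A M)ᶜ.ncard := by
    have h1 : (Set.Iio c \ (vset A M)ᶜ).ncard = c - (vset A M)ᶜ.ncard := by
      rw [Set.ncard_diff hMsub hfM]
      congr 1
      have : Set.Iio c = ((Finset.range c : Finset ℕ) : Set ℕ) := by ext; simp
      rw [this, Set.ncard_coe_finset, Finset.card_range]
    rw [← h1]
    apply Set.ncard_congr (fun j _ => c - 1 - j)
    · intro j hj
      rw [hT, Set.mem_compl_iff, Set.mem_setOf_eq, not_or, not_le, not_not] at hj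
      refine ⟨?_, ?_⟩
      · rw [Set.mem_Iio]; omega
      · intro h; exact h hj.2
    · intro a b ha hb hab
      rw [hT, Set.mem_compl_iff, Set.mem_setOf_eq, not_or, not_le, not_not] at ha hb
      have := ha.1
      have := hb.1
      omega
    · intro b hb
      obtain ⟨hbc, hbM⟩ := hb
      rw [Set.mem_Iio] at hbc
      have hbM' : b ∈ vset A M := not_not.mp hbM
      refine ⟨c - 1 - b, ?_, by omega⟩
      rw [hT, Set.mem_compl_iff, Set.mem_setOf_eq, not_or, not_le, not_not]
      refine ⟨by omega, ?_⟩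
      have : c - 1 - (c - 1 - b) = b := by omega
      rw [this]
      exact hbM'
  have heq : Tᶜ = (vset A (colon A ω M))ᶜ := by
    apply Set.eq_of_subset_of_ncard_le hTsub _ hfD
    rw [hTcard]
    omega
  have : T = vset A (colon A ω M) := compl_injective heq
  rw [← this]
  exact Iff.rfl

end Main

end Groth.Agent.Lib.helper11.PSDual
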