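import Mathlib
import Groth.Agent.Lib.helper11.PSDual

/-!
# Supports of power series and monomial submodules (helper11)
-/

set_option autoImplicit false

namespace Groth.Agent.Lib.helper11.PSMono

open PowerSeries
open Groth.Agent.Lib.helper11.PSDual

universe u

variable {k : Type u} [Field k]

/-- `f` is supported in `E`. -/
def SuppIn (f : PowerSeries k) (E : Set ℕ) : Prop := ∀ e : ℕ, coeff e f ≠ 0 → e ∈ E

theorem SuppIn.mono {f : PowerSeries k} {E E' : Set ℕ} (h : SuppIn f E) (hE : E ⊆ E') :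
    SuppIn f E' := fun e he => hE (h e he)

theorem suppIn_zero (E : Set ℕ) : SuppIn (0 : PowerSeries k) E := by
  intro e he
  rw [map_zero] at he
  exact absurd rfl he

theorem SuppIn.add {f g : PowerSeries k} {E : Set ℕ} (hf : SuppIn f E) (hg : SuppIn g E) :
    SuppIn (f + g) E := by
  intro e he
  rw [map_add] at he
  by_cases h : coeff e f = 0
  · rw [h, zero_add] at he
    exact hg e he
  · exact hf e h

theorem SuppIn.neg {f : PowerSeries k} {E : Set ℕ} (hf : SuppIn f E) : SuppIn (-f) E := by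
  intro e he
  rw [map_neg, neg_ne_zero] at he
  exact hf e he

theorem SuppIn.sub {f g : PowerSeries k} {E : Set ℕ} (hf : SuppIn f E) (hg : SuppIn g E) :
    SuppIn (f - g) E := by
  rw [sub_eq_add_neg]
  exact hf.add hg.neg

theorem suppIn_X_pow (a : ℕ) {E : Set ℕ} (ha : a ∈ E) : SuppIn ((X : PowerSeries k) ^ a) E := by
  intro e he
  rw [coeff_X_pow] at he
  by_cases h : e = a
  · rw [h]; exact ha
  · rw [if_neg h] at he
    exact absurd rfl he

theorem suppIn_one {E : Set ℕ} (h0 : 0 ∈ E) : SuppIn (1 : PowerSeries k) E := by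
  have := suppIn_X_pow (k := k) 0 h0
  rwa [pow_zero] at this

/-- supports add under multiplication. -/
theorem SuppIn.mul {f g : PowerSeries k} {E₁ E₂ E : Set ℕ} (hf : SuppIn f E₁) (hg : SuppIn g E₂)
    (hE : ∀ p ∈ E₁, ∀ q ∈ E₂, p + q ∈ E) : SuppIn (f * g) E := by
  intro e he
  rw [coeff_mul] at he
  obtain ⟨⟨a, b⟩, hab, hne⟩ := Finset.exists_ne_zero_of_sum_ne_zero he
  have hab' : a + b = e := Finset.HasAntidiagonal.mem_antidiagonal.mp hab
  have ha : coeff a f ≠ 0 := left_ne_zero_of_mul hne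
  have hb : coeff b g ≠ 0 := right_ne_zero_of_mul hne
  rw [← hab']
  exact hE a (hf a ha) b (hg b hb)

theorem suppIn_X_pow_mul {g : PowerSeries k} {E₂ E : Set ℕ} (c : ℕ) (hg : SuppIn g E₂)
    (hE : ∀ q ∈ E₂, c + q ∈ E) : SuppIn (X ^ c * g) E := by
  intro e he
  rw [coeff_X_pow_mul'] at he
  by_cases h : c ≤ e
  · rw [if_pos h] at he
    have := hE _ (hg _ he)
    rwa [Nat.add_sub_cancel' h] at this
  · rw [if_neg h] at he
    exact absurd rfl he

/-- division by `X^c`. -/
theorem exists_eq_X_pow_mul {f : PowerSeries k} {E : Set ℕ} (c : ℕ) (hf : SuppIn f E)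
    (hE : ∀ e ∈ E, c ≤ e) :
    ∃ g : PowerSeries k, f = X ^ c * g ∧ SuppIn g {q | c + q ∈ E} := by
  have hdvd : X ^ c ∣ f := by
    rw [X_pow_dvd_iff]
    intro m hm
    by_contra hne
    have := hE m (hf m hne)
    omega
  obtain ⟨g, rfl⟩ := hdvd
  refine ⟨g, rfl, ?_⟩
  intro q hq
  apply hf
  rw [coeff_X_pow_mul', if_pos (Nat.le_add_right c q), Nat.add_sub_cancel_left]
  exact hq

/-- splitting along a predicate. -/
theorem exists_split (f : PowerSeries k) (p : ℕ → Prop) [DecidablePred p] {E : Set ℕ}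
    (hf : SuppIn f E) :
    ∃ f₁ f₂ : PowerSeries k, f = f₁ + f₂ ∧ SuppIn f₁ {e | e ∈ E ∧ p e} ∧
      SuppIn f₂ {e | e ∈ E ∧ ¬ p e} := by
  refine ⟨PowerSeries.mk fun e => if p e then coeff e f else 0,
    PowerSeries.mk fun e => if p e then 0 else coeff e f, ?_, ?_, ?_⟩
  · ext e
    rw [map_add, coeff_mk, coeff_mk]
    by_cases h : p e
    · rw [if_pos h, if_pos h, add_zero]
    · rw [if_neg h, if_neg h, zero_add]
  · intro e he
    rw [coeff_mk] at he
    by_cases h : p e
    · rw [if_pos h] at he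
      exact ⟨hf e he, h⟩
    · rw [if_neg h] at he
      exact absurd rfl he
  · intro e he
    rw [coeff_mk] at he
    by_cases h : p e
    · rw [if_pos h] at he
      exact absurd rfl he
    · rw [if_neg h] at he
      exact ⟨hf e he, h⟩

variable (A : Subalgebra k (PowerSeries k)) (c : ℕ) (hc : ∀ f : PowerSeries k, X ^ c * f ∈ A)

include hc in
/-- colength of a monomial submodule. -/
theorem colength_monomial (S : Submodule ↥A (PowerSeries k)) (E : Set ℕ)
    (hS : ∀ f : PowerSeries k, f ∈ S ↔ SuppIn f E)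
    (hE : ∀ m : ℕ, c ≤ m → m ∈ E) :
    Eᶜ.Finite ∧ Module.length ↥A (PowerSeries k ⧸ S) = ((Eᶜ.ncard : ℕ) : ℕ∞) := by
  have hXS : ∀ f : PowerSeries k, X ^ c * f ∈ S := by
    intro f
    rw [hS]
    intro m hm
    apply hE
    by_contra h
    rw [coeff_X_pow_mul', if_neg h] at hm
    exact hm rfl
  have hv : vset A S = E := by
    ext m
    constructor
    · rintro ⟨f, hf, hfm⟩
      have hf0 : f ≠ 0 := by
        intro h
        rw [h, order_zero] at hfm
        exact ENat.top_ne_coe _ hfm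
      have := coeff_order hf0
      rw [hfm, ENat.toNat_coe] at this
      exact (hS f).mp hf m this
    · intro hm
      exact ⟨X ^ m, (hS _).mpr (suppIn_X_pow m hm), order_X_pow m⟩
  have := colength A c hc S hXS
  rwa [hv] at this

end Groth.Agent.Lib.helper11.PSMono
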