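import Mathlib

/-!
# The cubical rings `R_n = k + X^n k⟦X⟧`: a free presentation of monomial modules (helper11)

`A ⊆ k⟦X⟧` is the subalgebra of power series without terms of degree `1, …, n-1`.
For distinct exponents `0 < β j < n` (`j : Fin s`) let `M` be the module of power series whose
terms of degree `< n` have degree `0` or some `β j`.  We build the exact sequence
`0 → (Fin s → k⟦X⟧) → A × (Fin s → A) → M → 0`.
-/

set_option autoImplicit false

namespace Groth.Agent.Lib.helper11.RnExt1

open PowerSeries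

universe u

variable {k : Type u} [Field k] (n : ℕ) (A : Subalgebra k (PowerSeries k))
  (hmono : ∀ f : PowerSeries k, f ∈ A ↔ ∀ m : ℕ, coeff m f ≠ 0 → (m = 0 ∨ n ≤ m))

section Ring

include hmono

theorem hc (f : PowerSeries k) : X ^ n * f ∈ A := by
  rw [hmono]
  intro m hm
  rw [coeff_X_pow_mul'] at hm
  by_cases h : n ≤ m
  · exact Or.inr h
  · rw [if_neg h] at hm
    exact absurd rfl hm

theorem coeff_eq_zero_of_mem {a : PowerSeries k} (ha : a ∈ A) {m : ℕ} (h0 : m ≠ 0)
    (hm : m < n) : coeff m a = 0 := by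
  by_contra h
  rcases (hmono a).mp ha m h with h1 | h1
  · exact h0 h1
  · omega

/-- an element of `A` with vanishing constant coefficient is divisible by `X^n`. -/
theorem dvd_of_constantCoeff_eq_zero {a : PowerSeries k} (ha : a ∈ A)
    (h0 : coeff 0 a = 0) : X ^ n ∣ a := by
  rw [X_pow_dvd_iff]
  intro m hm
  by_cases h : m = 0
  · rw [h]; exact h0
  · exact coeff_eq_zero_of_mem n A hmono ha h hm

/-- multiplication by `X^n` as an `A`-linear map `k⟦X⟧ → A`. -/
noncomputable def mulX : PowerSeries k →ₗ[↥A] ↥A where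
  toFun p := ⟨X ^ n * p, hc n A hmono p⟩
  map_add' p q := by
    apply Subtype.ext
    change X ^ n * (p + q) = X ^ n * p + X ^ n * q
    ring
  map_smul' a p := by
    apply Subtype.ext
    change X ^ n * ((a : PowerSeries k) * p) = (a : PowerSeries k) * (X ^ n * p)
    ring

theorem mulX_coe (p : PowerSeries k) : ((mulX n A hmono p : ↥A) : PowerSeries k) = X ^ n * p := rfl

end Ring

section Presentation

variable {s : ℕ} (β : Fin s → ℕ) (hβinj : Function.Injective β)
  (hβ : ∀ j, 0 < β j ∧ β j < n)
  (M : Submodule ↥A (PowerSeries k))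
  (hM : ∀ f : PowerSeries k, f ∈ M ↔
    ∀ m : ℕ, m < n → coeff m f ≠ 0 → (m = 0 ∨ ∃ j, m = β j))

include hM in
theorem one_mem : (1 : PowerSeries k) ∈ M := by
  rw [hM]
  intro m _ hm
  left
  by_contra h
  rw [coeff_one, if_neg h] at hm
  exact hm rfl

include hM in
theorem X_pow_mem (j : Fin s) : (X : PowerSeries k) ^ β j ∈ M := by
  rw [hM]
  intro m _ hm
  right
  refine ⟨j, ?_⟩
  by_contra h
  rw [coeff_X_pow, if_neg h] at hm
  exact hm rfl

include hM in
theorem X_pow_mul_mem (f : PowerSeries k) : X ^ n * f ∈ M := by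
  rw [hM]
  intro m hm hm'
  rw [coeff_X_pow_mul', if_neg (by omega)] at hm'
  exact absurd rfl hm'

/-- the generators as elements of `M`. -/
noncomputable def gen (j : Fin s) : ↥M := ⟨X ^ β j, X_pow_mem n A β M hM j⟩

/-- `y ↦ ∑ y_j X^{β j}`. -/
noncomputable def sigma : (Fin s → PowerSeries k) →ₗ[↥A] PowerSeries k :=
  ∑ j : Fin s, (LinearMap.mulRight ↥A ((X : PowerSeries k) ^ β j)) ∘ₗ
    (LinearMap.proj j : (Fin s → PowerSeries k) →ₗ[↥A] PowerSeries k)

theorem sigma_apply (y : Fin s → PowerSeries k) :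
    sigma A β y = ∑ j : Fin s, y j * X ^ β j := by
  simp [sigma, LinearMap.sum_apply]

/-- the inclusion of the syzygies. -/
noncomputable def iota : (Fin s → PowerSeries k) →ₗ[↥A] (↥A × (Fin s → ↥A)) :=
  LinearMap.prod (-(mulX n A hmono ∘ₗ sigma A β))
    (LinearMap.pi fun j => mulX n A hmono ∘ₗ
      (LinearMap.proj j : (Fin s → PowerSeries k) →ₗ[↥A] PowerSeries k))

theorem iota_fst (y : Fin s → PowerSeries k) :
    (((iota n A hmono β y).1 : ↥A) : PowerSeries k) = -(X ^ n * ∑ j : Fin s, y j * X ^ β j) := by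
  change ((-(mulX n A hmono (sigma A β y)) : ↥A) : PowerSeries k) = _
  rw [sigma_apply]
  rfl

theorem iota_snd (y : Fin s → PowerSeries k) (j : Fin s) :
    (((iota n A hmono β y).2 j : ↥A) : PowerSeries k) = X ^ n * y j := rfl

/-- the presentation map. -/
noncomputable def pi' : (↥A × (Fin s → ↥A)) →ₗ[↥A] ↥M :=
  LinearMap.coprod (LinearMap.toSpanSingleton ↥A ↥M ⟨1, one_mem n A β M hM⟩)
    (Fintype.linearCombination ↥A (gen n A β M hM))

theorem pi'_coe (x : ↥A × (Fin s → ↥A)) :
    ((pi' n A β M hM x : ↥M) : PowerSeries k) =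
      (x.1 : PowerSeries k) + ∑ j : Fin s, ((x.2 j : ↥A) : PowerSeries k) * X ^ β j := by
  simp only [pi', LinearMap.coprod_apply, LinearMap.toSpanSingleton_apply,
    Fintype.linearCombination_apply, Submodule.coe_add, Submodule.coe_smul,
    Submodule.coe_sum]
  congr 1
  · change (x.1 : PowerSeries k) * 1 = _
    rw [mul_one]

theorem iota_injective : Function.Injective (iota n A hmono β) := by
  intro y y' h
  funext j
  have h2 := congrArg (fun x => (((x.2 j : ↥A)) : PowerSeries k)) h
  simp only [iota_snd] at h2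
  exact mul_left_cancel₀ (pow_ne_zero n X_ne_zero) h2

theorem pi'_comp_iota (y : Fin s → PowerSeries k) :
    pi' n A β M hM (iota n A hmono β y) = 0 := by
  apply Subtype.ext
  rw [pi'_coe, iota_fst]
  simp only [iota_snd]
  rw [Submodule.coe_zero, Finset.mul_sum, ← Finset.sum_neg_distrib, ← Finset.sum_add_distrib]
  apply Finset.sum_eq_zero
  intro j _
  ring

include hβinj hβ hmono in
theorem pi'_surjective : Function.Surjective (pi' n A β M hM) := by
  classical
  rintro ⟨f, hf⟩
  set r : PowerSeries k := f - C (coeff 0 f) - ∑ j : Fin s, C (coeff (β j) f) * X ^ β j with hr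
  have hcoef : ∀ m, m < n → coeff m r = 0 := by
    intro m hm
    rw [hr, map_sub, map_sub, map_sum]
    simp only [coeff_C_mul, coeff_X_pow, coeff_C]
    by_cases h0 : m = 0
    · subst h0
      rw [if_pos rfl, sub_self, zero_sub, neg_eq_zero]
      apply Finset.sum_eq_zero
      intro j _
      rw [if_neg (by have := (hβ j).1; omega), mul_zero]
    · rw [if_neg h0, sub_zero]
      by_cases hj : ∃ j₀, m = β j₀
      · obtain ⟨j₀, rfl⟩ := hj
        rw [Finset.sum_eq_single j₀, if_pos rfl, mul_one, sub_self]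
        · intro j _ hne
          rw [if_neg (fun h => hne (hβinj h).symm), mul_zero]
        · intro h; exact absurd (Finset.mem_univ _) h
      · have hf0 : coeff m f = 0 := by
          by_contra hne
          rcases (hM f).mp hf m hm hne with h | h
          · exact h0 h
          · exact hj h
        rw [hf0, zero_sub, neg_eq_zero]
        apply Finset.sum_eq_zero
        intro j _
        rw [if_neg (fun h => hj ⟨j, h⟩), mul_zero]
  obtain ⟨g, hg⟩ := X_pow_dvd_iff.mpr hcoef
  have hCA : ∀ c : k, (C c : PowerSeries k) ∈ A := fun c => A.algebraMap_mem c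
  refine ⟨(⟨C (coeff 0 f) + X ^ n * g, A.add_mem (hCA _) (hc n A hmono g)⟩,
    fun j => ⟨C (coeff (β j) f), hCA _⟩), ?_⟩
  apply Subtype.ext
  rw [pi'_coe]
  change C (coeff 0 f) + X ^ n * g + ∑ j : Fin s, C (coeff (β j) f) * X ^ β j = f
  rw [← hg, hr]
  ring

include hβinj hβ in
theorem exact_iota_pi' : Function.Exact (iota n A hmono β) (pi' n A β M hM) := by
  classical
  intro x
  constructor
  · intro hx
    have hx' : (x.1 : PowerSeries k) + ∑ j : Fin s, ((x.2 j : ↥A) : PowerSeries k) * X ^ β j = 0 := by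
      rw [← pi'_coe n A β M hM x, hx]
      rfl
    have h0 : ∀ j₀ : Fin s, coeff 0 ((x.2 j₀ : ↥A) : PowerSeries k) = 0 := by
      intro j₀
      have h1 := congrArg (coeff (β j₀)) hx'
      rw [map_add, map_sum, map_zero,
        coeff_eq_zero_of_mem n A hmono x.1.2 (by have := (hβ j₀).1; omega) (hβ j₀).2, zero_add,
        Finset.sum_eq_single j₀] at h1
      · rwa [coeff_mul_X_pow', if_pos le_rfl, Nat.sub_self] at h1
      · intro j _ hne
        rw [coeff_mul_X_pow']
        split_ifs with hle
        · have hlt : β j < β j₀ := lt_of_le_of_ne hle (fun h => hne (hβinj h))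
          exact coeff_eq_zero_of_mem n A hmono (x.2 j).2 (by omega)
            (by have := (hβ j₀).2; omega)
        · rfl
      · intro h; exact absurd (Finset.mem_univ _) h
    have hdvd : ∀ j : Fin s, X ^ n ∣ ((x.2 j : ↥A) : PowerSeries k) := fun j =>
      dvd_of_constantCoeff_eq_zero n A hmono (x.2 j).2 (h0 j)
    choose y hy using hdvd
    refine ⟨y, ?_⟩
    apply Prod.ext
    · apply Subtype.ext
      rw [iota_fst]
      have : (x.1 : PowerSeries k) = -∑ j : Fin s, ((x.2 j : ↥A) : PowerSeries k) * X ^ β j :=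
        eq_neg_of_add_eq_zero_left hx'
      rw [this, Finset.mul_sum]
      congr 1
      apply Finset.sum_congr rfl
      intro j _
      rw [hy j]
      ring
    · funext j
      apply Subtype.ext
      rw [iota_snd]
      exact (hy j).symm
  · rintro ⟨y, rfl⟩
    exact pi'_comp_iota n A hmono β M hM y

end Presentation

end Groth.Agent.Lib.helper11.RnExt1
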