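import Mathlib
import Groth.Agent.Lib.helper11.RnExt1
import Groth.Agent.Lib.helper11.ExtShift

/-!
# `Ext¹` over the cubical rings `R_n = k + X^n k⟦X⟧` as an explicit quotient (helper11)

With the presentation `0 → (Fin s → k⟦X⟧) → A × (Fin s → A) → M → 0` of `RnExt1` and
`W = (N : k⟦X⟧)`, there is a surjection `Ξ : (Fin s → W) → Ext¹(M, N)` whose kernel consists of the
tuples `(X^n (ν_j - ν₀ X^{β j}))_j` with `ν₀, ν_j ∈ N`.
-/

set_option autoImplicit false

namespace Groth.Agent.Lib.helper11.RnExt2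

open PowerSeries CategoryTheory Abelian
open Groth.Agent.Lib.helper11.RnExt1 Groth.Agent.Lib.helper11.ExtShift

universe u

variable {k : Type u} [Field k] (n : ℕ) (A : Subalgebra k (PowerSeries k))
  (hmono : ∀ f : PowerSeries k, f ∈ A ↔ ∀ m : ℕ, coeff m f ≠ 0 → (m = 0 ∨ n ≤ m))
  {s : ℕ} (β : Fin s → ℕ) (hβinj : Function.Injective β)
  (hβ : ∀ j, 0 < β j ∧ β j < n)
  (M : Submodule ↥A (PowerSeries k))
  (hM : ∀ f : PowerSeries k, f ∈ M ↔
    ∀ m : ℕ, m < n → coeff m f ≠ 0 → (m = 0 ∨ ∃ j, m = β j))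
  (N : Submodule ↥A (PowerSeries k))

/-- `W = (N : k⟦X⟧)`, the largest `k⟦X⟧`-submodule of `N`. -/
def W : Submodule ↥A (PowerSeries k) where
  carrier := {w | ∀ p : PowerSeries k, w * p ∈ N}
  add_mem' := by
    intro a b ha hb p
    rw [add_mul]
    exact N.add_mem (ha p) (hb p)
  zero_mem' := by
    intro p
    rw [zero_mul]
    exact N.zero_mem
  smul_mem' := by
    intro a w hw p
    have : a • w * p = a • (w * p) := by
      change (a : PowerSeries k) * w * p = (a : PowerSeries k) * (w * p)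
      ring
    rw [this]
    exact N.smul_mem a (hw p)

theorem mem_W {w : PowerSeries k} : w ∈ W A N ↔ ∀ p : PowerSeries k, w * p ∈ N := Iff.rfl

theorem W_le : W A N ≤ N := by
  intro w hw
  have := hw 1
  rwa [mul_one] at this

/-- `w ↦ (y ↦ ∑ w_j y_j)`. -/
noncomputable def Psi : (Fin s → ↥(W A N)) →ₗ[↥A] ((Fin s → PowerSeries k) →ₗ[↥A] ↥N) :=
  LinearMap.mk₂ ↥A
    (fun w y => ⟨∑ j : Fin s, ((w j : ↥(W A N)) : PowerSeries k) * y j,
      N.sum_mem fun j _ => (w j).2 (y j)⟩)
    (by
      intro w w' y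
      apply Subtype.ext
      change ∑ j : Fin s, (((w j : ↥(W A N)) : PowerSeries k) + (w' j : ↥(W A N))) * y j =
        ∑ j : Fin s, ((w j : ↥(W A N)) : PowerSeries k) * y j +
          ∑ j : Fin s, ((w' j : ↥(W A N)) : PowerSeries k) * y j
      rw [← Finset.sum_add_distrib]
      exact Finset.sum_congr rfl fun j _ => by ring)
    (by
      intro a w y
      apply Subtype.ext
      change ∑ j : Fin s, ((a : PowerSeries k) * ((w j : ↥(W A N)) : PowerSeries k)) * y j =
        (a : PowerSeries k) * ∑ j : Fin s, ((w j : ↥(W A N)) : PowerSeries k) * y j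
      rw [Finset.mul_sum]
      exact Finset.sum_congr rfl fun j _ => by ring)
    (by
      intro w y y'
      apply Subtype.ext
      change ∑ j : Fin s, ((w j : ↥(W A N)) : PowerSeries k) * (y j + y' j) =
        ∑ j : Fin s, ((w j : ↥(W A N)) : PowerSeries k) * y j +
          ∑ j : Fin s, ((w j : ↥(W A N)) : PowerSeries k) * y' j
      rw [← Finset.sum_add_distrib]
      exact Finset.sum_congr rfl fun j _ => by ring)
    (by
      intro a w y
      apply Subtype.ext
      change ∑ j : Fin s, ((w j : ↥(W A N)) : PowerSeries k) * ((a : PowerSeries k) * y j) =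
        (a : PowerSeries k) * ∑ j : Fin s, ((w j : ↥(W A N)) : PowerSeries k) * y j
      rw [Finset.mul_sum]
      exact Finset.sum_congr rfl fun j _ => by ring)

theorem Psi_apply (w : Fin s → ↥(W A N)) (y : Fin s → PowerSeries k) :
    ((Psi A N w y : ↥N) : PowerSeries k) =
      ∑ j : Fin s, ((w j : ↥(W A N)) : PowerSeries k) * y j := rfl

include hmono in
theorem Psi_surjective : Function.Surjective (Psi (s := s) A N) := by
  classical
  intro φ
  have hX : (X : PowerSeries k) ^ n ∈ A := by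
    have := hc n A hmono 1
    rwa [mul_one] at this
  have key : ∀ (j : Fin s) (p : PowerSeries k),
      ((φ (Pi.single j p) : ↥N) : PowerSeries k) =
        ((φ (Pi.single j 1) : ↥N) : PowerSeries k) * p := by
    intro j p
    have h1 : (⟨X ^ n * p, hc n A hmono p⟩ : ↥A) • (Pi.single j (1 : PowerSeries k) :
        Fin s → PowerSeries k) = (⟨X ^ n, hX⟩ : ↥A) • Pi.single j p := by
      rw [← Pi.single_smul, ← Pi.single_smul]
      congr 1
      change (X ^ n * p) * 1 = X ^ n * p
      rw [mul_one]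
    have h2 := congrArg (fun z => ((φ z : ↥N) : PowerSeries k)) h1
    simp only [map_smul] at h2
    change (X ^ n * p) * ((φ (Pi.single j 1) : ↥N) : PowerSeries k) =
      X ^ n * ((φ (Pi.single j p) : ↥N) : PowerSeries k) at h2
    have h3 : X ^ n * ((φ (Pi.single j p) : ↥N) : PowerSeries k) =
        X ^ n * (((φ (Pi.single j 1) : ↥N) : PowerSeries k) * p) := by
      rw [← h2]; ring
    exact mul_left_cancel₀ (pow_ne_zero n X_ne_zero) h3
  refine ⟨fun j => ⟨((φ (Pi.single j 1) : ↥N) : PowerSeries k), fun p => ?_⟩, ?_⟩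
  · rw [← key j p]
    exact (φ (Pi.single j p)).2
  · apply LinearMap.ext
    intro y
    apply Subtype.ext
    rw [Psi_apply]
    have hy : y = ∑ j : Fin s, Pi.single j (y j) := by
      funext i
      simp [Finset.sum_apply, Pi.single_apply]
    conv_rhs => rw [hy, map_sum]
    rw [Submodule.coe_sum]
    exact Finset.sum_congr rfl fun j _ => (key j (y j)).symm

/-- the surjection `(Fin s → W) → Ext¹(M, N)`. -/
noncomputable def Xi : (Fin s → ↥(W A N)) →ₗ[↥A]
    Ext (ModuleCat.of ↥A ↥M) (ModuleCat.of ↥A ↥N) 1 :=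
  (deltaLin (iota n A hmono β) (pi' n A β M hM)
    (exact_iota_pi' n A hmono β hβinj hβ M hM) ↥N (iota_injective n A hmono β)
    (pi'_surjective n A hmono β hβinj hβ M hM)) ∘ₗ Psi A N

theorem Xi_surjective : Function.Surjective (Xi n A hmono β hβinj hβ M hM N) := by
  intro x
  obtain ⟨φ, hφ⟩ := deltaLin_surjective (iota n A hmono β) (pi' n A β M hM)
    (iota_injective n A hmono β) (pi'_surjective n A hmono β hβinj hβ M hM)
    (exact_iota_pi' n A hmono β hβinj hβ M hM) ↥N x
  obtain ⟨w, hw⟩ := Psi_surjective n A hmono N φ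
  refine ⟨w, ?_⟩
  unfold Xi
  rw [LinearMap.comp_apply, hw, hφ]

theorem Xi_eq_zero_iff (w : Fin s → ↥(W A N)) :
    Xi n A hmono β hβinj hβ M hM N w = 0 ↔
      ∃ ν₀ ∈ N, ∃ ν : Fin s → PowerSeries k, (∀ j, ν j ∈ N) ∧
        ∀ j, ((w j : ↥(W A N)) : PowerSeries k) = X ^ n * (ν j - ν₀ * X ^ β j) := by
  classical
  unfold Xi
  rw [LinearMap.comp_apply, deltaLin_eq_zero_iff]
  have hX : (X : PowerSeries k) ^ n ∈ A := by
    have := hc n A hmono 1
    rwa [mul_one] at this
  constructor
  · rintro ⟨ψ, hψ⟩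
    refine ⟨((ψ (1, 0) : ↥N) : PowerSeries k), (ψ (1, 0)).2,
      fun j => ((ψ (0, Pi.single j 1) : ↥N) : PowerSeries k), fun j => (ψ (0, Pi.single j 1)).2,
      fun j₀ => ?_⟩
    have h1 := congrArg (fun z => ((z : ↥N) : PowerSeries k))
      (LinearMap.congr_fun hψ (Pi.single j₀ 1))
    simp only [LinearMap.comp_apply] at h1
    rw [Psi_apply] at h1
    have hsum : ∑ j : Fin s, ((w j : ↥(W A N)) : PowerSeries k) *
        (Pi.single j₀ (1 : PowerSeries k) : Fin s → PowerSeries k) j =
        ((w j₀ : ↥(W A N)) : PowerSeries k) := by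
      rw [Finset.sum_eq_single j₀]
      · rw [Pi.single_eq_same, mul_one]
      · intro j _ hne
        rw [Pi.single_eq_of_ne hne, mul_zero]
      · intro h; exact absurd (Finset.mem_univ _) h
    rw [hsum] at h1
    rw [← h1]
    -- decompose `ι' (single j₀ 1)`
    have hdec : iota n A hmono β (Pi.single j₀ 1) =
        (-(⟨X ^ n * X ^ β j₀, hc n A hmono _⟩ : ↥A)) • ((1 : ↥A), (0 : Fin s → ↥A)) +
          (⟨X ^ n, hX⟩ : ↥A) • ((0 : ↥A), (Pi.single j₀ (1 : ↥A) : Fin s → ↥A)) := by
      apply Prod.ext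
      · apply Subtype.ext
        rw [iota_fst]
        simp only [Prod.fst_add, Prod.smul_fst, smul_eq_mul, mul_one, mul_zero, add_zero]
        change -(X ^ n * ∑ j : Fin s, (Pi.single j₀ (1 : PowerSeries k) :
          Fin s → PowerSeries k) j * X ^ β j) = -(X ^ n * X ^ β j₀)
        rw [Finset.sum_eq_single j₀]
        · rw [Pi.single_eq_same, one_mul]
        · intro j _ hne
          rw [Pi.single_eq_of_ne hne, zero_mul]
        · intro h; exact absurd (Finset.mem_univ _) h
      · funext j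
        apply Subtype.ext
        rw [iota_snd]
        simp only [Prod.snd_add, Prod.smul_snd, smul_zero, zero_add, Pi.smul_apply, smul_eq_mul]
        by_cases hj : j = j₀
        · subst hj
          rw [Pi.single_eq_same, Pi.single_eq_same, mul_one, mul_one]
        · rw [Pi.single_eq_of_ne hj, Pi.single_eq_of_ne hj, mul_zero, mul_zero]
          rfl
    rw [hdec, map_add, map_smul, map_smul]
    change -(X ^ n * X ^ β j₀) * ((ψ (1, 0) : ↥N) : PowerSeries k) +
      X ^ n * ((ψ (0, Pi.single j₀ 1) : ↥N) : PowerSeries k) = _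
    ring
  · rintro ⟨ν₀, hν₀, ν, hν, hw⟩
    refine ⟨LinearMap.coprod (LinearMap.toSpanSingleton ↥A ↥N ⟨ν₀, hν₀⟩)
      (Fintype.linearCombination ↥A (fun j => (⟨ν j, hν j⟩ : ↥N))), ?_⟩
    apply LinearMap.ext
    intro y
    apply Subtype.ext
    rw [Psi_apply]
    simp only [LinearMap.comp_apply, LinearMap.coprod_apply, LinearMap.toSpanSingleton_apply,
      Fintype.linearCombination_apply, Submodule.coe_add, Submodule.coe_smul, Submodule.coe_sum]
    change ((iota n A hmono β y).1 : PowerSeries k) * ν₀ +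
      ∑ j : Fin s, (((iota n A hmono β y).2 j : ↥A) : PowerSeries k) * ν j = _
    rw [iota_fst]
    simp only [iota_snd]
    rw [neg_mul, Finset.mul_sum, Finset.sum_mul, ← Finset.sum_neg_distrib,
      ← Finset.sum_add_distrib]
    apply Finset.sum_congr rfl
    intro j _
    rw [hw j]
    ring

end Groth.Agent.Lib.helper11.RnExt2
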