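import Mathlib
import Groth.Agent.Lib.helper11.RnExt2
import Groth.Agent.Lib.helper11.ExtBC

/-!
# Length of `Ext¹` over the cubical rings `R_n` (helper11)

`ℓ(Ext¹(M,N)) + s ℓ(P/W) + ℓ(P/N') = s ℓ(P/X^n N) + ℓ(P/N)` with `P = k⟦X⟧`, `W = (N : P)`,
`N' = {ν ∈ N | ν X^{β j} ∈ N ∀ j}`.
-/

set_option autoImplicit false

namespace Groth.Agent.Lib.helper11.RnExt3

open PowerSeries CategoryTheory Abelian
open Groth.Agent.Lib.helper11.RnExt1 Groth.Agent.Lib.helper11.RnExt2

universe u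

section General

variable {R : Type*} [CommRing R] {Y : Type*} [AddCommGroup Y] [Module R Y]

/-- `ℓ(Y/S) = ℓ(T/S) + ℓ(Y/T)` for `S ≤ T`. -/
theorem length_quot_eq (S T : Submodule R Y) (h : S ≤ T) :
    Module.length R (Y ⧸ S) = Module.length R ↥(T.map S.mkQ) + Module.length R (Y ⧸ T) := by
  apply Module.length_eq_add_of_exact (T.map S.mkQ).subtype (Submodule.factor h)
    (Submodule.subtype_injective _) (Submodule.factor_surjective h)
  intro x
  constructor
  · intro hx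
    obtain ⟨y, rfl⟩ := Submodule.mkQ_surjective S x
    have hy : y ∈ T := by
      have : Submodule.factor h (S.mkQ y) = T.mkQ y := rfl
      rw [this] at hx
      rwa [← LinearMap.mem_ker, Submodule.ker_mkQ] at hx
    exact ⟨⟨S.mkQ y, Submodule.mem_map_of_mem hy⟩, rfl⟩
  · rintro ⟨⟨z, t, ht, rfl⟩, rfl⟩
    change Submodule.factor h (S.mkQ t) = 0
    have : Submodule.factor h (S.mkQ t) = T.mkQ t := rfl
    rw [this, ← LinearMap.mem_ker, Submodule.ker_mkQ]
    exact ht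

/-- two surjections with the same kernel have targets of the same length. -/
theorem length_eq_of_ker_eq {X Z₁ Z₂ : Type*} [AddCommGroup X] [Module R X]
    [AddCommGroup Z₁] [Module R Z₁] [AddCommGroup Z₂] [Module R Z₂]
    (p₁ : X →ₗ[R] Z₁) (p₂ : X →ₗ[R] Z₂) (h₁ : Function.Surjective p₁)
    (h₂ : Function.Surjective p₂) (h : ∀ x, p₁ x = 0 ↔ p₂ x = 0) :
    Module.length R Z₁ = Module.length R Z₂ := by
  have hkereq : LinearMap.ker p₁ = LinearMap.ker p₂ := by
    ext w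
    rw [LinearMap.mem_ker, LinearMap.mem_ker]
    exact h w
  exact ((p₁.quotKerEquivOfSurjective h₁).symm ≪≫ₗ
    (Submodule.quotEquivOfEq _ _ hkereq) ≪≫ₗ p₂.quotKerEquivOfSurjective h₂).length_eq

end General

variable {k : Type u} [Field k] (n : ℕ) (A : Subalgebra k (PowerSeries k))
  (hmono : ∀ f : PowerSeries k, f ∈ A ↔ ∀ m : ℕ, coeff m f ≠ 0 → (m = 0 ∨ n ≤ m))
  {s : ℕ} (β : Fin s → ℕ) (hβinj : Function.Injective β)
  (hβ : ∀ j, 0 < β j ∧ β j < n)
  (M : Submodule ↥A (PowerSeries k))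
  (hM : ∀ f : PowerSeries k, f ∈ M ↔
    ∀ m : ℕ, m < n → coeff m f ≠ 0 → (m = 0 ∨ ∃ j, m = β j))
  (N : Submodule ↥A (PowerSeries k)) (hN : ∀ f : PowerSeries k, X ^ n * f ∈ N)

/-- `X^n N`. -/
noncomputable def XN : Submodule ↥A (PowerSeries k) := N.map (LinearMap.mulLeft ↥A (X ^ n))

theorem mem_XN {f : PowerSeries k} : f ∈ XN n A N ↔ ∃ ν ∈ N, X ^ n * ν = f := Iff.rfl

/-- `N' = {ν ∈ N | ν X^{β j} ∈ N ∀ j}`. -/
def N' : Submodule ↥A (PowerSeries k) where
  carrier := {ν | ν ∈ N ∧ ∀ j, ν * X ^ β j ∈ N}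
  add_mem' := by
    rintro a b ⟨ha, ha'⟩ ⟨hb, hb'⟩
    refine ⟨N.add_mem ha hb, fun j => ?_⟩
    rw [add_mul]
    exact N.add_mem (ha' j) (hb' j)
  zero_mem' := ⟨N.zero_mem, fun j => by rw [zero_mul]; exact N.zero_mem⟩
  smul_mem' := by
    rintro a ν ⟨hν, hν'⟩
    refine ⟨N.smul_mem a hν, fun j => ?_⟩
    have : a • ν * X ^ β j = a • (ν * X ^ β j) := by
      change (a : PowerSeries k) * ν * X ^ β j = (a : PowerSeries k) * (ν * X ^ β j)
      ring
    rw [this]
    exact N.smul_mem a (hν' j)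

theorem mem_N' {ν : PowerSeries k} : ν ∈ N' A β N ↔ ν ∈ N ∧ ∀ j, ν * X ^ β j ∈ N := Iff.rfl

theorem N'_le : N' A β N ≤ N := fun _ h => h.1

/-- `(ν₀, ν) ↦ (X^n (ν_j - ν₀ X^{β j}))_j`. -/
noncomputable def rho : (↥N × (Fin s → ↥N)) →ₗ[↥A] (Fin s → PowerSeries k) :=
  LinearMap.pi fun j =>
    (LinearMap.mulLeft ↥A (X ^ n)) ∘ₗ
      (N.subtype ∘ₗ (LinearMap.proj j : (Fin s → ↥N) →ₗ[↥A] ↥N) ∘ₗ
          (LinearMap.snd ↥A ↥N (Fin s → ↥N)) -
        (LinearMap.mulRight ↥A ((X : PowerSeries k) ^ β j)) ∘ₗ N.subtype ∘ₗ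
          (LinearMap.fst ↥A ↥N (Fin s → ↥N)))

theorem rho_apply (x : ↥N × (Fin s → ↥N)) (j : Fin s) :
    rho n A β N x j = X ^ n * (((x.2 j : ↥N) : PowerSeries k) - (x.1 : PowerSeries k) * X ^ β j) :=
  rfl

/-- `D = W^s`, `D₀ = (X^n N)^s`, `R' = range ρ`. -/
noncomputable def D : Submodule ↥A (Fin s → PowerSeries k) :=
  Submodule.pi Set.univ fun _ : Fin s => W A N

noncomputable def D₀ : Submodule ↥A (Fin s → PowerSeries k) :=
  Submodule.pi Set.univ fun _ : Fin s => XN n A N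

noncomputable def R' : Submodule ↥A (Fin s → PowerSeries k) := LinearMap.range (rho n A β N)

theorem D₀_le_R' : D₀ (s := s) n A N ≤ R' n A β N := by
  intro w hw
  have hw' : ∀ j, ∃ ν ∈ N, X ^ n * ν = w j := fun j => hw j (Set.mem_univ j)
  choose ν hν hνw using hw'
  refine ⟨(0, fun j => ⟨ν j, hν j⟩), ?_⟩
  funext j
  rw [rho_apply]
  change X ^ n * (ν j - (0 : PowerSeries k) * X ^ β j) = w j
  rw [zero_mul, sub_zero, hνw]

include hN in
theorem R'_le_D : R' n A β N ≤ D (s := s) A N := by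
  rintro w ⟨x, rfl⟩ j -
  intro p
  rw [rho_apply, mul_assoc]
  exact hN _

include hN hmono hβinj hβ hM in
/-- the key identity of lengths. -/
theorem length_identity :
    Module.length ↥A (Ext (ModuleCat.of ↥A ↥M) (ModuleCat.of ↥A ↥N) 1) +
        s * Module.length ↥A (PowerSeries k ⧸ W A N) +
        Module.length ↥A (PowerSeries k ⧸ N' A β N) =
      s * Module.length ↥A (PowerSeries k ⧸ XN n A N) +
        Module.length ↥A (PowerSeries k ⧸ N) := by
  classical
  -- (b) `Ext¹ ≃ D/R'`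
  let incl : (Fin s → ↥(W A N)) →ₗ[↥A] (Fin s → PowerSeries k) := (W A N).subtype.compLeft (Fin s)
  have hincl : ∀ w, incl w ∈ D (s := s) A N := fun w j _ => (w j).2
  let p₂ : (Fin s → ↥(W A N)) →ₗ[↥A] ↥((D (s := s) A N).map (R' n A β N).mkQ) :=
    LinearMap.codRestrict _ ((R' n A β N).mkQ ∘ₗ incl)
      (fun w => Submodule.mem_map_of_mem (hincl w))
  have hp₂ : Function.Surjective p₂ := by
    rintro ⟨z, d, hd, rfl⟩
    refine ⟨fun j => ⟨d j, hd j (Set.mem_univ j)⟩, ?_⟩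
    apply Subtype.ext
    rfl
  have hker : ∀ w, Xi n A hmono β hβinj hβ M hM N w = 0 ↔ p₂ w = 0 := by
    intro w
    rw [Xi_eq_zero_iff]
    have h1 : p₂ w = 0 ↔ incl w ∈ R' n A β N := by
      constructor
      · intro h
        have := congrArg Subtype.val h
        change (R' n A β N).mkQ (incl w) = 0 at this
        rwa [← LinearMap.mem_ker, Submodule.ker_mkQ] at this
      · intro h
        apply Subtype.ext
        change (R' n A β N).mkQ (incl w) = 0
        rwa [← LinearMap.mem_ker, Submodule.ker_mkQ]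
    rw [h1]
    constructor
    · rintro ⟨ν₀, hν₀, ν, hν, hw⟩
      refine ⟨(⟨ν₀, hν₀⟩, fun j => ⟨ν j, hν j⟩), ?_⟩
      funext j
      rw [rho_apply]
      exact (hw j).symm
    · rintro ⟨x, hx⟩
      refine ⟨x.1, x.1.2, fun j => x.2 j, fun j => (x.2 j).2, fun j => ?_⟩
      have := congrFun hx j
      rw [rho_apply] at this
      exact this.symm
  have e1 := length_eq_of_ker_eq (R := ↥A) (X := Fin s → ↥(W A N))
    (Z₁ := Ext (ModuleCat.of ↥A ↥M) (ModuleCat.of ↥A ↥N) 1)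
    (Xi n A hmono β hβinj hβ M hM N) p₂
    (Xi_surjective n A hmono β hβinj hβ M hM N) hp₂ hker
  -- (c), (d)
  have hc1 := length_quot_eq (R' n A β N) (D (s := s) A N) (R'_le_D n A β N hN)
  have hc2 := length_quot_eq (D₀ (s := s) n A N) (R' n A β N) (D₀_le_R' n A β N)
  have hc3 := length_quot_eq (N' A β N) N (N'_le A β N)
  -- (e)
  let q₁ : ↥N →ₗ[↥A] ↥((R' n A β N).map (D₀ (s := s) n A N).mkQ) :=
    LinearMap.codRestrict _ ((D₀ (s := s) n A N).mkQ ∘ₗ rho n A β N ∘ₗ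
      LinearMap.inl ↥A ↥N (Fin s → ↥N))
      (fun ν => Submodule.mem_map_of_mem ⟨_, rfl⟩)
  let q₂ : ↥N →ₗ[↥A] ↥(N.map (N' A β N).mkQ) :=
    LinearMap.codRestrict _ ((N' A β N).mkQ ∘ₗ N.subtype)
      (fun ν => Submodule.mem_map_of_mem ν.2)
  have hq₂ : Function.Surjective q₂ := by
    rintro ⟨z, ν, hν, rfl⟩
    exact ⟨⟨ν, hν⟩, Subtype.ext rfl⟩
  have hq₁ : Function.Surjective q₁ := by
    rintro ⟨z, w, ⟨x, rfl⟩, rfl⟩
    refine ⟨x.1, ?_⟩
    apply Subtype.ext
    change (D₀ (s := s) n A N).mkQ (rho n A β N (x.1, 0)) = (D₀ (s := s) n A N).mkQ (rho n A β N x)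
    rw [← sub_eq_zero, ← map_sub, ← LinearMap.mem_ker, Submodule.ker_mkQ]
    intro j _
    refine ⟨-(x.2 j : PowerSeries k), N.neg_mem (x.2 j).2, ?_⟩
    rw [Pi.sub_apply, rho_apply, rho_apply]
    change X ^ n * -(x.2 j : PowerSeries k) =
      X ^ n * ((0 : PowerSeries k) - (x.1 : PowerSeries k) * X ^ β j) -
        X ^ n * ((x.2 j : PowerSeries k) - (x.1 : PowerSeries k) * X ^ β j)
    ring
  have hker2 : ∀ ν, q₁ ν = 0 ↔ q₂ ν = 0 := by
    intro ν
    have h1 : q₁ ν = 0 ↔ rho n A β N (ν, 0) ∈ D₀ (s := s) n A N := by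
      constructor
      · intro h
        have := congrArg Subtype.val h
        change (D₀ (s := s) n A N).mkQ (rho n A β N (ν, 0)) = 0 at this
        rwa [← LinearMap.mem_ker, Submodule.ker_mkQ] at this
      · intro h
        apply Subtype.ext
        change (D₀ (s := s) n A N).mkQ (rho n A β N (ν, 0)) = 0
        rwa [← LinearMap.mem_ker, Submodule.ker_mkQ]
    have h2 : q₂ ν = 0 ↔ (ν : PowerSeries k) ∈ N' A β N := by
      constructor
      · intro h
        have := congrArg Subtype.val h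
        change (N' A β N).mkQ (ν : PowerSeries k) = 0 at this
        rwa [← LinearMap.mem_ker, Submodule.ker_mkQ] at this
      · intro h
        apply Subtype.ext
        change (N' A β N).mkQ (ν : PowerSeries k) = 0
        rwa [← LinearMap.mem_ker, Submodule.ker_mkQ]
    rw [h1, h2, mem_N']
    constructor
    · intro h
      refine ⟨ν.2, fun j => ?_⟩
      obtain ⟨μ, hμ, hμe⟩ := h j (Set.mem_univ j)
      rw [rho_apply] at hμe
      change X ^ n * μ = X ^ n * ((0 : PowerSeries k) - (ν : PowerSeries k) * X ^ β j) at hμe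
      have := mul_left_cancel₀ (pow_ne_zero n X_ne_zero) hμe
      have h3 : (ν : PowerSeries k) * X ^ β j = -μ := by rw [this]; ring
      rw [h3]
      exact N.neg_mem hμ
    · rintro ⟨-, h⟩ j -
      refine ⟨-((ν : PowerSeries k) * X ^ β j), N.neg_mem (h j), ?_⟩
      rw [rho_apply]
      change X ^ n * -((ν : PowerSeries k) * X ^ β j) =
        X ^ n * ((0 : PowerSeries k) - (ν : PowerSeries k) * X ^ β j)
      ring
  have e2 := length_eq_of_ker_eq (R := ↥A) (X := ↥N) q₁ q₂ hq₁ hq₂ hker2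
  -- (f)
  have hf1 : Module.length ↥A ((Fin s → PowerSeries k) ⧸ D (s := s) A N) =
      s * Module.length ↥A (PowerSeries k ⧸ W A N) := by
    unfold D
    rw [(Submodule.quotientPi (fun _ : Fin s => W A N)).length_eq, Module.length_pi_of_fintype]
    simp
  have hf2 : Module.length ↥A ((Fin s → PowerSeries k) ⧸ D₀ (s := s) n A N) =
      s * Module.length ↥A (PowerSeries k ⧸ XN n A N) := by
    unfold D₀
    rw [(Submodule.quotientPi (fun _ : Fin s => XN n A N)).length_eq, Module.length_pi_of_fintype]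
    simp
  rw [e1, ← hf1, ← hf2, hc2, hc3, e2, hc1]
  ring

end Groth.Agent.Lib.helper11.RnExt3
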