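import Mathlib
import Groth.Agent.Lib.helper11.PSMono
import Groth.Agent.Lib.helper11.ExtShift
import Groth.Agent.Lib.helper11.RnExt3

/-!
# `Ext¹` of rank one modules over the `A_{2δ}` singularity `k⟦X², X^{2δ+1}⟧` (helper11)

`M = A + A X^s`, `s = 2δ+1-2i`.  Periodic resolution `0 → M → A² → M → 0`,
`Ext¹(M, N) ≅ (N : M) / (X^{2i} N + X^{2δ+1} N)`.
-/

set_option autoImplicit false

namespace Groth.Agent.Lib.helper11.AevenExt

open PowerSeries CategoryTheory Abelian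
open Groth.Agent.Lib.helper11.PSMono Groth.Agent.Lib.helper11.ExtShift

universe u

/-- the semigroup `⟨2, 2δ+1⟩`. -/
def G (δ : ℕ) : Set ℕ := {e | e % 2 = 0 ∨ 2 * δ + 1 ≤ e}

/-- exponents of `M_i = A + A X^{2δ+1-2i}`. -/
def Ei (δ i : ℕ) : Set ℕ := {e | e % 2 = 0 ∨ 2 * δ + 1 - 2 * i ≤ e}

variable {k : Type u} [Field k] (δ : ℕ) (A : Subalgebra k (PowerSeries k))
  (hmono : ∀ f : PowerSeries k, f ∈ A ↔ SuppIn f (G δ))

section Ring

include hmono

theorem hc (f : PowerSeries k) : X ^ (2 * δ) * f ∈ A := by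
  rw [hmono]
  intro e he
  rw [coeff_X_pow_mul'] at he
  by_cases h : 2 * δ ≤ e
  · change e % 2 = 0 ∨ 2 * δ + 1 ≤ e
    omega
  · rw [if_neg h] at he
    exact absurd rfl he

end Ring

section Module

variable (i : ℕ) (hi : i ≤ δ)

/-- `M_i`. -/
noncomputable def Mi : Submodule ↥A (PowerSeries k) :=
  Submodule.span ↥A {1, (X : PowerSeries k) ^ (2 * δ + 1 - 2 * i)}

include hmono hi in
theorem mem_Mi_iff (f : PowerSeries k) : f ∈ Mi δ A i ↔ SuppIn f (Ei δ i) := by
  classical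
  constructor
  · intro hf
    unfold Mi at hf
    induction hf using Submodule.span_induction with
    | mem x hx =>
      rcases hx with rfl | rfl
      · exact suppIn_one (Or.inl rfl)
      · exact suppIn_X_pow _ (Or.inr le_rfl)
    | zero => exact suppIn_zero _
    | add x y _ _ hx hy => exact hx.add hy
    | smul a x _ hx =>
      change SuppIn ((a : PowerSeries k) * x) (Ei δ i)
      refine SuppIn.mul ((hmono _).mp a.2) hx ?_
      intro p hp q hq
      change p % 2 = 0 ∨ 2 * δ + 1 ≤ p at hp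
      change q % 2 = 0 ∨ 2 * δ + 1 - 2 * i ≤ q at hq
      change (p + q) % 2 = 0 ∨ 2 * δ + 1 - 2 * i ≤ p + q
      omega
  · intro hf
    obtain ⟨f₁, f₂, hsum, h1, h2⟩ := exists_split f (fun e => e % 2 = 0) hf
    have hf₁A : f₁ ∈ A := by
      rw [hmono]
      exact h1.mono (fun e he => Or.inl he.2)
    obtain ⟨g, hg, hgs⟩ := exists_eq_X_pow_mul (2 * δ + 1 - 2 * i) h2 (by
      rintro e ⟨he1, he2⟩
      change e % 2 = 0 ∨ 2 * δ + 1 - 2 * i ≤ e at he1
      omega)
    have hgA : g ∈ A := by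
      rw [hmono]
      intro q hq
      obtain ⟨hq1, hq2⟩ := hgs q hq
      change (2 * δ + 1 - 2 * i + q) % 2 = 0 ∨ _ at hq1
      change q % 2 = 0 ∨ 2 * δ + 1 ≤ q
      omega
    rw [hsum]
    refine Submodule.add_mem _ ?_ ?_
    · have : f₁ = (⟨f₁, hf₁A⟩ : ↥A) • (1 : PowerSeries k) := by
        change f₁ = f₁ * 1
        rw [mul_one]
      rw [this]
      exact Submodule.smul_mem _ _ (Submodule.subset_span (Or.inl rfl))
    · have : f₂ = (⟨g, hgA⟩ : ↥A) • ((X : PowerSeries k) ^ (2 * δ + 1 - 2 * i)) := by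
        change f₂ = g * X ^ (2 * δ + 1 - 2 * i)
        rw [hg, mul_comm]
      rw [this]
      exact Submodule.smul_mem _ _ (Submodule.subset_span (Or.inr rfl))

theorem one_mem_Mi : (1 : PowerSeries k) ∈ Mi δ A i := Submodule.subset_span (Or.inl rfl)

theorem X_pow_mem_Mi : (X : PowerSeries k) ^ (2 * δ + 1 - 2 * i) ∈ Mi δ A i :=
  Submodule.subset_span (Or.inr rfl)

include hmono hi in
theorem X_pow_mul_mem_A₁ {m : PowerSeries k} (hm : m ∈ Mi δ A i) : X ^ (2 * δ + 1) * m ∈ A := by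
  rw [hmono]
  refine suppIn_X_pow_mul _ ((mem_Mi_iff δ A hmono i hi m).mp hm) ?_
  intro q _
  exact Or.inr (by omega)

include hmono hi in
theorem X_pow_mul_mem_A₂ {m : PowerSeries k} (hm : m ∈ Mi δ A i) : X ^ (2 * i) * m ∈ A := by
  rw [hmono]
  refine suppIn_X_pow_mul _ ((mem_Mi_iff δ A hmono i hi m).mp hm) ?_
  intro q hq
  change q % 2 = 0 ∨ 2 * δ + 1 - 2 * i ≤ q at hq
  change (2 * i + q) % 2 = 0 ∨ 2 * δ + 1 ≤ 2 * i + q
  omega

/-- multiplication by `X^c` as a map `M_i → A`. -/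
noncomputable def mulA (c : ℕ) (h : ∀ m ∈ Mi δ A i, X ^ c * m ∈ A) : ↥(Mi δ A i) →ₗ[↥A] ↥A where
  toFun m := ⟨X ^ c * (m : PowerSeries k), h _ m.2⟩
  map_add' p q := by
    apply Subtype.ext
    change X ^ c * ((p : PowerSeries k) + (q : PowerSeries k)) =
      X ^ c * (p : PowerSeries k) + X ^ c * (q : PowerSeries k)
    ring
  map_smul' a p := by
    apply Subtype.ext
    change X ^ c * ((a : PowerSeries k) * (p : PowerSeries k)) =
      (a : PowerSeries k) * (X ^ c * (p : PowerSeries k))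
    ring

/-- the syzygy inclusion `m ↦ (-X^{2δ+1} m, X^{2i} m)`. -/
noncomputable def iota : ↥(Mi δ A i) →ₗ[↥A] (↥A × ↥A) :=
  LinearMap.prod (-(mulA δ A i (2 * δ + 1) fun _ hm => X_pow_mul_mem_A₁ δ A hmono i hi hm))
    (mulA δ A i (2 * i) fun _ hm => X_pow_mul_mem_A₂ δ A hmono i hi hm)

theorem iota_fst (m : ↥(Mi δ A i)) :
    (((iota δ A hmono i hi m).1 : ↥A) : PowerSeries k) = -(X ^ (2 * δ + 1) * (m : PowerSeries k)) :=
  rfl

theorem iota_snd (m : ↥(Mi δ A i)) :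
    (((iota δ A hmono i hi m).2 : ↥A) : PowerSeries k) = X ^ (2 * i) * (m : PowerSeries k) := rfl

/-- the presentation `(a, b) ↦ a + b X^s`. -/
noncomputable def pi' : (↥A × ↥A) →ₗ[↥A] ↥(Mi δ A i) :=
  LinearMap.coprod (LinearMap.toSpanSingleton ↥A ↥(Mi δ A i) ⟨1, one_mem_Mi δ A i⟩)
    (LinearMap.toSpanSingleton ↥A ↥(Mi δ A i) ⟨X ^ (2 * δ + 1 - 2 * i), X_pow_mem_Mi δ A i⟩)

theorem pi'_coe (x : ↥A × ↥A) :
    ((pi' δ A i x : ↥(Mi δ A i)) : PowerSeries k) =
      (x.1 : PowerSeries k) + (x.2 : PowerSeries k) * X ^ (2 * δ + 1 - 2 * i) := by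
  change (x.1 : PowerSeries k) * 1 + (x.2 : PowerSeries k) * X ^ (2 * δ + 1 - 2 * i) = _
  rw [mul_one]

theorem iota_injective : Function.Injective (iota δ A hmono i hi) := by
  intro m m' h
  have h2 := congrArg (fun x => ((x.2 : ↥A) : PowerSeries k)) h
  simp only [iota_snd] at h2
  exact Subtype.ext (mul_left_cancel₀ (pow_ne_zero _ X_ne_zero) h2)

theorem pi'_surjective : Function.Surjective (pi' δ A i) := by
  rintro ⟨f, hf⟩
  have hf' : f ∈ Submodule.span ↥A {1, (X : PowerSeries k) ^ (2 * δ + 1 - 2 * i)} := hf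
  obtain ⟨a, b, hab⟩ := Submodule.mem_span_pair.mp hf'
  refine ⟨(a, b), ?_⟩
  apply Subtype.ext
  rw [pi'_coe]
  change _ = f
  rw [← hab]
  change (a : PowerSeries k) + (b : PowerSeries k) * X ^ (2 * δ + 1 - 2 * i) =
    (a : PowerSeries k) * 1 + (b : PowerSeries k) * X ^ (2 * δ + 1 - 2 * i)
  rw [mul_one]

include hi in
theorem exact_iota_pi' : Function.Exact (iota δ A hmono i hi) (pi' δ A i) := by
  classical
  intro x
  constructor
  · intro hx
    have hx' : (x.1 : PowerSeries k) + (x.2 : PowerSeries k) * X ^ (2 * δ + 1 - 2 * i) = 0 := by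
      rw [← pi'_coe δ A i x, hx]
      rfl
    have hbs : SuppIn (x.2 : PowerSeries k)
        {e | (e % 2 = 0 ∨ 2 * δ + 1 ≤ e) ∧ 2 * i ≤ e} := by
      intro e he
      have heG := (hmono _).mp x.2.2 e he
      refine ⟨heG, ?_⟩
      by_contra hlt
      change e % 2 = 0 ∨ 2 * δ + 1 ≤ e at heG
      have he2 : e % 2 = 0 := by omega
      have h1 : coeff (e + (2 * δ + 1 - 2 * i))
          ((x.2 : PowerSeries k) * X ^ (2 * δ + 1 - 2 * i)) ≠ 0 := by
        rw [coeff_mul_X_pow', if_pos (Nat.le_add_left _ _), Nat.add_sub_cancel]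
        exact he
      have h2 : (x.2 : PowerSeries k) * X ^ (2 * δ + 1 - 2 * i) = -(x.1 : PowerSeries k) :=
        eq_neg_of_add_eq_zero_right hx'
      rw [h2, map_neg, neg_ne_zero] at h1
      have := (hmono _).mp x.1.2 _ h1
      change (e + (2 * δ + 1 - 2 * i)) % 2 = 0 ∨ 2 * δ + 1 ≤ e + (2 * δ + 1 - 2 * i) at this
      omega
    obtain ⟨m, hm, hms⟩ := exists_eq_X_pow_mul (2 * i) hbs (fun e he => he.2)
    have hmM : m ∈ Mi δ A i := by
      rw [mem_Mi_iff δ A hmono i hi]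
      intro q hq
      obtain ⟨hq1, -⟩ := hms q hq
      change q % 2 = 0 ∨ 2 * δ + 1 - 2 * i ≤ q
      omega
    refine ⟨⟨m, hmM⟩, ?_⟩
    apply Prod.ext
    · apply Subtype.ext
      rw [iota_fst]
      have : (x.1 : PowerSeries k) = -((x.2 : PowerSeries k) * X ^ (2 * δ + 1 - 2 * i)) :=
        eq_neg_of_add_eq_zero_left hx'
      rw [this, hm]
      change -(X ^ (2 * δ + 1) * m) = -(X ^ (2 * i) * m * X ^ (2 * δ + 1 - 2 * i))
      have hpow : (X : PowerSeries k) ^ (2 * δ + 1) = X ^ (2 * i) * X ^ (2 * δ + 1 - 2 * i) := by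
        rw [← pow_add]
        congr 1
        omega
      rw [hpow]
      ring
    · apply Subtype.ext
      rw [iota_snd]
      exact hm.symm
  · rintro ⟨m, rfl⟩
    apply Subtype.ext
    rw [pi'_coe, iota_fst, iota_snd]
    have hpow : (X : PowerSeries k) ^ (2 * δ + 1) = X ^ (2 * i) * X ^ (2 * δ + 1 - 2 * i) := by
      rw [← pow_add]
      congr 1
      omega
    rw [hpow]
    change _ = (0 : PowerSeries k)
    ring

end Module

end Groth.Agent.Lib.helper11.AevenExt
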