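import Mathlib
import Groth.Agent.Lib.helper11.AevenExt

/-!
# `Ext¹(M_i, N) ≅ (N : M_i)/(X^{2i} N + X^{2δ+1} N)` over `A_{2δ}` (helper11)
-/

set_option autoImplicit false

namespace Groth.Agent.Lib.helper11.AevenExt2

open PowerSeries CategoryTheory Abelian
open Groth.Agent.Lib.helper11.PSMono Groth.Agent.Lib.helper11.ExtShift
  Groth.Agent.Lib.helper11.AevenExt Groth.Agent.Lib.helper11.RnExt3

universe u

variable {k : Type u} [Field k] (δ : ℕ) (A : Subalgebra k (PowerSeries k))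
  (hmono : ∀ f : PowerSeries k, f ∈ A ↔ SuppIn f (G δ))
  (i : ℕ) (hi : i ≤ δ) (N : Submodule ↥A (PowerSeries k))

/-- the colon `(N : M_i)`. -/
def C : Submodule ↥A (PowerSeries k) where
  carrier := {u | ∀ m ∈ Mi δ A i, u * m ∈ N}
  add_mem' := by
    intro a b ha hb m hm
    rw [add_mul]
    exact N.add_mem (ha m hm) (hb m hm)
  zero_mem' := by
    intro m _
    rw [zero_mul]
    exact N.zero_mem
  smul_mem' := by
    intro a u hu m hm
    have : a • u * m = a • (u * m) := by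
      change (a : PowerSeries k) * u * m = (a : PowerSeries k) * (u * m)
      ring
    rw [this]
    exact N.smul_mem a (hu m hm)

theorem mem_C {u : PowerSeries k} : u ∈ C δ A i N ↔ ∀ m ∈ Mi δ A i, u * m ∈ N := Iff.rfl

/-- `u ↦ (m ↦ u m)`. -/
noncomputable def Psi : ↥(C δ A i N) →ₗ[↥A] (↥(Mi δ A i) →ₗ[↥A] ↥N) :=
  LinearMap.mk₂ ↥A
    (fun u m => ⟨(u : PowerSeries k) * (m : PowerSeries k), u.2 _ m.2⟩)
    (by
      intro u u' m
      apply Subtype.ext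
      change ((u : PowerSeries k) + (u' : PowerSeries k)) * (m : PowerSeries k) =
        (u : PowerSeries k) * (m : PowerSeries k) + (u' : PowerSeries k) * (m : PowerSeries k)
      ring)
    (by
      intro a u m
      apply Subtype.ext
      change ((a : PowerSeries k) * (u : PowerSeries k)) * (m : PowerSeries k) =
        (a : PowerSeries k) * ((u : PowerSeries k) * (m : PowerSeries k))
      ring)
    (by
      intro u m m'
      apply Subtype.ext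
      change (u : PowerSeries k) * ((m : PowerSeries k) + (m' : PowerSeries k)) =
        (u : PowerSeries k) * (m : PowerSeries k) + (u : PowerSeries k) * (m' : PowerSeries k)
      ring)
    (by
      intro a u m
      apply Subtype.ext
      change (u : PowerSeries k) * ((a : PowerSeries k) * (m : PowerSeries k)) =
        (a : PowerSeries k) * ((u : PowerSeries k) * (m : PowerSeries k))
      ring)

theorem Psi_apply (u : ↥(C δ A i N)) (m : ↥(Mi δ A i)) :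
    ((Psi δ A i N u m : ↥N) : PowerSeries k) = (u : PowerSeries k) * (m : PowerSeries k) := rfl

include hmono in
theorem Psi_surjective : Function.Surjective (Psi δ A i N) := by
  intro φ
  have hX : (X : PowerSeries k) ^ (2 * δ) ∈ A := by
    have := hc δ A hmono 1
    rwa [mul_one] at this
  have key : ∀ m : ↥(Mi δ A i), ((φ m : ↥N) : PowerSeries k) =
      ((φ ⟨1, one_mem_Mi δ A i⟩ : ↥N) : PowerSeries k) * (m : PowerSeries k) := by
    intro m
    have h1 : (⟨X ^ (2 * δ) * (m : PowerSeries k), hc δ A hmono _⟩ : ↥A) •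
        (⟨1, one_mem_Mi δ A i⟩ : ↥(Mi δ A i)) = (⟨X ^ (2 * δ), hX⟩ : ↥A) • m := by
      apply Subtype.ext
      change X ^ (2 * δ) * (m : PowerSeries k) * 1 = X ^ (2 * δ) * (m : PowerSeries k)
      rw [mul_one]
    have h2 := congrArg (fun z => ((φ z : ↥N) : PowerSeries k)) h1
    simp only [map_smul] at h2
    change X ^ (2 * δ) * (m : PowerSeries k) * ((φ ⟨1, one_mem_Mi δ A i⟩ : ↥N) : PowerSeries k) =
      X ^ (2 * δ) * ((φ m : ↥N) : PowerSeries k) at h2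
    have h3 : X ^ (2 * δ) * ((φ m : ↥N) : PowerSeries k) =
        X ^ (2 * δ) * (((φ ⟨1, one_mem_Mi δ A i⟩ : ↥N) : PowerSeries k) * (m : PowerSeries k)) := by
      rw [← h2]; ring
    exact mul_left_cancel₀ (pow_ne_zero _ X_ne_zero) h3
  refine ⟨⟨((φ ⟨1, one_mem_Mi δ A i⟩ : ↥N) : PowerSeries k), fun m hm => ?_⟩, ?_⟩
  · rw [← key ⟨m, hm⟩]
    exact (φ ⟨m, hm⟩).2
  · apply LinearMap.ext
    intro m
    apply Subtype.ext
    rw [Psi_apply]
    exact (key m).symm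

/-- the surjection `(N : M_i) → Ext¹(M_i, N)`. -/
noncomputable def Xi : ↥(C δ A i N) →ₗ[↥A]
    Ext (ModuleCat.of ↥A ↥(Mi δ A i)) (ModuleCat.of ↥A ↥N) 1 :=
  (deltaLin (Λ := ↥A) (K := ↥(Mi δ A i)) (F := ↥A × ↥A) (M := ↥(Mi δ A i))
    (iota δ A hmono i hi) (pi' δ A i)
    (exact_iota_pi' δ A hmono i hi) ↥N (iota_injective δ A hmono i hi)
    (pi'_surjective δ A i)) ∘ₗ Psi δ A i N

theorem Xi_surjective : Function.Surjective (Xi δ A hmono i hi N) := by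
  intro x
  obtain ⟨φ, hφ⟩ := deltaLin_surjective (Λ := ↥A) (K := ↥(Mi δ A i)) (F := ↥A × ↥A)
    (M := ↥(Mi δ A i)) (iota δ A hmono i hi) (pi' δ A i)
    (iota_injective δ A hmono i hi) (pi'_surjective δ A i)
    (exact_iota_pi' δ A hmono i hi) ↥N x
  obtain ⟨w, hw⟩ := Psi_surjective δ A hmono i N φ
  refine ⟨w, ?_⟩
  unfold Xi
  rw [LinearMap.comp_apply, hw, hφ]

theorem Xi_eq_zero_iff (u : ↥(C δ A i N)) :
    Xi δ A hmono i hi N u = 0 ↔
      ∃ ν₁ ∈ N, ∃ ν₂ ∈ N, (u : PowerSeries k) = X ^ (2 * i) * ν₂ - X ^ (2 * δ + 1) * ν₁ := by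
  unfold Xi
  rw [LinearMap.comp_apply, deltaLin_eq_zero_iff]
  constructor
  · rintro ⟨ψ, hψ⟩
    refine ⟨((ψ (1, 0) : ↥N) : PowerSeries k), (ψ (1, 0)).2,
      ((ψ (0, 1) : ↥N) : PowerSeries k), (ψ (0, 1)).2, ?_⟩
    have h1 := congrArg (fun z => ((z : ↥N) : PowerSeries k))
      (LinearMap.congr_fun hψ ⟨1, one_mem_Mi δ A i⟩)
    simp only [LinearMap.comp_apply] at h1
    rw [Psi_apply] at h1
    change _ = (u : PowerSeries k) * 1 at h1
    rw [mul_one] at h1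
    rw [← h1]
    have hdec : iota δ A hmono i hi ⟨1, one_mem_Mi δ A i⟩ =
        (iota δ A hmono i hi ⟨1, one_mem_Mi δ A i⟩).1 • ((1 : ↥A), (0 : ↥A)) +
          (iota δ A hmono i hi ⟨1, one_mem_Mi δ A i⟩).2 • ((0 : ↥A), (1 : ↥A)) := by
      apply Prod.ext
      · simp
      · simp
    rw [hdec, map_add, map_smul, map_smul]
    change (((iota δ A hmono i hi ⟨1, one_mem_Mi δ A i⟩).1 : ↥A) : PowerSeries k) *
        ((ψ (1, 0) : ↥N) : PowerSeries k) +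
      (((iota δ A hmono i hi ⟨1, one_mem_Mi δ A i⟩).2 : ↥A) : PowerSeries k) *
        ((ψ (0, 1) : ↥N) : PowerSeries k) = _
    rw [iota_fst, iota_snd]
    change -(X ^ (2 * δ + 1) * 1) * _ + X ^ (2 * i) * 1 * _ = _
    ring
  · rintro ⟨ν₁, hν₁, ν₂, hν₂, hu⟩
    refine ⟨LinearMap.coprod (LinearMap.toSpanSingleton ↥A ↥N ⟨ν₁, hν₁⟩)
      (LinearMap.toSpanSingleton ↥A ↥N ⟨ν₂, hν₂⟩), ?_⟩
    apply LinearMap.ext
    intro m
    apply Subtype.ext
    rw [Psi_apply]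
    change (((iota δ A hmono i hi m).1 : ↥A) : PowerSeries k) * ν₁ +
      (((iota δ A hmono i hi m).2 : ↥A) : PowerSeries k) * ν₂ = _
    rw [iota_fst, iota_snd, hu]
    ring

/-- `(ν₁, ν₂) ↦ X^{2i} ν₂ - X^{2δ+1} ν₁`. -/
noncomputable def rho : (↥N × ↥N) →ₗ[↥A] PowerSeries k :=
  (LinearMap.mulLeft ↥A (X ^ (2 * i))) ∘ₗ N.subtype ∘ₗ (LinearMap.snd ↥A ↥N ↥N) -
    (LinearMap.mulLeft ↥A (X ^ (2 * δ + 1))) ∘ₗ N.subtype ∘ₗ (LinearMap.fst ↥A ↥N ↥N)

theorem rho_apply (x : ↥N × ↥N) :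
    rho δ A i N x = X ^ (2 * i) * (x.2 : PowerSeries k) - X ^ (2 * δ + 1) * (x.1 : PowerSeries k) :=
  rfl

/-- `R = X^{2i} N + X^{2δ+1} N`. -/
noncomputable def R : Submodule ↥A (PowerSeries k) := LinearMap.range (rho δ A i N)

theorem mem_R {u : PowerSeries k} : u ∈ R δ A i N ↔
    ∃ ν₁ ∈ N, ∃ ν₂ ∈ N, u = X ^ (2 * i) * ν₂ - X ^ (2 * δ + 1) * ν₁ := by
  constructor
  · rintro ⟨x, rfl⟩
    exact ⟨x.1, x.1.2, x.2, x.2.2, rfl⟩
  · rintro ⟨ν₁, hν₁, ν₂, hν₂, rfl⟩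
    exact ⟨(⟨ν₁, hν₁⟩, ⟨ν₂, hν₂⟩), rfl⟩

include hmono hi in
theorem R_le_C : R δ A i N ≤ C δ A i N := by
  intro u hu m hm
  obtain ⟨ν₁, hν₁, ν₂, hν₂, rfl⟩ := (mem_R δ A i N).mp hu
  have h1 : (X ^ (2 * i) * ν₂ - X ^ (2 * δ + 1) * ν₁) * m =
      (⟨X ^ (2 * i) * m, X_pow_mul_mem_A₂ δ A hmono i hi hm⟩ : ↥A) • ν₂ -
        (⟨X ^ (2 * δ + 1) * m, X_pow_mul_mem_A₁ δ A hmono i hi hm⟩ : ↥A) • ν₁ := by
    change _ = X ^ (2 * i) * m * ν₂ - X ^ (2 * δ + 1) * m * ν₁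
    ring
  rw [h1]
  exact N.sub_mem (N.smul_mem _ hν₂) (N.smul_mem _ hν₁)

include hmono hi in
/-- `ℓ(Ext¹(M_i, N)) + ℓ(P/(N:M_i)) = ℓ(P/R)`. -/
theorem length_identity :
    Module.length ↥A (Ext (ModuleCat.of ↥A ↥(Mi δ A i)) (ModuleCat.of ↥A ↥N) 1) +
        Module.length ↥A (PowerSeries k ⧸ C δ A i N) =
      Module.length ↥A (PowerSeries k ⧸ R δ A i N) := by
  let p₂ : ↥(C δ A i N) →ₗ[↥A] ↥((C δ A i N).map (R δ A i N).mkQ) :=
    LinearMap.codRestrict _ ((R δ A i N).mkQ ∘ₗ (C δ A i N).subtype)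
      (fun u => Submodule.mem_map_of_mem u.2)
  have hp₂ : Function.Surjective p₂ := by
    rintro ⟨z, d, hd, rfl⟩
    exact ⟨⟨d, hd⟩, Subtype.ext rfl⟩
  have hker : ∀ u, Xi δ A hmono i hi N u = 0 ↔ p₂ u = 0 := by
    intro u
    rw [Xi_eq_zero_iff, ← mem_R]
    constructor
    · intro h
      apply Subtype.ext
      change (R δ A i N).mkQ (u : PowerSeries k) = 0
      rwa [← LinearMap.mem_ker, Submodule.ker_mkQ]
    · intro h
      have := congrArg Subtype.val h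
      change (R δ A i N).mkQ (u : PowerSeries k) = 0 at this
      rwa [← LinearMap.mem_ker, Submodule.ker_mkQ] at this
  have e1 := length_eq_of_ker_eq (R := ↥A) (X := ↥(C δ A i N))
    (Z₁ := Ext (ModuleCat.of ↥A ↥(Mi δ A i)) (ModuleCat.of ↥A ↥N) 1)
    (Xi δ A hmono i hi N) p₂ (Xi_surjective δ A hmono i hi N) hp₂ hker
  rw [e1, length_quot_eq (R δ A i N) (C δ A i N) (R_le_C δ A hmono i hi N)]

end Groth.Agent.Lib.helper11.AevenExt2
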