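import Mathlib
import Groth.Agent.Lib.helper11.AevenExt2

/-!
# `ℓ Ext¹(M_i, M_j) = 2 min(i, j)` over `A_{2δ}` (helper11)
-/

set_option autoImplicit false

namespace Groth.Agent.Lib.helper11.AevenExt3

open PowerSeries CategoryTheory Abelian
open Groth.Agent.Lib.helper11.PSMono Groth.Agent.Lib.helper11.AevenExt
  Groth.Agent.Lib.helper11.AevenExt2

universe u

/-- exponents described by parity thresholds. -/
def PE (a b : ℕ) : Set ℕ := {e | (e % 2 = 0 ∧ 2 * a ≤ e) ∨ (e % 2 = 1 ∧ 2 * b + 1 ≤ e)}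

theorem ncard_compl_PE (a b : ℕ) : (PE a b)ᶜ.ncard = a + b := by
  classical
  have hcompl : (PE a b)ᶜ =
      ↑((Finset.range a).image (fun q => 2 * q) ∪ (Finset.range b).image (fun q => 2 * q + 1)) := by
    ext m
    simp only [PE, Set.mem_compl_iff, Set.mem_setOf_eq, Finset.coe_union, Finset.coe_image,
      Finset.coe_range, Set.mem_union, Set.mem_image, Set.mem_Iio]
    constructor
    · intro hm
      rcases Nat.mod_two_eq_zero_or_one m with h | h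
      · left
        exact ⟨m / 2, by omega, by omega⟩
      · right
        exact ⟨m / 2, by omega, by omega⟩
    · rintro (⟨q, hq, rfl⟩ | ⟨q, hq, rfl⟩) <;> omega
  rw [hcompl, Set.ncard_coe_finset, Finset.card_union_of_disjoint,
    Finset.card_image_of_injective _ (fun x y h => by
      have h' : 2 * x = 2 * y := h
      omega),
    Finset.card_image_of_injective _ (fun x y h => by
      have h' : 2 * x + 1 = 2 * y + 1 := h
      omega),
    Finset.card_range, Finset.card_range]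
  rw [Finset.disjoint_left]
  intro m hm1 hm2
  rw [Finset.mem_image] at hm1 hm2
  obtain ⟨q, -, rfl⟩ := hm1
  obtain ⟨q', -, hq'⟩ := hm2
  omega

variable {k : Type u} [Field k] (δ : ℕ) (A : Subalgebra k (PowerSeries k))
  (hmono : ∀ f : PowerSeries k, f ∈ A ↔ SuppIn f (G δ))
  (i j : ℕ) (hi : i ≤ δ) (hj : j ≤ δ)

include hmono hi hj in
theorem mem_C_iff (f : PowerSeries k) :
    f ∈ C δ A i (Mi δ A j) ↔ SuppIn f (PE (i - j) (δ - j)) := by
  constructor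
  · intro hf e he
    have h1 := hf 1 (one_mem_Mi δ A i)
    rw [mul_one, mem_Mi_iff δ A hmono j hj] at h1
    have h2 := hf _ (X_pow_mem_Mi δ A i)
    rw [mem_Mi_iff δ A hmono j hj] at h2
    have he1 := h1 e he
    have he2 := h2 (e + (2 * δ + 1 - 2 * i)) (by
      rw [coeff_mul_X_pow', if_pos (Nat.le_add_left _ _), Nat.add_sub_cancel]
      exact he)
    change e % 2 = 0 ∨ 2 * δ + 1 - 2 * j ≤ e at he1
    change (e + (2 * δ + 1 - 2 * i)) % 2 = 0 ∨ 2 * δ + 1 - 2 * j ≤ e + (2 * δ + 1 - 2 * i) at he2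
    change (e % 2 = 0 ∧ 2 * (i - j) ≤ e) ∨ (e % 2 = 1 ∧ 2 * (δ - j) + 1 ≤ e)
    omega
  · intro hf m hm
    rw [mem_Mi_iff δ A hmono j hj]
    refine SuppIn.mul hf ((mem_Mi_iff δ A hmono i hi m).mp hm) ?_
    intro p hp q hq
    change (p % 2 = 0 ∧ 2 * (i - j) ≤ p) ∨ (p % 2 = 1 ∧ 2 * (δ - j) + 1 ≤ p) at hp
    change q % 2 = 0 ∨ 2 * δ + 1 - 2 * i ≤ q at hq
    change (p + q) % 2 = 0 ∨ 2 * δ + 1 - 2 * j ≤ p + q
    omega

include hmono hi hj in
theorem mem_R_iff (f : PowerSeries k) :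
    f ∈ R δ A i (Mi δ A j) ↔ SuppIn f (PE i (δ - (j - i))) := by
  classical
  rw [mem_R]
  constructor
  · rintro ⟨ν₁, hν₁, ν₂, hν₂, rfl⟩
    rw [mem_Mi_iff δ A hmono j hj] at hν₁ hν₂
    refine SuppIn.sub (suppIn_X_pow_mul _ hν₂ ?_) (suppIn_X_pow_mul _ hν₁ ?_)
    · intro q hq
      change q % 2 = 0 ∨ 2 * δ + 1 - 2 * j ≤ q at hq
      change ((2 * i + q) % 2 = 0 ∧ 2 * i ≤ 2 * i + q) ∨
        ((2 * i + q) % 2 = 1 ∧ 2 * (δ - (j - i)) + 1 ≤ 2 * i + q)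
      omega
    · intro q hq
      change q % 2 = 0 ∨ 2 * δ + 1 - 2 * j ≤ q at hq
      change ((2 * δ + 1 + q) % 2 = 0 ∧ 2 * i ≤ 2 * δ + 1 + q) ∨
        ((2 * δ + 1 + q) % 2 = 1 ∧ 2 * (δ - (j - i)) + 1 ≤ 2 * δ + 1 + q)
      omega
  · intro hf
    obtain ⟨f₀, f₁, hsum, h0, h1⟩ := exists_split f (fun e => e % 2 = 0) hf
    obtain ⟨g₀, hg₀, hg₀s⟩ := exists_eq_X_pow_mul (2 * i) h0 (by
      rintro e ⟨he1, he2⟩
      change (e % 2 = 0 ∧ 2 * i ≤ e) ∨ (e % 2 = 1 ∧ 2 * (δ - (j - i)) + 1 ≤ e) at he1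
      omega)
    have hg₀M : g₀ ∈ Mi δ A j := by
      rw [mem_Mi_iff δ A hmono j hj]
      intro q hq
      obtain ⟨-, hq2⟩ := hg₀s q hq
      change q % 2 = 0 ∨ 2 * δ + 1 - 2 * j ≤ q
      omega
    by_cases hji : j ≤ i
    · obtain ⟨g₁, hg₁, hg₁s⟩ := exists_eq_X_pow_mul (2 * δ + 1) h1 (by
        rintro e ⟨he1, he2⟩
        change (e % 2 = 0 ∧ 2 * i ≤ e) ∨ (e % 2 = 1 ∧ 2 * (δ - (j - i)) + 1 ≤ e) at he1
        omega)
      have hg₁M : g₁ ∈ Mi δ A j := by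
        rw [mem_Mi_iff δ A hmono j hj]
        intro q hq
        obtain ⟨-, hq2⟩ := hg₁s q hq
        change q % 2 = 0 ∨ 2 * δ + 1 - 2 * j ≤ q
        omega
      refine ⟨-g₁, (Mi δ A j).neg_mem hg₁M, g₀, hg₀M, ?_⟩
      rw [hsum, hg₀, hg₁]
      ring
    · obtain ⟨h, hh, hhs⟩ := exists_eq_X_pow_mul (2 * i) h1 (by
        rintro e ⟨he1, he2⟩
        change (e % 2 = 0 ∧ 2 * i ≤ e) ∨ (e % 2 = 1 ∧ 2 * (δ - (j - i)) + 1 ≤ e) at he1
        omega)
      have hhM : h ∈ Mi δ A j := by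
        rw [mem_Mi_iff δ A hmono j hj]
        intro q hq
        obtain ⟨hq1, hq2⟩ := hhs q hq
        change ((2 * i + q) % 2 = 0 ∧ 2 * i ≤ 2 * i + q) ∨
          ((2 * i + q) % 2 = 1 ∧ 2 * (δ - (j - i)) + 1 ≤ 2 * i + q) at hq1
        change q % 2 = 0 ∨ 2 * δ + 1 - 2 * j ≤ q
        omega
      refine ⟨0, (Mi δ A j).zero_mem, g₀ + h, (Mi δ A j).add_mem hg₀M hhM, ?_⟩
      rw [hsum, hg₀, hh]
      ring

include hmono hi hj in
theorem main :
    Module.length ↥A (Ext (ModuleCat.of ↥A ↥(Mi δ A i)) (ModuleCat.of ↥A ↥(Mi δ A j)) 1) =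
      ((2 * min i j : ℕ) : ℕ∞) := by
  have key := length_identity δ A hmono i hi (Mi δ A j)
  have h1 := (colength_monomial A (2 * δ) (hc δ A hmono) (C δ A i (Mi δ A j))
    (PE (i - j) (δ - j)) (mem_C_iff δ A hmono i j hi hj) (fun m hm => by
      change (m % 2 = 0 ∧ 2 * (i - j) ≤ m) ∨ (m % 2 = 1 ∧ 2 * (δ - j) + 1 ≤ m)
      omega)).2
  have h2 := (colength_monomial A (2 * δ) (hc δ A hmono) (R δ A i (Mi δ A j))
    (PE i (δ - (j - i))) (mem_R_iff δ A hmono i j hi hj) (fun m hm => by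
      change (m % 2 = 0 ∧ 2 * i ≤ m) ∨ (m % 2 = 1 ∧ 2 * (δ - (j - i)) + 1 ≤ m)
      omega)).2
  rw [h1, h2, ncard_compl_PE, ncard_compl_PE] at key
  have hfin : Module.length ↥A
      (Ext (ModuleCat.of ↥A ↥(Mi δ A i)) (ModuleCat.of ↥A ↥(Mi δ A j)) 1) ≠ ⊤ := by
    intro htop
    rw [htop, top_add] at key
    exact ENat.top_ne_coe _ key
  obtain ⟨l, hl⟩ := ENat.ne_top_iff_exists.mp hfin
  rw [← hl] at key ⊢
  have key' : l + (i - j + (δ - j)) = i + (δ - (j - i)) := by exact_mod_cast key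
  have : l = 2 * min i j := by omega
  rw [this]

end Groth.Agent.Lib.helper11.AevenExt3
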