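import Mathlib
import Groth.Agent.Lib.helper11.AevenExt3

/-!
# The semigroup `⟨2, 2δ+1⟩` and the statement form of `ℓ Ext¹(M_i, M_j) = 2 min(i,j)` (helper11)
-/

set_option autoImplicit false

namespace Groth.Agent.Lib.helper11.AevenExt4

open PowerSeries CategoryTheory Abelian
open Groth.Agent.Lib.helper11.PSMono Groth.Agent.Lib.helper11.AevenExt
  Groth.Agent.Lib.helper11.AevenExt2 Groth.Agent.Lib.helper11.AevenExt3

universe u

theorem mem_closure_iff (δ n : ℕ) :
    n ∈ AddSubmonoid.closure ({2, 2 * δ + 1} : Set ℕ) ↔ n ∈ G δ := by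
  constructor
  · intro hn
    induction hn using AddSubmonoid.closure_induction with
    | mem x hx =>
      rcases hx with rfl | rfl
      · exact Or.inl rfl
      · exact Or.inr le_rfl
    | zero => exact Or.inl rfl
    | add x y _ _ hx hy =>
      change x % 2 = 0 ∨ 2 * δ + 1 ≤ x at hx
      change y % 2 = 0 ∨ 2 * δ + 1 ≤ y at hy
      change (x + y) % 2 = 0 ∨ 2 * δ + 1 ≤ x + y
      omega
  · intro hn
    change n % 2 = 0 ∨ 2 * δ + 1 ≤ n at hn
    have h2 : (2 : ℕ) ∈ AddSubmonoid.closure ({2, 2 * δ + 1} : Set ℕ) :=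
      AddSubmonoid.subset_closure (Set.mem_insert _ _)
    have hd : (2 * δ + 1 : ℕ) ∈ AddSubmonoid.closure ({2, 2 * δ + 1} : Set ℕ) :=
      AddSubmonoid.subset_closure (Set.mem_insert_of_mem _ rfl)
    have heven : ∀ q : ℕ, 2 * q ∈ AddSubmonoid.closure ({2, 2 * δ + 1} : Set ℕ) := by
      intro q
      have := AddSubmonoid.nsmul_mem _ h2 q
      have e : q • (2 : ℕ) = 2 * q := by rw [smul_eq_mul, mul_comm]
      rw [e] at this
      exact this
    by_cases hpar : n % 2 = 0
    · have : n = 2 * (n / 2) := by omega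
      rw [this]
      exact heven _
    · have hle : 2 * δ + 1 ≤ n := by omega
      have : n = (2 * δ + 1) + 2 * ((n - (2 * δ + 1)) / 2) := by omega
      rw [this]
      exact AddSubmonoid.add_mem _ hd (heven _)

theorem main' {k : Type u} [Field k] (δ : ℕ) (A : Subalgebra k (PowerSeries k))
    (hmono : ∀ f : PowerSeries k, f ∈ A ↔ ∀ n : ℕ, PowerSeries.coeff n f ≠ 0 →
      n ∈ AddSubmonoid.closure ({2, 2 * δ + 1} : Set ℕ))
    (i j : ℕ) (hi : i ≤ δ) (hj : j ≤ δ) :
    Module.length ↥A (Abelian.Ext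
      (ModuleCat.of ↥A ↥(Submodule.span ↥A
        ({1, (PowerSeries.X : PowerSeries k) ^ (2 * δ + 1 - 2 * i)} : Set (PowerSeries k))))
      (ModuleCat.of ↥A ↥(Submodule.span ↥A
        ({1, (PowerSeries.X : PowerSeries k) ^ (2 * δ + 1 - 2 * j)} : Set (PowerSeries k)))) 1) =
      ((2 * min i j : ℕ) : ℕ∞) := by
  have hmono' : ∀ f : PowerSeries k, f ∈ A ↔ SuppIn f (G δ) := by
    intro f
    rw [hmono]
    constructor
    · intro h e he
      exact (mem_closure_iff δ e).mp (h e he)
    · intro h e he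
      exact (mem_closure_iff δ e).mpr (h e he)
  exact AevenExt3.main δ A hmono' i j hi hj

end Groth.Agent.Lib.helper11.AevenExt4
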