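import Mathlib
import Groth.Agent.Lib.helper11.GorHull
import Groth.Agent.Lib.helper11.LCGamma
import Groth.Agent.Lib.Helper26.Matlis

/-!
# Linkage: `𝔠 : (𝔠 : I) = I` for unmixed `I` over a Gorenstein quotient (helper11)
-/

set_option autoImplicit false

namespace Groth.Agent.Lib.helper11.Liaison

open CategoryTheory IsLocalRing
open Groth.Agent.Lib.helper11

universe u

section Artin

variable {A : Type u} [CommRing A] [hA : LocCoh.IsGorensteinLocalRing A]

/-- double annihilator property of a zero-dimensional Gorenstein local ring. -/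
theorem mem_of_forall_mul_eq_zero (h0 : ringKrullDim A = 0) (J : Ideal A) (z : A)
    (hz : ∀ w : A, (∀ y ∈ J, w * y = 0) → z * w = 0) : z ∈ J := by
  by_contra hzJ
  obtain ⟨g, hg⟩ := GorHull.exists_hull hA.exists_hasInjectiveDimensionLT 0
    (by exact_mod_cast h0)
  have hz0 : (Submodule.mkQ J z) ≠ 0 := by
    rw [Ne, Submodule.mkQ_apply, Submodule.Quotient.mk_eq_zero]
    exact hzJ
  obtain ⟨φ, hφ⟩ := Groth.Agent.Lib.Helper26.Matlis.exists_linearMap_apply_ne_zero hg hz0
  let φ' : A →ₗ[A] A :=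
    (LCKit.ev (maximalIdeal A) (ModuleCat.of A A)) ∘ₗ φ ∘ₗ (Submodule.mkQ J)
  have hφ'z : φ' z ≠ 0 := by
    intro h
    apply hφ
    apply LCKit.ev_injective (maximalIdeal A) (ModuleCat.of A A)
    rw [map_zero]
    exact h
  have hφ'J : ∀ y ∈ J, φ' y = 0 := by
    intro y hy
    have : Submodule.mkQ J y = 0 := by
      rw [Submodule.mkQ_apply, Submodule.Quotient.mk_eq_zero]
      exact hy
    change (LCKit.ev (maximalIdeal A) (ModuleCat.of A A)) (φ (Submodule.mkQ J y)) = 0
    rw [this, map_zero, map_zero]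
  have hmul : ∀ y : A, φ' y = y * φ' 1 := by
    intro y
    have := φ'.map_smul y 1
    rwa [smul_eq_mul, mul_one, smul_eq_mul] at this
  apply hφ'z
  rw [hmul z]
  apply hz
  intro y hy
  rw [mul_comm, ← hmul y]
  exact hφ'J y hy

end Artin

section Global

variable {R : Type u} [CommRing R] [IsNoetherianRing R]

/-- `𝔠 : (𝔠 : I) = I` when `R/𝔠` is Gorenstein and the associated primes of `R/I` are minimal
over `𝔠`. -/
theorem colon_colon_eq (𝔠 I : Ideal R) [hG : LocCoh.IsGorensteinRing (R ⧸ 𝔠)] (h𝔠I : 𝔠 ≤ I)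
    (hass : ∀ P ∈ associatedPrimes R (R ⧸ I), P ∈ 𝔠.minimalPrimes) :
    𝔠.colon ((𝔠.colon (I : Set R) : Ideal R) : Set R) = I := by
  apply le_antisymm
  · intro x hx
    by_contra hxI
    have hx0 : (Ideal.Quotient.mk I x) ≠ 0 := by rwa [Ne, Ideal.Quotient.eq_zero_iff_mem]
    obtain ⟨P, hPass, hle⟩ :=
      exists_le_isAssociatedPrime_of_isNoetherianRing R (Ideal.Quotient.mk I x) hx0
    have hPmin := hass P hPass
    rw [Ideal.minimalPrimes_eq_comap] at hPmin
    obtain ⟨P', hP'min, rfl⟩ := hPmin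
    haveI hP'p : P'.IsPrime := hP'min.1.1
    haveI : LocCoh.IsGorensteinLocalRing (Localization.AtPrime P') :=
      hG.isGorensteinLocalRing_localization P'
    have h0 : ringKrullDim (Localization.AtPrime P') = 0 := by
      rw [IsLocalization.AtPrime.ringKrullDim_eq_height P' (Localization.AtPrime P'),
        (Ideal.height_eq_zero_iff).2 hP'min]
      rfl
    let ι : (R ⧸ 𝔠) →+* Localization.AtPrime P' := algebraMap (R ⧸ 𝔠) (Localization.AtPrime P')
    let Ib : Ideal (R ⧸ 𝔠) := I.map (Ideal.Quotient.mk 𝔠)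
    have hIb : ∀ yb ∈ Ib, ∃ y ∈ I, Ideal.Quotient.mk 𝔠 y = yb := fun yb hyb =>
      (Ideal.mem_map_iff_of_surjective _ Ideal.Quotient.mk_surjective).1 hyb
    -- the image of `x` lies in `Ib A`
    have hmem : ι (Ideal.Quotient.mk 𝔠 x) ∈ Ib.map ι := by
      apply mem_of_forall_mul_eq_zero h0
      intro w hw
      obtain ⟨rb, sb, rfl⟩ := IsLocalization.exists_mk'_eq P'.primeCompl w
      -- the module `rb Ib` vanishes at `P'`
      let N : Ideal (R ⧸ 𝔠) := Ideal.span {rb} * Ib
      have hN : (⟨P', hP'p⟩ : PrimeSpectrum (R ⧸ 𝔠)) ∉ Module.support (R ⧸ 𝔠) N := by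
        rw [Module.notMem_support_iff']
        rintro ⟨m, hm⟩
        -- elements of `N` are killed: use span induction via the annihilating ideal
        have key : ∀ m ∈ N, ∃ t : R ⧸ 𝔠, t ∉ P' ∧ t * m = 0 := by
          intro m hm
          refine Submodule.mul_induction_on hm ?_ ?_
          · intro a ha b hb
            obtain ⟨c', rfl⟩ := Ideal.mem_span_singleton'.1 ha
            have h1 := hw (ι b) (Ideal.mem_map_of_mem ι hb)
            have h2 : IsLocalization.mk' (Localization.AtPrime P') (rb * b) sb = 0 := by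
              rw [← h1, IsLocalization.mk'_eq_mul_mk'_one, IsLocalization.mk'_eq_mul_mk'_one rb,
                map_mul]
              ring
            obtain ⟨t, ht⟩ := (IsLocalization.mk'_eq_zero_iff (rb * b) sb).1 h2
            refine ⟨t.1, t.2, ?_⟩
            calc t.1 * (c' * rb * b) = c' * (t.1 * (rb * b)) := by ring
              _ = 0 := by rw [ht, mul_zero]
          · rintro a b ⟨t₁, ht₁, h₁⟩ ⟨t₂, ht₂, h₂⟩
            refine ⟨t₁ * t₂, fun hmem => (hP'p.mem_or_mem hmem).elim ht₁ ht₂, ?_⟩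
            calc t₁ * t₂ * (a + b) = t₂ * (t₁ * a) + t₁ * (t₂ * b) := by ring
              _ = 0 := by rw [h₁, h₂, mul_zero, mul_zero, add_zero]
        obtain ⟨t, ht, htm⟩ := key m hm
        exact ⟨t, ht, Subtype.ext htm⟩
      rw [Module.mem_support_iff_of_finite] at hN
      obtain ⟨tb, htbann, htbP⟩ := Set.not_subset.1 hN
      obtain ⟨t, rfl⟩ := Ideal.Quotient.mk_surjective tb
      obtain ⟨r, rfl⟩ := Ideal.Quotient.mk_surjective rb
      have htr : t * r ∈ 𝔠.colon (I : Set R) := by
        rw [Submodule.mem_colon]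
        intro y hy
        have hyN : Ideal.Quotient.mk 𝔠 r * Ideal.Quotient.mk 𝔠 y ∈ N :=
          Ideal.mul_mem_mul (Ideal.mem_span_singleton_self _) (Ideal.mem_map_of_mem _ hy)
        have h1 := Module.mem_annihilator.1 htbann ⟨_, hyN⟩
        have h2 : Ideal.Quotient.mk 𝔠 t * (Ideal.Quotient.mk 𝔠 r * Ideal.Quotient.mk 𝔠 y) = 0 :=
          congrArg Subtype.val h1
        rw [← map_mul, ← map_mul, Ideal.Quotient.eq_zero_iff_mem] at h2
        rw [smul_eq_mul, mul_assoc]
        exact h2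
      have hxtr : x * (t * r) ∈ 𝔠 := by
        have := (Submodule.mem_colon.1 hx) (t * r) htr
        rwa [smul_eq_mul] at this
      have h3 : Ideal.Quotient.mk 𝔠 t * (Ideal.Quotient.mk 𝔠 x * Ideal.Quotient.mk 𝔠 r) = 0 := by
        rw [← map_mul, ← map_mul, Ideal.Quotient.eq_zero_iff_mem]
        have : t * (x * r) = x * (t * r) := by ring
        rw [this]
        exact hxtr
      have h4 : IsLocalization.mk' (Localization.AtPrime P')
          (Ideal.Quotient.mk 𝔠 x * Ideal.Quotient.mk 𝔠 r) sb = 0 :=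
        (IsLocalization.mk'_eq_zero_iff _ sb).2 ⟨⟨_, htbP⟩, h3⟩
      have h5 : ι (Ideal.Quotient.mk 𝔠 x) *
          IsLocalization.mk' (Localization.AtPrime P') (Ideal.Quotient.mk 𝔠 r) sb =
          IsLocalization.mk' (Localization.AtPrime P')
            (Ideal.Quotient.mk 𝔠 x * Ideal.Quotient.mk 𝔠 r) sb :=
        IsLocalization.mul_mk'_eq_mk'_of_mul _ _ _
      rw [h5, h4]
    -- pull back
    obtain ⟨⟨⟨ab, hab⟩, sb⟩, hz⟩ :=
      (IsLocalization.mem_map_algebraMap_iff P'.primeCompl (Localization.AtPrime P')).1 hmem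
    have hz' : ι (Ideal.Quotient.mk 𝔠 x * sb.1) = ι ab := by
      rw [map_mul]
      exact hz
    obtain ⟨tb, htb⟩ := (IsLocalization.eq_iff_exists P'.primeCompl (Localization.AtPrime P')).1 hz'
    -- `u x ∈ I` with `u ∉ P`
    obtain ⟨s, hs⟩ := Ideal.Quotient.mk_surjective (tb.1 * sb.1)
    have hsP : s ∉ P'.comap (Ideal.Quotient.mk 𝔠) := by
      rw [Ideal.mem_comap, hs]
      exact fun hmem => (hP'p.mem_or_mem hmem).elim tb.2 sb.2
    have hsx : s * x ∈ I := by
      have h1 : Ideal.Quotient.mk 𝔠 (s * x) ∈ Ib := by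
        rw [map_mul, hs]
        have : tb.1 * sb.1 * Ideal.Quotient.mk 𝔠 x = tb.1 * ab := by
          rw [← htb]
          ring
        rw [this]
        exact Ideal.mul_mem_left _ _ hab
      obtain ⟨y, hy, hyeq⟩ := hIb _ h1
      have h2 : s * x - y ∈ 𝔠 := by
        rw [← Ideal.Quotient.eq_zero_iff_mem, map_sub, hyeq, sub_self]
      have : s * x = (s * x - y) + y := by ring
      rw [this]
      exact I.add_mem (h𝔠I h2) hy
    apply hsP
    apply hle
    rw [Submodule.mem_colon_singleton, Submodule.mem_bot]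
    change s • (Ideal.Quotient.mk I x) = 0
    rw [← Ideal.Quotient.eq_zero_iff_mem] at hsx
    rw [map_mul] at hsx
    exact hsx
  · intro x hx
    rw [Submodule.mem_colon]
    intro y hy
    have := (Submodule.mem_colon.1 hy) x hx
    rw [smul_eq_mul] at this ⊢
    rwa [mul_comm]

end Global

end Groth.Agent.Lib.helper11.Liaison
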