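import Mathlib
import Groth.Agent.Lib.helper11.GorDualLoc
import Groth.Agent.Lib.helper11.GorDualAnn
import Groth.Agent.Lib.Helper21.DepthKit12
import Groth.Agent.S0318

/-!
# `Ext^{≥1}_A(A/I, A) = 0` for a maximal Cohen–Macaulay quotient of a Gorenstein local ring, and the
behaviour of `(0 : I)` modulo a regular sequence (helper11)
-/

set_option autoImplicit false

namespace Groth.Agent.Lib.helper11.GorColon

open CategoryTheory Abelian IsLocalRing RingTheory.Sequence

universe u

section Vanishing

variable {A : Type u} [CommRing A] [hA : LocCoh.IsGorensteinLocalRing A]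

/-- `Ext^i_A(A/I, A) = 0` for `i ≥ 1` when `A/I` is Cohen–Macaulay of dimension `dim A`. -/
theorem subsingleton_ext_quotient (I : Ideal A) (hI : ringKrullDim (A ⧸ I) = ringKrullDim A)
    [hCM : LocCoh.IsCohenMacaulayLocalRing (A ⧸ I)] (i : ℕ) (hi : 1 ≤ i) :
    Subsingleton (Ext (ModuleCat.of A (A ⧸ I)) (ModuleCat.of A A) i) := by
  obtain ⟨d, hd⟩ := GorDual.exists_dim A
  by_cases hid : i ≤ d
  · -- duality
    have hdepth : LocCoh.depth A (A ⧸ I) = d := by
      rw [Groth.Agent.Lib.Helper21.DepthKit.depth_eq_of_surjective (R := A) (S := A ⧸ I)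
        (A ⧸ I) Ideal.Quotient.mk_surjective]
      have h1 := hCM.supportDim_eq_depth
      rw [Module.supportDim_self_eq_ringKrullDim, hI, hd] at h1
      have h2 : ((d : ℕ∞) : WithBot ℕ∞) = ((LocCoh.depth (A ⧸ I) (A ⧸ I) : ℕ∞) : WithBot ℕ∞) := h1
      exact (WithBot.coe_injective h2).symm
    have hne : maximalIdeal A • (⊤ : Submodule A (A ⧸ I)) ≠ ⊤ := by
      intro h
      have := Submodule.eq_bot_of_le_smul_of_le_jacobson_bot (maximalIdeal A)
        (⊤ : Submodule A (A ⧸ I)) Module.Finite.fg_top h.ge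
        (IsLocalRing.maximalIdeal_le_jacobson _)
      have h1 : (1 : A ⧸ I) ∈ (⊥ : Submodule A (A ⧸ I)) := this ▸ Submodule.mem_top
      exact one_ne_zero ((Submodule.mem_bot A).mp h1)
    have h318 := (Groth.Agent.S0318.result A (maximalIdeal A) (A ⧸ I) hne d).mp hdepth
    have hH := h318.1 (d - i) (by omega)
    have := (GorDual.subsingleton_H_iff' d hd (A ⧸ I) (d - i) (Nat.sub_le d i)).mp hH
    have hdi : d - (d - i) = i := by omega
    rwa [hdi] at this
  · obtain ⟨hinj, -, -⟩ := Groth.Agent.Lib.helper11.GorensteinLocal.gorenstein_main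
      hA.exists_hasInjectiveDimensionLT d hd
    haveI := hinj
    exact HasInjectiveDimensionLT.subsingleton (ModuleCat.of A A) (d + 1) i (by omega) _

end Vanishing

section Induction

variable {A : Type u} [CommRing A] (I : Ideal A)

/-- the hypothesis `Ext^{≥1}_A(A/I, M) = 0`. -/
def ExtVan (M : Type u) [AddCommGroup M] [Module A M] : Prop :=
  ∀ i : ℕ, 1 ≤ i → Subsingleton (Ext (ModuleCat.of A (A ⧸ I)) (ModuleCat.of A M) i)

/-- the `I`-torsion of `M`. -/
def tors (M : Type u) [AddCommGroup M] [Module A M] : Submodule A M where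
  carrier := {z | ∀ a ∈ I, a • z = 0}
  add_mem' := fun {x y} hx hy a ha => by rw [smul_add, hx a ha, hy a ha, add_zero]
  zero_mem' := fun a _ => smul_zero a
  smul_mem' := fun c x hx a ha => by rw [smul_comm, hx a ha, smul_zero]

theorem mem_tors {M : Type u} [AddCommGroup M] [Module A M] (z : M) :
    z ∈ tors I M ↔ ∀ a ∈ I, a • z = 0 := Iff.rfl

theorem extVan_quotSMulTop (M : Type u) [AddCommGroup M] [Module A M] (r : A)
    (hr : IsSMulRegular M r) (h : ExtVan I M) : ExtVan I (QuotSMulTop r M) := by
  intro i hi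
  have hS := hr.smulShortComplex_shortExact (M := ModuleCat.of A M)
  refine ⟨fun x y => ?_⟩
  have key : ∀ x₃ : Ext (ModuleCat.of A (A ⧸ I)) (ModuleCat.of A (QuotSMulTop r M)) i,
      x₃ = 0 := by
    intro x₃
    haveI : Subsingleton (Ext (ModuleCat.of A (A ⧸ I))
        ((ModuleCat.of A M).smulShortComplex r).X₁ (i + 1)) := h (i + 1) (by omega)
    haveI : Subsingleton (Ext (ModuleCat.of A (A ⧸ I))
        ((ModuleCat.of A M).smulShortComplex r).X₂ i) := h i hi
    obtain ⟨x₂, hx₂⟩ := Ext.covariant_sequence_exact₃ (ModuleCat.of A (A ⧸ I)) hS x₃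
      (n₁ := i + 1) rfl (Subsingleton.elim _ _)
    rw [← hx₂, Subsingleton.elim x₂ 0, Ext.zero_comp]
    rfl
  rw [key x, key y]

/-- `I`-torsion elements of `M/rM` lift to `I`-torsion elements of `M`. -/
theorem exists_lift (M : Type u) [AddCommGroup M] [Module A M] (r : A)
    (hr : IsSMulRegular M r) (h : ExtVan I M) (z' : QuotSMulTop r M) (hz' : z' ∈ tors I _) :
    ∃ z : M, z ∈ tors I M ∧ Submodule.Quotient.mk z = z' := by
  have hS := hr.smulShortComplex_shortExact (M := ModuleCat.of A M)
  have hker : I ≤ LinearMap.ker (LinearMap.toSpanSingleton A (QuotSMulTop r M) z') := by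
    intro a ha
    rw [LinearMap.mem_ker, LinearMap.toSpanSingleton_apply]
    exact hz' a ha
  let φ' : (A ⧸ I) →ₗ[A] QuotSMulTop r M := Submodule.liftQ I _ hker
  haveI : Subsingleton (Ext (ModuleCat.of A (A ⧸ I))
      ((ModuleCat.of A M).smulShortComplex r).X₁ 1) := h 1 le_rfl
  obtain ⟨x₂, hx₂⟩ := Ext.covariant_sequence_exact₃ (ModuleCat.of A (A ⧸ I)) hS
    (Ext.mk₀ (ModuleCat.ofHom φ')) (n₁ := 1) rfl (Subsingleton.elim _ _)
  obtain ⟨ψ, rfl⟩ := Ext.mk₀_bijective _ _ |>.2 x₂
  rw [Ext.mk₀_comp_mk₀] at hx₂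
  have hcomp := (Ext.mk₀_bijective _ _).1 hx₂
  let ψ' : (A ⧸ I) →ₗ[A] M := ψ.hom
  refine ⟨ψ' (Ideal.Quotient.mk I 1), ?_, ?_⟩
  · intro a ha
    rw [← map_smul]
    have : a • (Ideal.Quotient.mk I 1) = 0 := by
      rw [← Ideal.Quotient.mk_eq_mk, ← Submodule.Quotient.mk_smul, smul_eq_mul, mul_one,
        Submodule.Quotient.mk_eq_zero]
      exact ha
    rw [this, map_zero]
  · have h1 := congrArg (fun f => f.hom (Ideal.Quotient.mk I 1)) hcomp
    simp only [ModuleCat.hom_comp, LinearMap.comp_apply] at h1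
    refine h1.trans ?_
    show φ' (Submodule.Quotient.mk 1) = z'
    rw [Submodule.liftQ_apply, LinearMap.toSpanSingleton_apply, one_smul]

open Pointwise in
theorem map_mkQ_ofList_cons_smul_top (M : Type u) [AddCommGroup M] [Module A M] (r : A)
    (rs : List A) :
    (Ideal.ofList (r :: rs) • (⊤ : Submodule A M)).map (Submodule.mkQ (r • ⊤)) =
      Ideal.ofList rs • (⊤ : Submodule A (QuotSMulTop r M)) := by
  rw [Ideal.ofList_cons_smul, Submodule.map_sup, Submodule.map_smul'', Submodule.map_top,
    Submodule.range_mkQ]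
  have : (r • (⊤ : Submodule A M)).map (Submodule.mkQ (r • ⊤)) = ⊥ := by
    rw [← le_bot_iff, Submodule.map_le_iff_le_comap, Submodule.comap_bot, Submodule.ker_mkQ]
  rw [this, bot_sup_eq]

open Pointwise in
theorem mem_ofList_cons_smul_top_iff (M : Type u) [AddCommGroup M] [Module A M] (r : A)
    (rs : List A) (m : M) :
    m ∈ Ideal.ofList (r :: rs) • (⊤ : Submodule A M) ↔
      (Submodule.Quotient.mk m : QuotSMulTop r M) ∈
        Ideal.ofList rs • (⊤ : Submodule A (QuotSMulTop r M)) := by
  rw [← map_mkQ_ofList_cons_smul_top]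
  constructor
  · intro h
    exact Submodule.mem_map_of_mem (f := Submodule.mkQ (r • (⊤ : Submodule A M))) h
  · rintro ⟨w, hw, hwm⟩
    have h1 : m - w ∈ r • (⊤ : Submodule A M) := by
      rw [← Submodule.ker_mkQ (r • (⊤ : Submodule A M)), LinearMap.mem_ker, map_sub, hwm]
      exact sub_self _
    have h2 : r • (⊤ : Submodule A M) ≤ Ideal.ofList (r :: rs) • (⊤ : Submodule A M) := by
      rw [Ideal.ofList_cons_smul]
      exact le_sup_left
    have := Submodule.add_mem _ hw (h2 h1)
    rwa [add_sub_cancel] at this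

open Pointwise in
theorem main (rs : List A) : ∀ (M : Type u) [AddCommGroup M] [Module A M], ExtVan I M →
    IsWeaklyRegular M rs →
    (∀ m : M, (∀ a ∈ I, a • m ∈ Ideal.ofList rs • (⊤ : Submodule A M)) →
      ∃ z ∈ tors I M, m - z ∈ Ideal.ofList rs • (⊤ : Submodule A M)) ∧
    (∀ y ∈ tors I M, y ∈ Ideal.ofList rs • (⊤ : Submodule A M) →
      y ∈ Ideal.ofList rs • tors I M) := by
  induction rs with
  | nil =>
    intro M _ _ _ _
    refine ⟨fun m hm => ⟨m, ?_, ?_⟩, fun y _ hy => ?_⟩
    · intro a ha
      have := hm a ha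
      rwa [Ideal.ofList_nil, Submodule.bot_smul, Submodule.mem_bot] at this
    · rw [sub_self]
      exact Submodule.zero_mem _
    · rw [Ideal.ofList_nil, Submodule.bot_smul, Submodule.mem_bot] at hy
      rw [hy]
      exact Submodule.zero_mem _
  | cons r rs ih =>
    intro M _ _ hM hreg
    rw [isWeaklyRegular_cons_iff] at hreg
    obtain ⟨hr, hrs⟩ := hreg
    obtain ⟨ih2, ih3⟩ := ih (QuotSMulTop r M) (extVan_quotSMulTop I M r hr hM) hrs
    constructor
    · intro m hm
      obtain ⟨z', hz', hmz'⟩ := ih2 (Submodule.Quotient.mk m) (fun a ha => by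
        rw [← Submodule.Quotient.mk_smul]
        exact (mem_ofList_cons_smul_top_iff M r rs _).mp (hm a ha))
      obtain ⟨z, hz, rfl⟩ := exists_lift I M r hr hM z' hz'
      refine ⟨z, hz, ?_⟩
      rw [mem_ofList_cons_smul_top_iff, Submodule.Quotient.mk_sub]
      exact hmz'
    · intro y hy hy2
      have hy' : (Submodule.Quotient.mk y : QuotSMulTop r M) ∈ tors I (QuotSMulTop r M) := by
        intro a ha
        rw [← Submodule.Quotient.mk_smul, hy a ha, Submodule.Quotient.mk_zero]
      have h3 := ih3 _ hy' ((mem_ofList_cons_smul_top_iff M r rs y).mp hy2)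
      have htors : tors I (QuotSMulTop r M) =
          (tors I M).map (Submodule.mkQ (r • (⊤ : Submodule A M))) := by
        apply le_antisymm
        · intro z' hz'
          obtain ⟨z, hz, rfl⟩ := exists_lift I M r hr hM z' hz'
          exact Submodule.mem_map_of_mem (f := Submodule.mkQ (r • (⊤ : Submodule A M))) hz
        · rintro _ ⟨z, hz, rfl⟩ a ha
          rw [← map_smul, hz a ha, map_zero]
      rw [htors, ← Submodule.map_smul''] at h3
      obtain ⟨w, hw, hwy⟩ := h3
      have h1 : y - w ∈ r • (⊤ : Submodule A M) := by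
        rw [← Submodule.ker_mkQ (r • (⊤ : Submodule A M)), LinearMap.mem_ker, map_sub, hwy]
        exact sub_self _
      obtain ⟨v, -, hv⟩ := (Submodule.mem_smul_pointwise_iff_exists _ _ _).mp h1
      have hwt : w ∈ tors I M := Submodule.smul_le_right hw
      have hvt : v ∈ tors I M := by
        intro a ha
        apply hr
        show r • (a • v) = r • (0 : M)
        rw [smul_zero, smul_comm, hv, smul_sub, hy a ha, hwt a ha, sub_zero]
      have hfin : y = w + r • v := by rw [hv]; abel
      rw [hfin, Ideal.ofList_cons_smul]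
      refine Submodule.add_mem _ (le_sup_right (a := r • tors I M) hw) (le_sup_left (b := Ideal.ofList rs • tors I M) ?_)
      exact Submodule.smul_mem_pointwise_smul v r _ hvt

end Induction

section Final

variable {A : Type u} [CommRing A] [hA : LocCoh.IsGorensteinLocalRing A]

theorem tors_self (I : Ideal A) : tors I A = Submodule.annihilator I := by
  ext z
  rw [mem_tors, Submodule.mem_annihilator]
  constructor
  · intro h n hn
    rw [smul_eq_mul, mul_comm]
    exact h n hn
  · intro h a ha
    rw [smul_eq_mul, mul_comm]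
    exact h a ha

/-- `(0 : I)` modulo an `A`-regular sequence, for `A/I` maximal Cohen–Macaulay over Gorenstein `A`. -/
theorem colon_of_isWeaklyRegular (I : Ideal A) (hI : ringKrullDim (A ⧸ I) = ringKrullDim A)
    [hCM : LocCoh.IsCohenMacaulayLocalRing (A ⧸ I)] (xs : List A) (hxs : IsWeaklyRegular A xs) :
    Submodule.annihilator I ⊔ Ideal.ofList xs = Submodule.colon (Ideal.ofList xs) (I : Set A) ∧
      Submodule.annihilator I ⊓ Ideal.ofList xs = Ideal.ofList xs * Submodule.annihilator I := by
  have hV : ExtVan I A := fun i hi => subsingleton_ext_quotient I hI i hi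
  obtain ⟨h2, h3⟩ := main I xs A hV hxs
  have htop : Ideal.ofList xs • (⊤ : Submodule A A) = Ideal.ofList xs := by
    rw [smul_eq_mul, Ideal.mul_top]
  rw [htop, tors_self] at h2 h3
  constructor
  · apply le_antisymm
    · apply sup_le
      · intro z hz
        rw [Submodule.mem_colon]
        intro s hs
        have : z • s = 0 := (Submodule.mem_annihilator.mp hz) s hs
        rw [this]
        exact Submodule.zero_mem _
      · intro z hz
        rw [Submodule.mem_colon]
        intro s _
        rw [smul_eq_mul]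
        exact Ideal.mul_mem_right _ _ hz
    · intro m hm
      rw [Submodule.mem_colon] at hm
      obtain ⟨z, hz, hmz⟩ := h2 m (fun a ha => by
        have := hm a ha
        rwa [smul_eq_mul, mul_comm] at this)
      rw [← sub_add_cancel m z, add_comm]
      exact Submodule.add_mem_sup hz hmz
  · apply le_antisymm
    · rintro y ⟨hy1, hy2⟩
      exact h3 y hy1 hy2
    · apply le_inf
      · exact Ideal.mul_le_right (I := Ideal.ofList xs) (J := Submodule.annihilator I)
      · exact Ideal.mul_le_left (I := Ideal.ofList xs) (J := Submodule.annihilator I)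

/-- the statement along a flat algebra `R → A`. -/
theorem colon_of_flat (R : Type u) [CommRing R] [Algebra R A] [Module.Flat R A] (I : Ideal A)
    (hI : ringKrullDim (A ⧸ I) = ringKrullDim A)
    [hCM : LocCoh.IsCohenMacaulayLocalRing (A ⧸ I)] (rs : List R)
    (hrs : IsWeaklyRegular R rs) :
    Submodule.annihilator I ⊔ (Ideal.ofList rs).map (algebraMap R A) =
        Submodule.colon ((Ideal.ofList rs).map (algebraMap R A)) (I : Set A) ∧
      Submodule.annihilator I ⊓ (Ideal.ofList rs).map (algebraMap R A) =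
        (Ideal.ofList rs).map (algebraMap R A) * Submodule.annihilator I := by
  rw [Ideal.map_ofList]
  exact colon_of_isWeaklyRegular I hI _ (hrs.of_flat)

end Final

end Groth.Agent.Lib.helper11.GorColon
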