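import Mathlib
import Groth.Agent.Lib.helper11.GorColon
import Groth.Agent.Lib.helper11.CMRegular
import Groth.Agent.Lib.helper11.RegularDim
import Groth.Agent.Lib.Helper7.MiracleFlat
import Groth.Agent.S0341

/-!
# Flatness of `A/I` and `A/(0:I)` over a regular local base (helper11)
-/

set_option autoImplicit false

namespace Groth.Agent.Lib.helper11.GorColon

open CategoryTheory Abelian IsLocalRing RingTheory.Sequence

universe u

section Quot

variable {A : Type u} [CommRing A]

theorem mk_mem_smul_top_iff (K 𝔞 : Ideal A) (b : A) :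
    (Submodule.Quotient.mk b : A ⧸ K) ∈ 𝔞 • (⊤ : Submodule A (A ⧸ K)) ↔ b ∈ K ⊔ 𝔞 := by
  have h1 : 𝔞 • (⊤ : Submodule A (A ⧸ K)) = Submodule.map (Submodule.mkQ K) 𝔞 := by
    have : (⊤ : Submodule A (A ⧸ K)) = Submodule.map (Submodule.mkQ K) ⊤ := by
      rw [Submodule.map_top, Submodule.range_mkQ]
    rw [this, ← Submodule.map_smul'', smul_eq_mul, Ideal.mul_top]
  rw [h1, ← Submodule.mkQ_apply, ← Submodule.mem_comap, Submodule.comap_map_eq,
    Submodule.ker_mkQ, sup_comm]

/-- a criterion for weak regularity on a cyclic module `A/K`. -/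
theorem isWeaklyRegular_quotient_of_forall (K : Ideal A) (xs : List A)
    (h : ∀ (i : ℕ) (hi : i < xs.length) (a : A),
      xs[i] * a ∈ K ⊔ Ideal.ofList (xs.take i) → a ∈ K ⊔ Ideal.ofList (xs.take i)) :
    IsWeaklyRegular (A ⧸ K) xs := by
  rw [isWeaklyRegular_iff]
  intro i hi
  rw [isSMulRegular_iff_right_eq_zero_of_smul]
  intro m hm
  obtain ⟨m', rfl⟩ := Submodule.Quotient.mk_surjective _ m
  obtain ⟨a, rfl⟩ := Submodule.Quotient.mk_surjective _ m'
  rw [← Submodule.Quotient.mk_smul, Submodule.Quotient.mk_eq_zero,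
    ← Submodule.Quotient.mk_smul, mk_mem_smul_top_iff, smul_eq_mul] at hm
  rw [Submodule.Quotient.mk_eq_zero, mk_mem_smul_top_iff]
  exact h i hi a hm

end Quot

section Gor

variable {A : Type u} [CommRing A] [hA : LocCoh.IsGorensteinLocalRing A]

/-- an `A`-regular sequence is regular on `A/(0:I)`. -/
theorem isWeaklyRegular_quotient_annihilator (I : Ideal A)
    (hI : ringKrullDim (A ⧸ I) = ringKrullDim A)
    [hCM : LocCoh.IsCohenMacaulayLocalRing (A ⧸ I)] (xs : List A) (hxs : IsWeaklyRegular A xs) :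
    IsWeaklyRegular (A ⧸ Submodule.annihilator I) xs := by
  apply isWeaklyRegular_quotient_of_forall
  intro i hi a ha
  have hpre : IsWeaklyRegular A (xs.take i) := by
    have := (isWeaklyRegular_append_iff A (xs.take i) (xs.drop i)).mp
      (by rwa [List.take_append_drop])
    exact this.1
  obtain ⟨h1, -⟩ := colon_of_isWeaklyRegular I hI (xs.take i) hpre
  rw [h1, Submodule.mem_colon] at ha ⊢
  intro s hs
  have h2 := ha s hs
  have hreg := ((isWeaklyRegular_iff A xs).mp hxs) i hi
  rw [isSMulRegular_iff_right_eq_zero_of_smul] at hreg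
  have htop : Ideal.ofList (xs.take i) • (⊤ : Submodule A A) = Ideal.ofList (xs.take i) := by
    rw [smul_eq_mul, Ideal.mul_top]
  have h3 := hreg (Submodule.Quotient.mk (a • s)) (by
    rw [← Submodule.Quotient.mk_smul, Submodule.Quotient.mk_eq_zero, htop]
    have : xs[i] • a • s = (xs[i] * a) • s := by simp only [smul_eq_mul]; ring
    rw [this]
    exact h2)
  rw [Submodule.Quotient.mk_eq_zero, htop] at h3
  exact h3

end Gor

section GorI

variable {A : Type u} [CommRing A] [hA : LocCoh.IsGorensteinLocalRing A]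

theorem depth_quotient_eq (I : Ideal A) (hI : ringKrullDim (A ⧸ I) = ringKrullDim A)
    [hCM : LocCoh.IsCohenMacaulayLocalRing (A ⧸ I)] (d : ℕ) (hd : ringKrullDim A = d) :
    LocCoh.depth A (A ⧸ I) = d := by
  rw [Groth.Agent.Lib.Helper21.DepthKit.depth_eq_of_surjective (R := A) (S := A ⧸ I)
    (A ⧸ I) Ideal.Quotient.mk_surjective]
  have h1 := hCM.supportDim_eq_depth
  rw [Module.supportDim_self_eq_ringKrullDim, hI, hd] at h1
  have h2 : ((d : ℕ∞) : WithBot ℕ∞) = ((LocCoh.depth (A ⧸ I) (A ⧸ I) : ℕ∞) : WithBot ℕ∞) := h1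
  exact (WithBot.coe_injective h2).symm

/-- an `A`-regular sequence in the maximal ideal is regular on a maximal Cohen–Macaulay quotient. -/
theorem isWeaklyRegular_quotient (I : Ideal A) (hI : ringKrullDim (A ⧸ I) = ringKrullDim A)
    [hCM : LocCoh.IsCohenMacaulayLocalRing (A ⧸ I)] (xs : List A)
    (hmem : ∀ x ∈ xs, x ∈ maximalIdeal A) (hxs : IsWeaklyRegular A xs) :
    IsWeaklyRegular (A ⧸ I) xs := by
  obtain ⟨d, hd⟩ := GorDual.exists_dim A
  have hdepthA : LocCoh.depth A A = d := GorDual.depth_eq d hd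
  have hdimA : Module.supportDim A A = d := by
    rw [Module.supportDim_self_eq_ringKrullDim, hd]
  obtain ⟨hn, hq⟩ := (CMRegular.isWeaklyRegular_iff xs A d hdimA hdepthA hmem).mp hxs
  have hdimM : Module.supportDim A (A ⧸ I) = d := by
    rw [Module.supportDim_quotient_eq_ringKrullDim, hI, hd]
  have hdepthM := depth_quotient_eq I hI d hd
  refine (CMRegular.isWeaklyRegular_iff xs (A ⧸ I) d hdimM hdepthM hmem).mpr ⟨hn, ?_⟩
  have hle : Module.supportDim A ((A ⧸ I) ⧸ Ideal.ofList xs • (⊤ : Submodule A (A ⧸ I))) ≤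
      Module.supportDim A (A ⧸ Ideal.ofList xs • (⊤ : Submodule A A)) := by
    have hcomap : Ideal.ofList xs • (⊤ : Submodule A A) ≤
        (Ideal.ofList xs • (⊤ : Submodule A (A ⧸ I))).comap (Submodule.mkQ I) := by
      rw [← Submodule.map_le_iff_le_comap, Submodule.map_smul'']
      exact Submodule.smul_mono le_rfl le_top
    refine Module.supportDim_le_of_surjective (Submodule.mapQ _ _ (Submodule.mkQ I) hcomap) ?_
    intro y
    obtain ⟨y', rfl⟩ := Submodule.Quotient.mk_surjective _ y
    obtain ⟨a, rfl⟩ := Submodule.Quotient.mk_surjective _ y'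
    exact ⟨Submodule.Quotient.mk a, rfl⟩
  have hge := CMRegular.supportDim_le_quotient_add_length xs (A ⧸ I) hmem
  rw [hq] at hle
  rw [hdimM] at hge
  generalize Module.supportDim A ((A ⧸ I) ⧸ Ideal.ofList xs • (⊤ : Submodule A (A ⧸ I))) = v
    at hle hge
  induction v with
  | bot => simp at hge
  | coe v =>
    induction v with
    | top =>
      exfalso
      have : ((⊤ : ℕ∞) : WithBot ℕ∞) ≤ (((d - xs.length : ℕ) : ℕ∞) : WithBot ℕ∞) := hle
      rw [WithBot.coe_le_coe] at this
      simp at this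
    | coe w =>
      have h1 : w ≤ d - xs.length := by
        have h1' : ((w : ℕ∞) : WithBot ℕ∞) ≤ (((d - xs.length : ℕ) : ℕ∞) : WithBot ℕ∞) := hle
        rw [WithBot.coe_le_coe] at h1'
        exact_mod_cast h1'
      have h2 : d ≤ w + xs.length := by
        have h2' : ((d : ℕ∞) : WithBot ℕ∞) ≤ (((w + xs.length : ℕ) : ℕ∞) : WithBot ℕ∞) := by
          push_cast
          exact hge
        rw [WithBot.coe_le_coe] at h2'
        exact_mod_cast h2' 
      have : w = d - xs.length := by omega
      rw [this]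
      rfl

end GorI

section Flat

open Groth.Agent.Lib.Helper21.DepthKit in
/-- `A/I` and `A/(0:I)` are flat over a regular local base. -/
theorem flat_quotients (R A : Type u) [CommRing R] [IsRegularLocalRing R] [CommRing A]
    [Algebra R A] [LocCoh.IsGorensteinLocalRing A] [IsLocalHom (algebraMap R A)]
    [Module.Flat R A] (I : Ideal A) (hI : ringKrullDim (A ⧸ I) = ringKrullDim A)
    [LocCoh.IsCohenMacaulayLocalRing (A ⧸ I)] :
    Module.Flat R (A ⧸ I) ∧ Module.Flat R (A ⧸ (Submodule.annihilator I)) := by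
  obtain ⟨d, hd⟩ := GorDual.exists_dim R
  have hdepth : LocCoh.depth R R = d := by
    have h1 := Groth.Agent.Lib.helper11.RegularDim.depth_self (R := R)
    rw [hd] at h1
    have h2 : ((LocCoh.depth R R : ℕ∞) : WithBot ℕ∞) = ((d : ℕ∞) : WithBot ℕ∞) := h1
    exact WithBot.coe_injective h2
  obtain ⟨xs, hlen, hmem, hreg⟩ := (natCast_le_depth_iff (A := R) (M := R) d).mp (by rw [hdepth])
  have hregA : IsWeaklyRegular A (xs.map (algebraMap R A)) := hreg.of_flat
  have hmemA : ∀ x ∈ xs.map (algebraMap R A), x ∈ maximalIdeal A := by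
    intro x hx
    obtain ⟨r, hr, rfl⟩ := List.mem_map.mp hx
    have hr' := hmem r hr
    rw [mem_maximalIdeal, mem_nonunits_iff] at hr' ⊢
    exact fun h => hr' ((isUnit_map_iff (algebraMap R A) r).mp h)
  refine ⟨?_, ?_⟩
  · have h1 := isWeaklyRegular_quotient I hI _ hmemA hregA
    rw [isWeaklyRegular_map_algebraMap_iff] at h1
    exact Groth.Agent.Lib.Helper7.MiracleFlat.flat_of_isWeaklyRegular (A := R) (B := A) (A ⧸ I) xs
      hmem d hd hlen h1
  · have h1 := isWeaklyRegular_quotient_annihilator I hI _ hregA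
    rw [isWeaklyRegular_map_algebraMap_iff] at h1
    exact Groth.Agent.Lib.Helper7.MiracleFlat.flat_of_isWeaklyRegular (A := R) (B := A)
      (A ⧸ Submodule.annihilator I) xs hmem d hd hlen h1

end Flat

end Groth.Agent.Lib.helper11.GorColon
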