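import Mathlib
import Groth.Agent.Lib.helper11.GorColonFlat
import Groth.Agent.Lib.Helper7.FlatAnn
import Groth.Agent.S6880
import Groth.Agent.Lib.helper11.DimChain

/-!
# Linkage preserves the Cohen–Macaulay property (helper11)
-/

set_option autoImplicit false

namespace Groth.Agent.Lib.helper11.LinkCM

open CategoryTheory Abelian IsLocalRing RingTheory.Sequence
open Groth.Agent.Lib.Helper21.DepthKit

universe u

section Local

variable {A : Type u} [CommRing A] [hA : LocCoh.IsGorensteinLocalRing A]

/-- **Local linkage theorem**: if `A/I` is maximal Cohen–Macaulay over the Gorenstein local ring `A`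
then so is `A/(0:I)` (if nonzero). -/
theorem depth_quotient_annihilator (I : Ideal A) (hI : ringKrullDim (A ⧸ I) = ringKrullDim A)
    [LocCoh.IsCohenMacaulayLocalRing (A ⧸ I)] (hJ : Submodule.annihilator I ≠ ⊤) (d : ℕ)
    (hd : ringKrullDim A = d) :
    LocCoh.depth A (A ⧸ Submodule.annihilator I) = d ∧
      Module.supportDim A (A ⧸ Submodule.annihilator I) = d := by
  have hdepthA : LocCoh.depth A A = d := GorDual.depth_eq d hd
  obtain ⟨xs, hlen, hmem, hreg⟩ := (natCast_le_depth_iff (A := A) (M := A) d).mp (by rw [hdepthA])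
  have hreg' := GorColon.isWeaklyRegular_quotient_annihilator I hI xs hreg
  haveI : Nontrivial (A ⧸ Submodule.annihilator I) := Ideal.Quotient.nontrivial_iff.mpr hJ
  have h1 : (d : ℕ∞) ≤ LocCoh.depth A (A ⧸ Submodule.annihilator I) :=
    (natCast_le_depth_iff (A := A) (M := A ⧸ Submodule.annihilator I) d).mpr ⟨xs, hlen, hmem, hreg'⟩
  have h2 := depth_le_supportDim (A := A) (M := A ⧸ Submodule.annihilator I)
  have h3 : Module.supportDim A (A ⧸ Submodule.annihilator I) ≤ d := by
    rw [Module.supportDim_quotient_eq_ringKrullDim, ← hd]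
    exact ringKrullDim_quotient_le _
  have h4 : ((d : ℕ∞) : WithBot ℕ∞) ≤
      ((LocCoh.depth A (A ⧸ Submodule.annihilator I) : ℕ∞) : WithBot ℕ∞) :=
    WithBot.coe_le_coe.mpr h1
  have h5 : ((LocCoh.depth A (A ⧸ Submodule.annihilator I) : ℕ∞) : WithBot ℕ∞) =
      ((d : ℕ∞) : WithBot ℕ∞) := le_antisymm (h2.trans h3) h4
  exact ⟨WithBot.coe_injective h5, le_antisymm h3 (h4.trans h2)⟩

end Local

section Dim

variable {A : Type u} [CommRing A] [hA : LocCoh.IsGorensteinLocalRing A]

/-- a proper annihilator ideal of a Gorenstein (Cohen–Macaulay) local ring has a quotient of full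
dimension. -/
theorem ringKrullDim_quotient_annihilator (J' : Ideal A) (hne : Submodule.annihilator J' ≠ ⊤) :
    ringKrullDim (A ⧸ Submodule.annihilator J') = ringKrullDim A := by
  obtain ⟨d, hd⟩ := GorDual.exists_dim A
  have hdepthA : LocCoh.depth A A = d := GorDual.depth_eq d hd
  apply le_antisymm (ringKrullDim_quotient_le _)
  -- a nonzero element of `J'`
  obtain ⟨j, hj, hj0⟩ : ∃ j ∈ J', j ≠ 0 := by
    by_contra hcon
    push_neg at hcon
    apply hne
    rw [eq_top_iff]
    intro a _
    rw [Submodule.mem_annihilator]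
    intro n hn
    rw [hcon n hn, smul_zero]
  obtain ⟨P, hPass, hle⟩ := exists_le_isAssociatedPrime_of_isNoetherianRing A j hj0
  have hIP : Submodule.annihilator J' ≤ P := by
    intro a ha
    apply hle
    rw [Submodule.mem_colon_singleton, Submodule.mem_bot]
    exact (Submodule.mem_annihilator.mp ha) j hj
  haveI : P.IsPrime := hPass.isPrime
  have h1 := CMRegular.depth_le_dim_of_mem_ass A P hPass
  rw [hdepthA] at h1
  have h2 := DimChain.ringKrullDim_quotient_mono hIP
  rw [hd]
  exact h1.trans h2

end Dim

section Transfer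

variable {C B : Type u} [CommRing C] [CommRing B] [Algebra C B]

/-- `C_P / K C_P ≅ B_P` for `B = C/K`. -/
theorem exists_equiv_localizedModule (hs : Function.Surjective (algebraMap C B)) (P' : Ideal C)
    [P'.IsPrime] :
    Nonempty ((Localization.AtPrime P' ⧸
        (RingHom.ker (algebraMap C B)).map (algebraMap C (Localization.AtPrime P'))) ≃ₗ[
        Localization.AtPrime P'] LocalizedModule P'.primeCompl B) := by
  let φ : Localization.AtPrime P' →ₗ[Localization.AtPrime P'] LocalizedModule P'.primeCompl B :=
    LinearMap.toSpanSingleton (Localization.AtPrime P') _ (LocalizedModule.mk 1 1)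
  have hφ : ∀ (c : C) (s : P'.primeCompl),
      φ (Localization.mk c s) = LocalizedModule.mk (algebraMap C B c) s := by
    intro c s
    rw [LinearMap.toSpanSingleton_apply, LocalizedModule.mk_smul_mk, mul_one, Algebra.smul_def,
      mul_one]
  have hsurj : Function.Surjective φ := by
    intro y
    induction y using LocalizedModule.induction_on with
    | h b s =>
      obtain ⟨c, rfl⟩ := hs b
      exact ⟨Localization.mk c s, hφ c s⟩
  have hker : LinearMap.ker φ =
      (RingHom.ker (algebraMap C B)).map (algebraMap C (Localization.AtPrime P')) := by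
    ext a
    induction a using Localization.induction_on with
    | H cs =>
      obtain ⟨c, s⟩ := cs
      rw [LinearMap.mem_ker, hφ,
        IsLocalization.mem_map_algebraMap_iff P'.primeCompl (Localization.AtPrime P')]
      constructor
      · intro h
        rw [← LocalizedModule.zero_mk (1 : P'.primeCompl), LocalizedModule.mk_eq] at h
        obtain ⟨u, hu⟩ := h
        rw [smul_zero, smul_zero, one_smul] at hu
        have hmem : (u : C) * c ∈ RingHom.ker (algebraMap C B) := by
          rw [RingHom.mem_ker, map_mul]
          rw [Submonoid.smul_def, Algebra.smul_def] at hu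
          exact hu
        refine ⟨⟨⟨(u : C) * c, hmem⟩, u * s⟩, ?_⟩
        show Localization.mk c s * algebraMap C (Localization.AtPrime P') ((u * s : P'.primeCompl) : C)
          = algebraMap C (Localization.AtPrime P') ((u : C) * c)
        rw [← Localization.mk_one_eq_algebraMap, ← Localization.mk_one_eq_algebraMap,
          Localization.mk_mul, Localization.mk_eq_mk_iff, Localization.r_iff_exists]
        refine ⟨1, ?_⟩
        simp only [Submonoid.coe_mul, Submonoid.coe_one, mul_one, one_mul]
        ring
      · rintro ⟨⟨⟨k, hk⟩, t⟩, hkt⟩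
        have hkt' : Localization.mk c s * algebraMap C (Localization.AtPrime P') (t : C) =
            algebraMap C (Localization.AtPrime P') k := hkt
        rw [← Localization.mk_one_eq_algebraMap, ← Localization.mk_one_eq_algebraMap,
          Localization.mk_mul, Localization.mk_eq_mk_iff, Localization.r_iff_exists] at hkt'
        obtain ⟨u, hu⟩ := hkt'
        simp only [Submonoid.coe_mul, Submonoid.coe_one, mul_one, one_mul] at hu
        rw [← LocalizedModule.zero_mk (1 : P'.primeCompl), LocalizedModule.mk_eq]
        refine ⟨u * t, ?_⟩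
        rw [smul_zero, smul_zero, one_smul, Submonoid.smul_def, Algebra.smul_def, ← map_mul]
        have h1 : ((u * t : P'.primeCompl) : C) * c = (u : C) * ((s : C) * k) := by
          rw [Submonoid.coe_mul, ← hu]
          ring
        rw [h1, map_mul, map_mul, (RingHom.mem_ker).mp hk, mul_zero, mul_zero]
  exact ⟨(Submodule.quotEquivOfEq _ _ hker.symm).trans (φ.quotKerEquivOfSurjective hsurj)⟩

end Transfer

section TransferDepth

variable {C B : Type u} [CommRing C] [CommRing B] [Algebra C B]

/-- depth and dimension of `B_q` computed over `C_P`, `B = C/K`. -/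
theorem depth_supportDim_localization (hs : Function.Surjective (algebraMap C B)) (q : Ideal B)
    [q.IsPrime] (P' : Ideal C) [P'.IsPrime] (hP' : q.comap (algebraMap C B) = P') :
    LocCoh.depth (Localization.AtPrime q) (Localization.AtPrime q) =
      LocCoh.depth (Localization.AtPrime P') (Localization.AtPrime P' ⧸
        (RingHom.ker (algebraMap C B)).map (algebraMap C (Localization.AtPrime P'))) ∧
    Module.supportDim (Localization.AtPrime q) (Localization.AtPrime q) =
      Module.supportDim (Localization.AtPrime P') (Localization.AtPrime P' ⧸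
        (RingHom.ker (algebraMap C B)).map (algebraMap C (Localization.AtPrime P'))) := by
  subst hP'
  obtain ⟨e⟩ := exists_equiv_localizedModule hs (q.comap (algebraMap C B))
  have h1 := depth_localization_of_surjective (A := C) (B := B) (N := B) hs q
  have h2 := supportDim_localization_of_surjective (A := C) (B := B) (N := B) hs q
  constructor
  · have e1 : LocCoh.depth (Localization.AtPrime q) (LocalizedModule q.primeCompl B) =
        LocCoh.depth (Localization.AtPrime q) (Localization.AtPrime q) :=
      idealDepth_congr _ (Groth.Agent.S6880.locSelfEquiv q)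
    have e2 := idealDepth_congr (maximalIdeal (Localization.AtPrime (q.comap (algebraMap C B)))) e
    rw [← e1, ← h1]
    exact e2.symm
  · rw [← Module.supportDim_eq_of_equiv (Groth.Agent.S6880.locSelfEquiv q), ← h2,
      Module.supportDim_eq_of_equiv e]

end TransferDepth

section Global

variable (C BI BJ : Type u) [CommRing C] [hC : LocCoh.IsGorensteinRing C] [CommRing BI]
  [CommRing BJ] [Algebra C BI] [Algebra C BJ]

/-- **Linkage preserves Cohen–Macaulayness** (global form over a Gorenstein ring `C`): if the kernels
of `C → B_I`, `C → B_J` are mutual annihilators and `B_I` is Cohen–Macaulay then so is `B_J`. -/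
theorem isCohenMacaulayRing_of_linked (hsI : Function.Surjective (algebraMap C BI))
    (hsJ : Function.Surjective (algebraMap C BJ))
    (hIJ : Submodule.annihilator (RingHom.ker (algebraMap C BI)) = RingHom.ker (algebraMap C BJ))
    (hJI : Submodule.annihilator (RingHom.ker (algebraMap C BJ)) = RingHom.ker (algebraMap C BI))
    [hCM : LocCoh.IsCohenMacaulayRing BI] : LocCoh.IsCohenMacaulayRing BJ := by
  haveI : IsNoetherianRing BJ := isNoetherianRing_of_surjective C BJ (algebraMap C BJ) hsJ
  refine { isCohenMacaulayLocalRing_localization := fun q hq => ?_ }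
  set P' := q.comap (algebraMap C BJ) with hP'
  haveI : P'.IsPrime := Ideal.comap_isPrime _ _
  haveI : LocCoh.IsGorensteinLocalRing (Localization.AtPrime P') :=
    hC.isGorensteinLocalRing_localization P'
  set KI := RingHom.ker (algebraMap C BI) with hKI
  set KJ := RingHom.ker (algebraMap C BJ) with hKJ
  have hann1 : Submodule.annihilator (KI.map (algebraMap C (Localization.AtPrime P'))) =
      KJ.map (algebraMap C (Localization.AtPrime P')) := by
    rw [Groth.Agent.Lib.Helper7.FlatAnn.annihilator_map KI (IsNoetherian.noetherian KI), hIJ]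
  have hann2 : Submodule.annihilator (KJ.map (algebraMap C (Localization.AtPrime P'))) =
      KI.map (algebraMap C (Localization.AtPrime P')) := by
    rw [Groth.Agent.Lib.Helper7.FlatAnn.annihilator_map KJ (IsNoetherian.noetherian KJ), hJI]
  obtain ⟨hdep, hdim⟩ := depth_supportDim_localization hsJ q P' rfl
  have hKJP : KJ ≤ P' := by
    intro x hx
    rw [hP', Ideal.mem_comap, (RingHom.mem_ker).mp hx]
    exact Ideal.zero_mem _
  have hJA : KJ.map (algebraMap C (Localization.AtPrime P')) ≠ ⊤ := by
    intro h
    have h1 : KJ.map (algebraMap C (Localization.AtPrime P')) ≤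
        maximalIdeal (Localization.AtPrime P') := by
      rw [← Localization.AtPrime.map_eq_maximalIdeal]
      exact Ideal.map_mono hKJP
    rw [h] at h1
    exact (IsLocalRing.maximalIdeal.isMaximal _).ne_top (top_le_iff.mp h1)
  obtain ⟨d, hd⟩ := GorDual.exists_dim (Localization.AtPrime P')
  suffices hmain : LocCoh.depth (Localization.AtPrime P') (Localization.AtPrime P' ⧸
        KJ.map (algebraMap C (Localization.AtPrime P'))) = d ∧
      Module.supportDim (Localization.AtPrime P') (Localization.AtPrime P' ⧸
        KJ.map (algebraMap C (Localization.AtPrime P'))) = d by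
    refine { supportDim_eq_depth := ?_ }
    rw [hdim, hdep, hmain.1, hmain.2]
    rfl
  by_cases hIA : KI.map (algebraMap C (Localization.AtPrime P')) = ⊤
  · have hbot : KJ.map (algebraMap C (Localization.AtPrime P')) = ⊥ := by
      rw [← hann1, hIA, Submodule.annihilator_top]
      exact Module.annihilator_eq_bot.2 inferInstance
    rw [hbot]
    constructor
    · have := idealDepth_congr (maximalIdeal (Localization.AtPrime P'))
        (Submodule.quotEquivOfEqBot (⊥ : Ideal (Localization.AtPrime P')) rfl)
      exact this.trans (GorDual.depth_eq d hd)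
    · rw [Module.supportDim_eq_of_equiv
        (Submodule.quotEquivOfEqBot (⊥ : Ideal (Localization.AtPrime P')) rfl),
        Module.supportDim_self_eq_ringKrullDim, hd]
  · -- the interesting case
    have hI : ringKrullDim (Localization.AtPrime P' ⧸
        KI.map (algebraMap C (Localization.AtPrime P'))) = ringKrullDim (Localization.AtPrime P') := by
      have := ringKrullDim_quotient_annihilator
        (KJ.map (algebraMap C (Localization.AtPrime P'))) (by rw [hann2]; exact hIA)
      rwa [hann2] at this
    have hKIP : KI ≤ P' := by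
      by_contra hcon
      obtain ⟨x, hxK, hxP⟩ := Set.not_subset.mp hcon
      apply hIA
      rw [Ideal.eq_top_iff_one]
      have hu : IsUnit (algebraMap C (Localization.AtPrime P') x) :=
        IsLocalization.map_units (Localization.AtPrime P') (⟨x, hxP⟩ : P'.primeCompl)
      obtain ⟨u, hu'⟩ := hu
      have : (↑u⁻¹ : Localization.AtPrime P') * algebraMap C (Localization.AtPrime P') x ∈
          KI.map (algebraMap C (Localization.AtPrime P')) :=
        Ideal.mul_mem_left _ _ (Ideal.mem_map_of_mem _ hxK)
      rwa [← hu', Units.inv_mul] at this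
    haveI hqI : (P'.map (algebraMap C BI)).IsPrime := Ideal.map_isPrime_of_surjective hsI hKIP
    have hcomap : (P'.map (algebraMap C BI)).comap (algebraMap C BI) = P' := by
      rw [Ideal.comap_map_of_surjective _ hsI, ← RingHom.ker_eq_comap_bot, sup_eq_left]
      exact hKIP
    obtain ⟨hdepI, hdimI⟩ := depth_supportDim_localization hsI (P'.map (algebraMap C BI)) P' hcomap
    have hCMq := hCM.isCohenMacaulayLocalRing_localization (P'.map (algebraMap C BI))
    have hmod : Module.supportDim (Localization.AtPrime P') (Localization.AtPrime P' ⧸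
          KI.map (algebraMap C (Localization.AtPrime P'))) =
        ((LocCoh.depth (Localization.AtPrime P') (Localization.AtPrime P' ⧸
          KI.map (algebraMap C (Localization.AtPrime P'))) : ℕ∞) : WithBot ℕ∞) := by
      rw [← hdimI, ← hdepI]
      exact hCMq.supportDim_eq_depth
    haveI : Nontrivial (Localization.AtPrime P' ⧸
        KI.map (algebraMap C (Localization.AtPrime P'))) := Ideal.Quotient.nontrivial_iff.mpr hIA
    haveI : IsLocalRing (Localization.AtPrime P' ⧸
        KI.map (algebraMap C (Localization.AtPrime P'))) :=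
      IsLocalRing.of_surjective' (Ideal.Quotient.mk _) Ideal.Quotient.mk_surjective
    haveI : LocCoh.IsCohenMacaulayLocalRing (Localization.AtPrime P' ⧸
        KI.map (algebraMap C (Localization.AtPrime P'))) := by
      refine { supportDim_eq_depth := ?_ }
      rw [← supportDim_eq_of_surjective (R := Localization.AtPrime P')
          (S := Localization.AtPrime P' ⧸ KI.map (algebraMap C (Localization.AtPrime P')))
          (Localization.AtPrime P' ⧸ KI.map (algebraMap C (Localization.AtPrime P')))
          Ideal.Quotient.mk_surjective,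
        ← depth_eq_of_surjective (R := Localization.AtPrime P')
          (S := Localization.AtPrime P' ⧸ KI.map (algebraMap C (Localization.AtPrime P')))
          (Localization.AtPrime P' ⧸ KI.map (algebraMap C (Localization.AtPrime P')))
          Ideal.Quotient.mk_surjective]
      exact hmod
    have := depth_quotient_annihilator (KI.map (algebraMap C (Localization.AtPrime P'))) hI
      (by rw [hann1]; exact hJA) d hd
    rwa [hann1] at this

end Global

section Final

variable {R : Type u} [CommRing R]

theorem annihilator_map_mk (𝔠 I J : Ideal R) (h𝔠J : 𝔠 ≤ J) (hIJ : 𝔠.colon (I : Set R) = J) :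
    Submodule.annihilator (I.map (Ideal.Quotient.mk 𝔠)) = J.map (Ideal.Quotient.mk 𝔠) := by
  ext xbar
  obtain ⟨x, rfl⟩ := Ideal.Quotient.mk_surjective xbar
  rw [Ideal.mem_quotient_iff_mem h𝔠J, ← hIJ, Submodule.mem_colon, Submodule.mem_annihilator]
  constructor
  · intro h s hs
    have := h (Ideal.Quotient.mk 𝔠 s) (Ideal.mem_map_of_mem _ hs)
    rw [smul_eq_mul, ← map_mul, Ideal.Quotient.eq_zero_iff_mem] at this
    exact this
  · intro h n hn
    obtain ⟨s, hs, rfl⟩ := (Ideal.mem_map_iff_of_surjective _ Ideal.Quotient.mk_surjective).mp hn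
    rw [smul_eq_mul, ← map_mul, Ideal.Quotient.eq_zero_iff_mem]
    exact h s hs

theorem le_colon (𝔠 : Ideal R) (S : Set R) : 𝔠 ≤ 𝔠.colon S := by
  intro x hx
  rw [Submodule.mem_colon]
  intro s _
  rw [smul_eq_mul]
  exact Ideal.mul_mem_right _ _ hx

/-- one direction of the linkage theorem. -/
theorem isCohenMacaulayRing_quotient_of_linked [IsNoetherianRing R] (𝔠 I J : Ideal R)
    [hG : LocCoh.IsGorensteinRing (R ⧸ 𝔠)] (hIJ : 𝔠.colon (I : Set R) = J)
    (hJI : 𝔠.colon (J : Set R) = I) [hCM : LocCoh.IsCohenMacaulayRing (R ⧸ I)] :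
    LocCoh.IsCohenMacaulayRing (R ⧸ J) := by
  have h𝔠I : 𝔠 ≤ I := hJI ▸ le_colon 𝔠 _
  have h𝔠J : 𝔠 ≤ J := hIJ ▸ le_colon 𝔠 _
  letI : Algebra (R ⧸ 𝔠) (R ⧸ I) := (Ideal.Quotient.factor h𝔠I).toAlgebra
  letI : Algebra (R ⧸ 𝔠) (R ⧸ J) := (Ideal.Quotient.factor h𝔠J).toAlgebra
  have hkI : RingHom.ker (algebraMap (R ⧸ 𝔠) (R ⧸ I)) = I.map (Ideal.Quotient.mk 𝔠) :=
    Ideal.Quotient.factor_ker h𝔠I
  have hkJ : RingHom.ker (algebraMap (R ⧸ 𝔠) (R ⧸ J)) = J.map (Ideal.Quotient.mk 𝔠) :=
    Ideal.Quotient.factor_ker h𝔠J
  refine isCohenMacaulayRing_of_linked (R ⧸ 𝔠) (R ⧸ I) (R ⧸ J)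
    (Ideal.Quotient.factor_surjective h𝔠I) (Ideal.Quotient.factor_surjective h𝔠J) ?_ ?_
  · rw [hkI, hkJ]
    exact annihilator_map_mk 𝔠 I J h𝔠J hIJ
  · rw [hkI, hkJ]
    exact annihilator_map_mk 𝔠 J I h𝔠I hJI

theorem isCohenMacaulayRing_quotient_iff_of_linked [IsNoetherianRing R] (𝔠 I J : Ideal R)
    [hG : LocCoh.IsGorensteinRing (R ⧸ 𝔠)] (hIJ : 𝔠.colon (I : Set R) = J)
    (hJI : 𝔠.colon (J : Set R) = I) :
    LocCoh.IsCohenMacaulayRing (R ⧸ I) ↔ LocCoh.IsCohenMacaulayRing (R ⧸ J) :=
  ⟨fun h => by haveI := h; exact isCohenMacaulayRing_quotient_of_linked 𝔠 I J hIJ hJI,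
   fun h => by haveI := h; exact isCohenMacaulayRing_quotient_of_linked 𝔠 J I hJI hIJ⟩

end Final

end Groth.Agent.Lib.helper11.LinkCM
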