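import Mathlib
import Groth.Agent.Lib.helper11.LinkCM
import Groth.Agent.Lib.helper11.Liaison
import Groth.Agent.Lib.helper11.CanonExplicit
import Groth.Agent.Lib.Helper5.GorFibreC
import Groth.Agent.S0341
import Groth.Agent.S0345
import Groth.Agent.S7701
import Groth.Agent.S0299

/-!
# `A/(0:a)` is Gorenstein when `A` is Gorenstein local and `A/(a)` is Cohen–Macaulay (helper11)
-/

set_option autoImplicit false

namespace Groth.Agent.Lib.helper11.AlmostCI

open CategoryTheory Abelian IsLocalRing
open Groth.Agent.Lib.Helper21.DepthKit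

universe u

variable {A : Type u} [CommRing A] [hA : LocCoh.IsGorensteinLocalRing A]

/-- In a Cohen–Macaulay (Gorenstein) local ring, the quotient by a zero divisor has full
dimension. -/
theorem ringKrullDim_quotient_span_of_not_isSMulRegular (a : A) (ha : ¬ IsSMulRegular A a) :
    ringKrullDim (A ⧸ Ideal.span {a}) = ringKrullDim A := by
  apply le_antisymm (ringKrullDim_quotient_le _)
  obtain ⟨P, hP, haP⟩ := exists_mem_associatedPrimes_of_not_isSMulRegular (M := A) ha
  haveI : P.IsPrime := hP.isPrime
  haveI hCM := Groth.Agent.S0341.result A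
  have hCM' : LocCoh.IsCohenMacaulayModule A A := hCM.supportDim_eq_depth
  have h1 := ringKrullDim_quotient_eq_supportDim_of_isCM hCM' hP
  rw [Module.supportDim_self_eq_ringKrullDim] at h1
  rw [← h1]
  have hle : Ideal.span {a} ≤ P := (Ideal.span_singleton_le_iff_mem _).2 haP
  exact ringKrullDim_le_of_surjective (Ideal.Quotient.factor hle)
    (Ideal.Quotient.factor_surjective hle)

/-- The `A`-module `A/I` is Cohen–Macaulay when the ring `A/I` is. -/
theorem isCM_module_quotient (I : Ideal A) [hCM : LocCoh.IsCohenMacaulayLocalRing (A ⧸ I)] :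
    LocCoh.IsCohenMacaulayModule A (A ⧸ I) := by
  unfold LocCoh.IsCohenMacaulayModule
  rw [depth_eq_of_surjective (R := A) (S := A ⧸ I) (A ⧸ I) Ideal.Quotient.mk_surjective,
    supportDim_eq_of_surjective (R := A) (S := A ⧸ I) (A ⧸ I) Ideal.Quotient.mk_surjective]
  exact hCM.supportDim_eq_depth

/-- **double annihilator** for maximal Cohen–Macaulay quotients of a Gorenstein local ring. -/
theorem annihilator_annihilator (I : Ideal A) (hI : ringKrullDim (A ⧸ I) = ringKrullDim A)
    [hCM : LocCoh.IsCohenMacaulayLocalRing (A ⧸ I)] :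
    Submodule.annihilator (Submodule.annihilator I : Ideal A) = I := by
  have hG : LocCoh.IsGorensteinRing A :=
    ((Groth.Agent.S0345.result A).mp hA.exists_hasInjectiveDimensionLT).1
  haveI hG' : LocCoh.IsGorensteinRing (A ⧸ (⊥ : Ideal A)) :=
    Groth.Agent.Lib.Helper5.GorFibre.isGorensteinRing_of_ringEquiv (RingEquiv.quotientBot A).symm hG
  have hcolon : ∀ S : Ideal A, (⊥ : Ideal A).colon (S : Set A) = Submodule.annihilator S := by
    intro S
    ext x
    rw [Submodule.mem_colon, Submodule.mem_annihilator]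
    constructor
    · intro h n hn
      exact (Submodule.mem_bot A).1 (h n hn)
    · intro h n hn
      exact (Submodule.mem_bot A).2 (h n hn)
  have key := Groth.Agent.Lib.helper11.Liaison.colon_colon_eq (⊥ : Ideal A) I bot_le ?_
  · rw [hcolon, hcolon] at key
    exact key
  · intro P hP
    haveI : P.IsPrime := hP.isPrime
    have h1 := ringKrullDim_quotient_eq_supportDim_of_isCM (isCM_module_quotient I) hP
    rw [Module.supportDim_quotient_eq_ringKrullDim, hI] at h1
    obtain ⟨P', hP'min, hP'le⟩ := Ideal.exists_minimalPrimes_le (bot_le : (⊥ : Ideal A) ≤ P)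
    haveI : P'.IsPrime := hP'min.1.1
    have h2 : ringKrullDim (A ⧸ P') = ringKrullDim (A ⧸ P) := by
      apply le_antisymm
      · rw [h1]; exact ringKrullDim_quotient_le _
      · exact ringKrullDim_le_of_surjective (Ideal.Quotient.factor hP'le)
          (Ideal.Quotient.factor_surjective hP'le)
    have := eq_of_le_of_ringKrullDim_quotient_eq (Ideal.IsPrime.ne_top inferInstance) hP'le h2
    rw [← this]
    exact hP'min


section Dual

variable (a : A)

/-- multiplication by `a` on `A/(0:a)`. -/
noncomputable def mulMap : (A ⧸ (Submodule.annihilator (Ideal.span {a}) : Ideal A)) →ₗ[A] A :=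
  Submodule.liftQ _ (LinearMap.toSpanSingleton A A a) (by
    intro j hj
    rw [LinearMap.mem_ker, LinearMap.toSpanSingleton_apply]
    exact (Submodule.mem_annihilator.1 hj) a (Ideal.mem_span_singleton_self a))

theorem mulMap_mk (x : A) :
    mulMap a (Ideal.Quotient.mk _ x) = x * a := by
  show Submodule.liftQ _ (LinearMap.toSpanSingleton A A a) _ (Submodule.Quotient.mk x) = _
  rw [Submodule.liftQ_apply, LinearMap.toSpanSingleton_apply, smul_eq_mul]

theorem mulMap_injective : Function.Injective (mulMap a) := by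
  rw [← LinearMap.ker_eq_bot, LinearMap.ker_eq_bot']
  intro b hb
  obtain ⟨x, rfl⟩ := Ideal.Quotient.mk_surjective b
  rw [mulMap_mk] at hb
  rw [Ideal.Quotient.eq_zero_iff_mem, Submodule.mem_annihilator_span_singleton, smul_eq_mul]
  exact hb

/-- `b ↦ (x ↦ a b x)`. -/
noncomputable def dualMap : (A ⧸ (Submodule.annihilator (Ideal.span {a}) : Ideal A)) →ₗ[A]
    ((A ⧸ (Submodule.annihilator (Ideal.span {a}) : Ideal A)) →ₗ[A] A) :=
  (LinearMap.llcomp A _ _ A (mulMap a)).comp
    (LinearMap.mul A (A ⧸ (Submodule.annihilator (Ideal.span {a}) : Ideal A)))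

theorem dualMap_apply (b x : A ⧸ (Submodule.annihilator (Ideal.span {a}) : Ideal A)) :
    dualMap a b x = mulMap a (b * x) := rfl

theorem dualMap_bijective
    (hann : Submodule.annihilator (Submodule.annihilator (Ideal.span {a}) : Ideal A) =
      Ideal.span {a}) : Function.Bijective (dualMap a) := by
  constructor
  · rw [← LinearMap.ker_eq_bot, LinearMap.ker_eq_bot']
    intro b hb
    have h1 : dualMap a b 1 = 0 := by rw [hb]; rfl
    rw [dualMap_apply, mul_one] at h1
    exact (mulMap_injective a) (h1.trans (map_zero _).symm)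
  · intro φ
    have hz : φ 1 ∈ Submodule.annihilator (Submodule.annihilator (Ideal.span {a}) : Ideal A) := by
      rw [Submodule.mem_annihilator]
      intro j hj
      have : j • (1 : A ⧸ (Submodule.annihilator (Ideal.span {a}) : Ideal A)) = 0 := by
        rw [Algebra.smul_def, mul_one, Ideal.Quotient.algebraMap_eq, Ideal.Quotient.eq_zero_iff_mem]
        exact hj
      rw [smul_eq_mul, mul_comm, ← smul_eq_mul, ← φ.map_smul, this, map_zero]
    rw [hann, Ideal.mem_span_singleton'] at hz
    obtain ⟨c, hc⟩ := hz
    refine ⟨Ideal.Quotient.mk _ c, ?_⟩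
    refine LinearMap.ext fun x => ?_
    obtain ⟨y, rfl⟩ := Ideal.Quotient.mk_surjective x
    rw [dualMap_apply, ← map_mul, mulMap_mk]
    have h2 : (Ideal.Quotient.mk (Submodule.annihilator (Ideal.span {a}) : Ideal A)) y =
        y • (1 : A ⧸ (Submodule.annihilator (Ideal.span {a}) : Ideal A)) := by
      rw [Algebra.smul_def, mul_one, Ideal.Quotient.algebraMap_eq]
    rw [h2, φ.map_smul, ← hc, smul_eq_mul]
    ring

end Dual


section Main

variable (a : A)

/-- **Almost complete intersections link to Gorenstein rings** (local form): if `A` is Gorenstein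
local and `A/(a)` is Cohen–Macaulay (or zero), then `A/(0:a)` is Gorenstein. -/
theorem isGorensteinLocalRing_quotient_annihilator_span
    (hne : (Submodule.annihilator (Ideal.span {a}) : Ideal A) ≠ ⊤)
    (hCM : Ideal.span {a} = ⊤ ∨ LocCoh.IsCohenMacaulayLocalRing (A ⧸ Ideal.span {a})) :
    LocCoh.IsGorensteinLocalRing (A ⧸ (Submodule.annihilator (Ideal.span {a}) : Ideal A)) := by
  by_cases hreg : IsSMulRegular A a
  · have hbot : (Submodule.annihilator (Ideal.span {a}) : Ideal A) = ⊥ := by
      rw [eq_bot_iff]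
      intro x hx
      rw [Submodule.mem_annihilator_span_singleton, smul_eq_mul, mul_comm] at hx
      rw [Submodule.mem_bot]
      apply hreg
      show a • x = a • 0
      rw [smul_eq_mul, hx, smul_zero]
    exact Groth.Agent.Lib.Helper5.GorIso.isGorensteinLocalRing_of_ringEquiv
      ((RingEquiv.quotientBot A).symm.trans (Ideal.quotEquivOfEq hbot.symm))
  · have htop : Ideal.span {a} ≠ ⊤ := by
      intro h
      apply hreg
      have hu : IsUnit a := Ideal.span_singleton_eq_top.1 h
      exact hu.isSMulRegular A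
    haveI hCM' : LocCoh.IsCohenMacaulayLocalRing (A ⧸ Ideal.span {a}) := hCM.resolve_left htop
    have hI := ringKrullDim_quotient_span_of_not_isSMulRegular a hreg
    obtain ⟨d, hd⟩ := GorDual.exists_dim A
    obtain ⟨hdep, hdim⟩ := LinkCM.depth_quotient_annihilator (Ideal.span {a}) hI hne d hd
    have hann := annihilator_annihilator (Ideal.span {a}) hI
    haveI : Nontrivial (A ⧸ (Submodule.annihilator (Ideal.span {a}) : Ideal A)) :=
      Ideal.Quotient.nontrivial_iff.2 hne
    haveI : IsLocalRing (A ⧸ (Submodule.annihilator (Ideal.span {a}) : Ideal A)) :=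
      IsLocalRing.of_surjective' (Ideal.Quotient.mk _) Ideal.Quotient.mk_surjective
    have hs : Function.Surjective
        (algebraMap A (A ⧸ (Submodule.annihilator (Ideal.span {a}) : Ideal A))) :=
      Ideal.Quotient.mk_surjective
    have hdepB : LocCoh.depth (A ⧸ (Submodule.annihilator (Ideal.span {a}) : Ideal A))
        (A ⧸ (Submodule.annihilator (Ideal.span {a}) : Ideal A)) = d := by
      rw [← depth_eq_of_surjective (R := A) _ hs]
      exact hdep
    have hdimB : Module.supportDim (A ⧸ (Submodule.annihilator (Ideal.span {a}) : Ideal A))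
        (A ⧸ (Submodule.annihilator (Ideal.span {a}) : Ideal A)) = d := by
      rw [← supportDim_eq_of_surjective (R := A) _ hs]
      exact hdim
    haveI hCMB : LocCoh.IsCohenMacaulayLocalRing
        (A ⧸ (Submodule.annihilator (Ideal.span {a}) : Ideal A)) :=
      { supportDim_eq_depth := by rw [hdimB, hdepB]; rfl }
    have hnB : ringKrullDim (A ⧸ (Submodule.annihilator (Ideal.span {a}) : Ideal A)) = d := by
      rw [← Module.supportDim_self_eq_ringKrullDim]
      exact hdimB
    obtain ⟨E, _, _, f, hf⟩ := Groth.Agent.S0299.result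
      (A ⧸ (Submodule.annihilator (Ideal.span {a}) : Ideal A))
      (ResidueField (A ⧸ (Submodule.annihilator (Ideal.span {a}) : Ideal A)))
    let ι₀ : (A ⧸ (Submodule.annihilator (Ideal.span {a}) : Ideal A)) ≃ₗ[A]
        ((A ⧸ (Submodule.annihilator (Ideal.span {a}) : Ideal A)) →ₗ[A] A) :=
      LinearEquiv.ofBijective (dualMap a) (dualMap_bijective a hann)
    let ι₁ : (A ⧸ (Submodule.annihilator (Ideal.span {a}) : Ideal A)) ≃ₗ[A]
        Ext (ModuleCat.of A (A ⧸ (Submodule.annihilator (Ideal.span {a}) : Ideal A)))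
          (ModuleCat.of A A) 0 :=
      ι₀ ≪≫ₗ ((Ext.linearEquiv₀ (R := A)).trans ModuleCat.homLinearEquiv).symm
    have hdd : d - d = 0 := Nat.sub_self d
    obtain ⟨eK⟩ := CanonExplicit.nonempty_dual_equiv_of_equiv_ext
      (R := A ⧸ (Submodule.annihilator (Ideal.span {a}) : Ideal A)) (R' := A) hs
      hA.exists_hasInjectiveDimensionLT d hnB d hd E f hf
      (A ⧸ (Submodule.annihilator (Ideal.span {a}) : Ideal A)) (by rw [hdd]; exact ι₁)
    exact (Groth.Agent.S7701.result _ d hnB E f hf _ eK).2 ⟨LinearEquiv.refl _ _⟩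

end Main

end Groth.Agent.Lib.helper11.AlmostCI
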