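import Mathlib
import Groth.Agent.Lib.helper11.AlmostCI
import Groth.Agent.Lib.helper11.CIGor
import Groth.Agent.Lib.Helper7.FibreCM
import Groth.Agent.Lib.Helper7.FlatAnn
import Groth.Agent.Lib.Helper21.DepthKit11

/-!
# `C/(0:b)` is a Gorenstein ring when `C` is Gorenstein and `C/(b)` is Cohen–Macaulay (helper11)
-/

set_option autoImplicit false

namespace Groth.Agent.Lib.helper11.AlmostCIGlobal

open IsLocalRing
open Groth.Agent.Lib.Helper21.DepthKit

universe u

variable {C : Type u} [CommRing C]

/-- the localization at `q ⊇ I` of a ring with Cohen–Macaulay quotient `C/I`. -/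
theorem isCM_quotient_localization [IsNoetherianRing C] (I : Ideal C)
    [hCM : LocCoh.IsCohenMacaulayRing (C ⧸ I)] (q : Ideal C) [hq : q.IsPrime] (hIq : I ≤ q) :
    LocCoh.IsCohenMacaulayLocalRing
      (Localization.AtPrime q ⧸ I.map (algebraMap C (Localization.AtPrime q))) := by
  have hker : RingHom.ker (Ideal.Quotient.mk I) ≤ q := by rw [Ideal.mk_ker]; exact hIq
  have hP : (q.map (Ideal.Quotient.mk I)).IsPrime :=
    Ideal.map_isPrime_of_surjective Ideal.Quotient.mk_surjective hker
  have hcomap : (q.map (Ideal.Quotient.mk I)).comap (Ideal.Quotient.mk I) = q := by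
    rw [Ideal.comap_map_of_surjective _ Ideal.Quotient.mk_surjective, ← RingHom.ker_eq_comap_bot]
    exact sup_eq_left.2 hker
  obtain ⟨P, hPp, rfl⟩ : ∃ P : Ideal (C ⧸ I), P.IsPrime ∧ P.comap (Ideal.Quotient.mk I) = q :=
    ⟨_, hP, hcomap⟩
  haveI := hPp
  haveI := hCM.isCohenMacaulayLocalRing_localization P
  exact Groth.Agent.Lib.Helper7.FibreCM.isCM_of_ringEquiv (CIGor.locQuotRingEquiv I P)

theorem aux [hC : LocCoh.IsGorensteinRing C] (b : C)
    [hCM : LocCoh.IsCohenMacaulayRing (C ⧸ Ideal.span {b})] (J : Ideal C)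
    (hJ : J = (Submodule.annihilator (Ideal.span {b}) : Ideal C)) (Q : Ideal (C ⧸ J))
    [hQ : Q.IsPrime] : LocCoh.IsGorensteinLocalRing (Localization.AtPrime Q) := by
  set q := Q.comap (Ideal.Quotient.mk J) with hq
  haveI : q.IsPrime := Ideal.comap_isPrime _ _
  haveI hG : LocCoh.IsGorensteinLocalRing (Localization.AtPrime q) :=
    hC.isGorensteinLocalRing_localization q
  have hJq : J ≤ q := by
    intro x hx
    rw [hq, Ideal.mem_comap, Ideal.Quotient.eq_zero_iff_mem.2 hx]
    exact Q.zero_mem
  have hspan : (Ideal.span {b}).map (algebraMap C (Localization.AtPrime q)) =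
      Ideal.span {algebraMap C (Localization.AtPrime q) b} := by
    rw [Ideal.map_span, Set.image_singleton]
  have hJmap : J.map (algebraMap C (Localization.AtPrime q)) =
      (Submodule.annihilator (Ideal.span {algebraMap C (Localization.AtPrime q) b}) :
        Ideal (Localization.AtPrime q)) := by
    rw [← hspan, Groth.Agent.Lib.Helper7.FlatAnn.annihilator_map (Ideal.span {b})
      (IsNoetherian.noetherian _), hJ]
  have hne : (Submodule.annihilator (Ideal.span {algebraMap C (Localization.AtPrime q) b}) :
      Ideal (Localization.AtPrime q)) ≠ ⊤ := by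
    rw [← hJmap]
    intro h
    have h1 : J.map (algebraMap C (Localization.AtPrime q)) ≤
        maximalIdeal (Localization.AtPrime q) := by
      rw [Ideal.map_le_iff_le_comap]
      intro x hx
      rw [Ideal.mem_comap]
      exact (IsLocalization.AtPrime.to_map_mem_maximal_iff _ q x).2 (hJq hx)
    rw [h] at h1
    exact (Ideal.IsPrime.ne_top inferInstance) (top_le_iff.1 h1)
  have hCM' : Ideal.span {algebraMap C (Localization.AtPrime q) b} = ⊤ ∨
      LocCoh.IsCohenMacaulayLocalRing
        (Localization.AtPrime q ⧸ Ideal.span {algebraMap C (Localization.AtPrime q) b}) := by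
    by_cases hbq : b ∈ q
    · right
      have := isCM_quotient_localization (Ideal.span {b}) q
        ((Ideal.span_singleton_le_iff_mem _).2 hbq)
      rwa [hspan] at this
    · left
      rw [Ideal.span_singleton_eq_top]
      exact IsLocalization.map_units (Localization.AtPrime q) (⟨b, hbq⟩ : q.primeCompl)
  have key := AlmostCI.isGorensteinLocalRing_quotient_annihilator_span
    (algebraMap C (Localization.AtPrime q) b) hne hCM'
  have e := (CIGor.locQuotRingEquiv J Q).trans (Ideal.quotEquivOfEq hJmap)
  exact Groth.Agent.Lib.Helper5.GorIso.isGorensteinLocalRing_of_ringEquiv e.symm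

/-- **Global form**: `C` Gorenstein, `C/(b)` Cohen–Macaulay ⟹ `C/(0:b)` Gorenstein. -/
theorem isGorensteinRing_quotient_annihilator_span [hC : LocCoh.IsGorensteinRing C] (b : C)
    [hCM : LocCoh.IsCohenMacaulayRing (C ⧸ Ideal.span {b})] :
    LocCoh.IsGorensteinRing (C ⧸ (Submodule.annihilator (Ideal.span {b}) : Ideal C)) :=
  { isGorensteinLocalRing_localization := fun Q _ => aux b _ rfl Q }

end Groth.Agent.Lib.helper11.AlmostCIGlobal
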