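import Mathlib
import Groth.Agent.Lib.helper11.AlmostCIGlobal
import Groth.Agent.Lib.Helper21.CMKit
import Groth.Agent.Lib.Helper2.R0S1

/-!
# Linkage of an almost complete intersection in a regular ring (helper11)
-/

set_option autoImplicit false

namespace Groth.Agent.Lib.helper11.AlmostCIFinal

open IsLocalRing
open Groth.Agent.Lib.Helper21.DepthKit

universe u

/-- associated primes of a Gorenstein ring have height zero. -/
theorem height_eq_zero_of_mem_associatedPrimes {C : Type u} [CommRing C]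
    [hC : LocCoh.IsGorensteinRing C] (P : Ideal C) (hP : P ∈ associatedPrimes C C) :
    P.height = 0 := by
  haveI : P.IsPrime := hP.isPrime
  haveI hG := hC.isGorensteinLocalRing_localization P
  haveI hCM := Groth.Agent.S0341.result (Localization.AtPrime P)
  have h0 := (depth_localization_eq_zero_iff (M := C) P).2 hP
  rw [depth_congr (Groth.Agent.Lib.Helper2.R0S1.locEquiv P)] at h0
  have h2 := hCM.supportDim_eq_depth
  rw [Module.supportDim_self_eq_ringKrullDim, IsLocalization.AtPrime.ringKrullDim_eq_height P,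
    h0] at h2
  exact_mod_cast h2

variable (R : Type u) [CommRing R] [IsRegularRing R]

theorem main (xs : List R) (c : ℕ) (hlen : xs.length = c) (hht : (Ideal.ofList xs).height = c)
    (f : R) (hf : f ∉ Ideal.ofList xs)
    [hCM : LocCoh.IsCohenMacaulayRing (R ⧸ (Ideal.ofList xs ⊔ Ideal.span {f}))] :
    ((Ideal.ofList xs).colon ((Ideal.ofList xs ⊔ Ideal.span {f} : Ideal R) : Set R)).height = c ∧
      LocCoh.IsGorensteinRing
        (R ⧸ (Ideal.ofList xs).colon ((Ideal.ofList xs ⊔ Ideal.span {f} : Ideal R) : Set R)) := by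
  classical
  set 𝔠 := Ideal.ofList xs with h𝔠
  set I := 𝔠 ⊔ Ideal.span {f} with hI
  set J := 𝔠.colon (I : Set R) with hJ
  have h𝔠J : 𝔠 ≤ J := LinkCM.le_colon 𝔠 _
  haveI hC : LocCoh.IsGorensteinRing (R ⧸ 𝔠) :=
    CIGor.isGorensteinRing_quotient_of_height R xs (by rw [← h𝔠, hht, hlen])
  have hspan : (Ideal.span {f}).map (Ideal.Quotient.mk 𝔠) =
      Ideal.span {Ideal.Quotient.mk 𝔠 f} := by
    rw [Ideal.map_span, Set.image_singleton]
  have hImap : I.map (Ideal.Quotient.mk 𝔠) = Ideal.span {Ideal.Quotient.mk 𝔠 f} := by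
    rw [hI, Ideal.map_sup, hspan, Ideal.map_quotient_self, bot_sup_eq]
  have hann : (Submodule.annihilator (Ideal.span {Ideal.Quotient.mk 𝔠 f}) : Ideal (R ⧸ 𝔠)) =
      J.map (Ideal.Quotient.mk 𝔠) := by
    rw [← hImap]
    exact LinkCM.annihilator_map_mk 𝔠 I J h𝔠J rfl
  constructor
  · apply le_antisymm
    · -- an associated prime of `C` containing the annihilator of `f`
      have hb0 : (Ideal.Quotient.mk 𝔠 f) ≠ 0 := by rwa [Ne, Ideal.Quotient.eq_zero_iff_mem]
      obtain ⟨P', hPass, hle⟩ :=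
        exists_le_isAssociatedPrime_of_isNoetherianRing (R ⧸ 𝔠) (Ideal.Quotient.mk 𝔠 f) hb0
      haveI : P'.IsPrime := hPass.isPrime
      have hP'0 := height_eq_zero_of_mem_associatedPrimes P' hPass
      have hP'min : P' ∈ minimalPrimes (R ⧸ 𝔠) := (Ideal.height_eq_zero_iff).1 hP'0
      have hPmin : P'.comap (Ideal.Quotient.mk 𝔠) ∈ 𝔠.minimalPrimes := by
        rw [Ideal.minimalPrimes_eq_comap]
        exact ⟨P', hP'min, rfl⟩
      have hJP : J ≤ P'.comap (Ideal.Quotient.mk 𝔠) := by
        intro x hx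
        rw [Ideal.mem_comap]
        apply hle
        rw [Submodule.mem_colon_singleton, Submodule.mem_bot]
        have h1 : Ideal.Quotient.mk 𝔠 x ∈
            (Submodule.annihilator (Ideal.span {Ideal.Quotient.mk 𝔠 f}) : Ideal (R ⧸ 𝔠)) := by
          rw [hann]; exact Ideal.mem_map_of_mem _ hx
        rw [Submodule.mem_annihilator_span_singleton] at h1
        exact h1
      have hkrull : (P'.comap (Ideal.Quotient.mk 𝔠)).height ≤ xs.toFinset.card := by
        apply Ideal.height_le_card_of_mem_minimalPrimes_span_finset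
        have : Ideal.span ((xs.toFinset : Finset R) : Set R) = 𝔠 := by
          rw [h𝔠, Ideal.ofList]
          congr 1
          ext r
          simp
        rw [this]
        exact hPmin
      calc J.height ≤ (P'.comap (Ideal.Quotient.mk 𝔠)).height := Ideal.height_mono hJP
        _ ≤ xs.toFinset.card := hkrull
        _ ≤ (c : ℕ∞) := by
          rw [← hlen]
          exact_mod_cast List.toFinset_card_le xs
    · rw [← hht]
      exact Ideal.height_mono h𝔠J
  · -- the Gorenstein property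
    have e1 : (R ⧸ I) ≃+* ((R ⧸ 𝔠) ⧸ Ideal.span {Ideal.Quotient.mk 𝔠 f}) :=
      ((DoubleQuot.quotQuotEquivQuotSup 𝔠 (Ideal.span {f})).symm).trans
        (Ideal.quotEquivOfEq hspan)
    haveI : LocCoh.IsCohenMacaulayRing ((R ⧸ 𝔠) ⧸ Ideal.span {Ideal.Quotient.mk 𝔠 f}) :=
      Groth.Agent.Lib.Helper21.CMKit.isCM_of_ringEquiv e1 hCM
    have key := AlmostCIGlobal.isGorensteinRing_quotient_annihilator_span
      (C := R ⧸ 𝔠) (Ideal.Quotient.mk 𝔠 f)
    have e2 : ((R ⧸ 𝔠) ⧸ (Submodule.annihilator (Ideal.span {Ideal.Quotient.mk 𝔠 f}) :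
        Ideal (R ⧸ 𝔠))) ≃+* (R ⧸ J) :=
      (Ideal.quotEquivOfEq hann).trans
        ((DoubleQuot.quotQuotEquivQuotSup 𝔠 J).trans
          (Ideal.quotEquivOfEq (sup_eq_right.2 h𝔠J)))
    exact Groth.Agent.Lib.Helper5.GorFibre.isGorensteinRing_of_ringEquiv e2 key

end Groth.Agent.Lib.helper11.AlmostCIFinal
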