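import Mathlib

/-!
# The two-branch ring `O = {(f, g) ∈ k⟦X⟧² | X^δ ∣ f - g}` (helper11)

`O` is a local ring with residue field `k`; lengths over `O` are `k`-dimensions.
-/

set_option autoImplicit false

namespace Groth.Agent.Lib.helper11.AoddRing

open PowerSeries IsLocalRing

universe u

variable {k : Type u} [Field k] (δ : ℕ) (O : Subalgebra k (PowerSeries k × PowerSeries k))
  (hO : ∀ f : PowerSeries k × PowerSeries k, f ∈ O ↔ X ^ δ ∣ f.1 - f.2)

theorem le_order_iff_dvd (δ : ℕ) (g : PowerSeries k) : (δ : ℕ∞) ≤ order g ↔ X ^ δ ∣ g := by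
  rw [X_pow_dvd_iff]
  constructor
  · intro h m hm
    exact coeff_of_lt_order m (lt_of_lt_of_le (by exact_mod_cast hm) h)
  · intro h
    exact nat_le_order g δ h

include hO

theorem diag_mem (f : PowerSeries k) : ((f, f) : PowerSeries k × PowerSeries k) ∈ O := by
  rw [hO]
  change X ^ δ ∣ f - f
  rw [sub_self]
  exact dvd_zero _

theorem mem_of_dvd {x : PowerSeries k × PowerSeries k} (h1 : X ^ δ ∣ x.1) (h2 : X ^ δ ∣ x.2) :
    x ∈ O := by
  rw [hO]
  exact dvd_sub h1 h2

/-- the residue map `O → k`. -/
noncomputable def ev : ↥O →+* k :=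
  ((constantCoeff (R := k)).comp (RingHom.fst (PowerSeries k) (PowerSeries k))).comp
    O.val.toRingHom

omit hO in
theorem ev_apply (a : ↥O) :
    ev O a = constantCoeff ((a : PowerSeries k × PowerSeries k).1) := rfl

variable (hδ : 1 ≤ δ)

include hδ in
theorem constantCoeff_snd (a : ↥O) :
    constantCoeff ((a : PowerSeries k × PowerSeries k).2) =
      constantCoeff ((a : PowerSeries k × PowerSeries k).1) := by
  have h := (hO _).mp a.2
  have hX : (X : PowerSeries k) ∣ (a : PowerSeries k × PowerSeries k).1 -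
      (a : PowerSeries k × PowerSeries k).2 :=
    dvd_trans (dvd_pow_self X (by omega)) h
  rw [X_dvd_iff, map_sub, sub_eq_zero] at hX
  exact hX.symm

include hδ in
theorem isUnit_iff (a : ↥O) : IsUnit a ↔ ev O a ≠ 0 := by
  constructor
  · intro h
    exact (h.map (ev O)).ne_zero
  · intro h
    rw [ev_apply] at h
    have h2 : constantCoeff ((a : PowerSeries k × PowerSeries k).2) ≠ 0 := by
      rw [constantCoeff_snd δ O hO hδ]; exact h
    obtain ⟨u, hu⟩ := isUnit_iff_constantCoeff.mpr (IsUnit.mk0 _ h)
    obtain ⟨v, hv⟩ := isUnit_iff_constantCoeff.mpr (IsUnit.mk0 _ h2)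
    have hmem : (((u⁻¹ : (PowerSeries k)ˣ) : PowerSeries k),
        ((v⁻¹ : (PowerSeries k)ˣ) : PowerSeries k)) ∈ O := by
      rw [hO]
      change X ^ δ ∣ ((u⁻¹ : (PowerSeries k)ˣ) : PowerSeries k) -
        ((v⁻¹ : (PowerSeries k)ˣ) : PowerSeries k)
      have hd := (hO _).mp a.2
      rw [← hu, ← hv] at hd
      have : ((u⁻¹ : (PowerSeries k)ˣ) : PowerSeries k) - ((v⁻¹ : (PowerSeries k)ˣ) : PowerSeries k) =
          -(((u⁻¹ : (PowerSeries k)ˣ) : PowerSeries k) * ((v⁻¹ : (PowerSeries k)ˣ) : PowerSeries k)) *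
            ((u : PowerSeries k) - (v : PowerSeries k)) := by
        have e1 : ((u⁻¹ : (PowerSeries k)ˣ) : PowerSeries k) * (u : PowerSeries k) = 1 :=
          Units.inv_mul u
        have e2 : ((v⁻¹ : (PowerSeries k)ˣ) : PowerSeries k) * (v : PowerSeries k) = 1 :=
          Units.inv_mul v
        linear_combination
          ((v⁻¹ : (PowerSeries k)ˣ) : PowerSeries k) * e1 -
            ((u⁻¹ : (PowerSeries k)ˣ) : PowerSeries k) * e2
      rw [this]
      exact Dvd.dvd.mul_left hd _
    refine IsUnit.of_mul_eq_one ⟨_, hmem⟩ (Subtype.ext ?_)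
    refine Prod.ext ?_ ?_
    · change (a : PowerSeries k × PowerSeries k).1 * ((u⁻¹ : (PowerSeries k)ˣ) : PowerSeries k) = 1
      rw [← hu]; exact Units.mul_inv u
    · change (a : PowerSeries k × PowerSeries k).2 * ((v⁻¹ : (PowerSeries k)ˣ) : PowerSeries k) = 1
      rw [← hv]; exact Units.mul_inv v

include hδ in
theorem isLocalRing : IsLocalRing ↥O := by
  refine IsLocalRing.of_isUnit_or_isUnit_one_sub_self fun a => ?_
  by_cases h : ev O a = 0
  · right
    rw [isUnit_iff δ O hO hδ, map_sub, map_one, h, sub_zero]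
    exact one_ne_zero
  · left
    exact (isUnit_iff δ O hO hδ a).mpr h

include hδ in
theorem mem_maximalIdeal_iff (a : ↥O) :
    letI := isLocalRing δ O hO hδ
    a ∈ maximalIdeal ↥O ↔ constantCoeff ((a : PowerSeries k × PowerSeries k).1) = 0 := by
  letI := isLocalRing δ O hO hδ
  rw [IsLocalRing.mem_maximalIdeal, mem_nonunits_iff, isUnit_iff δ O hO hδ, not_not, ev_apply]

include hδ in
/-- the residue field of `O` is `k`. -/
theorem length_residueField :
    letI := isLocalRing δ O hO hδ
    Module.length (ResidueField k) (ResidueField ↥O) = 1 := by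
  letI := isLocalRing δ O hO hδ
  have hsurj : Function.Surjective (algebraMap (ResidueField k) (ResidueField ↥O)) := by
    intro z
    obtain ⟨a, rfl⟩ := IsLocalRing.residue_surjective z
    refine ⟨IsLocalRing.residue k
      (constantCoeff ((a : PowerSeries k × PowerSeries k).1)), ?_⟩
    have h1 : algebraMap (ResidueField k) (ResidueField ↥O)
        (IsLocalRing.residue k (constantCoeff ((a : PowerSeries k × PowerSeries k).1))) =
        IsLocalRing.residue ↥O (algebraMap k ↥O
          (constantCoeff ((a : PowerSeries k × PowerSeries k).1))) := rfl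
    rw [h1, ← sub_eq_zero, ← map_sub, IsLocalRing.residue_eq_zero_iff,
      mem_maximalIdeal_iff δ O hO hδ]
    have h2 : ((algebraMap k ↥O (constantCoeff ((a : PowerSeries k × PowerSeries k).1)) - a : ↥O) :
        PowerSeries k × PowerSeries k).1 =
        C (constantCoeff ((a : PowerSeries k × PowerSeries k).1)) -
          (a : PowerSeries k × PowerSeries k).1 := rfl
    rw [h2, map_sub, constantCoeff_C, sub_self]
  let e : ResidueField k ≃ₗ[ResidueField k] ResidueField ↥O :=
    LinearEquiv.ofBijective (Algebra.linearMap (ResidueField k) (ResidueField ↥O))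
      ⟨(algebraMap (ResidueField k) (ResidueField ↥O)).injective, hsurj⟩
  rw [← e.length_eq, Module.length_eq_finrank, Module.finrank_self, Nat.cast_one]

include hδ in
/-- for `O`-modules, length over `O` is the `k`-dimension. -/
theorem length_eq_finrank (M : Type*) [AddCommGroup M] [Module ↥O M] [Module k M]
    [IsScalarTower k ↥O M] [Module.Finite k M] :
    Module.length ↥O M = Module.finrank k M := by
  letI := isLocalRing δ O hO hδ
  have h := IsLocalRing.length_restrictScalars k ↥O M
  rw [length_residueField δ O hO hδ, mul_one, Module.length_eq_finrank] at h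
  exact h.symm

end Groth.Agent.Lib.helper11.AoddRing
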