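import Mathlib
import Groth.Agent.Lib.helper11.AoddRing
import Groth.Agent.Lib.helper11.ExtShift
import Groth.Agent.Lib.helper11.RnExt3

/-!
# `Ext¹(I_i, N)` over the two-branch ring `O` (helper11)

`I_i = O (X^i, X^i) + O (X^δ, 0)`, presentation `0 → J → O² → I_i → 0` with
`J = {(p, q) | X^{δ-i} ∣ p - q}`, and `Ext¹(I_i, N) ≅ (N : J) / (u N + v N)`.
-/

set_option autoImplicit false

namespace Groth.Agent.Lib.helper11.AoddExt

open PowerSeries CategoryTheory Abelian
open Groth.Agent.Lib.helper11.ExtShift Groth.Agent.Lib.helper11.RnExt3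
  Groth.Agent.Lib.helper11.AoddRing

universe u

variable {k : Type u} [Field k] (δ : ℕ) (O : Subalgebra k (PowerSeries k × PowerSeries k))
  (hO : ∀ f : PowerSeries k × PowerSeries k, f ∈ O ↔ X ^ δ ∣ f.1 - f.2)
  (i : ℕ) (hi : i ≤ δ)

/-- `I_i = O (X^i, X^i) + O (X^δ, 0)`. -/
noncomputable def I : Submodule ↥O (PowerSeries k × PowerSeries k) :=
  Submodule.span ↥O {((X : PowerSeries k) ^ i, (X : PowerSeries k) ^ i),
    ((X : PowerSeries k) ^ δ, 0)}

theorem u_mem_I : (((X : PowerSeries k) ^ i, (X : PowerSeries k) ^ i) :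
    PowerSeries k × PowerSeries k) ∈ I δ O i := Submodule.subset_span (Or.inl rfl)

theorem v_mem_I : (((X : PowerSeries k) ^ δ, 0) : PowerSeries k × PowerSeries k) ∈ I δ O i :=
  Submodule.subset_span (Or.inr rfl)

omit hO in
theorem smul_fst (a : ↥O) (x : PowerSeries k × PowerSeries k) :
    (a • x).1 = (a : PowerSeries k × PowerSeries k).1 * x.1 := rfl

omit hO in
theorem smul_snd (a : ↥O) (x : PowerSeries k × PowerSeries k) :
    (a • x).2 = (a : PowerSeries k × PowerSeries k).2 * x.2 := rfl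

include hO hi in
theorem mem_I_iff (x : PowerSeries k × PowerSeries k) :
    x ∈ I δ O i ↔ X ^ i ∣ x.1 ∧ X ^ i ∣ x.2 ∧ X ^ δ ∣ x.1 - x.2 := by
  constructor
  · intro hx
    unfold I at hx
    induction hx using Submodule.span_induction with
    | mem x hx =>
      rcases hx with rfl | rfl
      · refine ⟨dvd_rfl, dvd_rfl, ?_⟩
        change X ^ δ ∣ (X : PowerSeries k) ^ i - X ^ i
        rw [sub_self]; exact dvd_zero _
      · refine ⟨pow_dvd_pow X hi, dvd_zero _, ?_⟩
        change X ^ δ ∣ (X : PowerSeries k) ^ δ - 0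
        rw [sub_zero]
    | zero => exact ⟨dvd_zero _, dvd_zero _, by change X ^ δ ∣ (0 : PowerSeries k) - 0; simp⟩
    | add x y _ _ hx hy =>
      refine ⟨dvd_add hx.1 hy.1, dvd_add hx.2.1 hy.2.1, ?_⟩
      have : (x + y).1 - (x + y).2 = (x.1 - x.2) + (y.1 - y.2) := by
        change (x.1 + y.1) - (x.2 + y.2) = _
        ring
      rw [this]
      exact dvd_add hx.2.2 hy.2.2
    | smul a x _ hx =>
      refine ⟨Dvd.dvd.mul_left hx.1 _, Dvd.dvd.mul_left hx.2.1 _, ?_⟩
      rw [smul_fst, smul_snd]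
      have : (a : PowerSeries k × PowerSeries k).1 * x.1 -
          (a : PowerSeries k × PowerSeries k).2 * x.2 =
          (a : PowerSeries k × PowerSeries k).1 * (x.1 - x.2) +
            ((a : PowerSeries k × PowerSeries k).1 - (a : PowerSeries k × PowerSeries k).2) *
              x.2 := by ring
      rw [this]
      exact dvd_add (Dvd.dvd.mul_left hx.2.2 _) (Dvd.dvd.mul_right ((hO _).mp a.2) _)
  · rintro ⟨⟨p, hp⟩, ⟨q, hq⟩, ⟨w, hw⟩⟩
    have hx : x = (⟨(q, q), diag_mem δ O hO q⟩ : ↥O) •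
          (((X : PowerSeries k) ^ i, (X : PowerSeries k) ^ i) : PowerSeries k × PowerSeries k) +
        (⟨(w, w), diag_mem δ O hO w⟩ : ↥O) •
          (((X : PowerSeries k) ^ δ, 0) : PowerSeries k × PowerSeries k) := by
      refine Prod.ext ?_ ?_
      · change x.1 = q * X ^ i + w * X ^ δ
        linear_combination hw + hq
      · change x.2 = q * X ^ i + w * 0
        rw [hq]; ring
    rw [hx]
    exact Submodule.add_mem _ (Submodule.smul_mem _ _ (u_mem_I δ O i))
      (Submodule.smul_mem _ _ (v_mem_I δ O i))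

/-- `J = {(p, q) | X^{δ-i} ∣ p - q}`. -/
def J : Submodule ↥O (PowerSeries k × PowerSeries k) where
  carrier := {x | X ^ (δ - i) ∣ x.1 - x.2}
  add_mem' := by
    intro x y hx hy
    have : (x + y).1 - (x + y).2 = (x.1 - x.2) + (y.1 - y.2) := by
      change (x.1 + y.1) - (x.2 + y.2) = _
      ring
    change X ^ (δ - i) ∣ (x + y).1 - (x + y).2
    rw [this]
    exact dvd_add hx hy
  zero_mem' := by
    change X ^ (δ - i) ∣ (0 : PowerSeries k) - 0
    simp
  smul_mem' := by
    intro a x hx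
    change X ^ (δ - i) ∣ (a • x).1 - (a • x).2
    rw [smul_fst, smul_snd]
    have : (a : PowerSeries k × PowerSeries k).1 * x.1 -
        (a : PowerSeries k × PowerSeries k).2 * x.2 =
        (a : PowerSeries k × PowerSeries k).1 * (x.1 - x.2) +
          ((a : PowerSeries k × PowerSeries k).1 - (a : PowerSeries k × PowerSeries k).2) *
            x.2 := by ring
    rw [this]
    exact dvd_add (Dvd.dvd.mul_left hx _)
      (Dvd.dvd.mul_right (dvd_trans (pow_dvd_pow X (Nat.sub_le δ i)) ((hO _).mp a.2)) _)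

theorem mem_J {x : PowerSeries k × PowerSeries k} :
    x ∈ J δ O hO i ↔ X ^ (δ - i) ∣ x.1 - x.2 := Iff.rfl

include hO in
theorem c_mem (x : PowerSeries k × PowerSeries k) :
    ((X ^ δ * x.1, 0) : PowerSeries k × PowerSeries k) ∈ O := by
  rw [hO]
  change X ^ δ ∣ X ^ δ * x.1 - 0
  rw [sub_zero]
  exact dvd_mul_right _ _

include hO hi in
theorem b_mem {x : PowerSeries k × PowerSeries k} (hx : x ∈ J δ O hO i) :
    ((X ^ i * x.1, X ^ i * x.2) : PowerSeries k × PowerSeries k) ∈ O := by
  rw [hO]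
  change X ^ δ ∣ X ^ i * x.1 - X ^ i * x.2
  rw [← mul_sub]
  have : (X : PowerSeries k) ^ δ = X ^ i * X ^ (δ - i) := by
    rw [← pow_add]; congr 1; omega
  rw [this]
  exact mul_dvd_mul_left _ hx

/-- the syzygy inclusion. -/
noncomputable def iota : ↥(J δ O hO i) →ₗ[↥O] (↥O × ↥O) where
  toFun x := (-(⟨(X ^ δ * (x : PowerSeries k × PowerSeries k).1, 0), c_mem δ O hO _⟩ : ↥O),
    (⟨(X ^ i * (x : PowerSeries k × PowerSeries k).1,
      X ^ i * (x : PowerSeries k × PowerSeries k).2), b_mem δ O hO i hi x.2⟩ : ↥O))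
  map_add' p q := by
    refine Prod.ext (Subtype.ext (Prod.ext ?_ ?_)) (Subtype.ext (Prod.ext ?_ ?_))
    · change -(X ^ δ * ((p : PowerSeries k × PowerSeries k).1 +
        (q : PowerSeries k × PowerSeries k).1)) = -(X ^ δ * _) + -(X ^ δ * _)
      ring
    · change -(0 : PowerSeries k) = -0 + -0
      ring
    · change X ^ i * ((p : PowerSeries k × PowerSeries k).1 +
        (q : PowerSeries k × PowerSeries k).1) = X ^ i * _ + X ^ i * _
      ring
    · change X ^ i * ((p : PowerSeries k × PowerSeries k).2 +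
        (q : PowerSeries k × PowerSeries k).2) = X ^ i * _ + X ^ i * _
      ring
  map_smul' a p := by
    refine Prod.ext (Subtype.ext (Prod.ext ?_ ?_)) (Subtype.ext (Prod.ext ?_ ?_))
    · change -(X ^ δ * ((a : PowerSeries k × PowerSeries k).1 *
        (p : PowerSeries k × PowerSeries k).1)) =
        (a : PowerSeries k × PowerSeries k).1 * -(X ^ δ * (p : PowerSeries k × PowerSeries k).1)
      ring
    · change -(0 : PowerSeries k) = (a : PowerSeries k × PowerSeries k).2 * -0
      ring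
    · change X ^ i * ((a : PowerSeries k × PowerSeries k).1 *
        (p : PowerSeries k × PowerSeries k).1) =
        (a : PowerSeries k × PowerSeries k).1 * (X ^ i * (p : PowerSeries k × PowerSeries k).1)
      ring
    · change X ^ i * ((a : PowerSeries k × PowerSeries k).2 *
        (p : PowerSeries k × PowerSeries k).2) =
        (a : PowerSeries k × PowerSeries k).2 * (X ^ i * (p : PowerSeries k × PowerSeries k).2)
      ring

theorem iota_fst (x : ↥(J δ O hO i)) :
    (((iota δ O hO i hi x).1 : ↥O) : PowerSeries k × PowerSeries k) =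
      (-(X ^ δ * (x : PowerSeries k × PowerSeries k).1), -0) := rfl

theorem iota_snd (x : ↥(J δ O hO i)) :
    (((iota δ O hO i hi x).2 : ↥O) : PowerSeries k × PowerSeries k) =
      (X ^ i * (x : PowerSeries k × PowerSeries k).1,
        X ^ i * (x : PowerSeries k × PowerSeries k).2) := rfl

/-- the presentation `(a, b) ↦ a u + b v`. -/
noncomputable def pi' : (↥O × ↥O) →ₗ[↥O] ↥(I δ O i) :=
  LinearMap.coprod (LinearMap.toSpanSingleton ↥O ↥(I δ O i) ⟨_, u_mem_I δ O i⟩)
    (LinearMap.toSpanSingleton ↥O ↥(I δ O i) ⟨_, v_mem_I δ O i⟩)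

theorem pi'_coe (x : ↥O × ↥O) :
    ((pi' δ O i x : ↥(I δ O i)) : PowerSeries k × PowerSeries k) =
      ((x.1 : PowerSeries k × PowerSeries k).1 * X ^ i +
          (x.2 : PowerSeries k × PowerSeries k).1 * X ^ δ,
        (x.1 : PowerSeries k × PowerSeries k).2 * X ^ i +
          (x.2 : PowerSeries k × PowerSeries k).2 * 0) := rfl

theorem iota_injective : Function.Injective (iota δ O hO i hi) := by
  intro m m' h
  have h2 := congrArg (fun x => ((x.2 : ↥O) : PowerSeries k × PowerSeries k)) h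
  simp only [iota_snd] at h2
  have h21 := congrArg Prod.fst h2
  have h22 := congrArg Prod.snd h2
  simp only at h21 h22
  exact Subtype.ext (Prod.ext (mul_left_cancel₀ (pow_ne_zero _ X_ne_zero) h21)
    (mul_left_cancel₀ (pow_ne_zero _ X_ne_zero) h22))

theorem pi'_surjective : Function.Surjective (pi' δ O i) := by
  rintro ⟨f, hf⟩
  have hf' : f ∈ Submodule.span ↥O {(((X : PowerSeries k) ^ i, (X : PowerSeries k) ^ i) :
      PowerSeries k × PowerSeries k), ((X : PowerSeries k) ^ δ, 0)} := hf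
  obtain ⟨a, b, hab⟩ := Submodule.mem_span_pair.mp hf'
  refine ⟨(a, b), ?_⟩
  apply Subtype.ext
  change _ = f
  rw [← hab]
  rfl

include hO hi in
theorem exact_iota_pi' : Function.Exact (iota δ O hO i hi) (pi' δ O i) := by
  intro x
  constructor
  · intro hx
    have hx' := congrArg (fun z : ↥(I δ O i) => (z : PowerSeries k × PowerSeries k)) hx
    simp only [pi'_coe] at hx'
    have h1 : (x.1 : PowerSeries k × PowerSeries k).1 * X ^ i +
        (x.2 : PowerSeries k × PowerSeries k).1 * X ^ δ = 0 := congrArg Prod.fst hx'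
    have h2 : (x.1 : PowerSeries k × PowerSeries k).2 * X ^ i +
        (x.2 : PowerSeries k × PowerSeries k).2 * 0 = 0 := congrArg Prod.snd hx'
    rw [mul_zero, add_zero] at h2
    have ha2 : (x.1 : PowerSeries k × PowerSeries k).2 = 0 := by
      rcases mul_eq_zero.mp h2 with h | h
      · exact h
      · exact absurd h (pow_ne_zero _ X_ne_zero)
    have hpow : (X : PowerSeries k) ^ δ = X ^ (δ - i) * X ^ i := by
      rw [← pow_add]; congr 1; omega
    have ha1 : (x.1 : PowerSeries k × PowerSeries k).1 =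
        -((x.2 : PowerSeries k × PowerSeries k).1 * X ^ (δ - i)) := by
      have : ((x.1 : PowerSeries k × PowerSeries k).1 +
          (x.2 : PowerSeries k × PowerSeries k).1 * X ^ (δ - i)) * X ^ i = 0 := by
        rw [← h1, hpow]; ring
      rcases mul_eq_zero.mp this with h | h
      · exact eq_neg_of_add_eq_zero_left h
      · exact absurd h (pow_ne_zero _ X_ne_zero)
    -- `X^δ ∣ a.1`, so `X^i ∣ b.1`
    have hda := (hO _).mp x.1.2
    rw [ha2, sub_zero, ha1] at hda
    have hdb1 : X ^ i ∣ (x.2 : PowerSeries k × PowerSeries k).1 := by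
      have h3 : X ^ (δ - i) * X ^ i ∣ X ^ (δ - i) * (x.2 : PowerSeries k × PowerSeries k).1 := by
        rw [← hpow]
        have := (dvd_neg).mp hda
        rwa [mul_comm] at this
      exact (mul_dvd_mul_iff_left (pow_ne_zero _ X_ne_zero)).mp h3
    have hdb := (hO _).mp x.2.2
    have hdb2 : X ^ i ∣ (x.2 : PowerSeries k × PowerSeries k).2 := by
      have h4 : X ^ i ∣ (x.2 : PowerSeries k × PowerSeries k).1 -
          (x.2 : PowerSeries k × PowerSeries k).2 := dvd_trans (pow_dvd_pow X hi) hdb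
      have := dvd_sub hdb1 h4
      rwa [sub_sub_cancel] at this
    obtain ⟨p, hp⟩ := hdb1
    obtain ⟨q, hq⟩ := hdb2
    have hJ : ((p, q) : PowerSeries k × PowerSeries k) ∈ J δ O hO i := by
      change X ^ (δ - i) ∣ p - q
      have h5 : X ^ i * X ^ (δ - i) ∣ X ^ i * (p - q) := by
        rw [mul_comm (X ^ i) (X ^ (δ - i)), ← hpow, mul_sub, ← hp, ← hq]
        exact hdb
      exact (mul_dvd_mul_iff_left (pow_ne_zero _ X_ne_zero)).mp h5
    refine ⟨⟨(p, q), hJ⟩, ?_⟩
    refine Prod.ext (Subtype.ext ?_) (Subtype.ext ?_)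
    · rw [iota_fst]
      refine Prod.ext ?_ ?_
      · change -(X ^ δ * p) = (x.1 : PowerSeries k × PowerSeries k).1
        rw [ha1, hp, hpow]; ring
      · change -(0 : PowerSeries k) = (x.1 : PowerSeries k × PowerSeries k).2
        rw [ha2, neg_zero]
    · rw [iota_snd]
      exact Prod.ext hp.symm hq.symm
  · rintro ⟨m, rfl⟩
    apply Subtype.ext
    rw [pi'_coe, iota_fst, iota_snd]
    have hpow : (X : PowerSeries k) ^ δ = X ^ (δ - i) * X ^ i := by
      rw [← pow_add]; congr 1; omega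
    refine Prod.ext ?_ ?_
    · change -(X ^ δ * (m : PowerSeries k × PowerSeries k).1) * X ^ i +
        X ^ i * (m : PowerSeries k × PowerSeries k).1 * X ^ δ = 0
      ring
    · change -(0 : PowerSeries k) * X ^ i + X ^ i * (m : PowerSeries k × PowerSeries k).2 * 0 = 0
      ring

variable (N : Submodule ↥O (PowerSeries k × PowerSeries k))

/-- the colon `(N : J)`. -/
def C : Submodule ↥O (PowerSeries k × PowerSeries k) where
  carrier := {ν | ∀ x ∈ J δ O hO i, x * ν ∈ N}
  add_mem' := by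
    intro a b ha hb x hx
    rw [mul_add]
    exact N.add_mem (ha x hx) (hb x hx)
  zero_mem' := by
    intro x _
    rw [mul_zero]
    exact N.zero_mem
  smul_mem' := by
    intro a ν hν x hx
    have : x * (a • ν) = a • (x * ν) := by
      change x * ((a : PowerSeries k × PowerSeries k) * ν) =
        (a : PowerSeries k × PowerSeries k) * (x * ν)
      ring
    rw [this]
    exact N.smul_mem a (hν x hx)

theorem mem_C {ν : PowerSeries k × PowerSeries k} :
    ν ∈ C δ O hO i N ↔ ∀ x ∈ J δ O hO i, x * ν ∈ N := Iff.rfl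

/-- `ν ↦ (x ↦ x ν)`. -/
noncomputable def Psi : ↥(C δ O hO i N) →ₗ[↥O] (↥(J δ O hO i) →ₗ[↥O] ↥N) :=
  LinearMap.mk₂ ↥O
    (fun ν x => ⟨(x : PowerSeries k × PowerSeries k) * (ν : PowerSeries k × PowerSeries k),
      ν.2 _ x.2⟩)
    (by
      intro ν ν' x
      apply Subtype.ext
      change (x : PowerSeries k × PowerSeries k) *
        ((ν : PowerSeries k × PowerSeries k) + (ν' : PowerSeries k × PowerSeries k)) = _ * _ + _ * _
      ring)
    (by
      intro a ν x
      apply Subtype.ext
      change (x : PowerSeries k × PowerSeries k) *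
        ((a : PowerSeries k × PowerSeries k) * (ν : PowerSeries k × PowerSeries k)) =
        (a : PowerSeries k × PowerSeries k) * (_ * _)
      ring)
    (by
      intro ν x x'
      apply Subtype.ext
      change ((x : PowerSeries k × PowerSeries k) + (x' : PowerSeries k × PowerSeries k)) *
        (ν : PowerSeries k × PowerSeries k) = _ * _ + _ * _
      ring)
    (by
      intro a ν x
      apply Subtype.ext
      change ((a : PowerSeries k × PowerSeries k) * (x : PowerSeries k × PowerSeries k)) *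
        (ν : PowerSeries k × PowerSeries k) = (a : PowerSeries k × PowerSeries k) * (_ * _)
      ring)

theorem Psi_apply (ν : ↥(C δ O hO i N)) (x : ↥(J δ O hO i)) :
    ((Psi δ O hO i N ν x : ↥N) : PowerSeries k × PowerSeries k) =
      (x : PowerSeries k × PowerSeries k) * (ν : PowerSeries k × PowerSeries k) := rfl

theorem one_mem_J : (1 : PowerSeries k × PowerSeries k) ∈ J δ O hO i := by
  change X ^ (δ - i) ∣ (1 : PowerSeries k) - 1
  rw [sub_self]; exact dvd_zero _

include hO in
theorem cond_mem (x : PowerSeries k × PowerSeries k) :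
    ((X ^ δ * x.1, X ^ δ * x.2) : PowerSeries k × PowerSeries k) ∈ O :=
  mem_of_dvd δ O hO (dvd_mul_right _ _) (dvd_mul_right _ _)

theorem Psi_surjective : Function.Surjective (Psi δ O hO i N) := by
  intro φ
  have h1J := one_mem_J δ O hO i
  have key : ∀ x : ↥(J δ O hO i), ((φ x : ↥N) : PowerSeries k × PowerSeries k) =
      (x : PowerSeries k × PowerSeries k) *
        ((φ ⟨1, h1J⟩ : ↥N) : PowerSeries k × PowerSeries k) := by
    intro x
    have h1 : (⟨_, cond_mem δ O hO (x : PowerSeries k × PowerSeries k)⟩ : ↥O) •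
        (⟨1, h1J⟩ : ↥(J δ O hO i)) =
        (⟨_, cond_mem δ O hO (1 : PowerSeries k × PowerSeries k)⟩ : ↥O) • x := by
      apply Subtype.ext
      refine Prod.ext ?_ ?_
      · change X ^ δ * (x : PowerSeries k × PowerSeries k).1 * 1 =
          X ^ δ * 1 * (x : PowerSeries k × PowerSeries k).1
        ring
      · change X ^ δ * (x : PowerSeries k × PowerSeries k).2 * 1 =
          X ^ δ * 1 * (x : PowerSeries k × PowerSeries k).2
        ring
    have h2 := congrArg (fun z => ((φ z : ↥N) : PowerSeries k × PowerSeries k)) h1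
    simp only [map_smul] at h2
    have h21 := congrArg Prod.fst h2
    have h22 := congrArg Prod.snd h2
    change X ^ δ * (x : PowerSeries k × PowerSeries k).1 *
        ((φ ⟨1, h1J⟩ : ↥N) : PowerSeries k × PowerSeries k).1 =
      X ^ δ * 1 * ((φ x : ↥N) : PowerSeries k × PowerSeries k).1 at h21
    change X ^ δ * (x : PowerSeries k × PowerSeries k).2 *
        ((φ ⟨1, h1J⟩ : ↥N) : PowerSeries k × PowerSeries k).2 =
      X ^ δ * 1 * ((φ x : ↥N) : PowerSeries k × PowerSeries k).2 at h22
    refine Prod.ext ?_ ?_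
    · change ((φ x : ↥N) : PowerSeries k × PowerSeries k).1 =
        (x : PowerSeries k × PowerSeries k).1 *
          ((φ ⟨1, h1J⟩ : ↥N) : PowerSeries k × PowerSeries k).1
      apply mul_left_cancel₀ (pow_ne_zero δ (X_ne_zero (R := k)))
      linear_combination -h21
    · change ((φ x : ↥N) : PowerSeries k × PowerSeries k).2 =
        (x : PowerSeries k × PowerSeries k).2 *
          ((φ ⟨1, h1J⟩ : ↥N) : PowerSeries k × PowerSeries k).2
      apply mul_left_cancel₀ (pow_ne_zero δ (X_ne_zero (R := k)))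
      linear_combination -h22
  refine ⟨⟨((φ ⟨1, h1J⟩ : ↥N) : PowerSeries k × PowerSeries k), fun x hx => ?_⟩, ?_⟩
  · rw [← key ⟨x, hx⟩]
    exact (φ ⟨x, hx⟩).2
  · apply LinearMap.ext
    intro x
    apply Subtype.ext
    rw [Psi_apply]
    exact (key x).symm

/-- the surjection `(N : J) → Ext¹(I_i, N)`. -/
noncomputable def Xi : ↥(C δ O hO i N) →ₗ[↥O]
    Ext (ModuleCat.of ↥O ↥(I δ O i)) (ModuleCat.of ↥O ↥N) 1 :=
  (deltaLin (Λ := ↥O) (K := ↥(J δ O hO i)) (F := ↥O × ↥O) (M := ↥(I δ O i))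
    (iota δ O hO i hi) (pi' δ O i)
    (exact_iota_pi' δ O hO i hi) ↥N (iota_injective δ O hO i hi)
    (pi'_surjective δ O i)) ∘ₗ Psi δ O hO i N

theorem Xi_surjective : Function.Surjective (Xi δ O hO i hi N) := by
  intro x
  obtain ⟨φ, hφ⟩ := deltaLin_surjective (Λ := ↥O) (K := ↥(J δ O hO i)) (F := ↥O × ↥O)
    (M := ↥(I δ O i)) (iota δ O hO i hi) (pi' δ O i)
    (iota_injective δ O hO i hi) (pi'_surjective δ O i)
    (exact_iota_pi' δ O hO i hi) ↥N x
  obtain ⟨w, hw⟩ := Psi_surjective δ O hO i N φ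
  refine ⟨w, ?_⟩
  unfold Xi
  rw [LinearMap.comp_apply, hw, hφ]

theorem Xi_eq_zero_iff (ν : ↥(C δ O hO i N)) :
    Xi δ O hO i hi N ν = 0 ↔
      ∃ n₁ ∈ N, ∃ n₂ ∈ N, (ν : PowerSeries k × PowerSeries k) =
        (X ^ i * n₂.1 - X ^ δ * n₁.1, X ^ i * n₂.2) := by
  have h1J := one_mem_J δ O hO i
  unfold Xi
  rw [LinearMap.comp_apply, deltaLin_eq_zero_iff]
  constructor
  · rintro ⟨ψ, hψ⟩
    refine ⟨((ψ (1, 0) : ↥N) : PowerSeries k × PowerSeries k), (ψ (1, 0)).2,
      ((ψ (0, 1) : ↥N) : PowerSeries k × PowerSeries k), (ψ (0, 1)).2, ?_⟩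
    have h1 := congrArg (fun z => ((z : ↥N) : PowerSeries k × PowerSeries k))
      (LinearMap.congr_fun hψ ⟨1, h1J⟩)
    simp only [LinearMap.comp_apply] at h1
    rw [Psi_apply] at h1
    change _ = 1 * (ν : PowerSeries k × PowerSeries k) at h1
    rw [one_mul] at h1
    rw [← h1]
    have hdec : iota δ O hO i hi ⟨1, h1J⟩ =
        (iota δ O hO i hi ⟨1, h1J⟩).1 • ((1 : ↥O), (0 : ↥O)) +
          (iota δ O hO i hi ⟨1, h1J⟩).2 • ((0 : ↥O), (1 : ↥O)) := by
      apply Prod.ext
      · simp
      · simp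
    rw [hdec, map_add, map_smul, map_smul]
    refine Prod.ext ?_ ?_
    · change (((iota δ O hO i hi ⟨1, h1J⟩).1 : ↥O) : PowerSeries k × PowerSeries k).1 *
          ((ψ (1, 0) : ↥N) : PowerSeries k × PowerSeries k).1 +
        (((iota δ O hO i hi ⟨1, h1J⟩).2 : ↥O) : PowerSeries k × PowerSeries k).1 *
          ((ψ (0, 1) : ↥N) : PowerSeries k × PowerSeries k).1 = _
      rw [iota_fst, iota_snd]
      change -(X ^ δ * 1) * _ + X ^ i * 1 * _ = _
      ring
    · change (((iota δ O hO i hi ⟨1, h1J⟩).1 : ↥O) : PowerSeries k × PowerSeries k).2 *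
          ((ψ (1, 0) : ↥N) : PowerSeries k × PowerSeries k).2 +
        (((iota δ O hO i hi ⟨1, h1J⟩).2 : ↥O) : PowerSeries k × PowerSeries k).2 *
          ((ψ (0, 1) : ↥N) : PowerSeries k × PowerSeries k).2 = _
      rw [iota_fst, iota_snd]
      change -(0 : PowerSeries k) * _ + X ^ i * 1 * _ = _
      ring
  · rintro ⟨n₁, hn₁, n₂, hn₂, hν⟩
    refine ⟨LinearMap.coprod (LinearMap.toSpanSingleton ↥O ↥N ⟨n₁, hn₁⟩)
      (LinearMap.toSpanSingleton ↥O ↥N ⟨n₂, hn₂⟩), ?_⟩
    apply LinearMap.ext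
    intro x
    apply Subtype.ext
    rw [Psi_apply, hν]
    refine Prod.ext ?_ ?_
    · change (((iota δ O hO i hi x).1 : ↥O) : PowerSeries k × PowerSeries k).1 * n₁.1 +
        (((iota δ O hO i hi x).2 : ↥O) : PowerSeries k × PowerSeries k).1 * n₂.1 =
        (x : PowerSeries k × PowerSeries k).1 * (X ^ i * n₂.1 - X ^ δ * n₁.1)
      rw [iota_fst, iota_snd]
      change -(X ^ δ * (x : PowerSeries k × PowerSeries k).1) * n₁.1 +
        X ^ i * (x : PowerSeries k × PowerSeries k).1 * n₂.1 = _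
      ring
    · change (((iota δ O hO i hi x).1 : ↥O) : PowerSeries k × PowerSeries k).2 * n₁.2 +
        (((iota δ O hO i hi x).2 : ↥O) : PowerSeries k × PowerSeries k).2 * n₂.2 =
        (x : PowerSeries k × PowerSeries k).2 * (X ^ i * n₂.2)
      rw [iota_fst, iota_snd]
      change -(0 : PowerSeries k) * n₁.2 +
        X ^ i * (x : PowerSeries k × PowerSeries k).2 * n₂.2 = _
      ring

end Groth.Agent.Lib.helper11.AoddExt
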