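import Mathlib
import Groth.Agent.Lib.helper11.AoddExt

/-!
# `ℓ Ext¹(I_i, I_j) = 2 min(i, j)` over the two-branch ring `O` (helper11)
-/

set_option autoImplicit false

namespace Groth.Agent.Lib.helper11.AoddLen

open PowerSeries CategoryTheory Abelian
open Groth.Agent.Lib.helper11.ExtShift Groth.Agent.Lib.helper11.RnExt3
  Groth.Agent.Lib.helper11.AoddRing Groth.Agent.Lib.helper11.AoddExt

universe u

variable {k : Type u} [Field k] (δ : ℕ) (O : Subalgebra k (PowerSeries k × PowerSeries k))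
  (hO : ∀ f : PowerSeries k × PowerSeries k, f ∈ O ↔ X ^ δ ∣ f.1 - f.2)
  (i j : ℕ) (hi : i ≤ δ) (hj : j ≤ δ)

include hi hj in
theorem mem_C_iff (ν : PowerSeries k × PowerSeries k) :
    ν ∈ C δ O hO i (I δ O j) ↔
      X ^ (max i j) ∣ ν.1 ∧ X ^ (max i j) ∣ ν.2 ∧ X ^ δ ∣ ν.1 - ν.2 := by
  have hpow : (X : PowerSeries k) ^ δ = X ^ (δ - i) * X ^ i := by
    rw [← pow_add]; congr 1; omega
  constructor
  · intro hν
    have h1 := hν 1 (one_mem_J δ O hO i)
    rw [one_mul, mem_I_iff δ O hO j hj] at h1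
    have hmemJ : (((X : PowerSeries k) ^ (δ - i), 0) : PowerSeries k × PowerSeries k) ∈
        J δ O hO i := by
      change X ^ (δ - i) ∣ (X : PowerSeries k) ^ (δ - i) - 0
      rw [sub_zero]
    have h2 := hν _ hmemJ
    rw [mem_I_iff δ O hO j hj] at h2
    have h3 : X ^ δ ∣ X ^ (δ - i) * ν.1 - 0 * ν.2 := h2.2.2
    rw [zero_mul, sub_zero, hpow] at h3
    have hi1 : X ^ i ∣ ν.1 := (mul_dvd_mul_iff_left (pow_ne_zero _ X_ne_zero)).mp h3
    have hi2 : X ^ i ∣ ν.2 := by
      have h4 : X ^ i ∣ ν.1 - ν.2 := dvd_trans (pow_dvd_pow X hi) h1.2.2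
      have := dvd_sub hi1 h4
      rwa [sub_sub_cancel] at this
    rcases le_total i j with h | h
    · rw [max_eq_right h]
      exact h1
    · rw [max_eq_left h]
      exact ⟨hi1, hi2, h1.2.2⟩
  · rintro ⟨hm1, hm2, hd⟩ x hx
    rw [mem_I_iff δ O hO j hj]
    have hj1 : X ^ j ∣ ν.1 := dvd_trans (pow_dvd_pow X (le_max_right i j)) hm1
    have hj2 : X ^ j ∣ ν.2 := dvd_trans (pow_dvd_pow X (le_max_right i j)) hm2
    have hi2 : X ^ i ∣ ν.2 := dvd_trans (pow_dvd_pow X (le_max_left i j)) hm2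
    refine ⟨Dvd.dvd.mul_left hj1 _, Dvd.dvd.mul_left hj2 _, ?_⟩
    change X ^ δ ∣ x.1 * ν.1 - x.2 * ν.2
    have : x.1 * ν.1 - x.2 * ν.2 = x.1 * (ν.1 - ν.2) + (x.1 - x.2) * ν.2 := by ring
    rw [this]
    refine dvd_add (Dvd.dvd.mul_left hd _) ?_
    rw [hpow]
    exact mul_dvd_mul hx hi2

/-- the image submodule, by its explicit description. -/
def R : Submodule ↥O (PowerSeries k × PowerSeries k) where
  carrier := {ν | X ^ (i + j) ∣ ν.2 ∧ X ^ (δ + min i j) ∣ ν.1 - ν.2}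
  add_mem' := by
    rintro x y ⟨hx1, hx2⟩ ⟨hy1, hy2⟩
    refine ⟨dvd_add hx1 hy1, ?_⟩
    have : (x + y).1 - (x + y).2 = (x.1 - x.2) + (y.1 - y.2) := by
      change (x.1 + y.1) - (x.2 + y.2) = _
      ring
    rw [this]
    exact dvd_add hx2 hy2
  zero_mem' := by
    refine ⟨dvd_zero _, ?_⟩
    change X ^ (δ + min i j) ∣ (0 : PowerSeries k) - 0
    simp
  smul_mem' := by
    rintro a x ⟨hx1, hx2⟩
    refine ⟨Dvd.dvd.mul_left hx1 _, ?_⟩
    rw [smul_fst, smul_snd]
    have : (a : PowerSeries k × PowerSeries k).1 * x.1 -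
        (a : PowerSeries k × PowerSeries k).2 * x.2 =
        (a : PowerSeries k × PowerSeries k).1 * (x.1 - x.2) +
          ((a : PowerSeries k × PowerSeries k).1 - (a : PowerSeries k × PowerSeries k).2) *
            x.2 := by ring
    rw [this]
    refine dvd_add (Dvd.dvd.mul_left hx2 _) ?_
    have h1 : (X : PowerSeries k) ^ (δ + min i j) ∣ X ^ δ * X ^ (i + j) := by
      rw [← pow_add]
      exact pow_dvd_pow X (by omega)
    exact dvd_trans h1 (mul_dvd_mul ((hO _).mp a.2) hx1)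

theorem mem_R {ν : PowerSeries k × PowerSeries k} :
    ν ∈ R δ O hO i j ↔ X ^ (i + j) ∣ ν.2 ∧ X ^ (δ + min i j) ∣ ν.1 - ν.2 := Iff.rfl

include hi hj in
theorem exists_iff_mem_R (ν : PowerSeries k × PowerSeries k) :
    (∃ n₁ ∈ I δ O j, ∃ n₂ ∈ I δ O j, ν = (X ^ i * n₂.1 - X ^ δ * n₁.1, X ^ i * n₂.2)) ↔
      ν ∈ R δ O hO i j := by
  rw [mem_R]
  constructor
  · rintro ⟨n₁, hn₁, n₂, hn₂, rfl⟩
    rw [mem_I_iff δ O hO j hj] at hn₁ hn₂
    refine ⟨?_, ?_⟩
    · change X ^ (i + j) ∣ X ^ i * n₂.2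
      rw [pow_add]
      exact mul_dvd_mul_left _ hn₂.2.1
    · change X ^ (δ + min i j) ∣ (X ^ i * n₂.1 - X ^ δ * n₁.1) - X ^ i * n₂.2
      have : (X ^ i * n₂.1 - X ^ δ * n₁.1) - X ^ i * n₂.2 =
          X ^ i * (n₂.1 - n₂.2) - X ^ δ * n₁.1 := by ring
      rw [this]
      refine dvd_sub ?_ ?_
      · have h1 : (X : PowerSeries k) ^ (δ + min i j) ∣ X ^ i * X ^ δ := by
          rw [← pow_add]
          exact pow_dvd_pow X (by omega)
        exact dvd_trans h1 (mul_dvd_mul_left _ hn₂.2.2)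
      · have h1 : (X : PowerSeries k) ^ (δ + min i j) ∣ X ^ δ * X ^ j := by
          rw [← pow_add]
          exact pow_dvd_pow X (by omega)
        exact dvd_trans h1 (mul_dvd_mul_left _ hn₁.1)
  · rintro ⟨⟨q', hq'⟩, ⟨w, hw⟩⟩
    have hjδ : (X : PowerSeries k) ^ j ∣ X ^ δ := pow_dvd_pow X hj
    rcases le_total i j with h | h
    · rw [min_eq_left h] at hw
      refine ⟨0, (I δ O j).zero_mem, (X ^ j * q' + X ^ δ * w, X ^ j * q'), ?_, ?_⟩
      · rw [mem_I_iff δ O hO j hj]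
        refine ⟨dvd_add (dvd_mul_right _ _) (Dvd.dvd.mul_right hjδ _), dvd_mul_right _ _, ?_⟩
        change X ^ δ ∣ (X ^ j * q' + X ^ δ * w) - X ^ j * q'
        rw [add_sub_cancel_left]
        exact dvd_mul_right _ _
      · refine Prod.ext ?_ ?_
        · change ν.1 = X ^ i * (X ^ j * q' + X ^ δ * w) - X ^ δ * 0
          linear_combination hw + hq'
        · change ν.2 = X ^ i * (X ^ j * q')
          rw [hq', pow_add]; ring
    · rw [min_eq_right h] at hw
      refine ⟨(-(X ^ j * w), -(X ^ j * w)), ?_, (X ^ j * q', X ^ j * q'), ?_, ?_⟩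
      · rw [mem_I_iff δ O hO j hj]
        refine ⟨(dvd_neg).mpr (dvd_mul_right _ _), (dvd_neg).mpr (dvd_mul_right _ _), ?_⟩
        change X ^ δ ∣ -(X ^ j * w) - -(X ^ j * w)
        rw [sub_self]; exact dvd_zero _
      · rw [mem_I_iff δ O hO j hj]
        refine ⟨dvd_mul_right _ _, dvd_mul_right _ _, ?_⟩
        change X ^ δ ∣ X ^ j * q' - X ^ j * q'
        rw [sub_self]; exact dvd_zero _
      · refine Prod.ext ?_ ?_
        · change ν.1 = X ^ i * (X ^ j * q') - X ^ δ * -(X ^ j * w)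
          linear_combination hw + hq'
        · change ν.2 = X ^ i * (X ^ j * q')
          rw [hq', pow_add]; ring

include hi hj in
theorem R_le_C : R δ O hO i j ≤ C δ O hO i (I δ O j) := by
  intro ν hν
  rw [mem_C_iff δ O hO i j hi hj]
  obtain ⟨h1, h2⟩ := hν
  have hm2 : X ^ (max i j) ∣ ν.2 := dvd_trans (pow_dvd_pow X (by omega)) h1
  have hd : X ^ δ ∣ ν.1 - ν.2 := dvd_trans (pow_dvd_pow X (by omega)) h2
  refine ⟨?_, hm2, hd⟩
  have : ν.1 = ν.2 + (ν.1 - ν.2) := by ring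
  rw [this]
  exact dvd_add hm2 (dvd_trans (pow_dvd_pow X (by omega)) hd)

/-- the coefficient map. -/
noncomputable def Lam₀ : (PowerSeries k × PowerSeries k) →ₗ[k]
    ((Fin (min i j) → k) × (Fin (min i j) → k)) :=
  LinearMap.prod
    (LinearMap.pi fun n : Fin (min i j) =>
      (coeff (R := k) (max i j + n)) ∘ₗ LinearMap.snd k (PowerSeries k) (PowerSeries k))
    (LinearMap.pi fun n : Fin (min i j) =>
      (coeff (R := k) (δ + n)) ∘ₗ (LinearMap.fst k (PowerSeries k) (PowerSeries k) -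
        LinearMap.snd k (PowerSeries k) (PowerSeries k)))

omit hO in
theorem Lam₀_apply (ν : PowerSeries k × PowerSeries k) :
    Lam₀ δ i j ν = (fun n : Fin (min i j) => coeff (max i j + n) ν.2,
      fun n : Fin (min i j) => coeff (δ + n) (ν.1 - ν.2)) := rfl

include hi hj in
theorem Lam₀_eq_zero_iff {ν : PowerSeries k × PowerSeries k}
    (hν : ν ∈ C δ O hO i (I δ O j)) : Lam₀ δ i j ν = 0 ↔ ν ∈ R δ O hO i j := by
  rw [mem_C_iff δ O hO i j hi hj] at hν
  obtain ⟨-, hm2, hd⟩ := hν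
  rw [X_pow_dvd_iff] at hm2 hd
  rw [Lam₀_apply, Prod.mk_eq_zero, mem_R, X_pow_dvd_iff, X_pow_dvd_iff]
  have hsum : max i j + min i j = i + j := by omega
  constructor
  · rintro ⟨h1, h2⟩
    refine ⟨?_, ?_⟩
    · intro e he
      by_cases hem : e < max i j
      · exact hm2 e hem
      · have hlt : e - max i j < min i j := by omega
        have := congrFun h1 ⟨e - max i j, hlt⟩
        change coeff (max i j + (e - max i j)) ν.2 = 0 at this
        rwa [Nat.add_sub_cancel' (by omega)] at this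
    · intro e he
      by_cases hem : e < δ
      · exact hd e hem
      · have hlt : e - δ < min i j := by omega
        have := congrFun h2 ⟨e - δ, hlt⟩
        change coeff (δ + (e - δ)) (ν.1 - ν.2) = 0 at this
        rwa [Nat.add_sub_cancel' (by omega)] at this
  · rintro ⟨h1, h2⟩
    refine ⟨?_, ?_⟩
    · funext n
      exact h1 _ (by have := n.2; omega)
    · funext n
      exact h2 _ (by have := n.2; omega)

include hi hj in
theorem Lam₀_surjective (t : (Fin (min i j) → k) × (Fin (min i j) → k)) :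
    ∃ ν ∈ C δ O hO i (I δ O j), Lam₀ δ i j ν = t := by
  classical
  set g : PowerSeries k := PowerSeries.mk fun e =>
    if h : max i j ≤ e ∧ e - max i j < min i j then t.1 ⟨e - max i j, h.2⟩ else 0 with hg
  set d : PowerSeries k := PowerSeries.mk fun e =>
    if h : δ ≤ e ∧ e - δ < min i j then t.2 ⟨e - δ, h.2⟩ else 0 with hd
  have hgm : X ^ (max i j) ∣ g := by
    rw [X_pow_dvd_iff]
    intro e he
    rw [hg, coeff_mk, dif_neg]
    rintro ⟨h1, -⟩
    omega
  have hdδ : X ^ δ ∣ d := by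
    rw [X_pow_dvd_iff]
    intro e he
    rw [hd, coeff_mk, dif_neg]
    rintro ⟨h1, -⟩
    omega
  refine ⟨(g + d, g), ?_, ?_⟩
  · rw [mem_C_iff δ O hO i j hi hj]
    refine ⟨dvd_add hgm (dvd_trans (pow_dvd_pow X (by omega)) hdδ), hgm, ?_⟩
    change X ^ δ ∣ (g + d) - g
    rw [add_sub_cancel_left]
    exact hdδ
  · rw [Lam₀_apply]
    refine Prod.ext ?_ ?_
    · funext n
      change coeff (max i j + n) g = t.1 n
      rw [hg, coeff_mk, dif_pos ⟨Nat.le_add_right _ _, by rw [Nat.add_sub_cancel_left]; exact n.2⟩]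
      have hn : (⟨max i j + (n : ℕ) - max i j,
          by rw [Nat.add_sub_cancel_left]; exact n.2⟩ : Fin (min i j)) = n :=
        Fin.ext (Nat.add_sub_cancel_left _ _)
      exact congrArg t.1 hn
    · funext n
      change coeff (δ + n) ((g + d) - g) = t.2 n
      rw [add_sub_cancel_left, hd, coeff_mk,
        dif_pos ⟨Nat.le_add_right _ _, by rw [Nat.add_sub_cancel_left]; exact n.2⟩]
      have hn : (⟨δ + (n : ℕ) - δ,
          by rw [Nat.add_sub_cancel_left]; exact n.2⟩ : Fin (min i j)) = n :=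
        Fin.ext (Nat.add_sub_cancel_left _ _)
      exact congrArg t.2 hn

end Groth.Agent.Lib.helper11.AoddLen
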