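import Mathlib
import Groth.Agent.Lib.helper11.AoddLen

/-!
# `ℓ Ext¹(I_i, I_j) = 2 min(i, j)` over the two-branch ring `O`: assembly (helper11)
-/

set_option autoImplicit false

namespace Groth.Agent.Lib.helper11.AoddMain

open PowerSeries CategoryTheory Abelian
open Groth.Agent.Lib.helper11.ExtShift Groth.Agent.Lib.helper11.RnExt3
  Groth.Agent.Lib.helper11.AoddRing Groth.Agent.Lib.helper11.AoddExt
  Groth.Agent.Lib.helper11.AoddLen

universe u v w

section Abstract

variable {R : Type u} [CommRing R] {k : Type u} [Field k] [Algebra k R]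
  {X : Type v} [AddCommGroup X] [Module R X] [Module k X] [IsScalarTower k R X]
  {Z : Type w} [AddCommGroup Z] [Module R Z]
  {T : Type w} [AddCommGroup T] [Module k T] [Module.Finite k T]

/-- an `R`-linear surjection and a `k`-linear surjection with the same kernel. -/
theorem length_eq_finrank_of_surjections
    (hlen : ∀ (M : Type v) [AddCommGroup M] [Module R M] [Module k M] [IsScalarTower k R M]
      [Module.Finite k M], Module.length R M = Module.finrank k M)
    (p : X →ₗ[R] Z) (L : X →ₗ[k] T) (hp : Function.Surjective p) (hL : Function.Surjective L)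
    (h : ∀ x, p x = 0 ↔ L x = 0) :
    Module.length R Z = Module.finrank k T := by
  have hker : LinearMap.ker L = (LinearMap.ker p).restrictScalars k := by
    ext x
    rw [LinearMap.mem_ker, Submodule.restrictScalars_mem, LinearMap.mem_ker]
    exact (h x).symm
  let e₂ : (X ⧸ LinearMap.ker p) ≃ₗ[k] T :=
    (Submodule.Quotient.restrictScalarsEquiv k (LinearMap.ker p)).symm ≪≫ₗ
      (Submodule.quotEquivOfEq _ _ hker.symm) ≪≫ₗ L.quotKerEquivOfSurjective hL
  haveI : Module.Finite k (X ⧸ LinearMap.ker p) := Module.Finite.equiv e₂.symm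
  rw [← (p.quotKerEquivOfSurjective hp).length_eq, hlen (X ⧸ LinearMap.ker p), e₂.finrank_eq]

end Abstract

variable {k : Type u} [Field k] (δ : ℕ) (O : Subalgebra k (PowerSeries k × PowerSeries k))
  (hO : ∀ f : PowerSeries k × PowerSeries k, f ∈ O ↔ X ^ δ ∣ f.1 - f.2)
  (i j : ℕ) (hi : i ≤ δ) (hj : j ≤ δ)

/-- the coefficient map on `C`. -/
noncomputable def Lam : ↥(AoddExt.C δ O hO i (I δ O j)) →ₗ[k]
    ((Fin (min i j) → k) × (Fin (min i j) → k)) :=
  (Lam₀ δ i j) ∘ₗ ((AoddExt.C δ O hO i (I δ O j)).subtype.restrictScalars k)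

theorem Lam_apply (ν : ↥(AoddExt.C δ O hO i (I δ O j))) :
    Lam δ O hO i j ν = Lam₀ δ i j (ν : PowerSeries k × PowerSeries k) := rfl

include hi hj in
theorem Lam_surjective : Function.Surjective (Lam δ O hO i j) := by
  intro t
  obtain ⟨ν, hν, hνt⟩ := Lam₀_surjective δ O hO i j hi hj t
  exact ⟨⟨ν, hν⟩, hνt⟩

variable (hδ : 1 ≤ δ)

include hO hi hj hδ in
theorem main :
    Module.length ↥O (Ext (ModuleCat.of ↥O ↥(I δ O i)) (ModuleCat.of ↥O ↥(I δ O j)) 1) =
      ((2 * min i j : ℕ) : ℕ∞) := by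
  have hker : ∀ ν : ↥(AoddExt.C δ O hO i (I δ O j)),
      Xi δ O hO i hi (I δ O j) ν = 0 ↔ Lam δ O hO i j ν = 0 := by
    intro ν
    rw [Xi_eq_zero_iff, exists_iff_mem_R δ O hO i j hi hj, Lam_apply]
    exact (Lam₀_eq_zero_iff δ O hO i j hi hj ν.2).symm
  have key := length_eq_finrank_of_surjections (R := ↥O) (k := k)
    (X := ↥(AoddExt.C δ O hO i (I δ O j)))
    (Z := Ext (ModuleCat.of ↥O ↥(I δ O i)) (ModuleCat.of ↥O ↥(I δ O j)) 1)
    (T := (Fin (min i j) → k) × (Fin (min i j) → k))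
    (fun M _ _ _ _ _ => length_eq_finrank δ O hO hδ M)
    (Xi δ O hO i hi (I δ O j)) (Lam δ O hO i j)
    (Xi_surjective δ O hO i hi (I δ O j)) (Lam_surjective δ O hO i j hi hj) hker
  rw [key, Module.finrank_prod, Module.finrank_fin_fun]
  congr 1
  omega

end Groth.Agent.Lib.helper11.AoddMain
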