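import Groth.Agent.Lib.helper11.FinLenInd

/-!
# A flatness criterion over Artinian local rings (helper11)

If `M₀ → X₃ → C → 0` is exact with `X₃` flat over an Artinian local ring `A` and `M₀ ⊗ k → X₃ ⊗ k`
is injective, then `C` is flat.
-/

set_option autoImplicit false
universe u

namespace Groth.Agent.Lib.helper11.ArtinianFlat

open CategoryTheory IsLocalRing TensorProduct
open Groth.Agent.Lib.helper11.FinLenInd

variable {A : Type u} [CommRing A] [IsLocalRing A]
variable {M₀ X₃ : Type u} [AddCommGroup M₀] [Module A M₀] [AddCommGroup X₃] [Module A X₃]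

/-- dévissage: `f₀ ⊗ N` is injective for every `N` of finite length. -/
theorem rTensor_injective_of_finiteLength (f₀ : M₀ →ₗ[A] X₃) [Module.Flat A X₃]
    (hk : Function.Injective (f₀.rTensor (ResidueField A))) :
    ∀ N : ModuleCat.{u} A, Module.length A N ≠ ⊤ → Function.Injective (f₀.rTensor N) := by
  apply finiteLength_induction
  · intro N hN
    have : Subsingleton (M₀ ⊗[A] N) := inferInstance
    exact Function.injective_of_subsingleton _
  · rintro S hS ⟨e⟩ - - hQ
    have hf : Function.Injective S.f.hom := (ModuleCat.mono_iff_injective _).mp hS.mono_f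
    have hg : Function.Surjective S.g.hom := (ModuleCat.epi_iff_surjective _).mp hS.epi_g
    have hex : Function.Exact S.f.hom S.g.hom :=
      (ShortComplex.ShortExact.moduleCat_exact_iff_function_exact S).mp hS.exact
    -- injectivity for `S.X₃ ≅ k`
    have hQ3 : Function.Injective (f₀.rTensor S.X₃) := by
      let ε : S.X₃ ≃ₗ[A] ResidueField A := e.toLinearEquiv
      have hcomm : (ε.toLinearMap.lTensor X₃) ∘ₗ (f₀.rTensor S.X₃) =
          (f₀.rTensor (ResidueField A)) ∘ₗ (ε.toLinearMap.lTensor M₀) := by
        rw [LinearMap.lTensor_comp_rTensor, LinearMap.rTensor_comp_lTensor]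
      have hinj : Function.Injective ((ε.toLinearMap.lTensor X₃) ∘ₗ (f₀.rTensor S.X₃)) := by
        rw [hcomm]
        exact hk.comp (LinearEquiv.lTensor M₀ ε).injective
      exact Function.Injective.of_comp hinj
    rw [injective_iff_map_eq_zero]
    intro x hx
    have h1 : (S.g.hom.lTensor M₀) x = 0 := by
      apply hQ3
      rw [map_zero, ← LinearMap.comp_apply, LinearMap.rTensor_comp_lTensor,
        ← LinearMap.lTensor_comp_rTensor, LinearMap.comp_apply, hx, map_zero]
    obtain ⟨x', rfl⟩ := (lTensor_exact M₀ hex hg x).mp h1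
    have h2 : (f₀.rTensor S.X₁) x' = 0 := by
      apply Module.Flat.lTensor_preserves_injective_linearMap (M := X₃) S.f.hom hf
      rw [map_zero, ← LinearMap.comp_apply, LinearMap.lTensor_comp_rTensor,
        ← LinearMap.rTensor_comp_lTensor, LinearMap.comp_apply, hx]
    rw [(injective_iff_map_eq_zero _).mp hQ x' h2, map_zero]

/-- **Flatness criterion over an Artinian local ring.** -/
theorem flat_coker [IsArtinianRing A] (f₀ : M₀ →ₗ[A] X₃) [Module.Flat A X₃]
    (hk : Function.Injective (f₀.rTensor (ResidueField A))) :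
    Module.Flat A (X₃ ⧸ LinearMap.range f₀) := by
  rw [Module.Flat.iff_lTensor_injective']
  intro I
  have hfin : Module.length A (ModuleCat.of A (A ⧸ I)) ≠ ⊤ := by
    have : IsNoetherian A (A ⧸ I) := isNoetherian_of_isNoetherianRing_of_finite A (A ⧸ I)
    have : IsArtinian A (A ⧸ I) := inferInstance
    exact Module.length_ne_top
  have h1 := rTensor_injective_of_finiteLength f₀ hk (ModuleCat.of A (A ⧸ I)) hfin
  exact lTensor_injective_of_exact_of_exact_of_rTensor_injective
    (f₁ := f₀) (f₂ := (LinearMap.range f₀).mkQ) (g₁ := I.subtype) (g₂ := I.mkQ)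
    (by rw [LinearMap.exact_iff, Submodule.ker_mkQ]) (Submodule.mkQ_surjective _)
    (LinearMap.exact_subtype_mkQ I) (Submodule.mkQ_surjective _) h1
    (Module.Flat.lTensor_preserves_injective_linearMap _ Subtype.val_injective)

end Groth.Agent.Lib.helper11.ArtinianFlat
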