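import Mathlib
import Groth.Agent.Lib.Helper7.CMInf
import Groth.Agent.Lib.Helper7.StdGrUnmixed
import Groth.Agent.Lib.Helper7.AffineDimFormula
import Groth.Agent.Lib.helper11.LCKit3
import Groth.Agent.Lib.Helper21.DepthKit12
import Groth.Agent.Lib.helper11.ExtShift

/-!
# Basic double links and local cohomology (helper11)
-/

set_option autoImplicit false

namespace Groth.Agent.Lib.helper11.BDLink

open Groth.Agent.Lib.Helper21.DepthKit Groth.Agent.Lib.Helper7

universe u

section Depth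

variable (K : Type u) [Field K] (m : ℕ)

/-- dimension of a homogeneous Cohen–Macaulay quotient of the polynomial ring. -/
theorem ringKrullDim_quotient (J : Ideal (MvPolynomial (Fin m) K))
    (hJ : J.IsHomogeneous (GrSyz.stdGr K (Fin m)))
    [LocCoh.IsCohenMacaulayRing (MvPolynomial (Fin m) K ⧸ J)] (h : ℕ) (hJh : J.height = h) :
    h ≤ m ∧ ringKrullDim (MvPolynomial (Fin m) K ⧸ J) = ((m - h : ℕ) : WithBot ℕ∞) := by
  have hJne : J ≠ ⊤ := by
    rintro rfl
    rw [Ideal.height_top] at hJh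
    exact ENat.top_ne_coe _ hJh
  obtain ⟨⟨p, hp⟩⟩ := Ideal.nonempty_minimalPrimes hJne
  haveI := hp.1.1
  have h1 := StdGrUnmixed.dim_quotient_eq_of_mem_minimalPrimes K m hJ hp
  have h2 := StdGrUnmixed.height_eq_of_mem_minimalPrimes K m hJ hp
  have h3 := AffDim.mvPolynomial_height_add K m p
  rw [h1, h2, hJh] at h3
  haveI : Nontrivial (MvPolynomial (Fin m) K ⧸ J) := Ideal.Quotient.nontrivial_iff.2 hJne
  have h0 : (0 : WithBot ℕ∞) ≤ ringKrullDim (MvPolynomial (Fin m) K ⧸ J) :=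
    ringKrullDim_nonneg_of_nontrivial
  generalize ringKrullDim (MvPolynomial (Fin m) K ⧸ J) = z at h3 h0
  induction z with
  | bot => simp at h0
  | coe z =>
    induction z with
    | top =>
      exfalso
      have : (((h : ℕ∞) + ⊤ : ℕ∞) : WithBot ℕ∞) = ((m : ℕ∞) : WithBot ℕ∞) := by
        exact_mod_cast h3
      rw [WithBot.coe_inj, add_top] at this
      exact ENat.top_ne_coe _ this
    | coe z =>
      have h4 : h + z = m := by exact_mod_cast h3
      refine ⟨by omega, ?_⟩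
      have : z = m - h := by omega
      rw [this]
      rfl

/-- the depth of a homogeneous Cohen–Macaulay quotient with respect to the irrelevant ideal. -/
theorem idealDepth_irrel_quotient (J : Ideal (MvPolynomial (Fin m) K))
    (hJ : J.IsHomogeneous (GrSyz.stdGr K (Fin m)))
    [LocCoh.IsCohenMacaulayRing (MvPolynomial (Fin m) K ⧸ J)] (h : ℕ) (hJh : J.height = h) :
    LocCoh.idealDepth (GrSyz.irrel (GrSyz.stdGr K (Fin m))).toIdeal
      (MvPolynomial (Fin m) K ⧸ J) = ((m - h : ℕ) : ℕ∞) := by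
  have hJne : J ≠ ⊤ := by
    rintro rfl
    rw [Ideal.height_top] at hJh
    exact ENat.top_ne_coe _ hJh
  obtain ⟨hhm, hdim⟩ := ringKrullDim_quotient K m J hJ h hJh
  generalize m - h = e at hdim ⊢
  set 𝔫 := (GrSyz.irrel (GrSyz.stdGr K (Fin m))).toIdeal with h𝔫
  haveI h𝔫max : 𝔫.IsMaximal := Groth.Agent.Lib.Helper21.GrSyzIrrel.irrel_isMaximal K (Fin m)
  have hJ𝔫 : J ≤ 𝔫 := StdGrUnmixed.le_irrel K (Fin m) hJ hJne
  have hsurj : Function.Surjective (Ideal.Quotient.mk J) := Ideal.Quotient.mk_surjective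
  have hcomap : (𝔫.map (Ideal.Quotient.mk J)).comap (Ideal.Quotient.mk J) = 𝔫 := by
    rw [Ideal.comap_map_of_surjective _ hsurj, ← RingHom.ker_eq_comap_bot, Ideal.mk_ker,
      sup_eq_left.2 hJ𝔫]
  haveI hmax : (𝔫.map (Ideal.Quotient.mk J)).IsMaximal := by
    rcases Ideal.map_eq_top_or_isMaximal_of_surjective (Ideal.Quotient.mk J) hsurj h𝔫max with h | h
    · exfalso
      rw [h, Ideal.comap_top] at hcomap
      exact h𝔫max.ne_top hcomap.symm
    · exact h
  have hmin : ∀ P ∈ minimalPrimes (MvPolynomial (Fin m) K ⧸ J),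
      P ≤ 𝔫.map (Ideal.Quotient.mk J) := by
    intro P hP
    have hPc : P.comap (Ideal.Quotient.mk J) ∈ J.minimalPrimes := by
      rw [Ideal.minimalPrimes_eq_comap]
      exact ⟨P, hP, rfl⟩
    have hhom := StdGrUnmixed.isHomogeneous_of_mem_minimalPrimes (GrSyz.stdGr K (Fin m)) hJ hPc
    have hle := StdGrUnmixed.le_irrel K (Fin m) hhom hPc.1.1.ne_top
    rw [← Ideal.map_comap_of_surjective _ hsurj P]
    exact Ideal.map_mono hle
  rw [idealDepth_map_of_surjective (R := MvPolynomial (Fin m) K)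
    (S := MvPolynomial (Fin m) K ⧸ J) (MvPolynomial (Fin m) K ⧸ J) hsurj 𝔫]
  have h1 := CMInf.idealDepth_maximal_of_CM (C := MvPolynomial (Fin m) K ⧸ J)
    (𝔫.map (Ideal.Quotient.mk J))
  have h2 := AffChain.ringKrullDim_localization_eq (k := K) (MvPolynomial (Fin m) K ⧸ J)
    (𝔫.map (Ideal.Quotient.mk J)) hmin
  rw [h2, hdim] at h1
  have h3 : LocCoh.idealDepth (𝔫.map (Ideal.Quotient.mk J)) (MvPolynomial (Fin m) K ⧸ J) =
      (e : ℕ∞) := by exact_mod_cast h1
  exact h3

end Depth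

section SES

variable {R : Type u} [CommRing R] (J I I' : Ideal R) (f : R)

/-- multiplication by `f` as a map `R/I → R/I'` when `f I ⊆ I'`. -/
noncomputable def mulF (h : Ideal.span {f} * I ≤ I') : (R ⧸ I) →ₗ[R] (R ⧸ I') :=
  Submodule.mapQ I I' (LinearMap.mulLeft R f) (by
    intro x hx
    rw [Submodule.mem_comap, LinearMap.mulLeft_apply]
    exact h (Ideal.mul_mem_mul (Ideal.mem_span_singleton_self f) hx))

theorem mulF_mk (h : Ideal.span {f} * I ≤ I') (x : R) :
    mulF I I' f h (Submodule.Quotient.mk x) = Submodule.Quotient.mk (f * x) := rfl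

/-- the projection `R/I' → R/(J + (f))`. -/
noncomputable def proj (h : I' ≤ J ⊔ Ideal.span {f}) : (R ⧸ I') →ₗ[R] (R ⧸ (J ⊔ Ideal.span {f})) :=
  Submodule.mapQ I' (J ⊔ Ideal.span {f}) LinearMap.id h

theorem proj_mk (h : I' ≤ J ⊔ Ideal.span {f}) (x : R) :
    proj J I' f h (Submodule.Quotient.mk x) = Submodule.Quotient.mk x := rfl

variable (hI' : I' = J ⊔ Ideal.span {f} * I) (hJI : J ≤ I) (hJf : J.colon {f} = J)

include hI' in
theorem mul_le : Ideal.span {f} * I ≤ I' := hI' ▸ le_sup_right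

include hI' in
theorem le_sup : I' ≤ J ⊔ Ideal.span {f} := by
  rw [hI']
  exact sup_le_sup_left Ideal.mul_le_left J

include hJI hJf in
theorem mulF_injective : Function.Injective (mulF I I' f (mul_le J I I' f hI')) := by
  rw [injective_iff_map_eq_zero]
  intro xbar hx
  obtain ⟨x, rfl⟩ := Submodule.Quotient.mk_surjective _ xbar
  rw [mulF_mk, Submodule.Quotient.mk_eq_zero, hI'] at hx
  obtain ⟨j, hj, z, hz, hjz⟩ := Submodule.mem_sup.mp hx
  obtain ⟨i, hi, rfl⟩ := Ideal.mem_span_singleton_mul.mp hz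
  have h1 : x - i ∈ J.colon {f} := by
    rw [Submodule.mem_colon_singleton, smul_eq_mul]
    have : (x - i) * f = j := by linear_combination -hjz
    rw [this]
    exact hj
  rw [hJf] at h1
  rw [Submodule.Quotient.mk_eq_zero]
  have : x = (x - i) + i := by ring
  rw [this]
  exact I.add_mem (hJI h1) hi

theorem proj_surjective : Function.Surjective (proj J I' f (le_sup J I I' f hI')) := by
  intro y
  obtain ⟨x, rfl⟩ := Submodule.Quotient.mk_surjective _ y
  exact ⟨Submodule.Quotient.mk x, rfl⟩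

theorem exact_mulF_proj :
    Function.Exact (mulF I I' f (mul_le J I I' f hI')) (proj J I' f (le_sup J I I' f hI')) := by
  intro y
  obtain ⟨x, rfl⟩ := Submodule.Quotient.mk_surjective _ y
  rw [proj_mk, Submodule.Quotient.mk_eq_zero]
  constructor
  · intro hx
    obtain ⟨j, hj, z, hz, hjz⟩ := Submodule.mem_sup.mp hx
    obtain ⟨r, rfl⟩ := Ideal.mem_span_singleton'.mp hz
    refine ⟨Submodule.Quotient.mk r, ?_⟩
    rw [mulF_mk, Submodule.Quotient.eq]
    have : f * r - x = -j := by linear_combination hjz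
    rw [this, hI']
    exact (Ideal.neg_mem_iff _).2 (Ideal.mem_sup_left hj)
  · rintro ⟨rbar, hr⟩
    obtain ⟨r, rfl⟩ := Submodule.Quotient.mk_surjective _ rbar
    rw [mulF_mk, Submodule.Quotient.eq] at hr
    have h1 := le_sup J I I' f hI' hr
    have : x = f * r - (f * r - x) := by ring
    rw [this]
    exact Ideal.sub_mem _ (Ideal.mem_sup_right (Ideal.mem_span_singleton'.mpr ⟨r, mul_comm r f⟩)) h1

end SES

section LES

open CategoryTheory Groth.Agent.Lib.helper11.LCKit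

variable {R : Type u} [CommRing R] (𝔞 : Ideal R) {S : ShortComplex (ModuleCat.{u} R)}
  (hS : S.ShortExact)

include hS in
theorem subsingleton_X₃ (i : ℕ) (h₂ : Subsingleton ((localCohomology 𝔞 i).obj S.X₂))
    (h₁ : Subsingleton ((localCohomology 𝔞 (i + 1)).obj S.X₁)) :
    Subsingleton ((localCohomology 𝔞 i).obj S.X₃) := by
  have key : ∀ x₃ : (localCohomology 𝔞 i).obj S.X₃, x₃ = 0 := by
    intro x₃
    obtain ⟨x₂, hx₂⟩ := exact₃ 𝔞 i hS x₃ (Subsingleton.elim _ _)
    rw [← hx₂, Subsingleton.elim x₂ 0, map_zero]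
  exact ⟨fun a b => by rw [key a, key b]⟩

include hS in
theorem bijective_map_f (i : ℕ) (h₃ : Subsingleton ((localCohomology 𝔞 i).obj S.X₃))
    (h₃' : ∀ i' : ℕ, i' + 1 = i → Subsingleton ((localCohomology 𝔞 i').obj S.X₃)) :
    Function.Bijective ((localCohomology 𝔞 i).map S.f).hom := by
  constructor
  · rcases Nat.eq_zero_or_pos i with rfl | hi
    · exact map_f_injective_zero 𝔞 hS
    · obtain ⟨i', rfl⟩ : ∃ i', i = i' + 1 := ⟨i - 1, by omega⟩
      haveI := h₃' i' rfl
      rw [injective_iff_map_eq_zero]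
      intro x₁ hx₁
      obtain ⟨x₃, hx₃⟩ := exact₁ 𝔞 i' hS x₁ hx₁
      rw [← hx₃, Subsingleton.elim x₃ 0, map_zero]
  · intro x₂
    exact exact₂ 𝔞 i hS x₂ (Subsingleton.elim _ _)

end LES

section Main

open CategoryTheory Groth.Agent.Lib.helper11.LCKit

variable (K : Type u) [Field K] (n h : ℕ)

theorem main (J I : Ideal (MvPolynomial (Fin (n + 1)) K))
    (hJ : J.IsHomogeneous (GrSyz.stdGr K (Fin (n + 1)))) (hJI : J ≤ I) (hJh : J.height = h)
    [LocCoh.IsCohenMacaulayRing (MvPolynomial (Fin (n + 1)) K ⧸ J)]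
    (f : MvPolynomial (Fin (n + 1)) K) (hJf : J.colon {f} = J) (i : ℕ) (hi : i + h < n) :
    Nonempty (LocCoh.H (GrSyz.irrel (GrSyz.stdGr K (Fin (n + 1)))).toIdeal i
        (MvPolynomial (Fin (n + 1)) K ⧸ (J ⊔ Ideal.span {f} * I))
      ≃ₗ[MvPolynomial (Fin (n + 1)) K]
      LocCoh.H (GrSyz.irrel (GrSyz.stdGr K (Fin (n + 1)))).toIdeal i
        (MvPolynomial (Fin (n + 1)) K ⧸ I)) := by
  have hdepth := idealDepth_irrel_quotient K (n + 1) J hJ h hJh
  set 𝔫 := (GrSyz.irrel (GrSyz.stdGr K (Fin (n + 1)))).toIdeal with h𝔫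
  have hJX : 𝔫 • (⊤ : Submodule (MvPolynomial (Fin (n + 1)) K)
      (MvPolynomial (Fin (n + 1)) K ⧸ J)) ≠ ⊤ := by
    intro h'
    unfold LocCoh.idealDepth at hdepth
    rw [if_pos h'] at hdepth
    exact ENat.top_ne_coe _ hdepth
  have hvanJ : ∀ j : ℕ, j + h < n + 1 →
      Subsingleton (LocCoh.H 𝔫 j (MvPolynomial (Fin (n + 1)) K ⧸ J)) := by
    intro j hj
    apply subsingleton_of_lt_idealDepth 𝔫 j (MvPolynomial (Fin (n + 1)) K ⧸ J) hJX
    rw [hdepth]
    have : j < n + 1 - h := by omega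
    exact_mod_cast this
  have hI'₀ : J = J ⊔ Ideal.span {f} * J := (sup_eq_left.2 Ideal.mul_le_right).symm
  have hS₀ := ExtShift.sc_shortExact (mulF J J f (mul_le J J J f hI'₀))
    (proj J J f (le_sup J J J f hI'₀)) (mulF_injective J J J f hI'₀ le_rfl hJf)
    (proj_surjective J J J f hI'₀) (exact_mulF_proj J J J f hI'₀)
  have hvan₃ : ∀ j : ℕ, j + h < n →
      Subsingleton (LocCoh.H 𝔫 j (MvPolynomial (Fin (n + 1)) K ⧸ (J ⊔ Ideal.span {f}))) := by
    intro j hj
    exact subsingleton_X₃ 𝔫 hS₀ j (hvanJ j (by omega)) (hvanJ (j + 1) (by omega))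
  have hS₁ := ExtShift.sc_shortExact (mulF I (J ⊔ Ideal.span {f} * I) f (mul_le J I _ f rfl))
    (proj J (J ⊔ Ideal.span {f} * I) f (le_sup J I _ f rfl))
    (mulF_injective J I _ f rfl hJI hJf)
    (proj_surjective J I _ f rfl) (exact_mulF_proj J I _ f rfl)
  have hbij := bijective_map_f 𝔫 hS₁ i (hvan₃ i hi) (fun i' hi' => hvan₃ i' (by omega))
  exact ⟨(LinearEquiv.ofBijective _ hbij).symm⟩

end Main

end Groth.Agent.Lib.helper11.BDLink
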