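import Mathlib
import Groth.Prelude.Def_CAlgX

/-!
# Determinantal ideals: base change, submatrices, products (Cauchy–Binet inclusion) (helper11)
-/

set_option autoImplicit false

namespace Groth.Agent.Lib.helper11.BE1

open CAlgX Matrix

universe u

variable {R : Type u} [CommRing R]

section basic

variable {m n : Type} [Fintype m] [Fintype n]

theorem det_mem_minorIdeal (A : Matrix m n R) (r : ℕ) (f : Fin r → m) (g : Fin r → n) :
    (A.submatrix f g).det ∈ minorIdeal A r :=
  Ideal.subset_span ⟨(f, g), rfl⟩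

theorem minorIdeal_le_iff (A : Matrix m n R) (r : ℕ) (J : Ideal R) :
    minorIdeal A r ≤ J ↔ ∀ (f : Fin r → m) (g : Fin r → n), (A.submatrix f g).det ∈ J := by
  unfold minorIdeal
  rw [Ideal.span_le]
  constructor
  · intro h f g
    exact h ⟨(f, g), rfl⟩
  · rintro h _ ⟨⟨f, g⟩, rfl⟩
    exact h f g

theorem minorIdeal_map {S : Type u} [CommRing S] (φ : R →+* S) (A : Matrix m n R) (r : ℕ) :
    minorIdeal (A.map φ) r = (minorIdeal A r).map φ := by
  unfold minorIdeal
  rw [Ideal.map_span]
  congr 1
  ext x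
  constructor
  · rintro ⟨⟨f, g⟩, rfl⟩
    refine ⟨_, ⟨(f, g), rfl⟩, ?_⟩
    change φ ((A.submatrix f g).det) = ((A.map φ).submatrix f g).det
    rw [RingHom.map_det]
    rfl
  · rintro ⟨_, ⟨⟨f, g⟩, rfl⟩, rfl⟩
    refine ⟨(f, g), ?_⟩
    change ((A.map φ).submatrix f g).det = φ ((A.submatrix f g).det)
    rw [RingHom.map_det]
    rfl

theorem minorIdeal_submatrix_le {m' n' : Type} [Fintype m'] [Fintype n'] (A : Matrix m n R)
    (f : m' → m) (g : n' → n) (r : ℕ) :
    minorIdeal (A.submatrix f g) r ≤ minorIdeal A r := by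
  rw [minorIdeal_le_iff]
  intro f' g'
  exact det_mem_minorIdeal A r (f ∘ f') (g ∘ g')

theorem minorIdeal_transpose (A : Matrix m n R) (r : ℕ) :
    minorIdeal Aᵀ r = minorIdeal A r := by
  apply le_antisymm
  · rw [minorIdeal_le_iff]
    intro f g
    have : (Aᵀ.submatrix f g) = (A.submatrix g f)ᵀ := rfl
    rw [this, det_transpose]
    exact det_mem_minorIdeal A r g f
  · rw [minorIdeal_le_iff]
    intro f g
    have : (A.submatrix f g) = (Aᵀ.submatrix g f)ᵀ := rfl
    rw [this, det_transpose]
    exact det_mem_minorIdeal Aᵀ r g f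

end basic

section mul

variable {m n l : Type} [Fintype m] [Fintype n] [Fintype l]

/-- Cauchy–Binet expansion along rows, as an ideal membership. -/
theorem det_mul_mem {r : ℕ} (C : Matrix (Fin r) n R) (D : Matrix n (Fin r) R) (J : Ideal R)
    (hJ : ∀ κ : Fin r → n, (D.submatrix κ id).det ∈ J) : (C * D).det ∈ J := by
  classical
  have h1 : (C * D) = Matrix.of (fun i => ∑ k, C i k • D k) := by
    ext i j
    simp [Matrix.mul_apply, Finset.sum_apply]
  have h2 : (C * D).det = detRowAlternating (fun i => ∑ k, C i k • D k) := by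
    rw [h1]
    rfl
  rw [h2]
  have h3 := (detRowAlternating (n := Fin r) (R := R)).toMultilinearMap.map_sum
    (fun (i : Fin r) (k : n) => C i k • D k)
  change (detRowAlternating (fun i => ∑ k, C i k • D k)) = _ at h3
  rw [h3]
  refine Ideal.sum_mem _ (fun κ _ => ?_)
  have h4 := (detRowAlternating (n := Fin r) (R := R)).toMultilinearMap.map_smul_univ
    (fun i => C i (κ i)) (fun i => D (κ i))
  change detRowAlternating (fun i => C i (κ i) • D (κ i)) = _ at h4
  change detRowAlternating (fun i => C i (κ i) • D (κ i)) ∈ J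
  rw [h4]
  exact Ideal.mul_mem_left _ _ (hJ κ)

theorem minorIdeal_mul_le_right (A : Matrix m n R) (B : Matrix n l R) (r : ℕ) :
    minorIdeal (A * B) r ≤ minorIdeal B r := by
  rw [minorIdeal_le_iff]
  intro f g
  have h : (A * B).submatrix f g = A.submatrix f id * B.submatrix id g :=
    Matrix.submatrix_mul A B f id g Function.bijective_id
  rw [h]
  apply det_mul_mem
  intro κ
  exact det_mem_minorIdeal B r κ g

theorem minorIdeal_mul_le_left (A : Matrix m n R) (B : Matrix n l R) (r : ℕ) :
    minorIdeal (A * B) r ≤ minorIdeal A r := by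
  rw [← minorIdeal_transpose (A * B), Matrix.transpose_mul, ← minorIdeal_transpose A]
  exact minorIdeal_mul_le_right Bᵀ Aᵀ r

end mul

end Groth.Agent.Lib.helper11.BE1
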