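import Mathlib
import Groth.Agent.Lib.helper11.AcyclicMat2

/-!
# The acyclicity lemma with a separate top module (helper11)

Complex `N → M e → M (e-1) → … → M 0` (with a ghost map `d e : M (e+1) → M e` having the same
range as `δ : N → M e`).
-/

set_option autoImplicit false

namespace Groth.Agent.Lib.helper11.BE2

open RingTheory.Sequence Pointwise
open Groth.Agent.Lib.helper11.Acyclic Groth.Agent.Lib.helper11.AcyclicMat
  Groth.Agent.Lib.helper11.AcyclicMat2

universe u v

variable {R : Type u} [CommRing R]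

theorem acyclic_top (e : ℕ) : ∀ (M : ℕ → Type v) [∀ i, AddCommGroup (M i)] [∀ i, Module R (M i)]
    (N : Type v) [AddCommGroup N] [Module R N]
    (d : ∀ i, M (i + 1) →ₗ[R] M i) (δ : N →ₗ[R] M e)
    (_hd : ∀ i, i < e → ∀ z : M (i + 2), d i (d (i + 1) z) = 0)
    (_hδ : ∀ z, (∃ w, d e w = z) ↔ (∃ u, δ u = z))
    (rs : List R) (_hlen : rs.length = e + 1)
    (_hreg : ∀ i, IsWeaklyRegular (M i) rs) (_hregN : IsWeaklyRegular N rs)
    (_hfl : ∀ i, i < e → ∀ z, d i z = 0 → ∀ s ∈ rs, ∃ k : ℕ, ∃ w, d (i + 1) w = s ^ k • z)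
    (_hflN : ∀ u, δ u = 0 → ∀ s ∈ rs, ∃ k : ℕ, s ^ k • u = 0),
    (∀ u, δ u = 0 → u = 0) ∧ ∀ i, i < e → ∀ z, d i z = 0 → ∃ w, d (i + 1) w = z := by
  induction e with
  | zero =>
    intro M _ _ N _ _ d δ _ _ rs hlen _ hregN _ hflN
    refine ⟨?_, fun i hi => absurd hi (Nat.not_lt_zero _)⟩
    obtain ⟨x, rs', rfl⟩ : ∃ x rs', rs = x :: rs' := by
      cases rs with
      | nil => simp at hlen
      | cons x rs' => exact ⟨x, rs', rfl⟩
    have hx : IsSMulRegular N x := ((isWeaklyRegular_cons_iff N x rs').mp hregN).1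
    intro u hu
    obtain ⟨k, hk⟩ := hflN u hu x List.mem_cons_self
    induction k with
    | zero => rwa [pow_zero, one_smul] at hk
    | succ k ihk =>
      apply ihk
      apply hx
      change x • (x ^ k • u) = x • 0
      rw [smul_zero, ← mul_smul, ← pow_succ', hk]
  | succ e ih =>
    intro M _ _ N _ _ d δ hd hδ rs hlen hreg hregN hfl hflN
    obtain ⟨x, rs', rfl⟩ : ∃ x rs', rs = x :: rs' := by
      cases rs with
      | nil => simp at hlen
      | cons x rs' => exact ⟨x, rs', rfl⟩
    have hlen' : rs'.length = e + 1 := by simpa using hlen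
    have hx : ∀ i, IsSMulRegular (M i) x := fun i =>
      ((isWeaklyRegular_cons_iff (M i) x rs').mp (hreg i)).1
    have hxN : IsSMulRegular N x := ((isWeaklyRegular_cons_iff N x rs').mp hregN).1
    have hreg' : ∀ i, IsWeaklyRegular (QuotSMulTop x (M i)) rs' := fun i =>
      ((isWeaklyRegular_cons_iff (M i) x rs').mp (hreg i)).2
    have hregN' : IsWeaklyRegular (QuotSMulTop x N) rs' :=
      ((isWeaklyRegular_cons_iff N x rs').mp hregN).2
    have hdδ : ∀ u, d e (δ u) = 0 := by
      intro u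
      obtain ⟨w, hw⟩ := (hδ (δ u)).mpr ⟨u, rfl⟩
      rw [← hw]
      exact hd e (Nat.lt_succ_self e) w
    have key := ih (fun j => QuotSMulTop x (M (j + 1))) (QuotSMulTop x N)
      (fun j => QuotSMulTop.map x (d (j + 1))) (QuotSMulTop.map x δ) ?_ ?_ rs' hlen'
      (fun j => hreg' (j + 1)) hregN' ?_ ?_
    · obtain ⟨keyN, keyM⟩ := key
      have hEN : ∀ u : N, (∃ v, δ u = x • v) → ∃ u', u = x • u' := by
        intro u ⟨v, hv⟩
        have := keyN (Submodule.Quotient.mk u) (by
          rw [QuotSMulTop.map_apply_mk, Submodule.Quotient.mk_eq_zero, mem_smul_top_iff]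
          exact ⟨v, hv⟩)
        rwa [Submodule.Quotient.mk_eq_zero, mem_smul_top_iff] at this
      have hE : ∀ j, j < e → ∀ z : M (j + 2), (∃ v, d (j + 1) z = x • v) →
          ∃ w u, z = d (j + 2) w + x • u := by
        intro j hj z ⟨v, hv⟩
        obtain ⟨w', hw'⟩ := keyM j hj (Submodule.Quotient.mk z) (by
          rw [QuotSMulTop.map_apply_mk, Submodule.Quotient.mk_eq_zero, mem_smul_top_iff]
          exact ⟨v, hv⟩)
        obtain ⟨w, rfl⟩ :=
          Submodule.Quotient.mk_surjective (x • ⊤ : Submodule R (M (j + 2 + 1))) w'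
        rw [QuotSMulTop.map_apply_mk, Submodule.Quotient.eq, mem_smul_top_iff] at hw'
        obtain ⟨u, hu⟩ := hw'
        refine ⟨w, -u, ?_⟩
        rw [smul_neg, ← hu]
        abel
      have hinj : ∀ i, i < e + 1 → ∀ z : M (i + 1), d i z = 0 →
          (∃ y, d (i + 1) y = x • z) → ∃ u, d (i + 1) u = z := by
        intro i hi z hz0 ⟨y, hy⟩
        by_cases hie : i < e
        · obtain ⟨w, u, hwu⟩ := hE i hie y ⟨z, hy⟩
          refine ⟨u, ?_⟩
          apply hx (i + 1)
          change x • d (i + 1) u = x • z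
          rw [← hy, hwu, map_add, hd (i + 1) (by omega), zero_add, map_smul]
        · have hie' : i = e := by omega
          subst hie'
          obtain ⟨y', hy'⟩ := (hδ (x • z)).mp ⟨y, hy⟩
          obtain ⟨u', hu'⟩ := hEN y' ⟨z, hy'⟩
          have hz : δ u' = z := by
            apply hx (i + 1)
            change x • δ u' = x • z
            rw [← map_smul, ← hu', hy']
          exact (hδ z).mpr ⟨u', hz⟩
      constructor
      · intro u hu
        obtain ⟨k, hk⟩ := hflN u hu x List.mem_cons_self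
        induction k with
        | zero => rwa [pow_zero, one_smul] at hk
        | succ k ihk =>
          apply ihk
          apply hxN
          change x • (x ^ k • u) = x • 0
          rw [smul_zero, ← mul_smul, ← pow_succ', hk]
      · intro i hi z hz0
        obtain ⟨k, w, hw⟩ := hfl i hi z hz0 x List.mem_cons_self
        induction k generalizing w with
        | zero => exact ⟨w, by rw [hw, pow_zero, one_smul]⟩
        | succ k ihk =>
          have h1 : d i (x ^ k • z) = 0 := by rw [map_smul, hz0, smul_zero]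
          obtain ⟨u, hu⟩ := hinj i hi (x ^ k • z) h1 ⟨w, by rw [hw, pow_succ', mul_smul]⟩
          exact ihk u hu
    · intro j hj z'
      obtain ⟨z, rfl⟩ :=
        Submodule.Quotient.mk_surjective (x • ⊤ : Submodule R (M (j + 2 + 1))) z'
      rw [QuotSMulTop.map_apply_mk, QuotSMulTop.map_apply_mk, hd (j + 1) (by omega)]
      rfl
    · intro z'
      obtain ⟨z, rfl⟩ :=
        Submodule.Quotient.mk_surjective (x • ⊤ : Submodule R (M (e + 1))) z'
      constructor
      · rintro ⟨w', hw'⟩
        obtain ⟨w, rfl⟩ :=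
          Submodule.Quotient.mk_surjective (x • ⊤ : Submodule R (M (e + 1 + 1))) w'
        obtain ⟨u, hu⟩ := (hδ (d (e + 1) w)).mp ⟨w, rfl⟩
        refine ⟨Submodule.Quotient.mk u, ?_⟩
        rw [QuotSMulTop.map_apply_mk, hu, ← hw', QuotSMulTop.map_apply_mk]
      · rintro ⟨u', hu'⟩
        obtain ⟨u, rfl⟩ := Submodule.Quotient.mk_surjective (x • ⊤ : Submodule R N) u'
        obtain ⟨w, hw⟩ := (hδ (δ u)).mpr ⟨u, rfl⟩
        refine ⟨Submodule.Quotient.mk w, ?_⟩
        rw [QuotSMulTop.map_apply_mk, hw, ← hu', QuotSMulTop.map_apply_mk]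
    · intro j hj z' hz' s hs
      obtain ⟨z, rfl⟩ :=
        Submodule.Quotient.mk_surjective (x • ⊤ : Submodule R (M (j + 1 + 1))) z'
      rw [QuotSMulTop.map_apply_mk, Submodule.Quotient.mk_eq_zero, mem_smul_top_iff] at hz'
      obtain ⟨v, hv⟩ := hz'
      have hdv : d j v = 0 := by
        apply hx j
        change x • d j v = x • 0
        rw [smul_zero, ← map_smul, ← hv, hd j (by omega)]
      obtain ⟨k, y, hy⟩ := hfl j (by omega) v hdv s (List.mem_cons_of_mem _ hs)
      have hcyc : d (j + 1) (s ^ k • z - x • y) = 0 := by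
        rw [map_sub, map_smul, map_smul, hy, hv, smul_comm, sub_self]
      obtain ⟨k', w, hw⟩ := hfl (j + 1) (by omega) _ hcyc s (List.mem_cons_of_mem _ hs)
      refine ⟨k' + k, Submodule.Quotient.mk w, ?_⟩
      rw [QuotSMulTop.map_apply_mk, hw, ← Submodule.Quotient.mk_smul, Submodule.Quotient.eq,
        mem_smul_top_iff]
      refine ⟨-(s ^ k' • y), ?_⟩
      rw [smul_sub, pow_add, mul_smul, smul_neg, smul_comm x (s ^ k') y]
      abel
    · intro u' hu' s hs
      obtain ⟨u, rfl⟩ := Submodule.Quotient.mk_surjective (x • ⊤ : Submodule R N) u'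
      rw [QuotSMulTop.map_apply_mk, Submodule.Quotient.mk_eq_zero, mem_smul_top_iff] at hu'
      obtain ⟨v, hv⟩ := hu'
      have hdv : d e v = 0 := by
        apply hx e
        change x • d e v = x • 0
        rw [smul_zero, ← map_smul, ← hv, hdδ]
      obtain ⟨k, w, hw⟩ := hfl e (Nat.lt_succ_self e) v hdv s (List.mem_cons_of_mem _ hs)
      obtain ⟨y, hy⟩ := (hδ _).mp ⟨w, hw⟩
      have hcyc : δ (s ^ k • u - x • y) = 0 := by
        rw [map_sub, map_smul, map_smul, hy, hv, smul_comm, sub_self]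
      obtain ⟨k', hk'⟩ := hflN _ hcyc s (List.mem_cons_of_mem _ hs)
      refine ⟨k' + k, ?_⟩
      rw [← Submodule.Quotient.mk_smul, Submodule.Quotient.mk_eq_zero, mem_smul_top_iff]
      refine ⟨s ^ k' • y, ?_⟩
      rw [smul_sub, sub_eq_zero] at hk'
      rw [pow_add, mul_smul, hk', smul_comm]

end Groth.Agent.Lib.helper11.BE2
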