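import Mathlib
import Groth.Agent.Lib.helper11.BE2

/-!
# Acyclicity lemma for matrices with a separate top (helper11)
-/

set_option autoImplicit false

namespace Groth.Agent.Lib.helper11.BE3

open RingTheory.Sequence Pointwise
open Groth.Agent.Lib.helper11.Acyclic Groth.Agent.Lib.helper11.AcyclicMat
  Groth.Agent.Lib.helper11.AcyclicMat2 Groth.Agent.Lib.helper11.BE2

universe u

variable {R : Type u} [CommRing R]

theorem exists_smul_eq_zero' {ι : Type*} [Fintype ι] (p : Ideal R) [p.IsPrime] (v : ι → R)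
    (hv : ∀ j, algebraMap R (Localization.AtPrime p) (v j) = 0) :
    ∃ u, u ∉ p ∧ u • v = 0 := by
  classical
  have h1 : ∀ j, ∃ m : p.primeCompl, (m : R) * v j = 0 := fun j =>
    (IsLocalization.map_eq_zero_iff p.primeCompl (Localization.AtPrime p) (v j)).mp (hv j)
  choose m hm using h1
  refine ⟨((∏ j, m j : p.primeCompl) : R), (∏ j, m j : p.primeCompl).2, ?_⟩
  funext j
  rw [Pi.smul_apply, Pi.zero_apply, smul_eq_mul, Submonoid.coe_finsetProd,
    ← Finset.prod_erase_mul _ _ (Finset.mem_univ j), mul_assoc, hm j, mul_zero]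

theorem localize_mulVec' {a b : Type*} [Fintype b] (p : Ideal R) [p.IsPrime]
    (A : Matrix a b R) (z : b → R) :
    (A.map (algebraMap R (Localization.AtPrime p))).mulVecLin
        (algebraMap R (Localization.AtPrime p) ∘ z) =
      algebraMap R (Localization.AtPrime p) ∘ (A.mulVecLin z) := by
  funext i
  rw [Matrix.mulVecLin_apply, Function.comp_apply, Matrix.mulVecLin_apply, RingHom.map_mulVec]

theorem torsion_of_ker_eq_bot' {a b : Type*} [Fintype b] (A : Matrix a b R) (s : R)
    (hloc : ∀ (p : Ideal R) [p.IsPrime], s ∉ p →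
      LinearMap.ker ((A.map (algebraMap R (Localization.AtPrime p))).mulVecLin) = ⊥)
    (z : b → R) (hz : A.mulVecLin z = 0) : ∃ N : ℕ, s ^ N • z = 0 := by
  obtain ⟨N, hN⟩ := exists_pow_smul_mem (⊥ : Submodule R (b → R)) z s (by
    intro p _ hsp
    have hker : (algebraMap R (Localization.AtPrime p) ∘ z) ∈
        LinearMap.ker ((A.map (algebraMap R (Localization.AtPrime p))).mulVecLin) := by
      rw [LinearMap.mem_ker, localize_mulVec', hz]
      funext i
      simp
    rw [hloc p hsp, Submodule.mem_bot] at hker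
    obtain ⟨u, hu, huz⟩ := exists_smul_eq_zero' p z (fun j => congrFun hker j)
    exact ⟨u, hu, by rw [huz]; exact Submodule.zero_mem _⟩)
  exact ⟨N, (Submodule.mem_bot R).mp hN⟩

theorem torsion_of_ker_eq_range' {a b c : Type*} [Fintype b] [Fintype c] (A : Matrix a b R)
    (B : Matrix b c R) (s : R)
    (hloc : ∀ (p : Ideal R) [p.IsPrime], s ∉ p →
      LinearMap.ker ((A.map (algebraMap R (Localization.AtPrime p))).mulVecLin) =
        LinearMap.range ((B.map (algebraMap R (Localization.AtPrime p))).mulVecLin))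
    (z : b → R) (hz : A.mulVecLin z = 0) : ∃ N : ℕ, ∃ w, B.mulVecLin w = s ^ N • z := by
  obtain ⟨N, w, hw⟩ := exists_pow_smul_mem (LinearMap.range B.mulVecLin) z s (by
    intro p _ hsp
    have hker : (algebraMap R (Localization.AtPrime p) ∘ z) ∈
        LinearMap.ker ((A.map (algebraMap R (Localization.AtPrime p))).mulVecLin) := by
      rw [LinearMap.mem_ker, localize_mulVec', hz]
      funext i
      simp
    rw [hloc p hsp] at hker
    obtain ⟨w, hw⟩ := hker
    obtain ⟨t, ht⟩ := IsLocalization.exist_integer_multiples_of_finite p.primeCompl w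
    choose w₀ hw₀ using ht
    obtain ⟨u, hu, huz⟩ := exists_smul_eq_zero' p ((t : R) • z - B.mulVecLin w₀) (by
      intro j
      have h0 : (algebraMap R (Localization.AtPrime p) ∘ w₀) =
          (algebraMap R (Localization.AtPrime p) (t : R)) • w := by
        funext l
        rw [Function.comp_apply, hw₀ l, Pi.smul_apply, Algebra.smul_def, smul_eq_mul]
      have h1 : (algebraMap R (Localization.AtPrime p) ∘ (B.mulVecLin w₀)) =
          (algebraMap R (Localization.AtPrime p) (t : R)) •
            (algebraMap R (Localization.AtPrime p) ∘ z) := by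
        rw [← localize_mulVec', h0, map_smul, hw]
      have h2 := congrFun h1 j
      rw [Function.comp_apply, Pi.smul_apply, Function.comp_apply, smul_eq_mul] at h2
      rw [Pi.sub_apply, map_sub, Pi.smul_apply, smul_eq_mul, map_mul, h2, sub_self])
    refine ⟨u * t, ?_, u • w₀, ?_⟩
    · exact fun h => (Ideal.IsPrime.mem_or_mem ‹_› h).elim hu t.2
    · rw [smul_sub, sub_eq_zero] at huz
      rw [map_smul, mul_smul, huz])
  exact ⟨N, w, hw⟩

theorem isWeaklyRegular_pi' (rs : List R) (h : IsWeaklyRegular R rs) (ι : Type*) [Finite ι] :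
    IsWeaklyRegular (ι → R) rs := by
  have h1 : IsWeaklyRegular (TensorProduct R (ι → R) R) rs :=
    IsWeaklyRegular.isWeaklyRegular_lTensor (M₂ := ι → R) h
  exact ((TensorProduct.rid R (ι → R)).isWeaklyRegular_congr rs).mp h1

/-- acyclicity lemma for matrices with separate top `ψ`. -/
theorem acyclic_matrices_top (m : Ideal R) (k : ℕ) (n : ℕ → ℕ)
    (A : (i : ℕ) → Matrix (Fin (n i)) (Fin (n (i + 1))) R)
    {T : Type} [Fintype T] (ψ : Matrix (Fin (n k)) T R)
    (hψ : LinearMap.range ψ.mulVecLin = LinearMap.range (A k).mulVecLin)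
    (hA : ∀ i, i < k → A i * A (i + 1) = 0)
    (rs : List R) (hlen : rs.length = k + 1) (hmem : ∀ x ∈ rs, x ∈ m)
    (hreg : IsWeaklyRegular R rs)
    (hloc : ∀ (p : Ideal R) [p.IsPrime], ¬ m ≤ p →
      LinearMap.ker (ψ.map (algebraMap R (Localization.AtPrime p))).mulVecLin = ⊥ ∧
        ∀ i, i < k →
          LinearMap.ker ((A i).map (algebraMap R (Localization.AtPrime p))).mulVecLin =
            LinearMap.range ((A (i + 1)).map (algebraMap R (Localization.AtPrime p))).mulVecLin) :
    LinearMap.ker ψ.mulVecLin = ⊥ ∧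
      ∀ i, i < k → LinearMap.ker (A i).mulVecLin = LinearMap.range (A (i + 1)).mulVecLin := by
  classical
  have hcomp : ∀ i, i < k → ∀ z, (A i).mulVecLin ((A (i + 1)).mulVecLin z) = 0 := by
    intro i hi z
    rw [← LinearMap.comp_apply, ← Matrix.mulVecLin_mul, hA i hi]
    simp
  have key := acyclic_top (R := R) k (fun i => Fin (n i) → R) (T → R)
    (fun i => (A i).mulVecLin) ψ.mulVecLin hcomp ?_ rs hlen
    (fun i => isWeaklyRegular_pi' rs hreg (Fin (n i))) (isWeaklyRegular_pi' rs hreg T) ?_ ?_
  · obtain ⟨keyN, keyM⟩ := key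
    constructor
    · rw [LinearMap.ker_eq_bot']
      exact keyN
    · intro i hi
      apply le_antisymm
      · intro z hz
        rw [LinearMap.mem_ker] at hz
        obtain ⟨w, hw⟩ := keyM i hi z hz
        exact ⟨w, hw⟩
      · rintro _ ⟨w, rfl⟩
        rw [LinearMap.mem_ker]
        exact hcomp i hi w
  · intro z
    change z ∈ LinearMap.range (A k).mulVecLin ↔ z ∈ LinearMap.range ψ.mulVecLin
    rw [hψ]
  · intro i hi z hz s hs
    have hsm : s ∈ m := hmem s hs
    exact torsion_of_ker_eq_range' (A i) (A (i + 1)) s (fun p _ hsp =>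
      (hloc p (fun hmp => hsp (hmp hsm))).2 i hi) z hz
  · intro u hu s hs
    have hsm : s ∈ m := hmem s hs
    exact torsion_of_ker_eq_bot' ψ s (fun p _ hsp =>
      (hloc p (fun hmp => hsp (hmp hsm))).1) u hu

end Groth.Agent.Lib.helper11.BE3
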