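import Mathlib
import Groth.Agent.Lib.helper11.BE3

/-!
# Exactness of matrices is preserved by localization at a prime (helper11)
-/

set_option autoImplicit false

namespace Groth.Agent.Lib.helper11.BE10

open Groth.Agent.Lib.helper11.BE3

universe u

variable {R : Type u} [CommRing R] (p : Ideal R) [p.IsPrime]

theorem exists_clear {ι : Type*} [Finite ι] (z' : ι → Localization.AtPrime p) :
    ∃ (t : R) (_ : t ∉ p) (z₀ : ι → R),
      algebraMap R (Localization.AtPrime p) ∘ z₀ =
        (algebraMap R (Localization.AtPrime p) t) • z' := by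
  obtain ⟨t, ht⟩ := IsLocalization.exist_integer_multiples_of_finite p.primeCompl z'
  choose z₀ hz₀ using ht
  refine ⟨t, t.2, z₀, ?_⟩
  funext l
  rw [Function.comp_apply, hz₀ l, Pi.smul_apply, Algebra.smul_def, smul_eq_mul]

theorem localized_ker_le_range {a b c : Type*} [Fintype a] [Fintype b] [Fintype c]
    (A : Matrix a b R) (B : Matrix b c R)
    (h : LinearMap.ker A.mulVecLin ≤ LinearMap.range B.mulVecLin) :
    LinearMap.ker (A.map (algebraMap R (Localization.AtPrime p))).mulVecLin ≤
      LinearMap.range (B.map (algebraMap R (Localization.AtPrime p))).mulVecLin := by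
  intro z' hz'
  rw [LinearMap.mem_ker] at hz'
  obtain ⟨t, ht, z₀, hz₀⟩ := exists_clear p z'
  have h1 : algebraMap R (Localization.AtPrime p) ∘ (A.mulVecLin z₀) = 0 := by
    rw [← localize_mulVec', hz₀, map_smul, hz', smul_zero]
  obtain ⟨u, hu, huz⟩ := exists_smul_eq_zero' p (A.mulVecLin z₀) (fun j => congrFun h1 j)
  have h2 : u • z₀ ∈ LinearMap.ker A.mulVecLin := by
    rw [LinearMap.mem_ker, map_smul, huz]
  obtain ⟨w, hw⟩ := h h2
  have hU : IsUnit (algebraMap R (Localization.AtPrime p) (u * t)) :=
    IsLocalization.map_units (Localization.AtPrime p)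
      (⟨u * t, fun hmem => (Ideal.IsPrime.mem_or_mem ‹_› hmem).elim hu ht⟩ : p.primeCompl)
  have h3 : (algebraMap R (Localization.AtPrime p) (u * t)) • z' =
      (B.map (algebraMap R (Localization.AtPrime p))).mulVecLin
        (algebraMap R (Localization.AtPrime p) ∘ w) := by
    rw [localize_mulVec', hw, map_mul, mul_smul, ← hz₀]
    funext j
    simp [Pi.smul_apply, Function.comp_apply, smul_eq_mul]
  obtain ⟨V, hV⟩ := hU.exists_left_inv
  refine ⟨V • (algebraMap R (Localization.AtPrime p) ∘ w), ?_⟩
  rw [map_smul, ← h3, smul_smul, hV, one_smul]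

theorem localized_ker_eq_bot {a b : Type*} [Fintype a] [Fintype b]
    (A : Matrix a b R) (h : LinearMap.ker A.mulVecLin = ⊥) :
    LinearMap.ker (A.map (algebraMap R (Localization.AtPrime p))).mulVecLin = ⊥ := by
  rw [LinearMap.ker_eq_bot']
  intro z' hz'
  obtain ⟨t, ht, z₀, hz₀⟩ := exists_clear p z'
  have h1 : algebraMap R (Localization.AtPrime p) ∘ (A.mulVecLin z₀) = 0 := by
    rw [← localize_mulVec', hz₀, map_smul, hz', smul_zero]
  obtain ⟨u, hu, huz⟩ := exists_smul_eq_zero' p (A.mulVecLin z₀) (fun j => congrFun h1 j)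
  have h2 : u • z₀ ∈ LinearMap.ker A.mulVecLin := by
    rw [LinearMap.mem_ker, map_smul, huz]
  rw [h, Submodule.mem_bot] at h2
  have hU : IsUnit (algebraMap R (Localization.AtPrime p) (u * t)) :=
    IsLocalization.map_units (Localization.AtPrime p)
      (⟨u * t, fun hmem => (Ideal.IsPrime.mem_or_mem ‹_› hmem).elim hu ht⟩ : p.primeCompl)
  have h3 : (algebraMap R (Localization.AtPrime p) (u * t)) • z' = 0 := by
    rw [map_mul, mul_smul, ← hz₀]
    funext j
    have := congrFun h2 j
    rw [Pi.smul_apply, smul_eq_mul, Pi.zero_apply] at this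
    rw [Pi.smul_apply, Function.comp_apply, smul_eq_mul, Pi.zero_apply, ← map_mul, this, map_zero]
  obtain ⟨V, hV⟩ := hU.exists_left_inv
  have h4 := congrArg (fun v => V • v) h3
  simp only [smul_smul, hV, one_smul, smul_zero] at h4
  exact h4

end Groth.Agent.Lib.helper11.BE10
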