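import Mathlib
import Groth.Agent.Lib.helper11.BE1

/-!
# Splitting off a unit maximal minor (helper11)

`ψ : S^T → S^b` with an invertible `|T| × |T|` minor on rows `a`; `χ : S^b → S^c` with `χ ψ = 0`.
Then `ψ` is injective, and with `ψ' := χ` restricted to the columns outside `range a`:
`χ = ψ' Q₂`, and `ker ψ' = 0 → ker χ ≤ range ψ`.
-/

set_option autoImplicit false

namespace Groth.Agent.Lib.helper11.BE4

open CAlgX Matrix

universe u

variable {S : Type u} [CommRing S] [Nontrivial S]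
variable {b r : ℕ} {T : Type} [Fintype T] [DecidableEq T]
  (ψ : Matrix (Fin b) T S) (a : Fin r → Fin b) (g : Fin r → T)

include ψ a g in
theorem g_injective (hu : IsUnit (ψ.submatrix a g).det) : Function.Injective g := by
  intro i j hij
  by_contra hne
  have : (ψ.submatrix a g).det = 0 :=
    Matrix.det_zero_of_column_eq hne (fun k => by
      change ψ (a k) (g i) = ψ (a k) (g j)
      rw [hij])
  rw [this] at hu
  exact not_isUnit_zero hu

include ψ a g in
theorem a_injective (hu : IsUnit (ψ.submatrix a g).det) : Function.Injective a := by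
  intro i j hij
  by_contra hne
  have : (ψ.submatrix a g).det = 0 :=
    Matrix.det_zero_of_row_eq hne (by
      funext k
      change ψ (a i) (g k) = ψ (a j) (g k)
      rw [hij])
  rw [this] at hu
  exact not_isUnit_zero hu

include ψ a g in
theorem g_bijective (hT : Fintype.card T = r) (hu : IsUnit (ψ.submatrix a g).det) :
    Function.Bijective g := by
  rw [Fintype.bijective_iff_injective_and_card]
  exact ⟨g_injective ψ a g hu, by rw [Fintype.card_fin, hT]⟩

/-- restriction of `ψ u` to the rows `a` in terms of the minor. -/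
theorem mulVec_rows (hg : Function.Bijective g) (u : T → S) (i : Fin r) :
    (ψ *ᵥ u) (a i) = ((ψ.submatrix a g) *ᵥ (u ∘ g)) i := by
  change ∑ t, ψ (a i) t * u t = ∑ j, ψ (a i) (g j) * u (g j)
  exact (Function.Bijective.sum_comp hg (fun t => ψ (a i) t * u t)).symm

theorem exists_solve (hT : Fintype.card T = r) (hu : IsUnit (ψ.submatrix a g).det)
    (va : Fin r → S) : ∃ u : T → S, ∀ i, (ψ *ᵥ u) (a i) = va i := by
  have hg := g_bijective ψ a g hT hu
  let ge : Fin r ≃ T := Equiv.ofBijective g hg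
  refine ⟨fun t => ((ψ.submatrix a g)⁻¹ *ᵥ va) (ge.symm t), fun i => ?_⟩
  rw [mulVec_rows ψ a g hg]
  have h1 : ((fun t => ((ψ.submatrix a g)⁻¹ *ᵥ va) (ge.symm t)) ∘ g) =
      (ψ.submatrix a g)⁻¹ *ᵥ va := by
    funext j
    change ((ψ.submatrix a g)⁻¹ *ᵥ va) (ge.symm (ge j)) = _
    rw [Equiv.symm_apply_apply]
  rw [h1, Matrix.mulVec_mulVec, Matrix.mul_nonsing_inv _ hu, Matrix.one_mulVec]

theorem ker_eq_bot (hT : Fintype.card T = r) (hu : IsUnit (ψ.submatrix a g).det) :
    LinearMap.ker ψ.mulVecLin = ⊥ := by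
  have hg := g_bijective ψ a g hT hu
  rw [LinearMap.ker_eq_bot']
  intro u hu0
  have h1 : (ψ.submatrix a g) *ᵥ (u ∘ g) = 0 := by
    funext i
    rw [← mulVec_rows ψ a g hg]
    have : ψ *ᵥ u = 0 := hu0
    rw [this]
    rfl
  have h2 : u ∘ g = 0 := by
    have := congrArg (fun v => (ψ.submatrix a g)⁻¹ *ᵥ v) h1
    simp only [Matrix.mulVec_mulVec, Matrix.nonsing_inv_mul _ hu, Matrix.one_mulVec,
      Matrix.mulVec_zero] at this
    exact this
  funext t
  obtain ⟨j, rfl⟩ := hg.2 t
  exact congrFun h2 j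

section chi

variable {c : ℕ} (χ : Matrix (Fin c) (Fin b) S)

/-- the columns outside the rows used by the minor. -/
abbrev T' : Type := {x : Fin b // x ∉ Set.range a}

/-- the reduced top map. -/
def psi' : Matrix (Fin c) (T' a) S := χ.submatrix id Subtype.val

theorem card_T' (hu : IsUnit (ψ.submatrix a g).det) : Fintype.card (T' a) = b - r := by
  classical
  have ha := a_injective ψ a g hu
  change Fintype.card {x : Fin b // ¬ (x ∈ Set.range a)} = b - r
  rw [Fintype.card_subtype_compl, Fintype.card_fin]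
  congr 1
  have : Fintype.card {x : Fin b // x ∈ Set.range a} = Fintype.card (Set.range a) := rfl
  rw [this, Set.card_range_of_injective ha, Fintype.card_fin]

theorem psi'_eq_mul : psi' a χ =
    χ * ((1 : Matrix (Fin b) (Fin b) S).submatrix id (Subtype.val : T' a → Fin b)) := by
  ext i y
  simp [psi', Matrix.mul_apply, Matrix.one_apply]

theorem chi_mulVec_of_rows_zero (w : Fin b → S) (hw : ∀ i, w (a i) = 0) :
    χ *ᵥ w = (psi' a χ) *ᵥ (w ∘ Subtype.val) := by
  classical
  funext i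
  change ∑ x, χ i x * w x = ∑ y : T' a, χ i y.val * w y.val
  have key := Fintype.sum_subtype_add_sum_subtype (fun x => x ∈ Set.range a)
    (fun x => χ i x * w x)
  have h0 : ∀ x : {x // x ∈ Set.range a}, χ i x.val * w x.val = 0 := by
    rintro ⟨x, j, rfl⟩
    rw [hw j, mul_zero]
  simp only [h0, Finset.sum_const_zero, zero_add] at key
  rw [← key]

theorem ker_chi_le (hT : Fintype.card T = r) (hu : IsUnit (ψ.submatrix a g).det)
    (hχψ : χ * ψ = 0) (hker : LinearMap.ker (psi' a χ).mulVecLin = ⊥) :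
    LinearMap.ker χ.mulVecLin ≤ LinearMap.range ψ.mulVecLin := by
  intro v hv
  rw [LinearMap.mem_ker, Matrix.mulVecLin_apply] at hv
  obtain ⟨u, hu'⟩ := exists_solve ψ a g hT hu (v ∘ a)
  have hw : ∀ i, (v - ψ *ᵥ u) (a i) = 0 := by
    intro i
    rw [Pi.sub_apply, hu' i]
    exact sub_self _
  have h1 : χ *ᵥ (v - ψ *ᵥ u) = 0 := by
    rw [Matrix.mulVec_sub, hv, Matrix.mulVec_mulVec, hχψ, Matrix.zero_mulVec, sub_zero]
  rw [chi_mulVec_of_rows_zero a χ _ hw] at h1
  have h2 : (v - ψ *ᵥ u) ∘ Subtype.val = (0 : T' a → S) := by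
    have : (v - ψ *ᵥ u) ∘ Subtype.val ∈ LinearMap.ker (psi' a χ).mulVecLin := h1
    rwa [hker, Submodule.mem_bot] at this
  refine ⟨u, ?_⟩
  rw [Matrix.mulVecLin_apply]
  funext x
  by_cases hx : x ∈ Set.range a
  · obtain ⟨i, rfl⟩ := hx
    have := hw i
    rw [Pi.sub_apply, sub_eq_zero] at this
    exact this.symm
  · have := congrFun h2 ⟨x, hx⟩
    rw [Function.comp_apply, Pi.sub_apply, Pi.zero_apply, sub_eq_zero] at this
    exact this.symm

theorem exists_factor (hT : Fintype.card T = r) (hu : IsUnit (ψ.submatrix a g).det)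
    (hχψ : χ * ψ = 0) : ∃ Q : Matrix (T' a) (Fin b) S, χ = psi' a χ * Q := by
  classical
  have h : ∀ x : Fin b, ∃ w : Fin b → S, (∀ i, w (a i) = 0) ∧ χ *ᵥ w = χ *ᵥ (Pi.single x 1) := by
    intro x
    obtain ⟨u, hu'⟩ := exists_solve ψ a g hT hu ((Pi.single x 1 : Fin b → S) ∘ a)
    refine ⟨Pi.single x 1 - ψ *ᵥ u, fun i => ?_, ?_⟩
    · rw [Pi.sub_apply, hu' i]
      exact sub_self _
    · rw [Matrix.mulVec_sub, Matrix.mulVec_mulVec, hχψ, Matrix.zero_mulVec, sub_zero]
  choose w hw1 hw2 using h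
  refine ⟨Matrix.of (fun y x => w x y.val), ?_⟩
  ext i x
  have h1 := congrFun (hw2 x) i
  rw [chi_mulVec_of_rows_zero a χ _ (hw1 x), Matrix.mulVec_single_one] at h1
  change χ i x = ∑ y : T' a, χ i y.val * w x y.val
  exact h1.symm

end chi

end Groth.Agent.Lib.helper11.BE4
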