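import Mathlib
import Groth.Agent.Lib.helper11.BE3
import Groth.Agent.Lib.helper11.BE4

/-!
# Buchsbaum–Eisenbud: the rank/depth conditions imply exactness (helper11)
-/

set_option autoImplicit false

namespace Groth.Agent.Lib.helper11.BE5

open CAlgX Matrix RingTheory.Sequence
open Groth.Agent.Lib.helper11.BE1 Groth.Agent.Lib.helper11.BE3 Groth.Agent.Lib.helper11.BE4

universe u

/-- hypotheses of Buchsbaum–Eisenbud for the complex `F_{k+1} → F_k → … → F_0`
(`A i : F_{i+1} → F_i`), with expected ranks `ρ i` of `A i`. -/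
structure BEHyp (R : Type u) [CommRing R] (k : ℕ) (n : ℕ → ℕ)
    (A : (i : ℕ) → Matrix (Fin (n i)) (Fin (n (i + 1))) R) (ρ : ℕ → ℕ) : Prop where
  cx : ∀ i, i < k → A i * A (i + 1) = 0
  rank_add : ∀ i, i < k → ρ i + ρ (i + 1) = n (i + 1)
  depth : ∀ i, i ≤ k → ∃ rs : List R, rs.length = i + 1 ∧
    (∀ x ∈ rs, x ∈ minorIdeal (A i) (ρ i)) ∧ IsWeaklyRegular R rs

theorem exists_isUnit_minor {S : Type u} [CommRing S] [IsLocalRing S] {m n : Type} [Fintype m]
    [Fintype n] (M : Matrix m n S) (r : ℕ) (h : minorIdeal M r = ⊤) :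
    ∃ (f : Fin r → m) (g : Fin r → n), IsUnit (M.submatrix f g).det := by
  by_contra hcon
  push_neg at hcon
  have h1 : minorIdeal M r ≤ IsLocalRing.maximalIdeal S :=
    (minorIdeal_le_iff M r _).mpr (fun f g => (IsLocalRing.mem_maximalIdeal _).mpr (hcon f g))
  rw [h] at h1
  exact (IsLocalRing.maximalIdeal.isMaximal S).ne_top (top_le_iff.mp h1)

theorem BEHyp.localize {R : Type u} [CommRing R] {k : ℕ} {n : ℕ → ℕ}
    {A : (i : ℕ) → Matrix (Fin (n i)) (Fin (n (i + 1))) R} {ρ : ℕ → ℕ} (h : BEHyp R k n A ρ)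
    (p : Ideal R) [p.IsPrime] :
    BEHyp (Localization.AtPrime p) k n
      (fun i => (A i).map (algebraMap R (Localization.AtPrime p))) ρ where
  cx := fun i hi => by
    change (A i).map (algebraMap R (Localization.AtPrime p)) *
      (A (i + 1)).map (algebraMap R (Localization.AtPrime p)) = 0
    rw [← Matrix.map_mul, h.cx i hi, Matrix.map_zero _ (map_zero _)]
  rank_add := h.rank_add
  depth := fun i hi => by
    obtain ⟨rs, hlen, hmem, hreg⟩ := h.depth i hi
    refine ⟨rs.map (algebraMap R (Localization.AtPrime p)), by rw [List.length_map, hlen], ?_,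
      IsWeaklyRegular.of_isLocalization (Localization.AtPrime p) p.primeCompl hreg⟩
    intro x hx
    rw [List.mem_map] at hx
    obtain ⟨y, hy, rfl⟩ := hx
    change _ ∈ minorIdeal ((A i).map (algebraMap R (Localization.AtPrime p))) (ρ i)
    rw [minorIdeal_map]
    exact Ideal.mem_map_of_mem _ (hmem y hy)

theorem BEHyp.mono {R : Type u} [CommRing R] {k : ℕ} {n : ℕ → ℕ}
    {A : (i : ℕ) → Matrix (Fin (n i)) (Fin (n (i + 1))) R} {ρ : ℕ → ℕ} (h : BEHyp R (k + 1) n A ρ) :
    BEHyp R k n A ρ where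
  cx := fun i hi => h.cx i (by omega)
  rank_add := fun i hi => h.rank_add i (by omega)
  depth := fun i hi => h.depth i (by omega)

theorem range_le_of_factor {R : Type u} [CommRing R] {a b c : Type} [Fintype b] [Fintype c]
    [DecidableEq b] [DecidableEq c]
    (M : Matrix a b R) (N : Matrix a c R) (Q : Matrix b c R) (h : N = M * Q) :
    LinearMap.range N.mulVecLin ≤ LinearMap.range M.mulVecLin := by
  rw [h, Matrix.mulVecLin_mul]
  exact LinearMap.range_comp_le_range _ _

theorem main (k : ℕ) : ∀ (R : Type u) [CommRing R] (n : ℕ → ℕ)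
    (A : (i : ℕ) → Matrix (Fin (n i)) (Fin (n (i + 1))) R) (ρ : ℕ → ℕ) (_h : BEHyp R k n A ρ)
    (T : Type) [Fintype T] [DecidableEq T] (ψ : Matrix (Fin (n k)) T R)
    (_hT : Fintype.card T = ρ k)
    (_h1 : ∃ Q : Matrix (Fin (n (k + 1))) T R, ψ = A k * Q)
    (_h2 : ∃ Q' : Matrix T (Fin (n (k + 1))) R, A k = ψ * Q'),
    LinearMap.ker ψ.mulVecLin = ⊥ ∧
      ∀ i, i < k → LinearMap.ker (A i).mulVecLin = LinearMap.range (A (i + 1)).mulVecLin := by
  induction k with
  | zero =>
    intro R _ n A ρ h T _ _ ψ hT ⟨Q, hQ⟩ ⟨Q', hQ'⟩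
    obtain ⟨rs, hlen, hmem, hreg⟩ := h.depth 0 le_rfl
    have hI : minorIdeal (A 0) (ρ 0) ≤ minorIdeal ψ (ρ 0) := by
      rw [hQ']
      exact minorIdeal_mul_le_left ψ Q' (ρ 0)
    have hψ : LinearMap.range ψ.mulVecLin = LinearMap.range (A 0).mulVecLin :=
      le_antisymm (range_le_of_factor _ _ Q hQ) (range_le_of_factor _ _ Q' hQ')
    refine acyclic_matrices_top (minorIdeal ψ (ρ 0)) 0 n A ψ hψ h.cx rs hlen
      (fun x hx => hI (hmem x hx)) hreg ?_
    intro p _ hp
    refine ⟨?_, fun i hi => absurd hi (Nat.not_lt_zero _)⟩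
    obtain ⟨x, hxI, hxp⟩ := Set.not_subset.mp hp
    have hunit : IsUnit (algebraMap R (Localization.AtPrime p) x) :=
      IsLocalization.map_units (Localization.AtPrime p) (⟨x, hxp⟩ : p.primeCompl)
    have htop : minorIdeal (ψ.map (algebraMap R (Localization.AtPrime p))) (ρ 0) = ⊤ := by
      rw [minorIdeal_map]
      exact Ideal.eq_top_of_isUnit_mem _ (Ideal.mem_map_of_mem _ hxI) hunit
    obtain ⟨a, g, hu⟩ := exists_isUnit_minor _ _ htop
    exact ker_eq_bot _ a g hT hu
  | succ k ih =>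
    intro R _ n A ρ h T _ _ ψ hT ⟨Q, hQ⟩ ⟨Q', hQ'⟩
    obtain ⟨rs, hlen, hmem, hreg⟩ := h.depth (k + 1) le_rfl
    have hI : minorIdeal (A (k + 1)) (ρ (k + 1)) ≤ minorIdeal ψ (ρ (k + 1)) := by
      rw [hQ']
      exact minorIdeal_mul_le_left ψ Q' (ρ (k + 1))
    have hψ : LinearMap.range ψ.mulVecLin = LinearMap.range (A (k + 1)).mulVecLin :=
      le_antisymm (range_le_of_factor _ _ Q hQ) (range_le_of_factor _ _ Q' hQ')
    refine acyclic_matrices_top (minorIdeal ψ (ρ (k + 1))) (k + 1) n A ψ hψ h.cx rs hlen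
      (fun x hx => hI (hmem x hx)) hreg ?_
    intro p _ hp
    obtain ⟨x, hxI, hxp⟩ := Set.not_subset.mp hp
    have hunit : IsUnit (algebraMap R (Localization.AtPrime p) x) :=
      IsLocalization.map_units (Localization.AtPrime p) (⟨x, hxp⟩ : p.primeCompl)
    have htop : minorIdeal (ψ.map (algebraMap R (Localization.AtPrime p))) (ρ (k + 1)) = ⊤ := by
      rw [minorIdeal_map]
      exact Ideal.eq_top_of_isUnit_mem _ (Ideal.mem_map_of_mem _ hxI) hunit
    obtain ⟨a, g, hu⟩ := exists_isUnit_minor _ _ htop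
    have hker := ker_eq_bot (ψ.map (algebraMap R (Localization.AtPrime p))) a g hT hu
    refine ⟨hker, ?_⟩
    -- the reduced complex
    have hloc := h.localize p
    have hχψ : (A k).map (algebraMap R (Localization.AtPrime p)) *
        ψ.map (algebraMap R (Localization.AtPrime p)) = 0 := by
      rw [← Matrix.map_mul, hQ, ← Matrix.mul_assoc, h.cx k (Nat.lt_succ_self k), Matrix.zero_mul,
        Matrix.map_zero _ (map_zero _)]
    have hcard : Fintype.card (T' a) = ρ k := by
      rw [card_T' (ψ.map (algebraMap R (Localization.AtPrime p))) a g hu]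
      have := h.rank_add k (Nat.lt_succ_self k)
      omega
    obtain ⟨ihN, ihM⟩ := ih (Localization.AtPrime p) n
      (fun i => (A i).map (algebraMap R (Localization.AtPrime p))) ρ hloc.mono (T' a)
      (psi' a ((A k).map (algebraMap R (Localization.AtPrime p)))) hcard
      ⟨_, psi'_eq_mul a _⟩
      (exists_factor (ψ.map (algebraMap R (Localization.AtPrime p))) a g _ hT hu hχψ)
    intro i hi
    by_cases hik : i < k
    · exact ihM i hik
    · have hik' : i = k := by omega
      subst hik'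
      apply le_antisymm
      · refine le_trans (ker_chi_le (ψ.map (algebraMap R (Localization.AtPrime p))) a g _ hT hu
          hχψ ihN) ?_
        refine range_le_of_factor _ _ (Q.map (algebraMap R (Localization.AtPrime p))) ?_
        rw [← Matrix.map_mul, hQ]
      · rintro _ ⟨w, rfl⟩
        rw [LinearMap.mem_ker, ← LinearMap.comp_apply, ← Matrix.mulVecLin_mul]
        have := hloc.cx i (Nat.lt_succ_self i)
        change (A i).map (algebraMap R (Localization.AtPrime p)) *
          (A (i + 1)).map (algebraMap R (Localization.AtPrime p)) = 0 at this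
        rw [this]
        simp

end Groth.Agent.Lib.helper11.BE5
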