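import Mathlib
import Groth.Agent.Lib.helper11.BE5
import Groth.Agent.S9277

/-!
# Exact complexes of free modules over a depth zero local ring are split (helper11)
-/

set_option autoImplicit false

namespace Groth.Agent.Lib.helper11.BE7

open CAlgX Matrix
open Groth.Agent.Lib.helper11.BE1 Groth.Agent.Lib.helper11.BE4 Groth.Agent.Lib.helper11.BE5

universe u

section general

variable {S : Type u} [CommRing S]

theorem minorIdeal_eq_bot_of_card_lt {m T : Type} [Fintype m] [Fintype T] (ψ : Matrix m T S)
    (t : ℕ) (ht : Fintype.card T < t) : minorIdeal ψ t = ⊥ := by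
  classical
  rw [eq_bot_iff, minorIdeal_le_iff]
  intro f g
  obtain ⟨i, j, hij, hg⟩ := Fintype.exists_ne_map_eq_of_card_lt g (by rwa [Fintype.card_fin])
  rw [Submodule.mem_bot]
  exact Matrix.det_zero_of_column_eq hij (fun k => by
    change ψ (f k) (g i) = ψ (f k) (g j)
    rw [hg])

end general

section local_

variable {S : Type u} [CommRing S] [IsLocalRing S]

/-- an injective matrix over a local ring of depth zero has a unit maximal minor. -/
theorem exists_unit_minor_of_injective {b : ℕ} {T : Type} [Fintype T] [DecidableEq T]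
    (ψ : Matrix (Fin b) T S) (hinj : LinearMap.ker ψ.mulVecLin = ⊥) (s : S) (hs : s ≠ 0)
    (hsm : ∀ t ∈ IsLocalRing.maximalIdeal S, t * s = 0) :
    ∃ (a : Fin (Fintype.card T) → Fin b) (g : Fin (Fintype.card T) → T),
      IsUnit (ψ.submatrix a g).det := by
  let e : Fin (Fintype.card T) ≃ T := (Fintype.equivFin T).symm
  have hinj₀ : Function.Injective (ψ.submatrix id e).mulVecLin := by
    rw [← LinearMap.ker_eq_bot, LinearMap.ker_eq_bot']
    intro v hv
    rw [Matrix.mulVecLin_apply, Matrix.submatrix_mulVec_equiv] at hv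
    have h1 : ψ *ᵥ (v ∘ e.symm) = 0 := hv
    have h2 : (v ∘ e.symm) ∈ LinearMap.ker ψ.mulVecLin := h1
    rw [hinj, Submodule.mem_bot] at h2
    funext j
    have := congrFun h2 (e j)
    rwa [Function.comp_apply, Equiv.symm_apply_apply] at this
  have htop : minorIdeal (ψ.submatrix id e) (Fintype.card T) = ⊤ := by
    by_contra hne
    have hle := IsLocalRing.le_maximalIdeal hne
    apply hs
    apply Groth.Agent.S9277.mccoy (ψ.submatrix id e) hinj₀ s
    rw [Submodule.mem_annihilator]
    intro x hx
    rw [smul_eq_mul, mul_comm]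
    exact hsm x (hle hx)
  obtain ⟨f, g₀, hu⟩ := exists_isUnit_minor _ _ htop
  exact ⟨f, e ∘ g₀, hu⟩

omit [IsLocalRing S] in
theorem eq_zero_of_rows [Nontrivial S] {b r : ℕ} {T : Type} [Fintype T] [DecidableEq T]
    (ψ : Matrix (Fin b) T S) (a : Fin r → Fin b) (g : Fin r → T)
    (hT : Fintype.card T = r) (hu : IsUnit (ψ.submatrix a g).det) (u : T → S)
    (h : ∀ i, (ψ *ᵥ u) (a i) = 0) : u = 0 := by
  have hg := g_bijective ψ a g hT hu
  have h1 : (ψ.submatrix a g) *ᵥ (u ∘ g) = 0 := by
    funext i
    rw [← mulVec_rows ψ a g hg, h i]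
    rfl
  have h2 : u ∘ g = 0 := by
    have := congrArg (fun v => (ψ.submatrix a g)⁻¹ *ᵥ v) h1
    simp only [Matrix.mulVec_mulVec, Matrix.nonsing_inv_mul _ hu, Matrix.one_mulVec,
      Matrix.mulVec_zero] at this
    exact this
  funext t
  obtain ⟨j, rfl⟩ := hg.2 t
  exact congrFun h2 j

omit [IsLocalRing S] in
theorem psi'_injective [Nontrivial S] {b c r : ℕ} {T : Type} [Fintype T] [DecidableEq T]
    (ψ : Matrix (Fin b) T S) (a : Fin r → Fin b) (g : Fin r → T)
    (hT : Fintype.card T = r) (hu : IsUnit (ψ.submatrix a g).det)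
    (χ : Matrix (Fin c) (Fin b) S)
    (hex : LinearMap.ker χ.mulVecLin ≤ LinearMap.range ψ.mulVecLin) :
    LinearMap.ker (psi' a χ).mulVecLin = ⊥ := by
  classical
  rw [LinearMap.ker_eq_bot']
  intro v' hv'
  rw [Matrix.mulVecLin_apply] at hv'
  let w : Fin b → S := fun x => if h : x ∈ Set.range a then 0 else v' ⟨x, h⟩
  have hw0 : ∀ i, w (a i) = 0 := fun i => dif_pos ⟨i, rfl⟩
  have hwv : w ∘ Subtype.val = v' := by
    funext y
    change (if h : y.val ∈ Set.range a then 0 else v' ⟨y.val, h⟩) = v' y
    rw [dif_neg y.2]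
  have h1 : χ *ᵥ w = 0 := by
    rw [chi_mulVec_of_rows_zero a χ w hw0, hwv, hv']
  obtain ⟨u, hu'⟩ := hex (show w ∈ LinearMap.ker χ.mulVecLin from h1)
  rw [Matrix.mulVecLin_apply] at hu'
  have hu0 : u = 0 := eq_zero_of_rows ψ a g hT hu u (fun i => by rw [hu', hw0 i])
  rw [hu0, Matrix.mulVec_zero] at hu'
  rw [← hwv, ← hu']
  rfl

/-- output of the depth zero lemma. -/
structure RankData (S : Type u) [CommRing S] (n : ℕ → ℕ)
    (A : (i : ℕ) → Matrix (Fin (n i)) (Fin (n (i + 1))) S) (c k top : ℕ) (τ : ℕ → ℕ) : Prop where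
  top_eq : τ k = top
  recur : ∀ i, c ≤ i → i < k → τ i + τ (i + 1) = n (i + 1)
  unit : ∀ i, c ≤ i → i ≤ k → minorIdeal (A i) (τ i) = ⊤
  zero : ∀ i, c ≤ i → i ≤ k → ∀ t, τ i < t → minorIdeal (A i) t = ⊥

theorem depth_zero (k : ℕ) : ∀ (n : ℕ → ℕ)
    (A : (i : ℕ) → Matrix (Fin (n i)) (Fin (n (i + 1))) S) (c : ℕ) (_hc : c ≤ k)
    (T : Type) [Fintype T] [DecidableEq T] (ψ : Matrix (Fin (n k)) T S)
    (s : S) (_hs : s ≠ 0) (_hsm : ∀ t ∈ IsLocalRing.maximalIdeal S, t * s = 0)
    (_hinj : LinearMap.ker ψ.mulVecLin = ⊥)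
    (_h1 : ∃ Q : Matrix (Fin (n (k + 1))) T S, ψ = A k * Q)
    (_h2 : ∃ Q' : Matrix T (Fin (n (k + 1))) S, A k = ψ * Q')
    (_hex : ∀ i, c ≤ i → i < k →
      LinearMap.ker (A i).mulVecLin = LinearMap.range (A (i + 1)).mulVecLin),
    ∃ τ, RankData S n A c k (Fintype.card T) τ := by
  induction k with
  | zero =>
    intro n A c hc T _ _ ψ s hs hsm hinj ⟨Q, hQ⟩ ⟨Q', hQ'⟩ _
    obtain ⟨a, g, hu⟩ := exists_unit_minor_of_injective ψ hinj s hs hsm
    refine ⟨fun _ => Fintype.card T, rfl, fun i _ hi => absurd hi (Nat.not_lt_zero _), ?_, ?_⟩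
    · intro i _ hi
      have hi0 : i = 0 := by omega
      subst hi0
      rw [eq_top_iff]
      have h1 : minorIdeal ψ (Fintype.card T) ≤ minorIdeal (A 0) (Fintype.card T) := by
        rw [hQ]
        exact minorIdeal_mul_le_left _ _ _
      refine le_trans ?_ h1
      rw [top_le_iff]
      exact Ideal.eq_top_of_isUnit_mem _ (det_mem_minorIdeal ψ _ a g) hu
    · intro i _ hi t ht
      have hi0 : i = 0 := by omega
      subst hi0
      rw [eq_bot_iff, hQ']
      refine le_trans (minorIdeal_mul_le_left _ _ _) ?_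
      rw [minorIdeal_eq_bot_of_card_lt ψ t ht]
  | succ k ih =>
    intro n A c hc T _ _ ψ s hs hsm hinj ⟨Q, hQ⟩ ⟨Q', hQ'⟩ hex
    obtain ⟨a, g, hu⟩ := exists_unit_minor_of_injective ψ hinj s hs hsm
    have htopunit : minorIdeal (A (k + 1)) (Fintype.card T) = ⊤ := by
      rw [eq_top_iff]
      have h1 : minorIdeal ψ (Fintype.card T) ≤ minorIdeal (A (k + 1)) (Fintype.card T) := by
        rw [hQ]
        exact minorIdeal_mul_le_left _ _ _
      refine le_trans ?_ h1
      rw [top_le_iff]
      exact Ideal.eq_top_of_isUnit_mem _ (det_mem_minorIdeal ψ _ a g) hu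
    have htopzero : ∀ t, Fintype.card T < t → minorIdeal (A (k + 1)) t = ⊥ := by
      intro t ht
      rw [eq_bot_iff, hQ']
      refine le_trans (minorIdeal_mul_le_left _ _ _) ?_
      rw [minorIdeal_eq_bot_of_card_lt ψ t ht]
    by_cases hck : c = k + 1
    · refine ⟨fun _ => Fintype.card T, rfl, fun i hi1 hi2 => by omega, ?_, ?_⟩
      · intro i hi1 hi2
        have : i = k + 1 := by omega
        subst this
        exact htopunit
      · intro i hi1 hi2 t ht
        have : i = k + 1 := by omega
        subst this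
        exact htopzero t ht
    · have hck' : c ≤ k := by omega
      have hexk := hex k hck' (Nat.lt_succ_self k)
      have hrange : LinearMap.range (A (k + 1)).mulVecLin = LinearMap.range ψ.mulVecLin :=
        le_antisymm (range_le_of_factor _ _ Q' hQ') (range_le_of_factor _ _ Q hQ)
      have hχψ : A k * ψ = 0 := by
        have h0 : A k * A (k + 1) = 0 := by
          ext i j
          have hmem : (A (k + 1)).mulVecLin (Pi.single j 1) ∈ LinearMap.ker (A k).mulVecLin := by
            rw [hexk]
            exact ⟨_, rfl⟩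
          rw [LinearMap.mem_ker, Matrix.mulVecLin_apply, Matrix.mulVecLin_apply,
            Matrix.mulVec_mulVec, Matrix.mulVec_single_one] at hmem
          exact congrFun hmem i
        rw [hQ, ← Matrix.mul_assoc, h0, Matrix.zero_mul]
      have hinj' : LinearMap.ker (psi' a (A k)).mulVecLin = ⊥ :=
        psi'_injective ψ a g rfl hu (A k) (by rw [hexk, hrange])
      have hcard : Fintype.card (T' a) + Fintype.card T = n (k + 1) := by
        rw [card_T' ψ a g hu]
        have ha := a_injective ψ a g hu
        have := Fintype.card_le_of_injective a ha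
        rw [Fintype.card_fin, Fintype.card_fin] at this
        omega
      obtain ⟨τ', hτ'⟩ := ih n A c hck' (T' a) (psi' a (A k)) s hs hsm hinj'
        ⟨_, psi'_eq_mul a _⟩ (exists_factor ψ a g _ rfl hu hχψ)
        (fun i hi1 hi2 => hex i hi1 (by omega))
      refine ⟨fun i => if i = k + 1 then Fintype.card T else τ' i, if_pos rfl, ?_, ?_, ?_⟩
      · intro i hi1 hi2
        by_cases hik : i = k
        · subst hik
          change (if i = i + 1 then Fintype.card T else τ' i) +
            (if i + 1 = i + 1 then Fintype.card T else τ' (i + 1)) = n (i + 1)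
          rw [if_neg (by omega), if_pos rfl, hτ'.top_eq]
          exact hcard
        · change (if i = k + 1 then Fintype.card T else τ' i) +
            (if i + 1 = k + 1 then Fintype.card T else τ' (i + 1)) = n (i + 1)
          rw [if_neg (by omega), if_neg (by omega)]
          exact hτ'.recur i hi1 (by omega)
      · intro i hi1 hi2
        by_cases hik : i = k + 1
        · subst hik
          change minorIdeal (A (k + 1)) (if k + 1 = k + 1 then Fintype.card T else τ' (k + 1)) = ⊤
          rw [if_pos rfl]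
          exact htopunit
        · change minorIdeal (A i) (if i = k + 1 then Fintype.card T else τ' i) = ⊤
          rw [if_neg hik]
          exact hτ'.unit i hi1 (by omega)
      · intro i hi1 hi2 t ht
        by_cases hik : i = k + 1
        · subst hik
          change (if k + 1 = k + 1 then Fintype.card T else τ' (k + 1)) < t at ht
          rw [if_pos rfl] at ht
          exact htopzero t ht
        · change (if i = k + 1 then Fintype.card T else τ' i) < t at ht
          rw [if_neg hik] at ht
          exact hτ'.zero i hi1 (by omega) t ht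

end local_

end Groth.Agent.Lib.helper11.BE7
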