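import Mathlib
import Groth.Agent.Lib.helper11.BE2

/-!
# Exactness of a complex modulo a regular sequence (helper11)

If `N → M k → … → M 0` is exact at the positions `≥ c+1` and `rs` is weakly regular on all the
modules, then the complex is exact modulo `(rs)` at the positions `≥ c + 1 + |rs|`.
-/

set_option autoImplicit false

namespace Groth.Agent.Lib.helper11.BE8

open RingTheory.Sequence Pointwise
open Groth.Agent.Lib.helper11.Acyclic

universe u v

variable {R : Type u} [CommRing R]

theorem mk_mem_ofList_smul_iff {M : Type v} [AddCommGroup M] [Module R M] (x : R) (rs : List R)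
    (m : M) :
    (Submodule.Quotient.mk m : QuotSMulTop x M) ∈
        (Ideal.ofList rs • ⊤ : Submodule R (QuotSMulTop x M)) ↔
      m ∈ (Ideal.ofList (x :: rs) • ⊤ : Submodule R M) := by
  have h1 : (Ideal.ofList rs • ⊤ : Submodule R (QuotSMulTop x M)) =
      Submodule.map (x • ⊤ : Submodule R M).mkQ (Ideal.ofList rs • ⊤ : Submodule R M) := by
    rw [Submodule.map_smul'', Submodule.map_top, Submodule.range_mkQ]
  rw [h1, Ideal.ofList_cons_smul]
  change m ∈ Submodule.comap (x • ⊤ : Submodule R M).mkQ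
    (Submodule.map (x • ⊤ : Submodule R M).mkQ (Ideal.ofList rs • ⊤ : Submodule R M)) ↔ _
  rw [Submodule.comap_map_mkQ]

theorem exact_mod (rs : List R) : ∀ (M : ℕ → Type v) [∀ i, AddCommGroup (M i)]
    [∀ i, Module R (M i)] (N : Type v) [AddCommGroup N] [Module R N] (k : ℕ)
    (d : ∀ i, M (i + 1) →ₗ[R] M i) (δ : N →ₗ[R] M k) (c : ℕ)
    (_hδ : ∀ z, (∃ w, d k w = z) ↔ (∃ u, δ u = z))
    (_hreg : ∀ i, IsWeaklyRegular (M i) rs) (_hregN : IsWeaklyRegular N rs)
    (_hex : ∀ i, c ≤ i → i < k → ∀ z, d i z = 0 ↔ ∃ w, d (i + 1) w = z)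
    (_hexN : c ≤ k → ∀ u, δ u = 0 → u = 0),
    (∀ i, c + rs.length ≤ i → i < k → ∀ z,
        d i z ∈ (Ideal.ofList rs • ⊤ : Submodule R (M i)) →
          ∃ w, z - d (i + 1) w ∈ (Ideal.ofList rs • ⊤ : Submodule R (M (i + 1)))) ∧
      (c + rs.length ≤ k → ∀ u, δ u ∈ (Ideal.ofList rs • ⊤ : Submodule R (M k)) →
        u ∈ (Ideal.ofList rs • ⊤ : Submodule R N)) := by
  induction rs with
  | nil =>
    intro M _ _ N _ _ k d δ c _ _ _ hex hexN
    have hbot : ∀ (P : Type v) [AddCommGroup P] [Module R P],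
        (Ideal.ofList ([] : List R) • ⊤ : Submodule R P) = ⊥ := by
      intro P _ _
      rw [Ideal.ofList_nil, Submodule.bot_smul]
    constructor
    · intro i hi1 hi2 z hz
      rw [hbot, Submodule.mem_bot] at hz
      obtain ⟨w, hw⟩ := (hex i (by simpa using hi1) hi2 z).mp hz
      refine ⟨w, ?_⟩
      rw [hw, sub_self]
      exact Submodule.zero_mem _
    · intro hk u hu
      rw [hbot, Submodule.mem_bot] at hu
      rw [hexN (by simpa using hk) u hu]
      exact Submodule.zero_mem _
  | cons x rs ih =>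
    intro M _ _ N _ _ k d δ c hδ hreg hregN hex hexN
    have hx : ∀ i, IsSMulRegular (M i) x := fun i =>
      ((isWeaklyRegular_cons_iff (M i) x rs).mp (hreg i)).1
    have hxN : IsSMulRegular N x := ((isWeaklyRegular_cons_iff N x rs).mp hregN).1
    have hreg' : ∀ i, IsWeaklyRegular (QuotSMulTop x (M i)) rs := fun i =>
      ((isWeaklyRegular_cons_iff (M i) x rs).mp (hreg i)).2
    have hregN' : IsWeaklyRegular (QuotSMulTop x N) rs :=
      ((isWeaklyRegular_cons_iff N x rs).mp hregN).2
    have key := ih (fun i => QuotSMulTop x (M i)) (QuotSMulTop x N) k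
      (fun i => QuotSMulTop.map x (d i)) (QuotSMulTop.map x δ) (c + 1) ?_ hreg' hregN' ?_ ?_
    · obtain ⟨keyM, keyN⟩ := key
      constructor
      · intro i hi1 hi2 z hz
        obtain ⟨w', hw'⟩ := keyM i (by simp only [List.length_cons] at hi1; omega) hi2
          (Submodule.Quotient.mk z) (by
            rw [QuotSMulTop.map_apply_mk, mk_mem_ofList_smul_iff]
            exact hz)
        obtain ⟨w, rfl⟩ :=
          Submodule.Quotient.mk_surjective (x • ⊤ : Submodule R (M (i + 1 + 1))) w'
        refine ⟨w, ?_⟩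
        rw [QuotSMulTop.map_apply_mk, ← Submodule.Quotient.mk_sub, mk_mem_ofList_smul_iff] at hw'
        exact hw'
      · intro hk u hu
        have := keyN (by simp only [List.length_cons] at hk; omega) (Submodule.Quotient.mk u) (by
          rw [QuotSMulTop.map_apply_mk, mk_mem_ofList_smul_iff]
          exact hu)
        rwa [mk_mem_ofList_smul_iff] at this
    · intro z'
      obtain ⟨z, rfl⟩ := Submodule.Quotient.mk_surjective (x • ⊤ : Submodule R (M k)) z'
      constructor
      · rintro ⟨w', hw'⟩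
        obtain ⟨w, rfl⟩ :=
          Submodule.Quotient.mk_surjective (x • ⊤ : Submodule R (M (k + 1))) w'
        obtain ⟨u, hu⟩ := (hδ (d k w)).mp ⟨w, rfl⟩
        refine ⟨Submodule.Quotient.mk u, ?_⟩
        rw [QuotSMulTop.map_apply_mk, hu, ← hw', QuotSMulTop.map_apply_mk]
      · rintro ⟨u', hu'⟩
        obtain ⟨u, rfl⟩ := Submodule.Quotient.mk_surjective (x • ⊤ : Submodule R N) u'
        obtain ⟨w, hw⟩ := (hδ (δ u)).mpr ⟨u, rfl⟩
        refine ⟨Submodule.Quotient.mk w, ?_⟩
        rw [QuotSMulTop.map_apply_mk, hw, ← hu', QuotSMulTop.map_apply_mk]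
    · intro i hi1 hi2 z'
      obtain ⟨i', rfl⟩ : ∃ i', i = i' + 1 := ⟨i - 1, by omega⟩
      obtain ⟨z, rfl⟩ :=
        Submodule.Quotient.mk_surjective (x • ⊤ : Submodule R (M (i' + 1 + 1))) z'
      constructor
      · intro hz
        rw [QuotSMulTop.map_apply_mk, Submodule.Quotient.mk_eq_zero, mem_smul_top_iff] at hz
        obtain ⟨v, hv⟩ := hz
        have hdv : d i' v = 0 := by
          apply hx i'
          change x • d i' v = x • 0
          rw [smul_zero, ← map_smul, ← hv]
          exact (hex i' (by omega) (by omega) _).mpr ⟨z, rfl⟩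
        obtain ⟨y, hy⟩ := (hex i' (by omega) (by omega) v).mp hdv
        have hcyc : d (i' + 1) (z - x • y) = 0 := by
          rw [map_sub, map_smul, hy, hv, sub_self]
        obtain ⟨w, hw⟩ := (hex (i' + 1) (by omega) hi2 _).mp hcyc
        refine ⟨Submodule.Quotient.mk w, ?_⟩
        rw [QuotSMulTop.map_apply_mk, hw, Submodule.Quotient.eq, mem_smul_top_iff]
        exact ⟨-y, by rw [smul_neg]; abel⟩
      · rintro ⟨w', hw'⟩
        obtain ⟨w, rfl⟩ :=
          Submodule.Quotient.mk_surjective (x • ⊤ : Submodule R (M (i' + 1 + 1 + 1))) w'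
        rw [← hw', QuotSMulTop.map_apply_mk, QuotSMulTop.map_apply_mk,
          (hex (i' + 1) (by omega) hi2 _).mpr ⟨w, rfl⟩]
        rfl
    · intro hk u' hu'
      obtain ⟨k', rfl⟩ : ∃ k', k = k' + 1 := ⟨k - 1, by omega⟩
      obtain ⟨u, rfl⟩ := Submodule.Quotient.mk_surjective (x • ⊤ : Submodule R N) u'
      rw [QuotSMulTop.map_apply_mk, Submodule.Quotient.mk_eq_zero, mem_smul_top_iff] at hu'
      obtain ⟨v, hv⟩ := hu'
      have hdv : d k' v = 0 := by
        apply hx k'
        change x • d k' v = x • 0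
        rw [smul_zero, ← map_smul, ← hv]
        obtain ⟨w, hw⟩ := (hδ (δ u)).mpr ⟨u, rfl⟩
        exact (hex k' (by omega) (by omega) _).mpr ⟨w, hw⟩
      obtain ⟨y', hy'⟩ := (hex k' (by omega) (by omega) v).mp hdv
      obtain ⟨y, hy⟩ := (hδ v).mp ⟨y', hy'⟩
      have hcyc : δ (u - x • y) = 0 := by
        rw [map_sub, map_smul, hy, hv, sub_self]
      have := hexN (by omega) _ hcyc
      rw [sub_eq_zero] at this
      rw [Submodule.Quotient.mk_eq_zero, mem_smul_top_iff]
      exact ⟨y, this⟩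

end Groth.Agent.Lib.helper11.BE8
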