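import Mathlib
import Groth.Agent.Lib.helper11.BE7
import Groth.Agent.Lib.helper11.BE8

/-!
# Exact complexes of free modules over a local ring, modulo a regular sequence with depth-zero
quotient (helper11)
-/

set_option autoImplicit false

namespace Groth.Agent.Lib.helper11.BE9

open CAlgX Matrix RingTheory.Sequence Pointwise
open Groth.Agent.Lib.helper11.BE1 Groth.Agent.Lib.helper11.BE3 Groth.Agent.Lib.helper11.BE5
  Groth.Agent.Lib.helper11.BE7 Groth.Agent.Lib.helper11.BE8

universe u

section pi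

variable {S : Type u} [CommRing S]

theorem mem_smul_top_pi_iff {ι : Type*} [Fintype ι] [DecidableEq ι] (I : Ideal S) (v : ι → S) :
    v ∈ (I • ⊤ : Submodule S (ι → S)) ↔ ∀ j, v j ∈ I := by
  constructor
  · intro hv
    refine Submodule.smul_induction_on hv (fun r hr m _ j => ?_) (fun x y hx hy j => ?_)
    · rw [Pi.smul_apply, smul_eq_mul]
      exact I.mul_mem_right _ hr
    · rw [Pi.add_apply]
      exact I.add_mem (hx j) (hy j)
  · intro hv
    rw [pi_eq_sum_univ v]
    refine Submodule.sum_mem _ (fun j _ => ?_)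
    exact Submodule.smul_mem_smul (hv j) trivial

theorem map_mulVec_comp {T S' : Type*} [CommRing S'] {a b : Type*} [Fintype b] (π : S →+* S')
    (A : Matrix a b S) (z : b → S) :
    (A.map π).mulVecLin (π ∘ z) = π ∘ (A.mulVecLin z) := by
  funext i
  rw [Matrix.mulVecLin_apply, Function.comp_apply, Matrix.mulVecLin_apply, RingHom.map_mulVec]

end pi

section modI

variable {S : Type u} [CommRing S] (I : Ideal S)

/-- exactness mod `I` (elementwise) gives exactness of the matrices over `S ⧸ I`. -/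
theorem ker_le_range_quotient {a b c : Type} [Fintype b] [Fintype c] [DecidableEq b]
    [DecidableEq a]
    (A : Matrix a b S) (B : Matrix b c S)
    (h : ∀ z : b → S, A.mulVecLin z ∈ (I • ⊤ : Submodule S (a → S)) →
      ∃ w, z - B.mulVecLin w ∈ (I • ⊤ : Submodule S (b → S))) [Fintype a] :
    LinearMap.ker (A.map (Ideal.Quotient.mk I)).mulVecLin ≤
      LinearMap.range (B.map (Ideal.Quotient.mk I)).mulVecLin := by
  intro z' hz'
  have hsurj : ∀ j, ∃ zj : S, Ideal.Quotient.mk I zj = z' j :=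
    fun j => Ideal.Quotient.mk_surjective (z' j)
  choose z hz using hsurj
  have hz'' : z' = (Ideal.Quotient.mk I) ∘ z := by
    funext j
    exact (hz j).symm
  rw [LinearMap.mem_ker, hz'', map_mulVec_comp (T := S)] at hz'
  have h1 : A.mulVecLin z ∈ (I • ⊤ : Submodule S (a → S)) := by
    rw [mem_smul_top_pi_iff]
    intro j
    have := congrFun hz' j
    rwa [Function.comp_apply, Pi.zero_apply, Ideal.Quotient.eq_zero_iff_mem] at this
  obtain ⟨w, hw⟩ := h z h1
  rw [mem_smul_top_pi_iff] at hw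
  refine ⟨(Ideal.Quotient.mk I) ∘ w, ?_⟩
  rw [map_mulVec_comp (T := S), hz'']
  funext j
  have := hw j
  rw [Pi.sub_apply, ← Ideal.Quotient.eq_zero_iff_mem, map_sub, sub_eq_zero] at this
  rw [Function.comp_apply, Function.comp_apply, this]

theorem ker_eq_bot_quotient {a b : Type} [Fintype b] [DecidableEq b] [Fintype a] [DecidableEq a]
    (A : Matrix a b S)
    (h : ∀ u : b → S, A.mulVecLin u ∈ (I • ⊤ : Submodule S (a → S)) →
      u ∈ (I • ⊤ : Submodule S (b → S))) :
    LinearMap.ker (A.map (Ideal.Quotient.mk I)).mulVecLin = ⊥ := by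
  rw [LinearMap.ker_eq_bot']
  intro z' hz'
  have hsurj : ∀ j, ∃ zj : S, Ideal.Quotient.mk I zj = z' j :=
    fun j => Ideal.Quotient.mk_surjective (z' j)
  choose z hz using hsurj
  have hz'' : z' = (Ideal.Quotient.mk I) ∘ z := by
    funext j
    exact (hz j).symm
  rw [hz'', map_mulVec_comp (T := S)] at hz'
  have h1 : A.mulVecLin z ∈ (I • ⊤ : Submodule S (a → S)) := by
    rw [mem_smul_top_pi_iff]
    intro j
    have := congrFun hz' j
    rwa [Function.comp_apply, Pi.zero_apply, Ideal.Quotient.eq_zero_iff_mem] at this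
  have h2 := h z h1
  rw [mem_smul_top_pi_iff] at h2
  rw [hz'']
  funext j
  rw [Function.comp_apply, Pi.zero_apply, Ideal.Quotient.eq_zero_iff_mem]
  exact h2 j

end modI

section main

variable {S : Type u} [CommRing S] [IsLocalRing S]

/-- Lemma D: exact complex over a local ring `S`, `rs` a weakly regular sequence in the maximal
ideal such that `S/(rs)` has depth zero.  Then the maps in positions `≥ c + |rs|` have unit
minors of the expected size. -/
theorem unit_minors_of_depth (k : ℕ) (n : ℕ → ℕ)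
    (A : (i : ℕ) → Matrix (Fin (n i)) (Fin (n (i + 1))) S) (c : ℕ)
    (T : Type) [Fintype T] [DecidableEq T] (ψ : Matrix (Fin (n k)) T S)
    (hcx : ∀ i, i < k → A i * A (i + 1) = 0)
    (hinj : LinearMap.ker ψ.mulVecLin = ⊥)
    (h1 : ∃ Q : Matrix (Fin (n (k + 1))) T S, ψ = A k * Q)
    (h2 : ∃ Q' : Matrix T (Fin (n (k + 1))) S, A k = ψ * Q')
    (hex : ∀ i, c ≤ i → i < k →
      LinearMap.ker (A i).mulVecLin = LinearMap.range (A (i + 1)).mulVecLin)
    (rs : List S) (hreg : IsWeaklyRegular S rs) (hmem : ∀ x ∈ rs, x ∈ IsLocalRing.maximalIdeal S)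
    (hck : c + rs.length ≤ k)
    (y : S) (hy : y ∉ Ideal.ofList rs)
    (hym : ∀ t ∈ IsLocalRing.maximalIdeal S, t * y ∈ Ideal.ofList rs) :
    ∃ τ : ℕ → ℕ, τ k = Fintype.card T ∧
      (∀ i, c + rs.length ≤ i → i < k → τ i + τ (i + 1) = n (i + 1)) ∧
      ∀ i, c + rs.length ≤ i → i ≤ k → minorIdeal (A i) (τ i) = ⊤ := by
  classical
  obtain ⟨Q, hQ⟩ := h1
  obtain ⟨Q', hQ'⟩ := h2
  set I : Ideal S := Ideal.ofList rs with hI
  have hIm : I ≤ IsLocalRing.maximalIdeal S := by
    rw [hI, Ideal.ofList, Ideal.span_le]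
    exact fun x hx => hmem x hx
  have hIne : I ≠ ⊤ := fun h => hy (h ▸ Submodule.mem_top)
  haveI : Nontrivial (S ⧸ I) := Ideal.Quotient.nontrivial_iff.mpr hIne
  haveI : IsLocalRing (S ⧸ I) :=
    IsLocalRing.of_surjective' (Ideal.Quotient.mk I) Ideal.Quotient.mk_surjective
  have hrange : LinearMap.range (A k).mulVecLin = LinearMap.range ψ.mulVecLin :=
    le_antisymm (range_le_of_factor _ _ Q' hQ') (range_le_of_factor _ _ Q hQ)
  -- abstract exactness modulo `rs`
  obtain ⟨keyM, keyN⟩ := exact_mod (R := S) rs (fun i => Fin (n i) → S) (T → S) k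
    (fun i => (A i).mulVecLin) ψ.mulVecLin c
    (by
      intro z
      change z ∈ LinearMap.range (A k).mulVecLin ↔ z ∈ LinearMap.range ψ.mulVecLin
      rw [hrange])
    (fun i => isWeaklyRegular_pi' rs hreg (Fin (n i))) (isWeaklyRegular_pi' rs hreg T)
    (by
      intro i hi1 hi2 z
      change z ∈ LinearMap.ker (A i).mulVecLin ↔ z ∈ LinearMap.range (A (i + 1)).mulVecLin
      rw [hex i hi1 hi2])
    (by
      intro _ u hu
      have : u ∈ LinearMap.ker ψ.mulVecLin := hu
      rwa [hinj, Submodule.mem_bot] at this)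
  -- depth zero lemma over the quotient
  have hs0 : Ideal.Quotient.mk I y ≠ 0 := by
    rwa [Ne, Ideal.Quotient.eq_zero_iff_mem]
  have hsm : ∀ t ∈ IsLocalRing.maximalIdeal (S ⧸ I), t * Ideal.Quotient.mk I y = 0 := by
    intro t' ht'
    obtain ⟨t, rfl⟩ := Ideal.Quotient.mk_surjective t'
    have ht : t ∈ IsLocalRing.maximalIdeal S := by
      rw [IsLocalRing.mem_maximalIdeal, mem_nonunits_iff] at ht' ⊢
      exact fun h => ht' (h.map _)
    rw [← map_mul, Ideal.Quotient.eq_zero_iff_mem]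
    exact hym t ht
  obtain ⟨τ, hτ⟩ := depth_zero (S := S ⧸ I) k n (fun i => (A i).map (Ideal.Quotient.mk I))
    (c + rs.length) hck T (ψ.map (Ideal.Quotient.mk I)) (Ideal.Quotient.mk I y) hs0 hsm
    (ker_eq_bot_quotient I ψ (keyN hck))
    ⟨Q.map (Ideal.Quotient.mk I), by rw [← Matrix.map_mul, hQ]⟩
    ⟨Q'.map (Ideal.Quotient.mk I), by rw [← Matrix.map_mul, hQ']⟩
    (by
      intro i hi1 hi2
      apply le_antisymm
      · exact ker_le_range_quotient I (A i) (A (i + 1)) (keyM i hi1 hi2)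
      · rintro _ ⟨w, rfl⟩
        rw [LinearMap.mem_ker, ← LinearMap.comp_apply, ← Matrix.mulVecLin_mul, ← Matrix.map_mul,
          hcx i hi2, Matrix.map_zero _ (map_zero _)]
        simp)
  refine ⟨τ, hτ.top_eq, hτ.recur, fun i hi1 hi2 => ?_⟩
  have h3 := hτ.unit i hi1 hi2
  change minorIdeal ((A i).map (Ideal.Quotient.mk I)) (τ i) = ⊤ at h3
  rw [minorIdeal_map] at h3
  by_contra hne
  have hle := IsLocalRing.le_maximalIdeal hne
  have h4 : Ideal.comap (Ideal.Quotient.mk I) (Ideal.map (Ideal.Quotient.mk I)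
      (minorIdeal (A i) (τ i))) = ⊤ := by
    rw [h3, Ideal.comap_top]
  rw [Ideal.comap_map_of_surjective _ Ideal.Quotient.mk_surjective, ← RingHom.ker_eq_comap_bot,
    Ideal.mk_ker] at h4
  have h5 : minorIdeal (A i) (τ i) ⊔ I ≤ IsLocalRing.maximalIdeal S := sup_le hle hIm
  rw [h4] at h5
  exact (IsLocalRing.maximalIdeal.isMaximal S).ne_top (top_le_iff.mp h5)

end main

end Groth.Agent.Lib.helper11.BE9
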