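import Mathlib
import Groth.Agent.Lib.helper11.BE9
import Groth.Agent.Lib.helper11.BE10

/-!
# Buchsbaum–Eisenbud, converse direction: auxiliary lemmas (helper11)
-/

set_option autoImplicit false

namespace Groth.Agent.Lib.helper11.BE11

open CAlgX Matrix RingTheory.Sequence Pointwise
open Groth.Agent.Lib.helper11.BE1 Groth.Agent.Lib.helper11.BE3 Groth.Agent.Lib.helper11.BE5
  Groth.Agent.Lib.helper11.BE7 Groth.Agent.Lib.helper11.BE9 Groth.Agent.Lib.helper11.BE10

universe u

theorem tau_unique (n : ℕ → ℕ) (c k : ℕ) (τ τ' : ℕ → ℕ) (htop : τ k = τ' k)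
    (h : ∀ i, c ≤ i → i < k → τ i + τ (i + 1) = n (i + 1))
    (h' : ∀ i, c ≤ i → i < k → τ' i + τ' (i + 1) = n (i + 1)) :
    ∀ i, c ≤ i → i ≤ k → τ i = τ' i := by
  have key : ∀ j i, c ≤ i → i + j = k → τ i = τ' i := by
    intro j
    induction j with
    | zero =>
      intro i _ hi
      have : i = k := by omega
      rw [this, htop]
    | succ j ih =>
      intro i hci hi
      have h1 := ih (i + 1) (by omega) (by omega)
      have h2 := h i hci (by omega)
      have h3 := h' i hci (by omega)
      omega
  intro i hci hik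
  exact key (k - i) i hci (by omega)

variable {R : Type u} [CommRing R]

/-- depth zero witness after localizing at `p = (I : y)`. -/
theorem witness_localization (I : Ideal R) (p : Ideal R) [p.IsPrime] (y : R)
    (hp : ∀ t, t ∈ p ↔ t * y ∈ I) :
    algebraMap R (Localization.AtPrime p) y ∉ I.map (algebraMap R (Localization.AtPrime p)) ∧
      ∀ z ∈ IsLocalRing.maximalIdeal (Localization.AtPrime p),
        z * algebraMap R (Localization.AtPrime p) y ∈
          I.map (algebraMap R (Localization.AtPrime p)) := by
  constructor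
  · intro hmem
    rw [IsLocalization.mem_map_algebraMap_iff p.primeCompl] at hmem
    obtain ⟨⟨a, s⟩, has⟩ := hmem
    rw [← map_mul, IsLocalization.eq_iff_exists p.primeCompl] at has
    obtain ⟨u, hu⟩ := has
    have h1 : (u : R) * s * y ∈ I := by
      have : (u : R) * s * y = u * (y * s) := by ring
      rw [this, hu]
      exact I.mul_mem_left _ a.2
    have h2 := (hp _).mpr h1
    exact (Ideal.IsPrime.mem_or_mem ‹_› h2).elim u.2 s.2
  · intro z hz
    rw [← IsLocalization.AtPrime.map_eq_maximalIdeal p (Localization.AtPrime p),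
      IsLocalization.mem_map_algebraMap_iff p.primeCompl] at hz
    obtain ⟨⟨a, s⟩, has⟩ := hz
    have hU : IsUnit (algebraMap R (Localization.AtPrime p) (s : R)) :=
      IsLocalization.map_units (Localization.AtPrime p) s
    obtain ⟨V, hV⟩ := hU.exists_right_inv
    have h1 : z * algebraMap R (Localization.AtPrime p) y =
        algebraMap R (Localization.AtPrime p) ((a : R) * y) * V := by
      rw [map_mul, ← has]
      calc z * algebraMap R (Localization.AtPrime p) y
          = z * algebraMap R (Localization.AtPrime p) y *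
              (algebraMap R (Localization.AtPrime p) (s : R) * V) := by rw [hV, mul_one]
        _ = _ := by ring
    rw [h1]
    exact Ideal.mul_mem_right _ _ (Ideal.mem_map_of_mem _ ((hp _).mp a.2))

theorem eq_zero_of_forall_ass [IsNoetherianRing R] (z : R)
    (h : ∀ (p : Ideal R) [p.IsPrime], p ∈ associatedPrimes R R →
      algebraMap R (Localization.AtPrime p) z = 0) : z = 0 := by
  by_contra hz
  obtain ⟨P, hP, hle⟩ := exists_le_isAssociatedPrime_of_isNoetherianRing R z hz
  haveI := hP.isPrime
  have h0 := h P hP
  rw [IsLocalization.map_eq_zero_iff P.primeCompl] at h0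
  obtain ⟨t, ht⟩ := h0
  have : (t : R) ∈ (⊥ : Submodule R R).colon {z} := by
    rw [Submodule.mem_colon_singleton, Submodule.mem_bot, smul_eq_mul]
    exact ht
  exact t.2 (hle this)

end Groth.Agent.Lib.helper11.BE11
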