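import Mathlib
import Groth.Agent.Lib.helper11.BE11

/-!
# Buchsbaum–Eisenbud, converse direction: the ranks (helper11)
-/

set_option autoImplicit false

namespace Groth.Agent.Lib.helper11.BE12

open CAlgX Matrix RingTheory.Sequence Pointwise
open Groth.Agent.Lib.helper11.BE1 Groth.Agent.Lib.helper11.BE3 Groth.Agent.Lib.helper11.BE5
  Groth.Agent.Lib.helper11.BE7 Groth.Agent.Lib.helper11.BE9 Groth.Agent.Lib.helper11.BE10
  Groth.Agent.Lib.helper11.BE11

universe u

variable {R : Type u} [CommRing R]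

theorem localized_exact (p : Ideal R) [p.IsPrime] (k : ℕ) (n : ℕ → ℕ)
    (A : (i : ℕ) → Matrix (Fin (n i)) (Fin (n (i + 1))) R)
    (hcx : ∀ i, i < k → A i * A (i + 1) = 0)
    (hex : ∀ i, i < k → LinearMap.ker (A i).mulVecLin = LinearMap.range (A (i + 1)).mulVecLin) :
    ∀ i, i < k →
      LinearMap.ker ((A i).map (algebraMap R (Localization.AtPrime p))).mulVecLin =
        LinearMap.range ((A (i + 1)).map (algebraMap R (Localization.AtPrime p))).mulVecLin := by
  intro i hi
  apply le_antisymm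
  · exact localized_ker_le_range p (A i) (A (i + 1)) (hex i hi).le
  · rintro _ ⟨w, rfl⟩
    rw [LinearMap.mem_ker, ← LinearMap.comp_apply, ← Matrix.mulVecLin_mul, ← Matrix.map_mul,
      hcx i hi, Matrix.map_zero _ (map_zero _)]
    simp

theorem rankData_at_ass [IsNoetherianRing R] (k : ℕ) (n : ℕ → ℕ)
    (A : (i : ℕ) → Matrix (Fin (n i)) (Fin (n (i + 1))) R)
    (hcx : ∀ i, i < k → A i * A (i + 1) = 0)
    (hinj : LinearMap.ker (A k).mulVecLin = ⊥)
    (hex : ∀ i, i < k → LinearMap.ker (A i).mulVecLin = LinearMap.range (A (i + 1)).mulVecLin)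
    (p : Ideal R) [p.IsPrime] (hp : p ∈ associatedPrimes R R) :
    ∃ τ, RankData (Localization.AtPrime p) n
      (fun i => (A i).map (algebraMap R (Localization.AtPrime p))) 0 k (n (k + 1)) τ := by
  rw [AssociatedPrimes.mem_iff, isAssociatedPrime_iff] at hp
  obtain ⟨_, y, hy⟩ := hp
  have hp' : ∀ t, t ∈ p ↔ t * y ∈ (⊥ : Ideal R) := by
    intro t
    rw [hy, Submodule.mem_colon_singleton, smul_eq_mul]
  obtain ⟨w1, w2⟩ := witness_localization ⊥ p y hp'
  rw [Ideal.map_bot] at w1 w2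
  have := depth_zero (S := Localization.AtPrime p) k n
    (fun i => (A i).map (algebraMap R (Localization.AtPrime p))) 0 (Nat.zero_le _)
    (Fin (n (k + 1))) ((A k).map (algebraMap R (Localization.AtPrime p)))
    (algebraMap R (Localization.AtPrime p) y) (fun h => w1 (by rw [h]; exact Submodule.zero_mem _))
    (fun t ht => (Submodule.mem_bot _).mp (w2 t ht))
    (localized_ker_eq_bot p (A k) hinj) ⟨1, (Matrix.mul_one _).symm⟩ ⟨1, (Matrix.mul_one _).symm⟩
    (fun i _ hi => localized_exact p k n A hcx hex i hi)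
  rwa [Fintype.card_fin] at this

theorem ranks [IsLocalRing R] [IsNoetherianRing R] (k : ℕ) (n : ℕ → ℕ)
    (A : (i : ℕ) → Matrix (Fin (n i)) (Fin (n (i + 1))) R)
    (hcx : ∀ i, i < k → A i * A (i + 1) = 0)
    (hinj : LinearMap.ker (A k).mulVecLin = ⊥)
    (hex : ∀ i, i < k → LinearMap.ker (A i).mulVecLin = LinearMap.range (A (i + 1)).mulVecLin) :
    ∃ τ : ℕ → ℕ, τ k = n (k + 1) ∧ (∀ i, i < k → τ i + τ (i + 1) = n (i + 1)) ∧
      ∀ i, i ≤ k → minorIdeal (A i) (τ i) ≠ ⊥ ∧ ∀ t, τ i < t → minorIdeal (A i) t = ⊥ := by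
  obtain ⟨p₀, hp₀⟩ := associatedPrimes.nonempty R R
  haveI := hp₀.isPrime
  obtain ⟨τ, hτ⟩ := rankData_at_ass k n A hcx hinj hex p₀ hp₀
  refine ⟨τ, hτ.top_eq, fun i hi => hτ.recur i (Nat.zero_le _) hi, fun i hi => ⟨?_, ?_⟩⟩
  · intro hbot
    have h1 := hτ.unit i (Nat.zero_le _) hi
    change minorIdeal ((A i).map (algebraMap R (Localization.AtPrime p₀))) (τ i) = ⊤ at h1
    rw [minorIdeal_map, hbot, Ideal.map_bot] at h1
    exact bot_ne_top h1
  · intro t ht
    rw [eq_bot_iff]
    intro z hz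
    rw [Submodule.mem_bot]
    apply eq_zero_of_forall_ass
    intro p _ hp
    obtain ⟨τp, hτp⟩ := rankData_at_ass k n A hcx hinj hex p hp
    have heq : τp i = τ i := tau_unique n 0 k τp τ (by rw [hτp.top_eq, hτ.top_eq])
      hτp.recur hτ.recur i (Nat.zero_le _) hi
    have h1 := hτp.zero i (Nat.zero_le _) hi t (by rw [heq]; exact ht)
    change minorIdeal ((A i).map (algebraMap R (Localization.AtPrime p))) t = ⊥ at h1
    rw [minorIdeal_map] at h1
    have h2 : algebraMap R (Localization.AtPrime p) z ∈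
        Ideal.map (algebraMap R (Localization.AtPrime p)) (minorIdeal (A i) t) :=
      Ideal.mem_map_of_mem _ hz
    rwa [h1, Submodule.mem_bot] at h2

end Groth.Agent.Lib.helper11.BE12
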