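import Mathlib
import Groth.Agent.Lib.helper11.BE12

/-!
# Buchsbaum–Eisenbud, converse direction: the grade of the determinantal ideals (helper11)
-/

set_option autoImplicit false

namespace Groth.Agent.Lib.helper11.BE13

open CAlgX Matrix RingTheory.Sequence Pointwise
open Groth.Agent.Lib.helper11.BE1 Groth.Agent.Lib.helper11.BE3 Groth.Agent.Lib.helper11.BE5
  Groth.Agent.Lib.helper11.BE7 Groth.Agent.Lib.helper11.BE9 Groth.Agent.Lib.helper11.BE10
  Groth.Agent.Lib.helper11.BE11 Groth.Agent.Lib.helper11.BE12

universe u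

variable {R : Type u} [CommRing R] [IsLocalRing R] [IsNoetherianRing R]

theorem grade (k : ℕ) (n : ℕ → ℕ)
    (A : (i : ℕ) → Matrix (Fin (n i)) (Fin (n (i + 1))) R)
    (hcx : ∀ i, i < k → A i * A (i + 1) = 0)
    (hinj : LinearMap.ker (A k).mulVecLin = ⊥)
    (hex : ∀ i, i < k → LinearMap.ker (A i).mulVecLin = LinearMap.range (A (i + 1)).mulVecLin)
    (τ : ℕ → ℕ) (hτk : τ k = n (k + 1)) (hτ : ∀ i, i < k → τ i + τ (i + 1) = n (i + 1))
    (i : ℕ) (hi : i ≤ k) (hne : minorIdeal (A i) (τ i) ≠ ⊤) :
    ∀ l, l ≤ i + 1 → ∃ rs : List R, rs.length = l ∧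
      (∀ x ∈ rs, x ∈ minorIdeal (A i) (τ i)) ∧ IsWeaklyRegular R rs := by
  classical
  intro l
  induction l with
  | zero => exact fun _ => ⟨[], rfl, fun x hx => by simp at hx, IsWeaklyRegular.nil R R⟩
  | succ l ih =>
    intro hl
    obtain ⟨rs, hlen, hmem, hreg⟩ := ih (by omega)
    by_cases hx : ∃ x ∈ minorIdeal (A i) (τ i),
        IsSMulRegular (R ⧸ (Ideal.ofList rs • ⊤ : Submodule R R)) x
    · obtain ⟨x, hxJ, hxreg⟩ := hx
      refine ⟨rs ++ [x], by rw [List.length_append, hlen, List.length_singleton], ?_, ?_⟩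
      · intro z hz
        rw [List.mem_append, List.mem_singleton] at hz
        rcases hz with hz | rfl
        · exact hmem z hz
        · exact hxJ
      · exact (isWeaklyRegular_append_iff R rs [x]).mpr
          ⟨hreg, (isWeaklyRegular_singleton_iff _ x).mpr hxreg⟩
    · exfalso
      push_neg at hx
      -- prime avoidance
      have hsub : ((minorIdeal (A i) (τ i) : Ideal R) : Set R) ⊆
          ⋃ p ∈ associatedPrimes R (R ⧸ (Ideal.ofList rs • ⊤ : Submodule R R)), (p : Set R) := by
        rw [biUnion_associatedPrimes_eq_zero_divisors]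
        intro x hxJ
        have := hx x hxJ
        rw [isSMulRegular_iff_right_eq_zero_of_smul] at this
        push_neg at this
        obtain ⟨q, hq1, hq2⟩ := this
        exact ⟨q, hq2, hq1⟩
      have hfin := associatedPrimes.finite (A := R)
        (M := R ⧸ (Ideal.ofList rs • ⊤ : Submodule R R))
      have hsub' : ((minorIdeal (A i) (τ i) : Ideal R) : Set R) ⊆
          ⋃ p ∈ ((hfin.toFinset : Finset (Ideal R)) : Set (Ideal R)), ((id p : Ideal R) : Set R) := by
        rw [Set.Finite.coe_toFinset]
        exact hsub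
      obtain ⟨p, hpmem, hJp⟩ := (Ideal.subset_union_prime (s := hfin.toFinset) (f := id) ⊤ ⊤
        (fun p hp _ _ => ((Set.Finite.mem_toFinset hfin).mp hp).isPrime)).mp hsub'
      rw [Set.Finite.mem_toFinset] at hpmem
      change minorIdeal (A i) (τ i) ≤ p at hJp
      haveI := hpmem.isPrime
      rw [AssociatedPrimes.mem_iff, isAssociatedPrime_iff] at hpmem
      obtain ⟨_, q, hq⟩ := hpmem
      obtain ⟨y, rfl⟩ := Submodule.Quotient.mk_surjective _ q
      have hp' : ∀ t, t ∈ p ↔ t * y ∈ Ideal.ofList rs := by
        intro t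
        rw [hq, Submodule.mem_colon_singleton, Submodule.mem_bot, ← Submodule.Quotient.mk_smul,
          Submodule.Quotient.mk_eq_zero, smul_eq_mul, smul_eq_mul, Ideal.mul_top]
      obtain ⟨w1, w2⟩ := witness_localization (Ideal.ofList rs) p y hp'
      rw [Ideal.map_ofList] at w1 w2
      have hmem' : ∀ x ∈ rs.map (algebraMap R (Localization.AtPrime p)),
          x ∈ IsLocalRing.maximalIdeal (Localization.AtPrime p) := by
        intro x hx
        rw [List.mem_map] at hx
        obtain ⟨r, hr, rfl⟩ := hx
        rw [← IsLocalization.AtPrime.map_eq_maximalIdeal p (Localization.AtPrime p)]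
        exact Ideal.mem_map_of_mem _ (hJp (hmem r hr))
      obtain ⟨τ', hτ'k, hτ'rec, hτ'unit⟩ := unit_minors_of_depth (S := Localization.AtPrime p) k n
        (fun i => (A i).map (algebraMap R (Localization.AtPrime p))) 0 (Fin (n (k + 1)))
        ((A k).map (algebraMap R (Localization.AtPrime p)))
        (fun j hj => by
          change (A j).map (algebraMap R (Localization.AtPrime p)) *
            (A (j + 1)).map (algebraMap R (Localization.AtPrime p)) = 0
          rw [← Matrix.map_mul, hcx j hj, Matrix.map_zero _ (map_zero _)])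
        (localized_ker_eq_bot p (A k) hinj) ⟨1, (Matrix.mul_one _).symm⟩
        ⟨1, (Matrix.mul_one _).symm⟩
        (fun j _ hj => localized_exact p k n A hcx hex j hj)
        (rs.map (algebraMap R (Localization.AtPrime p)))
        (IsWeaklyRegular.of_isLocalization (Localization.AtPrime p) p.primeCompl hreg) hmem'
        (by rw [List.length_map, hlen]; omega)
        (algebraMap R (Localization.AtPrime p) y) w1 w2
      rw [List.length_map, hlen, Fintype.card_fin] at *
      have heq : τ' i = τ i := tau_unique n (0 + l) k τ' τ (by rw [hτ'k, hτk]) hτ'rec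
        (fun j _ hj => hτ j hj) i (by omega) hi
      have h1 := hτ'unit i (by omega) hi
      rw [heq, minorIdeal_map] at h1
      have h2 : Ideal.map (algebraMap R (Localization.AtPrime p)) (minorIdeal (A i) (τ i)) ≤
          IsLocalRing.maximalIdeal (Localization.AtPrime p) := by
        rw [← IsLocalization.AtPrime.map_eq_maximalIdeal p (Localization.AtPrime p)]
        exact Ideal.map_mono hJp
      rw [h1] at h2
      exact (IsLocalRing.maximalIdeal.isMaximal _).ne_top (top_le_iff.mp h2)

end Groth.Agent.Lib.helper11.BE13
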