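import Mathlib
import Groth.Agent.Lib.helper11.BE5

/-!
# Buchsbaum–Eisenbud exactness criterion, statement form (helper11)
-/

set_option autoImplicit false

namespace Groth.Agent.Lib.helper11.BE6

open CAlgX Matrix RingTheory.Sequence Pointwise
open Groth.Agent.Lib.helper11.BE1 Groth.Agent.Lib.helper11.BE5

universe u v

variable {R : Type u} [CommRing R]

theorem isWeaklyRegular_of_subsingleton (rs : List R) :
    ∀ (N : Type v) [AddCommGroup N] [Module R N] [Subsingleton N], IsWeaklyRegular N rs := by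
  induction rs with
  | nil => intro N _ _ _; exact IsWeaklyRegular.nil R N
  | cons x rs ih =>
    intro N _ _ _
    rw [isWeaklyRegular_cons_iff]
    exact ⟨fun a b _ => Subsingleton.elim a b, ih (QuotSMulTop x N)⟩

theorem isWeaklyRegular_replicate_one (j : ℕ) : IsWeaklyRegular R (List.replicate j (1 : R)) := by
  cases j with
  | zero => exact IsWeaklyRegular.nil R R
  | succ j =>
    rw [List.replicate_succ, isWeaklyRegular_cons_iff]
    refine ⟨IsSMulRegular.one R, ?_⟩
    haveI : Subsingleton (QuotSMulTop (1 : R) R) := by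
      refine ⟨fun a b => ?_⟩
      obtain ⟨a, rfl⟩ := Submodule.Quotient.mk_surjective _ a
      obtain ⟨b, rfl⟩ := Submodule.Quotient.mk_surjective _ b
      rw [Submodule.Quotient.eq, Submodule.mem_smul_pointwise_iff_exists]
      exact ⟨a - b, trivial, one_smul _ _⟩
    exact isWeaklyRegular_of_subsingleton _ _

theorem alt_sum_succ (f : ℕ → ℤ) (j e : ℕ) (hje : j ≤ e) :
    ∑ t ∈ Finset.Icc j e, (-1 : ℤ) ^ (t - j) * f t =
      f j - ∑ t ∈ Finset.Icc (j + 1) e, (-1 : ℤ) ^ (t - (j + 1)) * f t := by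
  rw [← Finset.sum_Ioc_add_eq_sum_Icc hje, Finset.Icc_add_one_left_eq_Ioc, Nat.sub_self, pow_zero,
    one_mul]
  have : ∑ t ∈ Finset.Ioc j e, (-1 : ℤ) ^ (t - j) * f t =
      - ∑ t ∈ Finset.Ioc j e, (-1 : ℤ) ^ (t - (j + 1)) * f t := by
    rw [← Finset.sum_neg_distrib]
    apply Finset.sum_congr rfl
    intro t ht
    rw [Finset.mem_Ioc] at ht
    have : t - j = (t - (j + 1)) + 1 := by omega
    rw [this, pow_succ]
    ring
  rw [this]
  ring

theorem main {R : Type u} [CommRing R]
    (e : ℕ) (he : 1 ≤ e) (n : ℕ → ℕ) (A : (i : ℕ) → Matrix (Fin (n i)) (Fin (n (i + 1))) R)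
    (hA : ∀ i, i + 2 ≤ e → A i * A (i + 1) = 0)
    (hrank : ∀ j, 1 ≤ j → j ≤ e →
      (CAlgX.matrixRank (A (j - 1)) : ℤ) = ∑ t ∈ Finset.Icc j e, (-1 : ℤ) ^ (t - j) * (n t : ℤ))
    (hdet : ∀ j, 1 ≤ j → j ≤ e →
      CAlgX.detIdeal (A (j - 1)) = ⊤ ∨
        ∃ rs : List R, rs.length = j ∧ (∀ r ∈ rs, r ∈ CAlgX.detIdeal (A (j - 1))) ∧
          RingTheory.Sequence.IsRegular R rs) :
    LinearMap.ker (A (e - 1)).mulVecLin = ⊥ ∧
      ∀ i, i + 2 ≤ e → LinearMap.ker (A i).mulVecLin = LinearMap.range (A (i + 1)).mulVecLin := by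
  classical
  obtain ⟨k, rfl⟩ : ∃ k, e = k + 1 := ⟨e - 1, by omega⟩
  have hyp : BEHyp R k n A (fun i => matrixRank (A i)) := by
    refine ⟨fun i hi => hA i (by omega), fun i hi => ?_, fun i hi => ?_⟩
    · have h1 := hrank (i + 1) (by omega) (by omega)
      have h2 := hrank (i + 2) (by omega) (by omega)
      rw [alt_sum_succ _ _ _ (by omega)] at h1
      change (matrixRank (A i) : ℤ) = _ at h1
      change (matrixRank (A (i + 1)) : ℤ) = _ at h2
      rw [← h2] at h1
      change matrixRank (A i) + matrixRank (A (i + 1)) = n (i + 1)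
      omega
    · rcases hdet (i + 1) (by omega) (by omega) with h | ⟨rs, hlen, hmem, hreg⟩
      · refine ⟨List.replicate (i + 1) 1, List.length_replicate, fun x _ => ?_,
          isWeaklyRegular_replicate_one _⟩
        change x ∈ detIdeal (A i)
        change detIdeal (A i) = ⊤ at h
        rw [h]
        trivial
      · exact ⟨rs, hlen, hmem, hreg.toIsWeaklyRegular⟩
  have hcard : Fintype.card (Fin (n (k + 1))) = matrixRank (A k) := by
    have h1 := hrank (k + 1) (by omega) le_rfl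
    rw [Finset.Icc_self, Finset.sum_singleton, Nat.sub_self, pow_zero, one_mul] at h1
    change (matrixRank (A k) : ℤ) = _ at h1
    rw [Fintype.card_fin]
    omega
  obtain ⟨r1, r2⟩ := BE5.main k R n A (fun i => matrixRank (A i)) hyp (Fin (n (k + 1))) (A k) hcard
    ⟨1, (Matrix.mul_one _).symm⟩ ⟨1, (Matrix.mul_one _).symm⟩
  exact ⟨r1, fun i hi => r2 i (by omega)⟩

end Groth.Agent.Lib.helper11.BE6
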