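import Mathlib
import Groth.Agent.Lib.helper11.BE6
import Groth.Agent.Lib.helper11.BE13

/-!
# Buchsbaum–Eisenbud exactness criterion over a Noetherian local ring (helper11)
-/

set_option autoImplicit false

namespace Groth.Agent.Lib.helper11.BE14

open CAlgX Matrix RingTheory.Sequence Pointwise
open Groth.Agent.Lib.helper11.BE1 Groth.Agent.Lib.helper11.BE6 Groth.Agent.Lib.helper11.BE12
  Groth.Agent.Lib.helper11.BE13

universe u

variable {R : Type u} [CommRing R]

theorem matrixRank_eq {m n : Type} [Fintype m] [Fintype n] (A : Matrix m n R) (r : ℕ)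
    (h1 : minorIdeal A r ≠ ⊥) (h2 : ∀ t, r < t → minorIdeal A t = ⊥) : matrixRank A = r := by
  unfold matrixRank
  apply IsGreatest.csSup_eq
  refine ⟨h1, fun t ht => ?_⟩
  by_contra hlt
  exact ht (h2 t (by omega))

theorem alt_sum_eq (n : ℕ → ℕ) (k : ℕ) (τ : ℕ → ℕ) (hτk : τ k = n (k + 1))
    (hτ : ∀ i, i < k → τ i + τ (i + 1) = n (i + 1)) :
    ∀ j, 1 ≤ j → j ≤ k + 1 →
      (τ (j - 1) : ℤ) = ∑ t ∈ Finset.Icc j (k + 1), (-1 : ℤ) ^ (t - j) * (n t : ℤ) := by
  have key : ∀ d j, 1 ≤ j → j + d = k + 1 →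
      (τ (j - 1) : ℤ) = ∑ t ∈ Finset.Icc j (k + 1), (-1 : ℤ) ^ (t - j) * (n t : ℤ) := by
    intro d
    induction d with
    | zero =>
      intro j _ hj
      have : j = k + 1 := by omega
      subst this
      rw [Finset.Icc_self, Finset.sum_singleton, Nat.sub_self, pow_zero, one_mul]
      change (τ k : ℤ) = _
      rw [hτk]
    | succ d ih =>
      intro j hj1 hj
      rw [alt_sum_succ (fun t => (n t : ℤ)) j (k + 1) (by omega), ← ih (j + 1) (by omega) (by omega)]
      have h1 := hτ (j - 1) (by omega)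
      have h2 : j - 1 + 1 = j := by omega
      rw [h2] at h1
      change (τ (j - 1) : ℤ) = (n j : ℤ) - (τ j : ℤ)
      omega
  intro j hj1 hj2
  exact key (k + 1 - j) j hj1 (by omega)

theorem main [IsLocalRing R] [IsNoetherianRing R]
    (e : ℕ) (he : 1 ≤ e) (n : ℕ → ℕ) (A : (i : ℕ) → Matrix (Fin (n i)) (Fin (n (i + 1))) R)
    (hA : ∀ i, i + 2 ≤ e → A i * A (i + 1) = 0) :
    (LinearMap.ker (A (e - 1)).mulVecLin = ⊥ ∧
        ∀ i, i + 2 ≤ e → LinearMap.ker (A i).mulVecLin = LinearMap.range (A (i + 1)).mulVecLin) ↔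
      ∀ j, 1 ≤ j → j ≤ e →
        (CAlgX.matrixRank (A (j - 1)) : ℤ) = ∑ t ∈ Finset.Icc j e, (-1 : ℤ) ^ (t - j) * (n t : ℤ) ∧
          (CAlgX.detIdeal (A (j - 1)) = ⊤ ∨
            ∃ rs : List R, rs.length = j ∧ (∀ r ∈ rs, r ∈ CAlgX.detIdeal (A (j - 1))) ∧
              RingTheory.Sequence.IsRegular R rs) := by
  constructor
  · rintro ⟨hinj, hex⟩
    obtain ⟨k, rfl⟩ : ∃ k, e = k + 1 := ⟨e - 1, by omega⟩
    have hcx : ∀ i, i < k → A i * A (i + 1) = 0 := fun i hi => hA i (by omega)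
    have hinj' : LinearMap.ker (A k).mulVecLin = ⊥ := hinj
    have hex' : ∀ i, i < k →
        LinearMap.ker (A i).mulVecLin = LinearMap.range (A (i + 1)).mulVecLin :=
      fun i hi => hex i (by omega)
    obtain ⟨τ, hτk, hτ, hτr⟩ := ranks k n A hcx hinj' hex'
    have hrank : ∀ i, i ≤ k → matrixRank (A i) = τ i := fun i hi =>
      matrixRank_eq (A i) (τ i) (hτr i hi).1 (hτr i hi).2
    intro j hj1 hj2
    have hjk : j - 1 ≤ k := by omega
    refine ⟨?_, ?_⟩
    · rw [hrank (j - 1) hjk]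
      exact alt_sum_eq n k τ hτk hτ j hj1 hj2
    · have hdet : detIdeal (A (j - 1)) = minorIdeal (A (j - 1)) (τ (j - 1)) := by
        unfold detIdeal
        rw [hrank (j - 1) hjk]
      rw [hdet]
      by_cases htop : minorIdeal (A (j - 1)) (τ (j - 1)) = ⊤
      · exact Or.inl htop
      · right
        obtain ⟨rs, hlen, hmem, hreg⟩ := grade k n A hcx hinj' hex' τ hτk hτ (j - 1) hjk htop
          (j - 1 + 1) le_rfl
        refine ⟨rs, by rw [hlen]; omega, hmem, ?_⟩
        rw [IsLocalRing.isRegular_iff_isWeaklyRegular_of_subset_maximalIdeal]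
        · exact hreg
        · intro r hr
          exact IsLocalRing.le_maximalIdeal htop (hmem r hr)
  · intro h
    exact BE6.main e he n A hA (fun j hj1 hj2 => (h j hj1 hj2).1) (fun j hj1 hj2 => (h j hj1 hj2).2)

end Groth.Agent.Lib.helper11.BE14
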