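import Mathlib
import Groth.Agent.Lib.Helper21.Rigid8
import Groth.Agent.Lib.helper11.H0Geom

set_option autoImplicit false
set_option backward.isDefEq.respectTransparency.types false
set_option linter.style.haveILetI false
universe u
open AlgebraicGeometry CategoryTheory CategoryTheory.Limits TopologicalSpace

namespace Groth.Agent.Lib.helper11.RigidGen

open Groth.Agent.Lib.Helper21.Rigid

variable {X S Y B : Scheme.{u}}

/-- **Closedness of the collapsed locus** for a flat, locally finitely presented, surjective `ξ`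
and a separated target, given a factorization over the (open) collapsed locus. -/
theorem isClosed_collapsed_gen (ξ : X ⟶ S) [Flat ξ] [LocallyOfFinitePresentation ξ]
    (hsurj : Function.Surjective ξ) (π : S ⟶ B) (v : Y ⟶ B) [IsSeparated v] (f : X ⟶ Y)
    (hf : f ≫ v = ξ ≫ π)
    (U : S.Opens) (hU : (U : Set S) = collapsed ξ f)
    (r : (U : Scheme.{u}) ⟶ Y) (hr : (ξ ⁻¹ᵁ U).ι ≫ f = (ξ ∣_ U) ≫ r) :
    IsClosed (collapsed ξ f) := by
  let p₁ := pullback.fst ξ ξ
  let p₂ := pullback.snd ξ ξ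
  let q := p₁ ≫ ξ
  let a := p₁ ≫ f
  let b := p₂ ≫ f
  have hcond : p₁ ≫ ξ = p₂ ≫ ξ := pullback.condition
  have hab : a ≫ v = b ≫ v := by
    show (p₁ ≫ f) ≫ v = (p₂ ≫ f) ≫ v
    rw [Category.assoc, Category.assoc, hf, ← Category.assoc, hcond, Category.assoc]
  let ab : pullback ξ ξ ⟶ pullback v v := pullback.lift a b hab
  let Δ := pullback.diagonal v
  let C : Set ↥(pullback ξ ξ) := ab ⁻¹' (Set.range Δ)
  have hC : IsClosed C := Δ.isClosedEmbedding.isClosed_range.preimage ab.continuous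
  have hq : IsOpenMap q := q.isOpenMap
  have hcompl : (collapsed ξ f)ᶜ = q '' Cᶜ := by
    ext s
    constructor
    · intro hs
      obtain ⟨x₀, hx₀⟩ := hsurj s
      have hex : ∃ x : X, ξ x = s ∧ f x ≠ f x₀ := by
        by_contra hne
        push Not at hne
        exact hs ⟨f x₀, hne⟩
      obtain ⟨x, hx, hfx⟩ := hex
      obtain ⟨z, hz1, hz2⟩ := Scheme.Pullback.exists_preimage_pullback x₀ x (hx₀.trans hx.symm)
      refine ⟨z, ?_, ?_⟩
      · rintro ⟨y, hy⟩
        have h1 : (ab ≫ pullback.fst v v) z = (Δ ≫ pullback.fst v v) y := by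
          rw [Scheme.Hom.comp_apply, Scheme.Hom.comp_apply]
          exact congrArg _ hy.symm
        have h2 : (ab ≫ pullback.snd v v) z = (Δ ≫ pullback.snd v v) y := by
          rw [Scheme.Hom.comp_apply, Scheme.Hom.comp_apply]
          exact congrArg _ hy.symm
        rw [pullback.lift_fst, pullback.diagonal_fst] at h1
        rw [pullback.lift_snd, pullback.diagonal_snd] at h2
        apply hfx
        have h3 : a z = f x₀ := by
          show (p₁ ≫ f) z = f x₀
          rw [Scheme.Hom.comp_apply]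
          exact congrArg _ hz1
        have h4 : b z = f x := by
          show (p₂ ≫ f) z = f x
          rw [Scheme.Hom.comp_apply]
          exact congrArg _ hz2
        rw [← h4, ← h3, h1, h2]
      · show (p₁ ≫ ξ) z = s
        rw [Scheme.Hom.comp_apply]
        exact (congrArg _ hz1).trans hx₀
    · rintro ⟨z, hzC, rfl⟩ hqz
      apply hzC
      rw [← hU] at hqz
      let O : (pullback ξ ξ).Opens := q ⁻¹ᵁ U
      have hzO : z ∈ O := hqz
      let j := O.ι
      have hr1 : ∀ w : ↥O, (j ≫ p₁) w ∈ Set.range (ξ ⁻¹ᵁ U).ι := by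
        intro w
        rw [Scheme.Opens.range_ι]
        show ξ ((j ≫ p₁) w) ∈ U
        rw [← Scheme.Hom.comp_apply, Category.assoc]
        exact w.2
      have hr2 : ∀ w : ↥O, (j ≫ p₂) w ∈ Set.range (ξ ⁻¹ᵁ U).ι := by
        intro w
        rw [Scheme.Opens.range_ι]
        show ξ ((j ≫ p₂) w) ∈ U
        rw [← Scheme.Hom.comp_apply, Category.assoc, ← hcond]
        exact w.2
      let l₁ := IsOpenImmersion.lift (ξ ⁻¹ᵁ U).ι (j ≫ p₁) (by rintro _ ⟨w, rfl⟩; exact hr1 w)
      let l₂ := IsOpenImmersion.lift (ξ ⁻¹ᵁ U).ι (j ≫ p₂) (by rintro _ ⟨w, rfl⟩; exact hr2 w)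
      have hl₁ : l₁ ≫ (ξ ⁻¹ᵁ U).ι = j ≫ p₁ := IsOpenImmersion.lift_fac _ _ _
      have hl₂ : l₂ ≫ (ξ ⁻¹ᵁ U).ι = j ≫ p₂ := IsOpenImmersion.lift_fac _ _ _
      have hll : l₁ ≫ (ξ ∣_ U) = l₂ ≫ (ξ ∣_ U) := by
        rw [← cancel_mono U.ι, Category.assoc, Category.assoc, morphismRestrict_ι,
          ← Category.assoc, ← Category.assoc, hl₁, hl₂, Category.assoc, Category.assoc, hcond]
      have hja : j ≫ a = j ≫ b := by
        show j ≫ p₁ ≫ f = j ≫ p₂ ≫ f
        rw [← Category.assoc, ← Category.assoc, ← hl₁, ← hl₂, Category.assoc, Category.assoc, hr,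
          ← Category.assoc, ← Category.assoc, hll]
      have hjab : j ≫ ab = (j ≫ a) ≫ Δ := by
        apply pullback.hom_ext
        · rw [Category.assoc, Category.assoc, pullback.lift_fst, pullback.diagonal_fst,
            Category.comp_id]
        · rw [Category.assoc, Category.assoc, pullback.lift_snd, pullback.diagonal_snd,
            Category.comp_id, hja]
      refine ⟨(j ≫ a) ⟨z, hzO⟩, ?_⟩
      have h5 := congrArg (fun φ : (O : Scheme.{u}) ⟶ pullback v v => φ ⟨z, hzO⟩) hjab
      simp only [Scheme.Hom.comp_apply] at h5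
      exact h5.symm
  have h1 : IsOpen (collapsed ξ f)ᶜ := by
    rw [hcompl]
    exact hq _ hC.isOpen_compl
  exact isOpen_compl_iff.1 h1


/-- `O_T = g_* O_X` for `g` proper flat lfp with geometrically reduced and connected fibres,
in the `LocBij` form. -/
theorem locBij_of_geometric (g : X ⟶ S) [IsProper g] [Flat g] [LocallyOfFinitePresentation g]
    [GeometricallyConnected g] [GeometricallyReduced g] : LocBij g := by
  apply locBij_of_isIso
  intro s
  refine ⟨⊤, trivial, fun V _ => ?_⟩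
  apply Groth.Agent.Lib.helper11.H0.isIso_app_of_geometric g
  intro K _ _ y
  exact ⟨GeometricallyReduced.geometrically_isReduced y _ _ (.of_hasPullback _ _),
    GeometricallyConnected.geometrically_connectedSpace y _ _ (.of_hasPullback _ _)⟩

/-- **Rigidity lemma** (Mumford GIT 6.1), clopen form, no Noetherian hypotheses. -/
theorem isClopen_collapsed (g : X ⟶ S) [IsProper g] [Flat g] [LocallyOfFinitePresentation g]
    [GeometricallyConnected g] [GeometricallyReduced g] (π : S ⟶ B) (v : Y ⟶ B) [IsSeparated v]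
    (f : X ⟶ Y) (hf : f ≫ v = g ≫ π) :
    IsClosed (collapsed g f) ∧ IsOpen (collapsed g f) := by
  have hcl : IsClosedMap g := g.isClosedMap
  have hbij : LocBij g := locBij_of_geometric g
  have hopen : IsOpen (collapsed g f) := isOpen_collapsed' g hcl hbij f
  let U : S.Opens := ⟨collapsed g f, hopen⟩
  obtain ⟨r, hr⟩ := exists_factor_on_collapsed g hcl hbij f U (le_refl _)
  exact ⟨isClosed_collapsed_gen g (hbij.surjective hcl) π v f hf U rfl r hr, hopen⟩

/-- **Rigidity lemma**: factorisation over the clopen collapsed locus. -/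
theorem rigidity (g : X ⟶ S) [IsProper g] [Flat g] [LocallyOfFinitePresentation g]
    [GeometricallyConnected g] [GeometricallyReduced g] (π : S ⟶ B) (v : Y ⟶ B) [IsSeparated v]
    (f : X ⟶ Y) (hf : f ≫ v = g ≫ π) :
    ∃ W : S.Opens, IsClosed (W : Set S) ∧ (W : Set S) = collapsed g f ∧
      ∃ k : (W : Scheme.{u}) ⟶ Y, (g ⁻¹ᵁ W).ι ≫ f = (g ∣_ W) ≫ k := by
  obtain ⟨hc, ho⟩ := isClopen_collapsed g π v f hf
  refine ⟨⟨collapsed g f, ho⟩, hc, rfl, ?_⟩
  exact exists_factor_on_collapsed g g.isClosedMap (locBij_of_geometric g) f _ (le_refl _)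

theorem mem_collapsed_of_subsingleton (g : X ⟶ S) [Surjective g] (f : X ⟶ Y) (t : S)
    (ht : (f '' (g ⁻¹' {t})).Subsingleton) : t ∈ collapsed g f := by
  obtain ⟨x₀, hx₀⟩ := g.surjective t
  refine ⟨f x₀, fun x hx => ?_⟩
  exact ht ⟨x, hx, rfl⟩ ⟨x₀, hx₀, rfl⟩


/-- **Rigidity lemma**, global form: if every fibre is collapsed, `f` factors through `g`. -/
theorem rigidity_global (g : X ⟶ S) [IsProper g] [Flat g] [LocallyOfFinitePresentation g]
    [GeometricallyConnected g] [GeometricallyReduced g] (f : X ⟶ Y)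
    (h : ∀ t : S, t ∈ collapsed g f) : ∃ k : S ⟶ Y, f = g ≫ k :=
  exists_factor_of_collapsed' g g.isClosedMap (locBij_of_geometric g) f h

/-- A clopen set of the source of a morphism with connected fibres containing the image of a
section is everything. -/
theorem eq_univ_of_isClopen_of_section {Z : Scheme.{u}} (h : Z ⟶ S) [GeometricallyConnected h]
    (σ : S ⟶ Z) (hσ : σ ≫ h = 𝟙 S) (W : Set Z) (hW : IsClopen W)
    (hσW : ∀ s : S, σ s ∈ W) : W = Set.univ := by
  ext z
  simp only [Set.mem_univ, iff_true]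
  have hconn := h.isConnected_preimage_singleton (h z)
  have hz : z ∈ h ⁻¹' {h z} := rfl
  have hσz : σ (h z) ∈ h ⁻¹' {h z} := by
    show h (σ (h z)) = h z
    rw [← Scheme.Hom.comp_apply, hσ]
    rfl
  have := hconn.isPreconnected.subset_isClopen hW ⟨σ (h z), hσz, hσW _⟩
  exact this hz


/-- **Rigidity lemma** with a section `σ`: over the clopen collapsed locus, `f = f ∘ σ ∘ g`. -/
theorem rigidity_section (g : X ⟶ S) [IsProper g] [Flat g] [LocallyOfFinitePresentation g]
    [GeometricallyConnected g] [GeometricallyReduced g] (π : S ⟶ B) (v : Y ⟶ B) [IsSeparated v]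
    (f : X ⟶ Y) (hf : f ≫ v = g ≫ π) (σ : S ⟶ X) (hσ : σ ≫ g = 𝟙 S) :
    ∃ W : S.Opens, IsClosed (W : Set S) ∧ (W : Set S) = collapsed g f ∧
      (g ⁻¹ᵁ W).ι ≫ f = (g ⁻¹ᵁ W).ι ≫ g ≫ σ ≫ f := by
  obtain ⟨W, hWc, hW, k, hk⟩ := rigidity g π v f hf
  refine ⟨W, hWc, hW, ?_⟩
  have hr : Set.range (W.ι ≫ σ) ⊆ Set.range (g ⁻¹ᵁ W).ι := by
    rintro _ ⟨w, rfl⟩
    rw [Scheme.Opens.range_ι]
    show g ((W.ι ≫ σ) w) ∈ W
    rw [← Scheme.Hom.comp_apply, Category.assoc, hσ, Category.comp_id]
    exact w.2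
  let e := IsOpenImmersion.lift (g ⁻¹ᵁ W).ι (W.ι ≫ σ) hr
  have he : e ≫ (g ⁻¹ᵁ W).ι = W.ι ≫ σ := IsOpenImmersion.lift_fac _ _ _
  have he2 : e ≫ (g ∣_ W) = 𝟙 _ := by
    rw [← cancel_mono W.ι, Category.assoc, morphismRestrict_ι, ← Category.assoc, he,
      Category.assoc, hσ, Category.comp_id, Category.id_comp]
  have hk2 : k = W.ι ≫ σ ≫ f := by
    calc k = (e ≫ (g ∣_ W)) ≫ k := by rw [he2, Category.id_comp]
      _ = e ≫ (g ⁻¹ᵁ W).ι ≫ f := by rw [Category.assoc, hk]
      _ = W.ι ≫ σ ≫ f := by rw [← Category.assoc, he, Category.assoc]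
  rw [hk, hk2, ← Category.assoc, morphismRestrict_ι, Category.assoc]

/-- A preconnected subset of a discrete subset is a subsingleton. -/
theorem subsingleton_of_isPreconnected_of_isDiscrete {α : Type*} [TopologicalSpace α]
    {s t : Set α} (hs : IsDiscrete s) (ht : IsPreconnected t) (hts : t ⊆ s) : t.Subsingleton := by
  haveI := hs.to_subtype
  let t' : Set s := Subtype.val ⁻¹' t
  have h1 : Subtype.val '' t' = t := by
    rw [Subtype.image_preimage_coe]
    exact Set.inter_eq_right.mpr hts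
  have h2 : IsPreconnected t' := by
    rw [← Topology.IsInducing.subtypeVal.isPreconnected_image, h1]
    exact ht
  intro x hx y hy
  have := h2.subsingleton (x := ⟨x, hts hx⟩) hx (y := ⟨y, hts hy⟩) hy
  exact congrArg Subtype.val this


/-- **Rigidity lemma** with a section, global form. -/
theorem rigidity_section_global (g : X ⟶ S) [IsProper g] [Flat g]
    [LocallyOfFinitePresentation g] [GeometricallyConnected g] [GeometricallyReduced g]
    (f : X ⟶ Y) (h : ∀ t : S, t ∈ collapsed g f) (σ : S ⟶ X) (hσ : σ ≫ g = 𝟙 S) :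
    f = g ≫ σ ≫ f := by
  obtain ⟨k, hk⟩ := rigidity_global g f h
  have hk2 : k = σ ≫ f := by
    rw [hk, ← Category.assoc, hσ, Category.id_comp]
  rw [← hk2]
  exact hk

end Groth.Agent.Lib.helper11.RigidGen
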