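import Mathlib
import Groth.Agent.Lib.helper11.RigidGen

/-!
# Rigidity in `Over S` and consequences for abelian schemes (helper11)
-/

set_option autoImplicit false
set_option backward.isDefEq.respectTransparency.types false
set_option linter.style.haveILetI false
universe u
open CategoryTheory CategoryTheory.Limits MonoidalCategory CartesianMonoidalCategory MonObj
  AlgebraicGeometry

namespace Groth.Agent.Lib.helper11.RigidOver

open Groth.Agent.Lib.Helper21.Rigid

variable {S : Scheme.{u}}

/-- Rigidity in `Over S`: a morphism `φ : X × Z ⟶ Y` which is constant on `X × σ` for a section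
`σ` of `Z` factors through the second projection. -/
theorem exists_eq_snd_comp (X Z Y : Over S) [IsProper X.hom] [Flat X.hom]
    [LocallyOfFinitePresentation X.hom] [GeometricallyReduced X.hom]
    [GeometricallyConnected X.hom] [GeometricallyConnected Z.hom] [IsSeparated Y.hom]
    (φ : X ⊗ Z ⟶ Y) (σ : 𝟙_ (Over S) ⟶ Z) (ρ : 𝟙_ (Over S) ⟶ Y)
    (h : lift (𝟙 X) (toUnit X ≫ σ) ≫ φ = toUnit X ≫ ρ) :
    ∃ ψ : Z ⟶ Y, φ = snd X Z ≫ ψ := by
  let g : (X ⊗ Z).left ⟶ Z.left := pullback.snd X.hom Z.hom
  haveI : IsProper g := MorphismProperty.pullback_snd (P := @IsProper) _ _ inferInstance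
  haveI : Flat g := MorphismProperty.pullback_snd (P := @Flat) _ _ inferInstance
  haveI : LocallyOfFinitePresentation g :=
    MorphismProperty.pullback_snd (P := @LocallyOfFinitePresentation) _ _ inferInstance
  haveI : GeometricallyReduced g :=
    MorphismProperty.pullback_snd (P := @GeometricallyReduced) _ _ inferInstance
  haveI : GeometricallyConnected g :=
    MorphismProperty.pullback_snd (P := @GeometricallyConnected) _ _ inferInstance
  have hφ : φ.left ≫ Y.hom = g ≫ Z.hom := by
    rw [Over.w φ]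
    exact pullback.condition
  obtain ⟨hc, ho⟩ := RigidGen.isClopen_collapsed g Z.hom Y.hom φ.left hφ
  have hσ : ∀ s : S, σ.left s ∈ collapsed g φ.left := by
    intro s
    refine mem_collapsed_of_factor g φ.left S σ.left ρ.left ?_ s
    have hw : pullback.fst g σ.left ≫ g = pullback.snd g σ.left ≫ σ.left := pullback.condition
    have hb : pullback.snd g σ.left =
        (pullback.fst g σ.left ≫ pullback.fst X.hom Z.hom) ≫ X.hom := by
      have h1 : σ.left ≫ Z.hom = 𝟙 S := Over.w σ
      calc pullback.snd g σ.left = pullback.snd g σ.left ≫ σ.left ≫ Z.hom := by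
            rw [h1]; exact (Category.comp_id _).symm
        _ = pullback.fst g σ.left ≫ g ≫ Z.hom := by rw [← Category.assoc, ← hw, Category.assoc]
        _ = (pullback.fst g σ.left ≫ pullback.fst X.hom Z.hom) ≫ X.hom := by
            rw [Category.assoc, ← pullback.condition]
    have ha : pullback.fst g σ.left = (pullback.fst g σ.left ≫ pullback.fst X.hom Z.hom) ≫
        (lift (𝟙 X) (toUnit X ≫ σ)).left := by
      apply pullback.hom_ext
      · rw [Category.assoc, Over.lift_left, pullback.lift_fst, Over.id_left]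
        exact (Category.comp_id _).symm
      · rw [Category.assoc, Over.lift_left, pullback.lift_snd, Over.comp_left, Over.toUnit_left,
          ← Category.assoc, ← hb]
        exact hw
    have h' := congrArg (fun t => t.left) h
    simp only [Over.comp_left, Over.toUnit_left] at h'
    rw [ha, Category.assoc, h', ← Category.assoc, ← hb]
  have huniv := RigidGen.eq_univ_of_isClopen_of_section Z.hom σ.left (Over.w σ) _ ⟨hc, ho⟩ hσ
  obtain ⟨k, hk⟩ := RigidGen.rigidity_global g φ.left (fun t => by rw [huniv]; trivial)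
  haveI : Epi g := Flat.epi_of_flat_of_surjective g
  have hkw : k ≫ Y.hom = Z.hom := by
    rw [← cancel_epi g, ← Category.assoc, ← hk, hφ]
  refine ⟨Over.homMk k hkw, ?_⟩
  ext1
  rw [Over.comp_left, Over.snd_left]
  exact hk


/-- A morphism of abelian schemes (target: any separated group scheme) preserving the unit section
is a homomorphism. -/
theorem isMonHom_of_one_comp (X Y : Over S) [GrpObj X] [IsProper X.hom] [Flat X.hom]
    [LocallyOfFinitePresentation X.hom] [GeometricallyReduced X.hom]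
    [GeometricallyConnected X.hom] [GrpObj Y] [IsSeparated Y.hom]
    (f : X ⟶ Y) (hf : η[X] ≫ f = η[Y]) : IsMonHom f := by
  let φ : X ⊗ X ⟶ Y := (μ[X] ≫ f) * (snd X X ≫ f)⁻¹ * (fst X X ≫ f)⁻¹
  have hone : (toUnit X ≫ η[X]) ≫ f = (1 : X ⟶ Y) := by
    rw [Category.assoc, hf]; rfl
  have h1 : lift (𝟙 X) (toUnit X ≫ η[X]) ≫ φ = toUnit X ≫ η[Y] := by
    show _ = (1 : X ⟶ Y)
    simp only [φ, MonObj.comp_mul, GrpObj.comp_inv]
    rw [lift_comp_one_right_assoc, lift_snd_assoc, lift_fst_assoc, hone, Category.id_comp]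
    simp
  have h2 : lift (toUnit X ≫ η[X]) (𝟙 X) ≫ φ = toUnit X ≫ η[Y] := by
    show _ = (1 : X ⟶ Y)
    simp only [φ, MonObj.comp_mul, GrpObj.comp_inv]
    rw [lift_comp_one_left_assoc, lift_snd_assoc, lift_fst_assoc, hone, Category.id_comp]
    simp
  obtain ⟨ψ, hψ⟩ := exists_eq_snd_comp X X Y φ η[X] η[Y] h1
  have hψ1 : ψ = 1 := by
    have h3 : lift (toUnit X ≫ η[X]) (𝟙 X) ≫ φ = ψ := by
      rw [hψ, lift_snd_assoc, Category.id_comp]
    rw [← h3, h2]; rfl
  have hφ1 : φ = 1 := by rw [hψ, hψ1, MonObj.comp_one]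
  have hmul : μ[X] ≫ f = (fst X X ≫ f) * (snd X X ≫ f) := by
    have h4 : (μ[X] ≫ f) * (snd X X ≫ f)⁻¹ * (fst X X ≫ f)⁻¹ = 1 := hφ1
    rw [mul_inv_eq_one, mul_inv_eq_iff_eq_mul] at h4
    exact h4
  refine ⟨hf, ?_⟩
  rw [hmul, Hom.mul_def]
  congr 1


/-- Abelian schemes are commutative. -/
theorem isCommMonObj (X : Over S) [GrpObj X] [IsProper X.hom] [Flat X.hom]
    [LocallyOfFinitePresentation X.hom] [GeometricallyReduced X.hom]
    [GeometricallyConnected X.hom] : IsCommMonObj X := by
  haveI : IsMonHom ι[X] := isMonHom_of_one_comp X X ι[X] GrpObj.one_inv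
  rw [isCommMonObj_iff_isMulCommutative]
  intro T
  refine ⟨⟨fun a b => ?_⟩⟩
  have h1 : ∀ a b : T ⟶ X, (a * b)⁻¹ = a⁻¹ * b⁻¹ := by
    intro a b
    simp only [Hom.inv_def]
    exact MonObj.mul_comp a b ι[X]
  have h2 := h1 a⁻¹ b⁻¹
  rw [mul_inv_rev, inv_inv, inv_inv] at h2
  exact h2.symm

/-- The group structure of an abelian scheme is determined by its unit section. -/
theorem grpObj_ext (X : Over S) [IsProper X.hom] [Flat X.hom]
    [LocallyOfFinitePresentation X.hom] [GeometricallyReduced X.hom]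
    [GeometricallyConnected X.hom] (h₁ h₂ : GrpObj X) (he : h₁.one = h₂.one) : h₁ = h₂ := by
  have hm : @IsMonHom _ _ _ X X h₁.toMonObj h₂.toMonObj (𝟙 X) :=
    @isMonHom_of_one_comp S X X h₁ _ _ _ _ _ h₂ _ (𝟙 X) (by rw [Category.comp_id]; exact he)
  have hmul := @IsMonHom.mul_hom _ _ _ X X h₁.toMonObj h₂.toMonObj (𝟙 X) hm
  apply GrpObj.ext
  apply MonObj.ext
  rw [Category.comp_id] at hmul
  rw [hmul]
  simp

end Groth.Agent.Lib.helper11.RigidOver
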