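import Mathlib
import Groth.Agent.Lib.helper11.RigidOver

/-!
# Rigidity consequences for homomorphisms of abelian schemes (helper11)
-/

set_option autoImplicit false
set_option backward.isDefEq.respectTransparency.types false
set_option linter.style.haveILetI false
universe u
open CategoryTheory CategoryTheory.Limits MonoidalCategory CartesianMonoidalCategory MonObj
  AlgebraicGeometry

namespace Groth.Agent.Lib.helper11.RigidOver

open Groth.Agent.Lib.Helper21.Rigid

variable {S : Scheme.{u}}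

/-- In a Hom-group, `j ≫ f = j ≫ g` iff `j ≫ (f * g⁻¹) = 1`. -/
theorem comp_eq_comp_iff {T X Y : Over S} [GrpObj Y] (j : T ⟶ X) (f g : X ⟶ Y) :
    j ≫ f = j ≫ g ↔ j ≫ (f * g⁻¹) = 1 := by
  rw [MonObj.comp_mul, GrpObj.comp_inv, mul_inv_eq_one]

theorem one_left {T Y : Over S} [GrpObj Y] : (1 : T ⟶ Y).left = T.hom ≫ η[Y].left := rfl

/-- Two homomorphisms from an abelian scheme to a separated group scheme which agree on a fibre
agree over a clopen neighbourhood. -/
theorem agree_on_clopen (X : Over S) [GrpObj X] [IsProper X.hom] [Flat X.hom]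
    [LocallyOfFinitePresentation X.hom] [GeometricallyReduced X.hom]
    [GeometricallyConnected X.hom] (Y : Over S) [GrpObj Y] [IsSeparated Y.hom]
    (f g : X ⟶ Y) [IsMonHom f] [IsMonHom g] (s : S)
    (hs : X.hom.fiberι s ≫ f.left = X.hom.fiberι s ≫ g.left) :
    ∃ W : S.Opens, IsClosed (W : Set S) ∧ s ∈ W ∧
      (X.hom ⁻¹ᵁ W).ι ≫ f.left = (X.hom ⁻¹ᵁ W).ι ≫ g.left := by
  let d : X ⟶ Y := f * g⁻¹
  -- the fibre at `s` is collapsed
  have hcol : s ∈ collapsed X.hom d.left := by
    apply mem_collapsed_of_fiber_factor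
    refine ⟨S.fromSpecResidueField s ≫ η[Y].left, ?_⟩
    let F : Over S := Over.mk (X.hom.fiberι s ≫ X.hom)
    let j : F ⟶ X := Over.homMk (X.hom.fiberι s) rfl
    have h1 : j ≫ f = j ≫ g := Over.OverMorphism.ext hs
    have h2 : j ≫ d = 1 := (comp_eq_comp_iff j f g).mp h1
    have h3 := congrArg (fun t => t.left) h2
    simp only [Over.comp_left, one_left] at h3
    rw [← Category.assoc]
    have h4 : X.hom.fiberToSpecResidueField s ≫ S.fromSpecResidueField s =
        X.hom.fiberι s ≫ X.hom := (pullback.condition).symm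
    rw [h4]
    exact h3
  have hηd : η[X].left ≫ d.left = η[Y].left := by
    have h1 : η[X] ≫ d = η[Y] := by
      show η[X] ≫ (f * g⁻¹) = _
      rw [MonObj.comp_mul, GrpObj.comp_inv, IsMonHom.one_hom, IsMonHom.one_hom, mul_inv_cancel,
        MonObj.one_eq_one]
    rw [← Over.comp_left, h1]
  obtain ⟨W, hWc, hW, hWd⟩ := RigidGen.rigidity_section X.hom (𝟙 S) Y.hom d.left
    (by rw [Over.w d, Category.comp_id]) η[X].left (Over.w η[X])
  refine ⟨W, hWc, ?_, ?_⟩
  · show s ∈ (W : Set S)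
    rw [hW]; exact hcol
  · let TW : Over S := Over.mk ((X.hom ⁻¹ᵁ W).ι ≫ X.hom)
    let jW : TW ⟶ X := Over.homMk (X.hom ⁻¹ᵁ W).ι rfl
    have h2 : jW ≫ d = 1 := by
      ext1
      rw [Over.comp_left, one_left]
      show (X.hom ⁻¹ᵁ W).ι ≫ d.left = ((X.hom ⁻¹ᵁ W).ι ≫ X.hom) ≫ η[Y].left
      rw [hWd, hηd, Category.assoc]
    have h1 : jW ≫ f = jW ≫ g := (comp_eq_comp_iff jW f g).mpr h2
    exact congrArg (fun t => t.left) h1


/-- Homomorphisms into the source of an isogeny are determined by their composite with it. -/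
theorem eq_of_comp_isogeny_eq (X Y Z : Over S) [GrpObj X] [GrpObj Y] [GrpObj Z]
    [IsProper Z.hom] [Flat Z.hom] [LocallyOfFinitePresentation Z.hom]
    [GeometricallyReduced Z.hom] [GeometricallyConnected Z.hom]
    (f : X ⟶ Y) [IsMonHom f] [LocallyQuasiFinite f.left]
    (h₁ h₂ : Z ⟶ X) [IsMonHom h₁] [IsMonHom h₂] (h : h₁ ≫ f = h₂ ≫ f) : h₁ = h₂ := by
  let d : Z ⟶ X := h₁ * h₂⁻¹
  have hdf : d ≫ f = 1 := by
    show (h₁ * h₂⁻¹) ≫ f = 1
    rw [MonObj.mul_comp, GrpObj.inv_comp, h, mul_inv_cancel]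
  have hηd : η[Z].left ≫ d.left = η[X].left := by
    have h1 : η[Z] ≫ d = η[X] := by
      show η[Z] ≫ (h₁ * h₂⁻¹) = _
      rw [MonObj.comp_mul, GrpObj.comp_inv, IsMonHom.one_hom, IsMonHom.one_hom, mul_inv_cancel,
        MonObj.one_eq_one]
    rw [← Over.comp_left, h1]
  have hσ : η[Z].left ≫ Z.hom = 𝟙 S := Over.w η[Z]
  have hcol : ∀ s : S, s ∈ collapsed Z.hom d.left := by
    intro s
    refine ⟨η[X].left s, fun z hz => ?_⟩
    have hdisc : _root_.IsDiscrete (f.left ⁻¹' {η[Y].left s}) := f.left.isDiscrete_preimage_singleton _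
    have hconn : _root_.IsPreconnected (d.left '' (Z.hom ⁻¹' {s})) :=
      ((Z.hom.isConnected_preimage_singleton s).image _
        d.left.continuous.continuousOn).isPreconnected
    have hsub : d.left '' (Z.hom ⁻¹' {s}) ⊆ f.left ⁻¹' {η[Y].left s} := by
      rintro _ ⟨z', hz', rfl⟩
      show f.left (d.left z') = η[Y].left s
      have h3 := congrArg (fun t => t.left) hdf
      simp only [Over.comp_left, one_left] at h3
      rw [← Scheme.Hom.comp_apply, h3, Scheme.Hom.comp_apply]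
      exact congrArg _ hz'
    have hss := RigidGen.subsingleton_of_isPreconnected_of_isDiscrete hdisc hconn hsub
    have hmem1 : d.left z ∈ d.left '' (Z.hom ⁻¹' {s}) := ⟨z, hz, rfl⟩
    have hmem2 : η[X].left s ∈ d.left '' (Z.hom ⁻¹' {s}) := by
      refine ⟨η[Z].left s, ?_, ?_⟩
      · show Z.hom (η[Z].left s) = s
        rw [← Scheme.Hom.comp_apply, hσ]
        rfl
      · rw [← Scheme.Hom.comp_apply, hηd]
    exact hss hmem1 hmem2
  have hd := RigidGen.rigidity_section_global Z.hom d.left hcol η[Z].left hσ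
  have hd1 : d = 1 := by
    ext1
    rw [one_left, hd, hηd]
  have : h₁ * h₂⁻¹ = 1 := hd1
  rwa [mul_inv_eq_one] at this

end Groth.Agent.Lib.helper11.RigidOver
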