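import Mathlib
import Groth.Agent.Lib.helper11.RigidOver2
import Groth.Agent.Lib.Helper4.SmoothRed

/-!
# More rigidity consequences (helper11)
-/

set_option autoImplicit false
set_option backward.isDefEq.respectTransparency.types false
set_option linter.style.haveILetI false
universe u
open CategoryTheory CategoryTheory.Limits MonoidalCategory CartesianMonoidalCategory MonObj
  AlgebraicGeometry

namespace Groth.Agent.Lib.helper11.RigidOver

open Groth.Agent.Lib.Helper21.Rigid

/-- smooth morphisms have geometrically reduced fibres -/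
theorem geometricallyReduced_of_smooth {X S : Scheme.{u}} (f : X ⟶ S) [Smooth f] :
    GeometricallyReduced f := by
  refine ⟨fun K _ y Z fst snd h => ?_⟩
  haveI : Smooth snd := MorphismProperty.of_isPullback (P := @Smooth) h inferInstance
  exact Groth.Agent.Lib.Helper4.SmoothRed.isReduced_of_smooth_to_field snd

/-- a morphism with geometrically connected fibres into a scheme quasi-finite over the base
collapses every fibre -/
theorem forall_mem_collapsed_of_locallyQuasiFinite {X S Y B : Scheme.{u}} (g : X ⟶ S)
    [GeometricallyConnected g] (π : S ⟶ B) (v : Y ⟶ B) [LocallyQuasiFinite v] (f : X ⟶ Y)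
    (hf : f ≫ v = g ≫ π) (t : S) : t ∈ collapsed g f := by
  obtain ⟨x₀, hx₀⟩ := g.surjective t
  refine ⟨f x₀, fun x hx => ?_⟩
  have hdisc : _root_.IsDiscrete (v ⁻¹' {π t}) := v.isDiscrete_preimage_singleton _
  have hconn : _root_.IsPreconnected (f '' (g ⁻¹' {t})) :=
    ((g.isConnected_preimage_singleton t).image _ f.continuous.continuousOn).isPreconnected
  have hsub : f '' (g ⁻¹' {t}) ⊆ v ⁻¹' {π t} := by
    rintro _ ⟨z, hz, rfl⟩
    show v (f z) = π t
    rw [← Scheme.Hom.comp_apply, hf, Scheme.Hom.comp_apply]
    exact congrArg _ hz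
  exact RigidGen.subsingleton_of_isPreconnected_of_isDiscrete hdisc hconn hsub
    ⟨x, hx, rfl⟩ ⟨x₀, hx₀, rfl⟩

variable {S : Scheme.{u}}

/-- every morphism from an abelian scheme to a quasi-finite `S`-scheme is constant -/
theorem bijective_toUnit_comp (A H : Over S) [GrpObj A] [IsProper A.hom] [Flat A.hom]
    [LocallyOfFinitePresentation A.hom] [GeometricallyReduced A.hom]
    [GeometricallyConnected A.hom] [LocallyQuasiFinite H.hom] :
    Function.Bijective fun s : (𝟙_ (Over S) ⟶ H) => toUnit A ≫ s := by
  constructor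
  · intro s s' h
    have h1 : η[A] ≫ toUnit A = 𝟙 _ := toUnit_unique _ _
    have := congrArg (fun t => η[A] ≫ t) h
    simpa only [← Category.assoc, h1, Category.id_comp] using this
  · intro ψ
    refine ⟨η[A] ≫ ψ, ?_⟩
    have hσ : η[A].left ≫ A.hom = 𝟙 S := Over.w η[A]
    have hcol := forall_mem_collapsed_of_locallyQuasiFinite A.hom (𝟙 S) H.hom ψ.left
      (by rw [Over.w ψ, Category.comp_id])
    have hd := RigidGen.rigidity_section_global A.hom ψ.left hcol η[A].left hσ
    ext1
    show A.hom ≫ η[A].left ≫ ψ.left = ψ.left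
    exact hd.symm


/-- homomorphisms from a group scheme with connected fibres to an étale separated group scheme
are trivial -/
theorem hom_eq_one_of_etale_separated (P X : Over S) [GrpObj P] [GrpObj X] [Etale X.hom]
    [IsSeparated X.hom] (hP : ∀ s : S, ConnectedSpace ↥(P.hom.fiber s))
    (f : P ⟶ X) [IsMonHom f] : f = 1 := by
  let e : S ⟶ X.left := η[X].left
  have he : e ≫ X.hom = 𝟙 S := Over.w η[X]
  haveI : Etale (e ≫ X.hom) := by rw [he]; infer_instance
  haveI : Etale e := Etale.of_comp e X.hom
  haveI : Mono e := mono_of_mono_fac he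
  haveI : IsOpenImmersion e := IsOpenImmersion.of_flat_of_mono e
  haveI : IsClosedImmersion e := by
    haveI : IsClosedImmersion (e ≫ X.hom) := by rw [he]; infer_instance
    exact IsClosedImmersion.of_comp e X.hom
  have hEo : IsOpen (Set.range e) := e.isOpenEmbedding.isOpen_range
  have hEc : IsClosed (Set.range e) := e.isClosedEmbedding.isClosed_range
  have hW : IsClopen (f.left ⁻¹' Set.range e) :=
    ⟨hEc.preimage f.left.continuous, hEo.preimage f.left.continuous⟩
  have hηf : η[P].left ≫ f.left = e := by
    rw [← Over.comp_left, IsMonHom.one_hom]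
  have hσ : η[P].left ≫ P.hom = 𝟙 S := Over.w η[P]
  have hall : ∀ p : P.left, f.left p ∈ Set.range e := by
    intro p
    have hconn : _root_.IsConnected (P.hom ⁻¹' {P.hom p}) := by
      rw [← P.hom.range_fiberι, ← Set.image_univ]
      haveI := hP (P.hom p)
      exact isConnected_univ.image _ (P.hom.fiberι _).continuous.continuousOn
    have h1 : η[P].left (P.hom p) ∈ P.hom ⁻¹' {P.hom p} := by
      show P.hom (η[P].left (P.hom p)) = P.hom p
      rw [← Scheme.Hom.comp_apply, hσ]
      rfl
    have h2 : η[P].left (P.hom p) ∈ f.left ⁻¹' Set.range e := by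
      refine ⟨P.hom p, ?_⟩
      have h3 : e (P.hom p) = (η[P].left ≫ f.left) (P.hom p) := by rw [hηf]
      exact h3.trans (Scheme.Hom.comp_apply _ _ _)
    exact hconn.isPreconnected.subset_isClopen hW ⟨_, h1, h2⟩ (show p ∈ P.hom ⁻¹' {P.hom p} from rfl)
  have hr : Set.range f.left ⊆ Set.range e := by
    rintro _ ⟨p, rfl⟩
    exact hall p
  let l := IsOpenImmersion.lift e f.left hr
  have hl : l ≫ e = f.left := IsOpenImmersion.lift_fac _ _ _
  have hl2 : l = P.hom := by
    have := congrArg (fun t => t ≫ X.hom) hl
    simp only [Category.assoc, he, Category.comp_id] at this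
    rw [this]
    exact Over.w f
  ext1
  rw [one_left, ← hl2]
  exact hl.symm

end Groth.Agent.Lib.helper11.RigidOver
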