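import Mathlib
import Groth.Agent.Lib.helper11.RigidOver
import Groth.Agent.Lib.helper11.RigidOver3
import Groth.Agent.Lib.Helper24.FixEtale.Conn

/-!
# No non-trivial biadditive maps between abelian schemes (scheme-level core) (helper11)
-/

set_option autoImplicit false
set_option backward.isDefEq.respectTransparency.types false
set_option linter.style.haveILetI false
universe u
open CategoryTheory CategoryTheory.Limits MonoidalCategory CartesianMonoidalCategory MonObj
  AlgebraicGeometry

namespace Groth.Agent.Lib.helper11.BiaddCore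

variable {S : Scheme.{u}}

/-- A morphism `X × Z ⟶ Y` trivial on both axes is trivial (rigidity). -/
theorem eq_one_of_axes (X Z Y : Over S) [GrpObj X] [GrpObj Z] [GrpObj Y]
    [IsProper X.hom] [Flat X.hom]
    [LocallyOfFinitePresentation X.hom] [GeometricallyReduced X.hom]
    [GeometricallyConnected X.hom] [GeometricallyConnected Z.hom] [IsSeparated Y.hom]
    (φ : X ⊗ Z ⟶ Y)
    (h1 : lift (𝟙 X) (1 : X ⟶ Z) ≫ φ = 1)
    (h2 : lift (1 : Z ⟶ X) (𝟙 Z) ≫ φ = 1) : φ = 1 := by
  obtain ⟨ψ, hψ⟩ := RigidOver.exists_eq_snd_comp X Z Y φ η[Z] η[Y] h1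
  have hψ1 : ψ = 1 := by
    have h3 : lift (1 : Z ⟶ X) (𝟙 Z) ≫ φ = ψ := by
      rw [hψ, lift_snd_assoc, Category.id_comp]
    rw [← h3, h2]
  rw [hψ, hψ1, MonObj.comp_one]

end Groth.Agent.Lib.helper11.BiaddCore
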