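import Mathlib
import Groth.Prelude.Def_CGrpSh2

/-!
# Morphisms `A ⟶ 𝓗om(B, C)` of sheaves of points and biadditive maps (helper11)
-/

set_option autoImplicit false
set_option backward.isDefEq.respectTransparency.types false
universe u
open CategoryTheory CategoryTheory.Limits MonoidalCategory CartesianMonoidalCategory MonObj
  AlgebraicGeometry Opposite

namespace Groth.Agent.Lib.helper11.BiaddSheaf
noncomputable section

variable {S : Scheme.{u}} (K : Precoverage Scheme.{u}) [(QuotSh.J K S).Subcanonical]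
variable {A B C : Over S} [GrpObj A] [IsCommMonObj A] [GrpObj B] [IsCommMonObj B]
  [GrpObj C] [IsCommMonObj C]

/-- a point of `G` over `T` as a section of `pts K G` -/
def sec {G : Over S} [GrpObj G] [IsCommMonObj G] {T : Over S} (a : T ⟶ G) :
    (CGrpSh.pts K G).obj.obj (op T) := ULift.up (Additive.ofMul a)

/-- the value of `ψ : B|_T ⟶ C|_T` at the point `y` of `B` over `U → T` -/
def ev {T : Over S} (ψ : (CGrpSh.pts K B).over T ⟶ (CGrpSh.pts K C).over T)
    (U : Over T) (y : U.left ⟶ B) : U.left ⟶ C :=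
  (ψ.hom.app (op U) (sec K y)).down.toMul

theorem ev_nat {T : Over S} (ψ : (CGrpSh.pts K B).over T ⟶ (CGrpSh.pts K C).over T)
    {U U' : Over T} (m : U' ⟶ U) (y : U.left ⟶ B) :
    ev K ψ U' (m.left ≫ y) = m.left ≫ ev K ψ U y := by
  have := congrFun (congrArg (fun k => (ConcreteCategory.hom k : _ → _)) (ψ.hom.naturality m.op))
    (sec K y)
  exact congrArg (fun x => x.down.toMul) this

theorem ev_one {T : Over S} (ψ : (CGrpSh.pts K B).over T ⟶ (CGrpSh.pts K C).over T)
    (U : Over T) : ev K ψ U 1 = 1 := by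
  have : ψ.hom.app (op U) 0 = 0 := map_zero (ψ.hom.app (op U)).hom
  exact congrArg (fun x => x.down.toMul) this

theorem ev_zero {T : Over S} (U : Over T) (y : U.left ⟶ B) :
    ev K (0 : (CGrpSh.pts K B).over T ⟶ (CGrpSh.pts K C).over T) U y = 1 := rfl

theorem eq_zero_of_ev {T : Over S} (ψ : (CGrpSh.pts K B).over T ⟶ (CGrpSh.pts K C).over T)
    (h : ∀ (U : Over T) (y : U.left ⟶ B), ev K ψ U y = 1) : ψ = 0 := by
  refine Sheaf.hom_ext (NatTrans.ext (funext fun U => AddCommGrpCat.ext fun y => ?_))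
  have := h U.unop y.down.toMul
  apply ULift.ext
  exact congrArg Additive.ofMul this

variable (φ : (CGrpSh.pts K A) ⟶ HomSh.homSh (QuotSh.J K S) (CGrpSh.pts K B) (CGrpSh.pts K C))

/-- `φ` at the point `a` -/
def at_ {T : Over S} (a : T ⟶ A) : (CGrpSh.pts K B).over T ⟶ (CGrpSh.pts K C).over T :=
  φ.hom.app (op T) (sec K a)

theorem at_one {T : Over S} : at_ K φ (1 : T ⟶ A) = 0 :=
  map_zero (φ.hom.app (op T)).hom

/-- naturality of `φ` -/
theorem at_comp {T T' : Over S} (f : T' ⟶ T) (a : T ⟶ A) (U : Over T') (y : U.left ⟶ B) :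
    ev K (at_ K φ (f ≫ a)) U y = ev K (at_ K φ a) ((Over.map f).obj U) y := by
  have := congrFun (congrArg (fun k => (ConcreteCategory.hom k : _ → _)) (φ.hom.naturality f.op))
    (sec K a)
  have h2 : at_ K φ (f ≫ a) =
      ((QuotSh.J K S).overMapPullback AddCommGrpCat.{u+1} f).map (at_ K φ a) := this
  rw [h2]
  rfl

theorem eq_zero_of_at (h : ∀ (T : Over S) (a : T ⟶ A), at_ K φ a = 0) : φ = 0 := by
  refine Sheaf.hom_ext (NatTrans.ext (funext fun T => AddCommGrpCat.ext fun x => ?_))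
  exact h T.unop x.down.toMul

theorem main
    (hcore : ∀ β : A ⊗ B ⟶ C, lift (𝟙 A) (1 : A ⟶ B) ≫ β = 1 → lift (1 : B ⟶ A) (𝟙 B) ≫ β = 1 → β = 1) :
    φ = 0 := by
  -- the universal element
  let ψ := at_ K φ (𝟙 A)
  -- the bilinear map
  let W : Over A := Over.mk (fst A B)
  let β : A ⊗ B ⟶ C := ev K ψ W (snd A B)
  have h1 : lift (𝟙 A) (1 : A ⟶ B) ≫ β = 1 := by
    let m1 : Over.mk (𝟙 A) ⟶ W := Over.homMk (lift (𝟙 A) (1 : A ⟶ B)) (by simp [W])
    have := ev_nat K ψ m1 (snd A B)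
    have h3 : m1.left ≫ snd A B = 1 := by simp [m1]
    rw [h3, ev_one] at this
    exact this.symm
  have h2 : lift (1 : B ⟶ A) (𝟙 B) ≫ β = 1 := by
    let m2 : (Over.map (1 : B ⟶ A)).obj (Over.mk (𝟙 B)) ⟶ W :=
      Over.homMk (lift (1 : B ⟶ A) (𝟙 B)) (by simp [W])
    have := ev_nat K ψ m2 (snd A B)
    have h3 : m2.left ≫ snd A B = 𝟙 B := by simp [m2]
    rw [h3] at this
    have h4 := at_comp K φ (1 : B ⟶ A) (𝟙 A) (Over.mk (𝟙 B)) (𝟙 B)
    rw [Category.comp_id, at_one, ev_zero] at h4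
    exact (this.symm.trans h4.symm).symm ▸ rfl
  have hβ : β = 1 := hcore β h1 h2
  apply eq_zero_of_at
  intro T a
  apply eq_zero_of_ev
  intro U y
  have h5 := at_comp K φ a (𝟙 A) U y
  rw [Category.comp_id] at h5
  rw [h5]
  let m : (Over.map a).obj U ⟶ W := Over.homMk (lift (U.hom ≫ a) y) (by simp [W])
  have h6 := ev_nat K ψ m (snd A B)
  have h7 : m.left ≫ snd A B = y := by simp [m]
  rw [h7] at h6
  rw [h6]
  show _ ≫ β = 1
  rw [hβ, MonObj.comp_one]

end
end Groth.Agent.Lib.helper11.BiaddSheaf
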