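import Mathlib
import Groth.Prelude.Def_Biext

/-!
# Endomorphisms of a biextension and biadditive maps `P × Q → G` (helper11)
-/

set_option autoImplicit false
set_option backward.isDefEq.respectTransparency.types false
universe u
open CategoryTheory Opposite

namespace Groth.Agent.Lib.helper11.BiextEndo
noncomputable section

variable {C : Type (u + 1)} [Category.{u} C] (J : GrothendieckTopology C)
variable {P Q G : Sheaf J AddCommGrpCat.{u + 1}} (B : Biext J P Q G) (f : Biext.Hom J B B)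

theorem πP_f (T : C) (x : B.E.obj.obj (op T)) : B.πP T (f.map T x) = B.πP T x := f.πP_map T x
theorem πQ_f (T : C) (x : B.E.obj.obj (op T)) : B.πQ T (f.map T x) = B.πQ T x := f.πQ_map T x
theorem f_act (T : C) (g : G.obj.obj (op T)) (x : B.E.obj.obj (op T)) :
    f.map T (B.act T g x) = B.act T g (f.map T x) := f.map_act T g x

/-- the difference `f x - x ∈ G(T)` -/
def δ (T : C) (x : B.E.obj.obj (op T)) : G.obj.obj (op T) :=
  (B.existsUnique_act T x (f.map T x) (πP_f J B f T x).symm (πQ_f J B f T x).symm).choose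

theorem act_δ (T : C) (x : B.E.obj.obj (op T)) : B.act T (δ J B f T x) x = f.map T x :=
  (B.existsUnique_act T x (f.map T x) (πP_f J B f T x).symm (πQ_f J B f T x).symm).choose_spec.1

theorem δ_unique (T : C) (x : B.E.obj.obj (op T)) (g : G.obj.obj (op T))
    (h : B.act T g x = f.map T x) : g = δ J B f T x :=
  (B.existsUnique_act T x (f.map T x) (πP_f J B f T x).symm (πQ_f J B f T x).symm).choose_spec.2 g h

theorem δ_map {T T' : C} (m : T' ⟶ T) (x : B.E.obj.obj (op T)) :
    δ J B f T' (B.E.obj.map m.op x) = G.obj.map m.op (δ J B f T x) := by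
  symm
  apply δ_unique
  rw [← B.act_map, act_δ, f.map_res]

theorem δ_act (T : C) (g : G.obj.obj (op T)) (x : B.E.obj.obj (op T)) :
    δ J B f T (B.act T g x) = δ J B f T x := by
  symm
  apply δ_unique
  rw [← B.add_act, add_comm, B.add_act, act_δ, f_act]

theorem δ_fibre (T : C) (x y : B.E.obj.obj (op T)) (hP : B.πP T x = B.πP T y)
    (hQ : B.πQ T x = B.πQ T y) : δ J B f T x = δ J B f T y := by
  obtain ⟨g, hg, -⟩ := B.existsUnique_act T x y hP hQ
  rw [← hg, δ_act]

theorem add₁_congr (T : C) {x x' z z' : B.E.obj.obj (op T)} (hx : x = x') (hz : z = z')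
    (h : B.πQ T x = B.πQ T z) (h' : B.πQ T x' = B.πQ T z') :
    B.add₁ T x z h = B.add₁ T x' z' h' := by
  subst hx; subst hz; rfl

theorem add₂_congr (T : C) {x x' z z' : B.E.obj.obj (op T)} (hx : x = x') (hz : z = z')
    (h : B.πP T x = B.πP T z) (h' : B.πP T x' = B.πP T z') :
    B.add₂ T x z h = B.add₂ T x' z' h' := by
  subst hx; subst hz; rfl

theorem add₁_act' (T : C) (g : G.obj.obj (op T)) (x z : B.E.obj.obj (op T))
    (h : B.πQ T x = B.πQ T z) :
    B.add₁ T x (B.act T g z) (h.trans (B.πQ_act T g z).symm) = B.act T g (B.add₁ T x z h) := by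
  rw [B.add₁_comm, B.add₁_act T g z x h.symm, B.add₁_comm]

theorem add₂_act' (T : C) (g : G.obj.obj (op T)) (x z : B.E.obj.obj (op T))
    (h : B.πP T x = B.πP T z) :
    B.add₂ T x (B.act T g z) (h.trans (B.πP_act T g z).symm) = B.act T g (B.add₂ T x z h) := by
  rw [B.add₂_comm, B.add₂_act T g z x h.symm, B.add₂_comm]

theorem δ_add₁ (T : C) (x z : B.E.obj.obj (op T)) (h : B.πQ T x = B.πQ T z) :
    δ J B f T (B.add₁ T x z h) = δ J B f T x + δ J B f T z := by
  symm
  apply δ_unique
  rw [f.map_add₁, B.add_act]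
  rw [← add₁_act' J B T _ x z h, ← B.add₁_act]
  exact add₁_congr J B T (act_δ J B f T x) (act_δ J B f T z) _ _

theorem δ_add₂ (T : C) (x z : B.E.obj.obj (op T)) (h : B.πP T x = B.πP T z) :
    δ J B f T (B.add₂ T x z h) = δ J B f T x + δ J B f T z := by
  symm
  apply δ_unique
  rw [f.map_add₂, B.add_act]
  rw [← add₂_act' J B T _ x z h, ← B.add₂_act]
  exact add₂_congr J B T (act_δ J B f T x) (act_δ J B f T z) _ _

/-- `δ` vanishes over `(p, 0)` -/
theorem δ_eq_zero_of_πQ (T : C) (x : B.E.obj.obj (op T)) (h : B.πQ T x = 0) :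
    δ J B f T x = 0 := by
  have h1 := δ_add₂ J B f T x x rfl
  have h2 : δ J B f T (B.add₂ T x x rfl) = δ J B f T x := by
    apply δ_fibre
    · rw [B.πP_add₂]
    · rw [B.πQ_add₂, h, add_zero]
  rw [h2] at h1
  exact left_eq_add.mp h1

theorem δ_eq_zero_of_πP (T : C) (x : B.E.obj.obj (op T)) (h : B.πP T x = 0) :
    δ J B f T x = 0 := by
  have h1 := δ_add₁ J B f T x x rfl
  have h2 : δ J B f T (B.add₁ T x x rfl) = δ J B f T x := by
    apply δ_fibre
    · rw [B.πP_add₁, h, add_zero]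
    · rw [B.πQ_add₁]
  rw [h2] at h1
  exact left_eq_add.mp h1


/-! ### Gluing `δ` to a biadditive map `c : P × Q → G` -/

theorem isSheaf_G : Presieve.IsSheaf J (G.obj ⋙ forget AddCommGrpCat.{u + 1}) :=
  (isSheaf_iff_isSheaf_of_type J _).1 ((sheafCompose J (forget AddCommGrpCat.{u + 1})).obj G).property

theorem G_ext {T : C} (R : Sieve T) (hR : R ∈ J T) (a b : G.obj.obj (op T))
    (h : ∀ ⦃T' : C⦄ (m : T' ⟶ T), R m → G.obj.map m.op a = G.obj.map m.op b) : a = b :=
  ((isSheaf_G J (G := G)).isSeparated R hR).ext (fun _ m hm => h m hm)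

variable (T : C) (p : P.obj.obj (op T)) (q : Q.obj.obj (op T))

/-- the covering sieve over which `(p, q)` lifts -/
def cov : Sieve T := (B.locallySurjective T p q).choose

theorem cov_mem : cov J B T p q ∈ J T := (B.locallySurjective T p q).choose_spec.1

/-- a chosen lift -/
def lft {T' : C} (m : T' ⟶ T) (hm : cov J B T p q m) : B.E.obj.obj (op T') :=
  ((B.locallySurjective T p q).choose_spec.2 m hm).choose

theorem πP_lft {T' : C} (m : T' ⟶ T) (hm : cov J B T p q m) :
    B.πP T' (lft J B T p q m hm) = P.obj.map m.op p :=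
  ((B.locallySurjective T p q).choose_spec.2 m hm).choose_spec.1

theorem πQ_lft {T' : C} (m : T' ⟶ T) (hm : cov J B T p q m) :
    B.πQ T' (lft J B T p q m hm) = Q.obj.map m.op q :=
  ((B.locallySurjective T p q).choose_spec.2 m hm).choose_spec.2

theorem map_comp_apply' (F : Sheaf J AddCommGrpCat.{u + 1}) {T T' T'' : C} (n : T'' ⟶ T') (m : T' ⟶ T)
    (s : F.obj.obj (op T)) : F.obj.map n.op (F.obj.map m.op s) = F.obj.map (n ≫ m).op s := by
  rw [op_comp, F.obj.map_comp]
  rfl

/-- the local values of `δ` -/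
def fam : Presieve.FamilyOfElements (G.obj ⋙ forget AddCommGrpCat.{u + 1}) (cov J B T p q).arrows :=
  fun T' m hm => δ J B f T' (lft J B T p q m hm)

theorem fam_compatible : (fam J B f T p q).Compatible := by
  intro Y₁ Y₂ Z g₁ g₂ f₁ f₂ h₁ h₂ hc
  change G.obj.map g₁.op (δ J B f Y₁ (lft J B T p q f₁ h₁)) =
    G.obj.map g₂.op (δ J B f Y₂ (lft J B T p q f₂ h₂))
  rw [← δ_map, ← δ_map]
  apply δ_fibre
  · rw [B.πP_map, B.πP_map, πP_lft, πP_lft, map_comp_apply', map_comp_apply', hc]
  · rw [B.πQ_map, B.πQ_map, πQ_lft, πQ_lft, map_comp_apply', map_comp_apply', hc]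

/-- the glued value -/
def c : G.obj.obj (op T) :=
  (isSheaf_G J (G := G) (cov J B T p q) (cov_mem J B T p q)).amalgamate (fam J B f T p q)
    (fam_compatible J B f T p q)

theorem c_spec_cov {T' : C} (m : T' ⟶ T) (hm : cov J B T p q m) :
    G.obj.map m.op (c J B f T p q) = δ J B f T' (lft J B T p q m hm) :=
  (isSheaf_G J (G := G) (cov J B T p q) (cov_mem J B T p q)).valid_glue
    (fam_compatible J B f T p q) m hm

theorem c_spec {T' : C} (m : T' ⟶ T) (x : B.E.obj.obj (op T'))
    (hP : B.πP T' x = P.obj.map m.op p) (hQ : B.πQ T' x = Q.obj.map m.op q) :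
    δ J B f T' x = G.obj.map m.op (c J B f T p q) := by
  apply G_ext J ((cov J B T p q).pullback m) (J.pullback_stable m (cov_mem J B T p q))
  intro T'' n hn
  rw [map_comp_apply', c_spec_cov J B f T p q (n ≫ m) hn, ← δ_map]
  apply δ_fibre
  · rw [B.πP_map, hP, πP_lft, map_comp_apply']
  · rw [B.πQ_map, hQ, πQ_lft, map_comp_apply']

theorem map_id_apply' (F : Sheaf J AddCommGrpCat.{u + 1}) {T : C}
    (s : F.obj.obj (op T)) : F.obj.map (𝟙 T).op s = s := by
  rw [op_id, F.obj.map_id]
  rfl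

theorem f_eq_act (x : B.E.obj.obj (op T)) :
    f.map T x = B.act T (c J B f T (B.πP T x) (B.πQ T x)) x := by
  have := c_spec J B f T (B.πP T x) (B.πQ T x) (𝟙 T) x (map_id_apply' J P _).symm
    (map_id_apply' J Q _).symm
  rw [map_id_apply'] at this
  rw [← this, act_δ]

theorem c_zero_right : c J B f T p 0 = 0 := by
  apply G_ext J (cov J B T p 0) (cov_mem J B T p 0)
  intro T' m hm
  rw [c_spec_cov J B f T p 0 m hm, map_zero]
  apply δ_eq_zero_of_πQ
  rw [πQ_lft, map_zero]

theorem c_zero_left : c J B f T 0 q = 0 := by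
  apply G_ext J (cov J B T 0 q) (cov_mem J B T 0 q)
  intro T' m hm
  rw [c_spec_cov J B f T 0 q m hm, map_zero]
  apply δ_eq_zero_of_πP
  rw [πP_lft, map_zero]

theorem c_map {T' : C} (m : T' ⟶ T) :
    c J B f T' (P.obj.map m.op p) (Q.obj.map m.op q) = G.obj.map m.op (c J B f T p q) := by
  apply G_ext J (cov J B T' (P.obj.map m.op p) (Q.obj.map m.op q)) (cov_mem J B T' _ _)
  intro T'' n hn
  rw [c_spec_cov J B f T' _ _ n hn, map_comp_apply']
  apply c_spec
  · rw [πP_lft, map_comp_apply']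
  · rw [πQ_lft, map_comp_apply']

end
end Groth.Agent.Lib.helper11.BiextEndo
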