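import Mathlib
import Groth.Prelude.Def_Biext
import Groth.Prelude.Def_CGrpSh2
import Groth.Agent.Lib.helper11.BiextEndo
import Groth.Agent.Lib.helper11.BiaddSheaf

/-!
# Rigidity of biextensions of sheaves of points (helper11)
-/

set_option autoImplicit false
set_option backward.isDefEq.respectTransparency.types false
universe u
open CategoryTheory CategoryTheory.Limits MonoidalCategory CartesianMonoidalCategory MonObj
  AlgebraicGeometry Opposite

namespace Groth.Agent.Lib.helper11.BiextPts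
noncomputable section

open Groth.Agent.Lib.helper11.BiextEndo Groth.Agent.Lib.helper11.BiaddSheaf

variable {S : Scheme.{u}} (K : Precoverage Scheme.{u}) [(QuotSh.J K S).Subcanonical]
variable {A₁ A₂ A₃ : Over S} [GrpObj A₁] [IsCommMonObj A₁] [GrpObj A₂] [IsCommMonObj A₂]
  [GrpObj A₃] [IsCommMonObj A₃]
variable (B : Biext (QuotSh.J K S) (CGrpSh.pts K A₁) (CGrpSh.pts K A₂) (CGrpSh.pts K A₃))
  (f : Biext.Hom (QuotSh.J K S) B B)

theorem map_sec {G : Over S} [GrpObj G] [IsCommMonObj G] {T T' : Over S} (m : T' ⟶ T) (a : T ⟶ G) :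
    (CGrpSh.pts K G).obj.map m.op (sec K a) = sec K (m ≫ a) := rfl

theorem sec_one {G : Over S} [GrpObj G] [IsCommMonObj G] {T : Over S} :
    sec K (1 : T ⟶ G) = 0 := rfl

theorem sec_inj {G : Over S} [GrpObj G] [IsCommMonObj G] {T : Over S} {a b : T ⟶ G}
    (h : sec K a = sec K b) : a = b :=
  congrArg (fun x => x.down.toMul) h

theorem sec_down {G : Over S} [GrpObj G] [IsCommMonObj G] {T : Over S}
    (x : (CGrpSh.pts K G).obj.obj (op T)) : sec K (x.down.toMul) = x := rfl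

/-- the biadditive morphism attached to the endomorphism `f` -/
def β : A₁ ⊗ A₂ ⟶ A₃ :=
  (c (QuotSh.J K S) B f (A₁ ⊗ A₂) (sec K (fst A₁ A₂)) (sec K (snd A₁ A₂))).down.toMul

theorem c_sec {T : Over S} (a : T ⟶ A₁) (b : T ⟶ A₂) :
    c (QuotSh.J K S) B f T (sec K a) (sec K b) = sec K (lift a b ≫ β K B f) := by
  have := c_map (QuotSh.J K S) B f (A₁ ⊗ A₂) (sec K (fst A₁ A₂)) (sec K (snd A₁ A₂)) (lift a b)
  rw [map_sec, map_sec, lift_fst, lift_snd] at this
  rw [this]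
  rfl

theorem main
    (hcore : ∀ β : A₁ ⊗ A₂ ⟶ A₃, lift (𝟙 A₁) (1 : A₁ ⟶ A₂) ≫ β = 1 →
      lift (1 : A₂ ⟶ A₁) (𝟙 A₂) ≫ β = 1 → β = 1) :
    f = Biext.HomOver.id (QuotSh.J K S) B := by
  have h1 : lift (𝟙 A₁) (1 : A₁ ⟶ A₂) ≫ β K B f = 1 := by
    apply sec_inj K
    rw [← c_sec, sec_one, sec_one, c_zero_right]
  have h2 : lift (1 : A₂ ⟶ A₁) (𝟙 A₂) ≫ β K B f = 1 := by
    apply sec_inj K
    rw [← c_sec, sec_one, sec_one, c_zero_left]
  have hβ := hcore _ h1 h2
  apply Biext.HomOver.ext'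
  intro T x
  rw [f_eq_act]
  have := c_sec K B f (B.πP T x).down.toMul (B.πQ T x).down.toMul
  rw [sec_down, sec_down, hβ, MonObj.comp_one, sec_one] at this
  rw [this, B.zero_act]
  rfl

end
end Groth.Agent.Lib.helper11.BiextPts
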