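import Mathlib
import Groth.Agent.Lib.helper11.GorDualAnn
import Groth.Agent.Lib.helper11.DimChain

/-!
# `ht I + dim S/I = dim S` over a Gorenstein local ring, and the canonical module of a quotient
(helper11)
-/

set_option autoImplicit false

namespace Groth.Agent.Lib.helper11.GorDual

open CategoryTheory Opposite IsLocalRing

universe u

variable {S : Type u} [CommRing S] [hS : LocCoh.IsGorensteinLocalRing S]

theorem height_eq_of_prime (D : ℕ) (hD : ringKrullDim S = D) (Q : Ideal S) [hQ : Q.IsPrime]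
    (e : ℕ) (he : ringKrullDim (S ⧸ Q) = e) : e ≤ D ∧ Q.height = ((D - e : ℕ) : ℕ∞) := by
  obtain ⟨heD, h1⟩ := ringKrullDim_atPrime D hD Q e he
  refine ⟨heD, ?_⟩
  have h2 := IsLocalization.AtPrime.ringKrullDim_eq_height Q (Localization.AtPrime Q)
  rw [h1] at h2
  have h3 : ((Q.height : ℕ∞) : WithBot ℕ∞) = (((D - e : ℕ) : ℕ∞) : WithBot ℕ∞) := h2.symm
  exact WithBot.coe_injective h3

/-- `ht I + dim S/I = dim S`. -/
theorem height_add_dim_quotient (D : ℕ) (hD : ringKrullDim S = D) (I : Ideal S)
    (g d : ℕ) (hg : I.height = g) (hd : ringKrullDim (S ⧸ I) = d) : g + d = D := by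
  have hdD : d ≤ D := by
    have := ringKrullDim_quotient_le I
    rw [hd, hD] at this
    exact_mod_cast this
  have hle : g ≤ D - d := by
    obtain ⟨Q, hQ, hQd⟩ := DimChain.exists_minimalPrimes_dim_eq I d hd
    haveI := hQ.1.1
    obtain ⟨-, hQh⟩ := height_eq_of_prime D hD Q d hQd
    have := Ideal.height_mono hQ.1.2
    rw [hg, hQh] at this
    exact_mod_cast this
  have hge : D - d ≤ g := by
    have h1 : ((D - d : ℕ) : ℕ∞) ≤ I.height := by
      rw [Ideal.height_eq_inf_minimalPrimes]
      refine le_iInf₂ (fun Q hQ => ?_)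
      haveI := hQ.1.1
      obtain ⟨e, -, he⟩ := exists_dim_quotient D hD Q
      obtain ⟨heD, hQh⟩ := height_eq_of_prime D hD Q e he
      have hed : e ≤ d := by
        have := DimChain.ringKrullDim_quotient_mono hQ.1.2
        rw [he, hd] at this
        exact_mod_cast this
      rw [hQh]
      have : D - d ≤ D - e := by omega
      exact_mod_cast this
    rw [hg] at h1
    exact_mod_cast h1
  omega

/-- the canonical module of a quotient `S/I` of a Gorenstein local ring. -/
theorem nonempty_dual_ext_height_equiv (I : Ideal S) (g : ℕ) (hg : I.height = g) (d : ℕ)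
    (hd : ringKrullDim (S ⧸ I) = d) {H : Type u} [AddCommGroup H] [Module S H]
    {f : ResidueField S →ₗ[S] H} (hf : InjHull.IsInjectiveHull f) :
    Nonempty ((E S g (S ⧸ I) S →ₗ[S] H) ≃ₗ[S] LocCoh.H (maximalIdeal S) d (S ⧸ I)) := by
  obtain ⟨D, hD⟩ := exists_dim S
  have hsum := height_add_dim_quotient D hD I g d hg hd
  obtain ⟨e⟩ := nonempty_dual_equiv D hD hf (S ⧸ I) g (by omega)
  have h : D - g = d := by omega
  rw [h] at e
  exact ⟨e.symm⟩

end Groth.Agent.Lib.helper11.GorDual
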