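import Mathlib
import Groth.Agent.Lib.helper11.CanonIdeal
import Groth.Agent.Lib.helper11.CanonExplicit
import Groth.Agent.Lib.helper11.GorHeight
import Groth.Agent.Lib.helper11.ExtBridge
import Groth.Agent.Lib.helper11.ExtFinite
import Groth.Agent.S0299
import Groth.Agent.S0342

/-!
# `Ext^r_B(B/p, B)` for a Cohen–Macaulay quotient domain of a regular local ring (helper11)
-/

set_option autoImplicit false

namespace Groth.Agent.Lib.helper11.CanonIdeal

open CategoryTheory Opposite IsLocalRing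
open Groth.Agent.Lib.helper11

universe u

/-- the canonical module `Ext^r_B(B/p, B)` of a CM quotient domain `B/p` of a Gorenstein local
ring is isomorphic to an ideal of `B/p`, unmixed of height one if proper. -/
theorem ext_quotient_prime_equiv (B : Type u) [CommRing B] [hB : LocCoh.IsGorensteinLocalRing B]
    (p : Ideal B) [hp : p.IsPrime] [hCM : LocCoh.IsCohenMacaulayLocalRing (B ⧸ p)] (r : ℕ)
    (hr : p.height = r) :
    ∃ I : Ideal (B ⧸ p),
      (I ≠ ⊤ → ∀ q ∈ associatedPrimes (B ⧸ p) ((B ⧸ p) ⧸ I), q.height = 1) ∧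
      Nonempty (GorDual.E B r (B ⧸ p) B ≃ₗ[B] I) := by
  have hsurj : Function.Surjective (algebraMap B (B ⧸ p)) := Ideal.Quotient.mk_surjective
  obtain ⟨D, hD⟩ := GorDual.exists_dim B
  obtain ⟨d, hdD, hd⟩ := GorDual.exists_dim_quotient D hD p
  obtain ⟨-, hht⟩ := GorDual.height_eq_of_prime D hD p d hd
  have hrD : D - d = r := by
    rw [hr] at hht
    exact_mod_cast hht.symm
  -- the Ext module with its `B/p`-structure
  let X := GorDual.E B r (B ⧸ p) B
  let ι₀ : X ≃ₗ[B] Abelian.Ext (ModuleCat.of B (B ⧸ p)) (ModuleCat.of B B) (D - d) := by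
    rw [hrD]
    exact ExtBridge.extBridge (ModuleCat.of B (B ⧸ p)) (ModuleCat.of B B) r
  have hX : ∀ a ∈ RingHom.ker (algebraMap B (B ⧸ p)), ∀ x : X, a • x = 0 := by
    intro a ha x
    apply ι₀.injective
    rw [map_smul, map_zero]
    exact CanonExists.smul_ext_eq_zero_of_ker (R := B ⧸ p) (R' := B) (D - d) a ha (ι₀ x)
  letI : Module (B ⧸ p) X := CanonExists.descModule hsurj X hX
  haveI : IsScalarTower B (B ⧸ p) X := CanonExists.isScalarTower_desc hsurj X hX
  haveI : Module.Finite B (B ⧸ p) :=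
    Module.Finite.of_surjective (Algebra.linearMap B (B ⧸ p)) hsurj
  haveI : Module.Finite B (ModuleCat.of B B) := inferInstanceAs (Module.Finite B B)
  haveI : Module.Finite B
      (Abelian.Ext (ModuleCat.of B (B ⧸ p)) (ModuleCat.of B B) (D - d)) :=
    ExtFinite.ext_finite (ModuleCat.of B B) (D - d) (B ⧸ p)
  haveI : Module.Finite B X := Module.Finite.equiv ι₀.symm
  haveI : Module.Finite (B ⧸ p) X := Module.Finite.of_restrictScalars_finite B (B ⧸ p) X
  -- canonical module property
  obtain ⟨E, _, _, f, hf⟩ := Groth.Agent.S0299.result (B ⧸ p) (ResidueField (B ⧸ p))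
  obtain ⟨eK⟩ := CanonExplicit.nonempty_dual_equiv_of_equiv_ext hsurj
    hB.exists_hasInjectiveDimensionLT d hd D hD E f hf X ι₀
  obtain ⟨φ, hφ⟩ := exists_injective_linearMap hf d hd eK
  let e : X ≃ₗ[B ⧸ p] LinearMap.range φ := LinearEquiv.ofInjective φ hφ
  refine ⟨LinearMap.range φ, ?_, ⟨e.restrictScalars B⟩⟩
  intro hI q hq
  exact height_eq_one_of_mem_associatedPrimes hf d hd eK (LinearMap.range φ) e hI q hq

end Groth.Agent.Lib.helper11.CanonIdeal
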