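import Mathlib

/-!
# Unmixed height-one ideals of a local UFD are principal (helper11)
-/

set_option autoImplicit false

namespace Groth.Agent.Lib.helper11.UFDPrincipal

open IsLocalRing

universe u

variable {A : Type u} [CommRing A] [IsDomain A] [IsNoetherianRing A]
  [UniqueFactorizationMonoid A]

/-- a height one prime of a Noetherian UFD is generated by a prime element. -/
theorem exists_prime_span_eq (q : Ideal A) [hq : q.IsPrime] (hht : q.height = 1) :
    ∃ π : A, Prime π ∧ q = Ideal.span {π} := by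
  have hqne : q ≠ ⊥ := by
    rintro rfl
    have h0 : (⊥ : Ideal A).height = 0 := by
      rw [Ideal.height_eq_zero_iff, IsDomain.minimalPrimes_eq_singleton_bot]
      rfl
    rw [h0] at hht
    exact zero_ne_one hht
  obtain ⟨π, hπq, hπ⟩ := hq.exists_mem_prime_of_ne_bot hqne
  refine ⟨π, hπ, ?_⟩
  haveI hsp : (Ideal.span {π}).IsPrime := (Ideal.span_singleton_prime hπ.ne_zero).2 hπ
  have hle : Ideal.span {π} ≤ q := (Ideal.span_singleton_le_iff_mem _).2 hπq
  by_contra hne
  have hlt : Ideal.span {π} < q := lt_of_le_of_ne hle (Ne.symm hne)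
  have h1 := Ideal.height_strict_mono_of_isPrime_of_isPrime hlt
  rw [hht] at h1
  have h2 : (Ideal.span {π}).height = 0 := ENat.lt_one_iff_eq_zero.1 h1
  rw [Ideal.height_eq_zero_iff, IsDomain.minimalPrimes_eq_singleton_bot] at h2
  exact hπ.ne_zero (Ideal.span_singleton_eq_bot.1 h2)

variable [IsLocalRing A]

/-- ideals in a class closed under isomorphism, all of whose proper members are unmixed of
height one, are principal. -/
theorem exists_span_singleton_eq (P : Ideal A → Prop) (hP1 : ∀ J, P J → J ≠ ⊥)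
    (hP2 : ∀ J, P J → J ≠ ⊤ → ∀ q ∈ associatedPrimes A (A ⧸ J), q.height = 1)
    (hP3 : ∀ J J' : Ideal A, P J → Nonempty (J' ≃ₗ[A] J) → P J') :
    ∀ J, P J → ∃ g : A, J = Ideal.span {g} := by
  intro J
  induction J using WellFoundedGT.induction with
  | ind J ih =>
  intro hJ
  by_cases htop : J = ⊤
  · exact ⟨1, by rw [htop, Ideal.span_singleton_one]⟩
  haveI : Nontrivial (A ⧸ J) := Ideal.Quotient.nontrivial_iff.2 htop
  obtain ⟨q, hq⟩ := associatedPrimes.nonempty A (A ⧸ J)
  haveI hqp : q.IsPrime := hq.isPrime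
  have hht := hP2 J hJ htop q hq
  obtain ⟨π, hπ, hqπ⟩ := exists_prime_span_eq q hht
  have hJq : J ≤ Ideal.span {π} := by
    have := IsAssociatedPrime.annihilator_le hq
    rwa [Submodule.annihilator_top, Ideal.annihilator_quotient, hqπ] at this
  have hπm : π ∈ maximalIdeal A := by
    apply IsLocalRing.le_maximalIdeal hqp.ne_top
    rw [hqπ]
    exact Ideal.mem_span_singleton_self π
  let μ : A →ₗ[A] A := LinearMap.mul A A π
  let J' : Ideal A := Submodule.comap μ J
  have hmemJ' : ∀ x : A, x ∈ J' ↔ π * x ∈ J := fun x => Iff.rfl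
  have hJJ' : J ≤ J' := fun x hx => (hmemJ' x).2 (J.mul_mem_left π hx)
  have hdiv : ∀ y ∈ J, ∃ x ∈ J', y = π * x := by
    intro y hy
    obtain ⟨x, rfl⟩ := Ideal.mem_span_singleton'.1 (hJq hy)
    exact ⟨x, (hmemJ' x).2 (by rwa [mul_comm]), mul_comm x π⟩
  let ρ : J' →ₗ[A] J := μ.restrict (fun x hx => hx)
  have hρ : Function.Bijective ρ := by
    constructor
    · intro x y hxy
      have : π * (x : A) = π * (y : A) := congrArg Subtype.val hxy
      exact Subtype.ext (mul_left_cancel₀ hπ.ne_zero this)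
    · rintro ⟨y, hy⟩
      obtain ⟨x, hx, rfl⟩ := hdiv y hy
      exact ⟨⟨x, hx⟩, Subtype.ext rfl⟩
  have hPJ' : P J' := hP3 J J' hJ ⟨LinearEquiv.ofBijective ρ hρ⟩
  have hne : J ≠ J' := by
    intro heq
    apply hP1 J' hPJ'
    refine Submodule.eq_bot_of_le_smul_of_le_jacobson_bot (maximalIdeal A) J'
      (IsNoetherian.noetherian J') ?_ (IsLocalRing.maximalIdeal_le_jacobson _)
    intro y hy
    have hyJ : y ∈ J := heq ▸ hy
    obtain ⟨x, hx, rfl⟩ := hdiv y hyJ
    exact Submodule.smul_mem_smul hπm hx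
  obtain ⟨g, hg⟩ := ih J' (lt_of_le_of_ne hJJ' hne) hPJ'
  refine ⟨π * g, ?_⟩
  ext y
  constructor
  · intro hy
    obtain ⟨x, hx, rfl⟩ := hdiv y hy
    rw [hg] at hx
    obtain ⟨z, rfl⟩ := Ideal.mem_span_singleton'.1 hx
    rw [Ideal.mem_span_singleton']
    exact ⟨z, by ring⟩
  · intro hy
    obtain ⟨z, rfl⟩ := Ideal.mem_span_singleton'.1 hy
    have h1 : g ∈ J' := by
      rw [hg]
      exact Ideal.mem_span_singleton_self g
    have h2 : π * g ∈ J := (hmemJ' g).1 h1
    exact J.mul_mem_left z h2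

end Groth.Agent.Lib.helper11.UFDPrincipal
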