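import Mathlib
import Groth.Agent.Lib.helper11.CanonIdeal2
import Groth.Agent.Lib.helper11.UFDPrincipal
import Groth.Agent.S7701

/-!
# A Cohen–Macaulay factorial quotient of a Gorenstein local ring is Gorenstein (helper11)
-/

set_option autoImplicit false

namespace Groth.Agent.Lib.helper11.CanonIdeal

open CategoryTheory Opposite IsLocalRing
open Groth.Agent.Lib.helper11

universe u

theorem isGorensteinLocalRing_quotient_of_ufd (B : Type u) [CommRing B]
    [hB : LocCoh.IsGorensteinLocalRing B] (p : Ideal B) [hp : p.IsPrime]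
    [UniqueFactorizationMonoid (B ⧸ p)] [hCM : LocCoh.IsCohenMacaulayLocalRing (B ⧸ p)] :
    LocCoh.IsGorensteinLocalRing (B ⧸ p) := by
  have hsurj : Function.Surjective (algebraMap B (B ⧸ p)) := Ideal.Quotient.mk_surjective
  obtain ⟨D, hD⟩ := GorDual.exists_dim B
  obtain ⟨d, hdD, hd⟩ := GorDual.exists_dim_quotient D hD p
  -- the Ext module with its `B/p`-structure
  let X := Abelian.Ext (ModuleCat.of B (B ⧸ p)) (ModuleCat.of B B) (D - d)
  have hX : ∀ a ∈ RingHom.ker (algebraMap B (B ⧸ p)), ∀ x : X, a • x = 0 := fun a ha x =>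
    CanonExists.smul_ext_eq_zero_of_ker (R := B ⧸ p) (R' := B) (D - d) a ha x
  letI : Module (B ⧸ p) X := CanonExists.descModule hsurj X hX
  haveI : IsScalarTower B (B ⧸ p) X := CanonExists.isScalarTower_desc hsurj X hX
  haveI : Module.Finite B (B ⧸ p) :=
    Module.Finite.of_surjective (Algebra.linearMap B (B ⧸ p)) hsurj
  haveI : Module.Finite B (ModuleCat.of B B) := inferInstanceAs (Module.Finite B B)
  haveI : Module.Finite B X := ExtFinite.ext_finite (ModuleCat.of B B) (D - d) (B ⧸ p)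
  haveI : Module.Finite (B ⧸ p) X := Module.Finite.of_restrictScalars_finite B (B ⧸ p) X
  obtain ⟨E, _, _, f, hf⟩ := Groth.Agent.S0299.result (B ⧸ p) (ResidueField (B ⧸ p))
  obtain ⟨eK⟩ := CanonExplicit.nonempty_dual_equiv_of_equiv_ext hsurj
    hB.exists_hasInjectiveDimensionLT d hd D hD E f hf X (LinearEquiv.refl B X)
  obtain ⟨φ, hφ⟩ := exists_injective_linearMap hf d hd eK
  let I : Ideal (B ⧸ p) := LinearMap.range φ
  let e : X ≃ₗ[B ⧸ p] I := LinearEquiv.ofInjective φ hφ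
  let eKI : (I →ₗ[B ⧸ p] E) ≃ₗ[B ⧸ p] LocCoh.H (maximalIdeal (B ⧸ p)) d (B ⧸ p) :=
    (LinearEquiv.congrLeft E (B ⧸ p) e).symm.trans eK
  have hdepth := LocalDuality.depth_eq_of_CM (B ⧸ p) d hd
  obtain ⟨hInt, -, -⟩ := LocalDuality.canonMod_dim_depth hf d hd hdepth I eKI
  obtain ⟨g, hg⟩ := UFDPrincipal.exists_span_singleton_eq
    (fun J : Ideal (B ⧸ p) => Nonempty (I ≃ₗ[B ⧸ p] J))
    (by
      rintro J ⟨e'⟩ rfl
      obtain ⟨x, hx⟩ := exists_ne (0 : I)
      have h1 : (e' x : B ⧸ p) ∈ (⊥ : Ideal (B ⧸ p)) := (e' x).2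
      have h2 : e' x = 0 := Subtype.ext ((Submodule.mem_bot (B ⧸ p)).1 h1)
      exact hx (e'.injective (by rw [h2, map_zero])))
    (by
      rintro J ⟨e'⟩ hJ q hq
      exact height_eq_one_of_mem_associatedPrimes hf d hd eKI J e' hJ q hq)
    (by
      rintro J J' ⟨e'⟩ ⟨e''⟩
      exact ⟨e'.trans e''.symm⟩)
    I ⟨LinearEquiv.refl _ _⟩
  have hg0 : g ≠ 0 := by
    rintro rfl
    have hbot : I = ⊥ := by rw [hg]; exact Ideal.span_singleton_eq_bot.2 rfl
    have h1 : ∀ y ∈ I, y = 0 := fun y hy => by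
      rw [hbot] at hy
      exact (Submodule.mem_bot (B ⧸ p)).1 hy
    obtain ⟨x, hx⟩ := exists_ne (0 : I)
    exact hx (Subtype.ext (h1 x.1 x.2))
  let eAI : (B ⧸ p) ≃ₗ[B ⧸ p] I :=
    (LinearEquiv.toSpanNonzeroSingleton (B ⧸ p) (B ⧸ p) g hg0).trans
      (LinearEquiv.ofEq _ _ hg.symm)
  let eKA : ((B ⧸ p) →ₗ[B ⧸ p] E) ≃ₗ[B ⧸ p] LocCoh.H (maximalIdeal (B ⧸ p)) d (B ⧸ p) :=
    (LinearEquiv.congrLeft E (B ⧸ p) eAI).trans eKI
  exact (Groth.Agent.S7701.result (B ⧸ p) d hd E f hf (B ⧸ p) eKA).2 ⟨LinearEquiv.refl _ _⟩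

end Groth.Agent.Lib.helper11.CanonIdeal
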