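import Mathlib

/-!
# Point-set lemmas on shrinking coverings (helper11)
-/

set_option autoImplicit false
universe u

namespace Groth.Agent.Lib.helper11.CechRefine

open Set Topology

variable {X : Type u} [TopologicalSpace X]

/-- separating a point of `Z` from a compact subset of `Z` (relative Hausdorff property). -/
lemma exists_open_separating (Z : Set X)
    (hZsep : ∀ z ∈ Z, ∀ z' ∈ Z, z ≠ z' →
      ∃ A B : Set X, IsOpen A ∧ IsOpen B ∧ z ∈ A ∧ z' ∈ B ∧ Disjoint A B)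
    (z : X) (hz : z ∈ Z) (L : Set X) (hL : IsCompact L) (hLZ : L ⊆ Z) (hzL : z ∉ L) :
    ∃ N M : Set X, IsOpen N ∧ IsOpen M ∧ z ∈ N ∧ L ⊆ M ∧ Disjoint N M := by
  refine hL.induction_on
    (p := fun L' => ∃ N M : Set X, IsOpen N ∧ IsOpen M ∧ z ∈ N ∧ L' ⊆ M ∧ Disjoint N M)
    ?_ ?_ ?_ ?_
  · exact ⟨univ, ∅, isOpen_univ, isOpen_empty, mem_univ _, subset_rfl, disjoint_empty _⟩
  · rintro s t hst ⟨N, M, hN, hM, hzN, htM, hNM⟩
    exact ⟨N, M, hN, hM, hzN, hst.trans htM, hNM⟩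
  · rintro s t ⟨N₁, M₁, hN₁, hM₁, hzN₁, hsM₁, hNM₁⟩ ⟨N₂, M₂, hN₂, hM₂, hzN₂, htM₂, hNM₂⟩
    refine ⟨N₁ ∩ N₂, M₁ ∪ M₂, hN₁.inter hN₂, hM₁.union hM₂, ⟨hzN₁, hzN₂⟩,
      union_subset_union hsM₁ htM₂, ?_⟩
    rw [disjoint_union_right]
    exact ⟨hNM₁.mono_left inter_subset_left, hNM₂.mono_left inter_subset_right⟩
  · intro y hy
    have hne : z ≠ y := fun h => hzL (h ▸ hy)
    obtain ⟨A, B, hA, hB, hzA, hyB, hAB⟩ := hZsep z hz y (hLZ hy) hne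
    exact ⟨B, mem_nhdsWithin_of_mem_nhds (hB.mem_nhds hyB), A, B, hA, hB, hzA, subset_rfl, hAB⟩

/-- S7570. -/
theorem exists_opens_lifting_cover (Z : Set X) (hZ : IsCompact Z)
    (hZsep : ∀ z ∈ Z, ∀ z' ∈ Z, z ≠ z' →
      ∃ A B : Set X, IsOpen A ∧ IsOpen B ∧ z ∈ A ∧ z' ∈ B ∧ Disjoint A B)
    {ι : Type u} (U : ι → Set X) (hU : ∀ i, IsOpen (U i)) (hcov : Z ⊆ ⋃ i, U i) (p : ℕ)
    (W : (Fin (p + 1) → ι) → Set X) (hWo : ∀ t, IsOpen (W t))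
    (hWZ : ∀ t, W t ∩ Z = (⋂ l, U (t l)) ∩ Z) :
    ∃ V : ι → Set X, (∀ i, IsOpen (V i)) ∧ (Z ⊆ ⋃ i, V i) ∧ (∀ i, V i ⊆ U i) ∧
      (∀ i, closure (V i) ∩ Z ⊆ U i) ∧ (∀ t : Fin (p + 1) → ι, (⋂ l, V (t l)) ⊆ W t) ∧
      ∃ F : Finset ι, ∀ i, i ∉ F → V i = ∅ := by
  classical
  have stepA : ∀ z ∈ Z, ∀ i, z ∈ U i →
      ∃ N : Set X, IsOpen N ∧ z ∈ N ∧ N ⊆ U i ∧ closure N ∩ Z ⊆ U i := by
    intro z hz i hzi
    obtain ⟨N, M, hN, hM, hzN, hLM, hNM⟩ := exists_open_separating Z hZsep z hz (Z \ U i)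
      (hZ.diff (hU i)) diff_subset (fun h => h.2 hzi)
    refine ⟨N ∩ U i, hN.inter (hU i), ⟨hzN, hzi⟩, inter_subset_right, ?_⟩
    rintro x ⟨hxc, hxZ⟩
    by_contra hxU
    have hxM : x ∈ M := hLM ⟨hxZ, hxU⟩
    have hxN : x ∈ closure N := closure_mono inter_subset_left hxc
    obtain ⟨y, hyM, hyN⟩ := mem_closure_iff.mp hxN M hM hxM
    exact (Set.disjoint_left.mp hNM hyN) hyM
  have hchoice : ∀ z : Z, ∃ (i : ι) (N : Set X),
      IsOpen N ∧ (z : X) ∈ N ∧ N ⊆ U i ∧ closure N ∩ Z ⊆ U i := by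
    rintro ⟨z, hz⟩
    obtain ⟨i, hi⟩ := mem_iUnion.mp (hcov hz)
    obtain ⟨N, h⟩ := stepA z hz i hi
    exact ⟨i, N, h⟩
  choose idx N hNo hzN hNU hNcl using hchoice
  obtain ⟨T, hT⟩ := hZ.elim_finite_subcover (fun z : Z => N z) hNo
    (fun z hz => mem_iUnion.mpr ⟨⟨z, hz⟩, hzN _⟩)
  let V0 : ι → Set X := fun i => ⋃ z ∈ T.filter (fun z => idx z = i), N z
  have hV0o : ∀ i, IsOpen (V0 i) := fun i => isOpen_biUnion (fun z _ => hNo z)
  have hV0cov : Z ⊆ ⋃ i, V0 i := by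
    intro x hx
    obtain ⟨z, hz⟩ := mem_iUnion.mp (hT hx)
    obtain ⟨hzT, hxz⟩ := mem_iUnion.mp hz
    refine mem_iUnion.mpr ⟨idx z, mem_iUnion₂.mpr ⟨z, ?_, hxz⟩⟩
    exact Finset.mem_filter.mpr ⟨hzT, rfl⟩
  have hV0U : ∀ i, V0 i ⊆ U i := by
    intro i x hx
    obtain ⟨z, hz, hxz⟩ := mem_iUnion₂.mp hx
    have := (Finset.mem_filter.mp hz).2
    exact this ▸ hNU z hxz
  have hV0cl : ∀ i, closure (V0 i) ∩ Z ⊆ U i := by
    intro i
    have : closure (V0 i) = ⋃ z ∈ T.filter (fun z => idx z = i), closure (N z) :=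
      (T.filter (fun z => idx z = i)).finite_toSet.closure_biUnion _
    rw [this]
    rintro x ⟨hx, hxZ⟩
    obtain ⟨z, hz, hxz⟩ := mem_iUnion₂.mp hx
    have := (Finset.mem_filter.mp hz).2
    exact this ▸ hNcl z ⟨hxz, hxZ⟩
  let F : Finset ι := T.image idx
  have hV0empty : ∀ i, i ∉ F → V0 i = ∅ := by
    intro i hi
    rw [Set.eq_empty_iff_forall_notMem]
    intro x hx
    obtain ⟨z, hz, -⟩ := mem_iUnion₂.mp hx
    obtain ⟨hzT, hzi⟩ := Finset.mem_filter.mp hz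
    exact hi (Finset.mem_image.mpr ⟨z, hzT, hzi⟩)
  let tuples : Finset (Fin (p + 1) → ι) := Fintype.piFinset (fun _ => F)
  let C : Set X := ⋃ t ∈ tuples, closure ((⋂ l, V0 (t l)) \ W t)
  have hCclosed : IsClosed C := isClosed_biUnion_finset (fun t _ => isClosed_closure)
  have hCZ : ∀ x ∈ C, x ∉ Z := by
    intro x hx hxZ
    obtain ⟨t, -, hxt⟩ := mem_iUnion₂.mp hx
    have hxU : x ∈ ⋂ l, U (t l) := by
      refine mem_iInter.mpr fun l => hV0cl (t l) ⟨?_, hxZ⟩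
      refine closure_mono ?_ hxt
      exact diff_subset.trans (iInter_subset _ l)
    have hxW : x ∈ W t := by
      have : x ∈ W t ∩ Z := by
        rw [hWZ t]
        exact ⟨hxU, hxZ⟩
      exact this.1
    obtain ⟨y, hyW, hy⟩ := mem_closure_iff.mp hxt (W t) (hWo t) hxW
    exact hy.2 hyW
  refine ⟨fun i => V0 i \ C, fun i => (hV0o i).sdiff hCclosed, ?_, fun i => diff_subset.trans (hV0U i),
    fun i => ?_, fun t => ?_, F, fun i hi => ?_⟩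
  · intro x hx
    obtain ⟨i, hi⟩ := mem_iUnion.mp (hV0cov hx)
    exact mem_iUnion.mpr ⟨i, hi, fun hC => hCZ x hC hx⟩
  · exact (inter_subset_inter_left _ (closure_mono diff_subset)).trans (hV0cl i)
  · intro x hx
    have hx' : ∀ l, x ∈ V0 (t l) ∧ x ∉ C := fun l => mem_iInter.mp hx l
    by_cases ht : t ∈ tuples
    · by_contra hxW
      apply (hx' 0).2
      refine mem_iUnion₂.mpr ⟨t, ht, subset_closure ⟨mem_iInter.mpr fun l => (hx' l).1, hxW⟩⟩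
    · rw [Fintype.mem_piFinset] at ht
      push Not at ht
      obtain ⟨l, hl⟩ := ht
      have := hV0empty (t l) hl
      have h1 := (hx' l).1
      rw [this] at h1
      exact absurd h1 (Set.notMem_empty x)
  · change V0 i \ C = ∅
    rw [hV0empty i hi, empty_diff]

end Groth.Agent.Lib.helper11.CechRefine
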