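import Mathlib

/-!
# Additivity of `length A/(f h, g)` (helper11)
-/

set_option autoImplicit false

namespace Groth.Agent.Lib.helper11.LengthMulAdd

universe u

variable {A : Type u} [CommRing A]

/-- if `f` is a nonzerodivisor modulo `g` (in divisibility form), then
`length A/(fh, g) = length A/(f, g) + length A/(h, g)`. -/
theorem length_mul_add (f g h : A) (hreg : ∀ a : A, g ∣ f * a → g ∣ a) :
    Module.length A (A ⧸ Ideal.span ({f * h, g} : Set A)) =
      Module.length A (A ⧸ Ideal.span ({f, g} : Set A)) +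
        Module.length A (A ⧸ Ideal.span ({h, g} : Set A)) := by
  have hle1 : Ideal.span ({h, g} : Set A) ≤
      Submodule.comap (LinearMap.mulLeft A f) (Ideal.span ({f * h, g} : Set A)) := by
    rw [Ideal.span_le]
    rintro x (rfl | rfl)
    · show f * x ∈ Ideal.span ({f * x, g} : Set A)
      exact Ideal.subset_span (Set.mem_insert _ _)
    · show f * x ∈ Ideal.span ({f * h, x} : Set A)
      exact Ideal.mul_mem_left _ _ (Ideal.subset_span (Set.mem_insert_of_mem _ rfl))
  have hle2 : Ideal.span ({f * h, g} : Set A) ≤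
      Submodule.comap (LinearMap.id : A →ₗ[A] A) (Ideal.span ({f, g} : Set A)) := by
    rw [Ideal.span_le]
    rintro x (rfl | rfl)
    · exact Ideal.mul_mem_right _ _ (Ideal.subset_span (Set.mem_insert _ _))
    · exact Ideal.subset_span (Set.mem_insert_of_mem _ rfl)
  let ι : (A ⧸ Ideal.span ({h, g} : Set A)) →ₗ[A] (A ⧸ Ideal.span ({f * h, g} : Set A)) :=
    Submodule.mapQ _ _ (LinearMap.mulLeft A f) hle1
  let π : (A ⧸ Ideal.span ({f * h, g} : Set A)) →ₗ[A] (A ⧸ Ideal.span ({f, g} : Set A)) :=
    Submodule.mapQ _ _ LinearMap.id hle2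
  have hι : ∀ a : A, ι (Submodule.Quotient.mk a) = Submodule.Quotient.mk (f * a) := fun a => rfl
  have hπ : ∀ a : A, π (Submodule.Quotient.mk a) = Submodule.Quotient.mk a := fun a => rfl
  have hinj : Function.Injective ι := by
    rw [← LinearMap.ker_eq_bot, LinearMap.ker_eq_bot']
    intro x hx
    obtain ⟨a, rfl⟩ := Submodule.Quotient.mk_surjective _ x
    rw [hι, Submodule.Quotient.mk_eq_zero] at hx
    rw [Submodule.Quotient.mk_eq_zero]
    obtain ⟨b, c, hbc⟩ := Ideal.mem_span_pair.mp hx
    -- `f a = b f h + c g`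
    have h1 : g ∣ f * (a - b * h) := ⟨c, by linear_combination -hbc⟩
    obtain ⟨d, hd⟩ := hreg _ h1
    rw [Ideal.mem_span_pair]
    exact ⟨b, d, by linear_combination -hd⟩
  have hsurj : Function.Surjective π := by
    intro y
    obtain ⟨a, rfl⟩ := Submodule.Quotient.mk_surjective _ y
    exact ⟨Submodule.Quotient.mk a, hπ a⟩
  have hexact : Function.Exact ι π := by
    intro y
    obtain ⟨a, rfl⟩ := Submodule.Quotient.mk_surjective _ y
    rw [hπ, Submodule.Quotient.mk_eq_zero]
    constructor
    · intro ha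
      obtain ⟨b, c, hbc⟩ := Ideal.mem_span_pair.mp ha
      refine ⟨Submodule.Quotient.mk b, ?_⟩
      rw [hι, Submodule.Quotient.eq]
      rw [Ideal.mem_span_pair]
      exact ⟨0, -c, by linear_combination -hbc⟩
    · rintro ⟨x, hx⟩
      obtain ⟨b, rfl⟩ := Submodule.Quotient.mk_surjective _ x
      rw [hι, Submodule.Quotient.eq] at hx
      obtain ⟨c, d, hcd⟩ := Ideal.mem_span_pair.mp hx
      rw [Ideal.mem_span_pair]
      exact ⟨b - c * h, -d, by linear_combination -hcd⟩
  rw [Module.length_eq_add_of_exact ι π hinj hsurj hexact, add_comm]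

end Groth.Agent.Lib.helper11.LengthMulAdd
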