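import Mathlib
import Groth.Agent.Lib.helper11.LengthMulAdd

/-!
# The cokernel of `A/(∏ fᵢ) → ∏ A/(fᵢ)` for pairwise coprime `fᵢ` (helper11)
-/

set_option autoImplicit false

namespace Groth.Agent.Lib.helper11.CokerLen

universe u

section Abstract

variable {A : Type u} [CommRing A] {X Y Z W : Type u} [AddCommGroup X] [Module A X]
  [AddCommGroup Y] [Module A Y] [AddCommGroup Z] [Module A Z] [AddCommGroup W] [Module A W]

/-- cokernel lengths add along a composite of injections. -/
theorem length_coker_comp (α : X →ₗ[A] Y) (β : Y →ₗ[A] Z) (hβ : Function.Injective β) :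
    Module.length A (Z ⧸ LinearMap.range (β ∘ₗ α)) =
      Module.length A (Y ⧸ LinearMap.range α) + Module.length A (Z ⧸ LinearMap.range β) := by
  have h1 : LinearMap.range α ≤ Submodule.comap β (LinearMap.range (β ∘ₗ α)) := by
    rintro y ⟨x, rfl⟩
    exact ⟨x, rfl⟩
  have h2 : LinearMap.range (β ∘ₗ α) ≤
      Submodule.comap (LinearMap.id : Z →ₗ[A] Z) (LinearMap.range β) := by
    rintro z ⟨x, rfl⟩
    exact ⟨α x, rfl⟩
  let f : (Y ⧸ LinearMap.range α) →ₗ[A] (Z ⧸ LinearMap.range (β ∘ₗ α)) :=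
    Submodule.mapQ _ _ β h1
  let g : (Z ⧸ LinearMap.range (β ∘ₗ α)) →ₗ[A] (Z ⧸ LinearMap.range β) :=
    Submodule.mapQ _ _ LinearMap.id h2
  refine Module.length_eq_add_of_exact f g ?_ ?_ ?_
  · rw [← LinearMap.ker_eq_bot, LinearMap.ker_eq_bot']
    intro y hy
    obtain ⟨y, rfl⟩ := Submodule.mkQ_surjective _ y
    change Submodule.Quotient.mk (β y) = 0 at hy
    rw [Submodule.Quotient.mk_eq_zero] at hy
    obtain ⟨x, hx⟩ := hy
    have : y = α x := hβ hx.symm
    rw [this]
    exact (Submodule.Quotient.mk_eq_zero _).mpr ⟨x, rfl⟩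
  · intro z
    obtain ⟨z, rfl⟩ := Submodule.mkQ_surjective _ z
    exact ⟨Submodule.Quotient.mk z, rfl⟩
  · intro z
    obtain ⟨z, rfl⟩ := Submodule.mkQ_surjective _ z
    change Submodule.Quotient.mk z = 0 ↔ _
    rw [Submodule.Quotient.mk_eq_zero]
    constructor
    · rintro ⟨y, rfl⟩
      exact ⟨Submodule.Quotient.mk y, rfl⟩
    · rintro ⟨y, hy⟩
      obtain ⟨y, rfl⟩ := Submodule.mkQ_surjective _ y
      change Submodule.Quotient.mk (β y) = Submodule.Quotient.mk z at hy
      rw [Submodule.Quotient.eq] at hy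
      obtain ⟨x, hx⟩ := hy
      refine ⟨y - α x, ?_⟩
      rw [map_sub]
      change β (α x) = β y - z at hx
      rw [hx]
      abel

/-- the cokernel of `id × β`. -/
theorem length_coker_prodMap (β : Y →ₗ[A] Z) :
    Module.length A ((W × Z) ⧸ LinearMap.range (LinearMap.prodMap (LinearMap.id : W →ₗ[A] W) β)) =
      Module.length A (Z ⧸ LinearMap.range β) := by
  let χ : (W × Z) →ₗ[A] (Z ⧸ LinearMap.range β) := (LinearMap.range β).mkQ ∘ₗ LinearMap.snd A W Z
  have hχ : Function.Surjective χ := by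
    intro z
    obtain ⟨z, rfl⟩ := Submodule.mkQ_surjective _ z
    exact ⟨(0, z), rfl⟩
  have hker : LinearMap.ker χ = LinearMap.range (LinearMap.prodMap (LinearMap.id : W →ₗ[A] W) β) := by
    ext ⟨w, z⟩
    rw [LinearMap.mem_ker]
    change Submodule.Quotient.mk z = 0 ↔ _
    rw [Submodule.Quotient.mk_eq_zero]
    constructor
    · rintro ⟨y, rfl⟩
      exact ⟨(w, y), rfl⟩
    · rintro ⟨⟨w', y⟩, h⟩
      exact ⟨y, (Prod.ext_iff.mp h).2⟩
  exact ((Submodule.quotEquivOfEq _ _ hker.symm).trans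
    (χ.quotKerEquivOfSurjective hχ)).length_eq

/-- transporting a cokernel along an equivalence of the target. -/
theorem length_coker_equiv (α : X →ₗ[A] Y) (e : Y ≃ₗ[A] Z) :
    Module.length A (Z ⧸ LinearMap.range (e.toLinearMap ∘ₗ α)) =
      Module.length A (Y ⧸ LinearMap.range α) := by
  have h : (LinearMap.range α).map e.toLinearMap = LinearMap.range (e.toLinearMap ∘ₗ α) := by
    rw [LinearMap.range_comp]
  exact (Submodule.Quotient.equiv _ _ e h).symm.length_eq

end Abstract

section Two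

variable {A : Type u} [CommRing A]

/-- `A/(ag) → A/(a) × A/(g)`. -/
noncomputable def psi (a g : A) :
    (A ⧸ Ideal.span {a * g}) →ₗ[A] (A ⧸ Ideal.span {a}) × (A ⧸ Ideal.span {g}) :=
  LinearMap.prod
    (Submodule.mapQ (Ideal.span {a * g}) (Ideal.span {a}) LinearMap.id
      (Ideal.span_singleton_le_span_singleton.mpr (dvd_mul_right a g)))
    (Submodule.mapQ (Ideal.span {a * g}) (Ideal.span {g}) LinearMap.id
      (Ideal.span_singleton_le_span_singleton.mpr (dvd_mul_left g a)))

theorem psi_mk (a g x : A) :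
    psi a g (Submodule.Quotient.mk x) = (Submodule.Quotient.mk x, Submodule.Quotient.mk x) := rfl

theorem psi_injective (a g : A) (h : ∀ x : A, a ∣ x → g ∣ x → a * g ∣ x) :
    Function.Injective (psi a g) := by
  rw [← LinearMap.ker_eq_bot, LinearMap.ker_eq_bot']
  intro x hx
  obtain ⟨x, rfl⟩ := Submodule.mkQ_surjective _ x
  change psi a g (Submodule.Quotient.mk x) = 0 at hx
  rw [psi_mk, Prod.mk_eq_zero, Submodule.Quotient.mk_eq_zero, Submodule.Quotient.mk_eq_zero,
    Ideal.mem_span_singleton, Ideal.mem_span_singleton] at hx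
  exact (Submodule.Quotient.mk_eq_zero _).mpr (Ideal.mem_span_singleton.mpr (h x hx.1 hx.2))

/-- `coker (A/(ag) → A/(a) × A/(g)) ≃ A/(a, g)`. -/
theorem length_coker_psi (a g : A) :
    Module.length A (((A ⧸ Ideal.span {a}) × (A ⧸ Ideal.span {g})) ⧸ LinearMap.range (psi a g)) =
      Module.length A (A ⧸ Ideal.span ({a, g} : Set A)) := by
  have ha : Ideal.span {a} ≤ Submodule.comap (LinearMap.id : A →ₗ[A] A)
      (Ideal.span ({a, g} : Set A)) :=
    Ideal.span_mono (by simp)
  have hg : Ideal.span {g} ≤ Submodule.comap (LinearMap.id : A →ₗ[A] A)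
      (Ideal.span ({a, g} : Set A)) :=
    Ideal.span_mono (by simp)
  let χ : ((A ⧸ Ideal.span {a}) × (A ⧸ Ideal.span {g})) →ₗ[A] (A ⧸ Ideal.span ({a, g} : Set A)) :=
    (Submodule.mapQ _ _ LinearMap.id ha).coprod (-(Submodule.mapQ _ _ LinearMap.id hg))
  have hχmk : ∀ x y : A, χ (Submodule.Quotient.mk x, Submodule.Quotient.mk y) =
      Submodule.Quotient.mk (x - y) := by
    intro x y
    change (Submodule.Quotient.mk x : A ⧸ Ideal.span ({a, g} : Set A)) +
      -(Submodule.Quotient.mk y : A ⧸ Ideal.span ({a, g} : Set A)) = _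
    rw [← sub_eq_add_neg, ← Submodule.Quotient.mk_sub]
  have hχ : Function.Surjective χ := by
    intro z
    obtain ⟨z, rfl⟩ := Submodule.mkQ_surjective _ z
    refine ⟨((Submodule.Quotient.mk z : A ⧸ Ideal.span {a}),
      (Submodule.Quotient.mk (0 : A) : A ⧸ Ideal.span {g})), ?_⟩
    rw [hχmk, sub_zero]
    rfl
  have hker : LinearMap.ker χ = LinearMap.range (psi a g) := by
    ext ⟨x, y⟩
    obtain ⟨x, rfl⟩ := Submodule.mkQ_surjective _ x
    obtain ⟨y, rfl⟩ := Submodule.mkQ_surjective _ y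
    rw [LinearMap.mem_ker]
    change χ (Submodule.Quotient.mk x, Submodule.Quotient.mk y) = 0 ↔ _
    rw [hχmk, Submodule.Quotient.mk_eq_zero, Ideal.mem_span_pair]
    constructor
    · rintro ⟨u, v, huv⟩
      refine ⟨Submodule.Quotient.mk (x - u * a), ?_⟩
      rw [psi_mk, Prod.mk.injEq, Submodule.mkQ_apply, Submodule.mkQ_apply, Submodule.Quotient.eq,
        Submodule.Quotient.eq]
      constructor
      · rw [Ideal.mem_span_singleton]
        exact ⟨-u, by ring⟩
      · rw [Ideal.mem_span_singleton]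
        exact ⟨v, by linear_combination -huv⟩
    · rintro ⟨z, hz⟩
      obtain ⟨z, rfl⟩ := Submodule.mkQ_surjective _ z
      change psi a g (Submodule.Quotient.mk z) = _ at hz
      rw [psi_mk, Prod.mk.injEq, Submodule.mkQ_apply, Submodule.mkQ_apply, Submodule.Quotient.eq,
        Submodule.Quotient.eq, Ideal.mem_span_singleton, Ideal.mem_span_singleton] at hz
      obtain ⟨⟨u, hu⟩, ⟨v, hv⟩⟩ := hz
      exact ⟨-u, v, by linear_combination hu - hv⟩
  exact ((Submodule.quotEquivOfEq _ _ hker.symm).trans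
    (χ.quotKerEquivOfSurjective hχ)).length_eq

end Two

section Main

theorem sum_lt_succ {M : Type*} [AddCommMonoid M] (n : ℕ) (F : Fin (n + 1) → Fin (n + 1) → M) :
    ∑ p ∈ (Finset.univ : Finset (Fin (n + 1) × Fin (n + 1))) with p.1 < p.2, F p.1 p.2 =
      ∑ j : Fin n, F 0 j.succ +
        ∑ p ∈ (Finset.univ : Finset (Fin n × Fin n)) with p.1 < p.2, F p.1.succ p.2.succ := by
  rw [Finset.sum_filter, Finset.sum_filter, Fintype.sum_prod_type, Fintype.sum_prod_type,
    Fin.sum_univ_succ]
  congr 1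
  · rw [Fin.sum_univ_succ]
    simp
  · refine Finset.sum_congr rfl fun i _ => ?_
    rw [Fin.sum_univ_succ]
    simp

variable {A : Type u} [CommRing A]

/-- the canonical map `A/(∏ fᵢ) → ∏ A/(fᵢ)`. -/
noncomputable def phi {n : ℕ} (f : Fin n → A) :
    (A ⧸ Ideal.span {∏ i, f i}) →ₗ[A] ((i : Fin n) → A ⧸ Ideal.span {f i}) :=
  LinearMap.pi (fun i => Submodule.mapQ (Ideal.span {∏ i, f i}) (Ideal.span {f i}) LinearMap.id
    (Ideal.span_singleton_le_span_singleton.mpr (Finset.dvd_prod_of_mem f (Finset.mem_univ i))))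

theorem phi_mk {n : ℕ} (f : Fin n → A) (x : A) (i : Fin n) :
    phi f (Submodule.Quotient.mk x) i = Submodule.Quotient.mk x := rfl

/-- `length A/(a, ∏ hⱼ) = ∑ length A/(a, hⱼ)`. -/
theorem length_prod {ι : Type*} (s : Finset ι) (h : ι → A) (a : A)
    (hreg : ∀ j ∈ s, ∀ x : A, a ∣ h j * x → a ∣ x) :
    Module.length A (A ⧸ Ideal.span ({a, ∏ j ∈ s, h j} : Set A)) =
      ∑ j ∈ s, Module.length A (A ⧸ Ideal.span ({a, h j} : Set A)) := by
  classical
  induction s using Finset.induction_on with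
  | empty =>
    rw [Finset.prod_empty, Finset.sum_empty, Module.length_eq_zero_iff]
    have : Ideal.span ({a, 1} : Set A) = ⊤ :=
      Ideal.eq_top_of_isUnit_mem _ (Ideal.subset_span (by simp)) isUnit_one
    rw [this]
    infer_instance
  | insert j s hj ih =>
    rw [Finset.prod_insert hj, Finset.sum_insert hj, ← ih (fun j' hj' => hreg j' (Finset.mem_insert_of_mem hj')),
      Set.pair_comm a (h j * ∏ j ∈ s, h j), Set.pair_comm a (h j), Set.pair_comm a (∏ j ∈ s, h j)]
    exact LengthMulAdd.length_mul_add (h j) a (∏ j ∈ s, h j) (hreg j (Finset.mem_insert_self j s))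

variable [IsDomain A] [UniqueFactorizationMonoid A]

/-- the factorisation of `phi` for `n + 1` elements. -/
theorem phi_succ {n : ℕ} (f : Fin (n + 1) → A) (e : (A ⧸ Ideal.span {∏ i, f i}) ≃ₗ[A]
      (A ⧸ Ideal.span {f 0 * ∏ i : Fin n, f i.succ}))
    (he : ∀ x : A, e (Submodule.Quotient.mk x) = Submodule.Quotient.mk x) :
    phi f = (Fin.consLinearEquiv A (fun i : Fin (n + 1) => A ⧸ Ideal.span {f i})).toLinearMap ∘ₗ
      (LinearMap.prodMap LinearMap.id (phi (fun i : Fin n => f i.succ))) ∘ₗ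
        (psi (f 0) (∏ i : Fin n, f i.succ)) ∘ₗ e.toLinearMap := by
  apply Submodule.linearMap_qext
  refine LinearMap.ext fun x => ?_
  funext i
  simp only [LinearMap.coe_comp, LinearEquiv.coe_coe, Function.comp_apply, Submodule.mkQ_apply]
  rw [he, psi_mk]
  refine Fin.cases ?_ (fun i' => ?_) i
  · rfl
  · rfl

theorem main_aux : ∀ (n : ℕ) (f : Fin n → A) (_ : ∀ i j, i ≠ j → IsRelPrime (f i) (f j)),
    Function.Injective (phi f) ∧
      Module.length A (((i : Fin n) → A ⧸ Ideal.span {f i}) ⧸ LinearMap.range (phi f)) =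
        ∑ p ∈ (Finset.univ : Finset (Fin n × Fin n)) with p.1 < p.2,
          Module.length A (A ⧸ Ideal.span ({f p.1, f p.2} : Set A)) := by
  intro n
  induction n with
  | zero =>
    intro f _
    constructor
    · intro x y _
      have : Subsingleton (A ⧸ Ideal.span {∏ i : Fin 0, f i}) := by
        rw [Finset.univ_eq_empty, Finset.prod_empty, Ideal.span_singleton_one]
        infer_instance
      exact Subsingleton.elim x y
    · rw [Module.length_eq_zero_iff.mpr inferInstance]
      symm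
      apply Finset.sum_eq_zero
      intro p _
      exact Fin.elim0 p.1
  | succ n ih =>
    intro f hcop
    obtain ⟨hinj', hlen'⟩ := ih (fun i : Fin n => f i.succ) (fun i j hij =>
      hcop i.succ j.succ (fun h => hij (Fin.succ_injective n h)))
    have hprod : ∏ i, f i = f 0 * ∏ i : Fin n, f i.succ := Fin.prod_univ_succ f
    let e : (A ⧸ Ideal.span {∏ i, f i}) ≃ₗ[A] (A ⧸ Ideal.span {f 0 * ∏ i : Fin n, f i.succ}) :=
      Submodule.quotEquivOfEq _ _ (by rw [hprod])
    have he : ∀ x : A, e (Submodule.Quotient.mk x) = Submodule.Quotient.mk x := fun x => rfl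
    have hfac := phi_succ f e he
    have hrel : IsRelPrime (f 0) (∏ i : Fin n, f i.succ) :=
      IsRelPrime.prod_right (fun i _ => hcop 0 i.succ (Fin.succ_ne_zero i).symm)
    have hψinj : Function.Injective (psi (f 0) (∏ i : Fin n, f i.succ)) :=
      psi_injective _ _ (fun x h1 h2 => hrel.mul_dvd h1 h2)
    have hβinj : Function.Injective
        (LinearMap.prodMap (LinearMap.id : (A ⧸ Ideal.span {f 0}) →ₗ[A] _)
          (phi (fun i : Fin n => f i.succ))) := by
      rintro ⟨a, b⟩ ⟨a', b'⟩ h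
      rw [LinearMap.prodMap_apply, LinearMap.prodMap_apply, Prod.mk.injEq] at h
      exact Prod.ext h.1 (hinj' h.2)
    constructor
    · rw [hfac]
      exact (Fin.consLinearEquiv A (fun i : Fin (n + 1) => A ⧸ Ideal.span {f i})).injective.comp
        (hβinj.comp (hψinj.comp e.injective))
    · rw [hfac, length_coker_equiv]
      have hrange : LinearMap.range (LinearMap.prodMap (LinearMap.id : (A ⧸ Ideal.span {f 0}) →ₗ[A] _)
          (phi (fun i : Fin n => f i.succ)) ∘ₗ psi (f 0) (∏ i : Fin n, f i.succ) ∘ₗ e.toLinearMap) =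
          LinearMap.range (LinearMap.prodMap (LinearMap.id : (A ⧸ Ideal.span {f 0}) →ₗ[A] _)
          (phi (fun i : Fin n => f i.succ)) ∘ₗ psi (f 0) (∏ i : Fin n, f i.succ)) := by
        rw [← LinearMap.comp_assoc, LinearMap.range_comp_of_range_eq_top _
          (LinearEquiv.range e)]
      rw [hrange, length_coker_comp _ _ hβinj, length_coker_psi, length_coker_prodMap, hlen',
        length_prod Finset.univ (fun i : Fin n => f i.succ) (f 0)
          (fun j _ x hx => (hcop 0 j.succ (Fin.succ_ne_zero j).symm).dvd_of_dvd_mul_left hx)]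
      exact (sum_lt_succ n (fun i j => Module.length A (A ⧸ Ideal.span ({f i, f j} : Set A)))).symm

end Main

end Groth.Agent.Lib.helper11.CokerLen
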