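import Mathlib
import Groth.Agent.Lib.Helper18.ConnComp.GalConn
import Groth.Agent.Lib.Helper18.ConnComp.LocalPI

/-!
# A connected `k`-scheme with a rational point is geometrically connected (helper11)
-/

set_option autoImplicit false
universe u
open CategoryTheory CategoryTheory.Limits AlgebraicGeometry Polynomial

namespace Groth.Agent.Lib.helper11.ConnProd

open Groth.Agent.Lib.Helper18.ConnComp

theorem sepClosedIn_of_section (k : Type u) [Field k] (Z : Scheme.{u})
    (f : Z ⟶ Spec (CommRingCat.of k)) [ConnectedSpace Z]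
    (x : Spec (CommRingCat.of k) ⟶ Z) (hx : x ≫ f = 𝟙 _) : SepClosedIn f := by
  intro a q hq hqa
  letI : Algebra k Γ(Z, ⊤) := (gammaHom f).toAlgebra
  let ε : Γ(Z, ⊤) →+* k := (x.appTop ≫ (Scheme.ΓSpecIso (CommRingCat.of k)).hom).hom
  have hε : ∀ c : k, ε (gammaHom f c) = c := by
    intro c
    have h1 : (Scheme.ΓSpecIso (CommRingCat.of k)).inv ≫ f.appTop ≫ x.appTop ≫
        (Scheme.ΓSpecIso (CommRingCat.of k)).hom = 𝟙 _ := by
      rw [← Category.assoc f.appTop, ← Scheme.Hom.comp_appTop, hx]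
      simp
    have := congrArg (fun g => g.hom c) h1
    simpa [gammaHom, ε] using this
  have haev : ∀ p : k[X], aeval a p = p.eval₂ (gammaHom f) a := fun p => rfl
  have hεaev : ∀ p : k[X], ε (aeval a p) = p.eval (ε a) := by
    intro p
    rw [haev, Polynomial.hom_eval₂]
    have : ε.comp (gammaHom f) = RingHom.id k := RingHom.ext hε
    rw [this, Polynomial.eval₂_id]
  have hqc : q.eval (ε a) = 0 := by
    rw [← hεaev, haev, hqa, map_zero]
  obtain ⟨q₁, hq₁⟩ := Polynomial.dvd_iff_isRoot.2 hqc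
  have hcop : IsCoprime (X - C (ε a)) q₁ := by
    rw [hq₁] at hq
    exact hq.isCoprime
  have hma : aeval a ((X - C (ε a)) * q₁) = 0 := by rw [← hq₁, haev]; exact hqa
  rcases aeval_eq_zero_or_of_isCoprime (noIdem_Γ Z) hcop hma with h | h
  · refine ⟨ε a, ?_⟩
    have : a - algebraMap k Γ(Z, ⊤) (ε a) = 0 := by simpa using h
    exact (sub_eq_zero.1 this).symm
  · exfalso
    have h1 : q₁.eval (ε a) = 0 := by rw [← hεaev, h, map_zero]
    have hd : (X - C (ε a)) ∣ q₁ := Polynomial.dvd_iff_isRoot.2 h1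
    have hu : IsUnit (X - C (ε a)) := hcop.isUnit_of_dvd' dvd_rfl hd
    have := Polynomial.degree_eq_zero_of_isUnit hu
    rw [Polynomial.degree_X_sub_C] at this
    exact one_ne_zero this

theorem geometricallyConnected_of_section (k : Type u) [Field k] (Z : Scheme.{u})
    (f : Z ⟶ Spec (CommRingCat.of k)) [ConnectedSpace Z]
    (x : Spec (CommRingCat.of k) ⟶ Z) (hx : x ≫ f = 𝟙 _) : GeometricallyConnected f :=
  geometricallyConnected_of_sepClosedIn f (sepClosedIn_of_section k Z f x hx)

end Groth.Agent.Lib.helper11.ConnProd
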