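import Groth.Agent.Lib.helper11.ConstrTop
import Mathlib.Topology.LocallyClosed

set_option autoImplicit false
universe u v

namespace Groth.Agent.Lib.helper11.ConstrTop

open Topology TopologicalSpace Set

variable {X : Type u} [TopologicalSpace X]

/-- `Dich Y E`: some nonempty relatively open part of `Y` lies in `E` or in `Eᶜ`. -/
def Dich (Y E : Set X) : Prop :=
  ∃ U : Set X, IsOpen U ∧ (U ∩ Y).Nonempty ∧ (U ∩ Y ⊆ E ∨ U ∩ Y ⊆ Eᶜ)

lemma Dich.of_isOpen {Y E : Set X} (hY : IsIrreducible Y) (hE : IsOpen E) : Dich Y E := by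
  by_cases h : (E ∩ Y).Nonempty
  · exact ⟨E, hE, h, Or.inl inter_subset_left⟩
  · refine ⟨univ, isOpen_univ, by simpa using hY.nonempty, Or.inr ?_⟩
    intro x hx hxU
    exact h ⟨x, hxU, hx.2⟩

lemma Dich.compl {Y E : Set X} (h : Dich Y E) : Dich Y Eᶜ := by
  obtain ⟨U, hU, hne, h⟩ := h
  refine ⟨U, hU, hne, ?_⟩
  rcases h with h | h
  · right; rwa [compl_compl]
  · left; exact h

lemma Dich.of_isClosed {Y E : Set X} (hY : IsIrreducible Y) (hE : IsClosed E) : Dich Y E := by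
  have := (Dich.of_isOpen hY hE.isOpen_compl).compl
  rwa [compl_compl] at this

lemma Dich.union {Y E₁ E₂ : Set X} (hY : IsIrreducible Y) (h₁ : Dich Y E₁) (h₂ : Dich Y E₂) :
    Dich Y (E₁ ∪ E₂) := by
  obtain ⟨U₁, hU₁, hne₁, h₁⟩ := h₁
  obtain ⟨U₂, hU₂, hne₂, h₂⟩ := h₂
  have hne : ((U₁ ∩ U₂) ∩ Y).Nonempty := by
    have := hY.isPreirreducible U₁ U₂ hU₁ hU₂ (by rwa [inter_comm] at hne₁)
      (by rwa [inter_comm] at hne₂)
    rwa [inter_comm] at this
  refine ⟨U₁ ∩ U₂, hU₁.inter hU₂, hne, ?_⟩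
  rcases h₁ with h₁ | h₁
  · left
    intro x hx
    exact Or.inl (h₁ ⟨hx.1.1, hx.2⟩)
  · rcases h₂ with h₂ | h₂
    · left
      intro x hx
      exact Or.inr (h₂ ⟨hx.1.2, hx.2⟩)
    · right
      intro x hx hxst
      rcases hxst with hxs | hxt
      · exact h₁ ⟨hx.1.1, hx.2⟩ hxs
      · exact h₂ ⟨hx.1.2, hx.2⟩ hxt

lemma Dich.inter {Y E₁ E₂ : Set X} (hY : IsIrreducible Y) (h₁ : Dich Y E₁) (h₂ : Dich Y E₂) :
    Dich Y (E₁ ∩ E₂) := by
  have := (Dich.union hY h₁.compl h₂.compl).compl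
  rwa [compl_union, compl_compl, compl_compl] at this

lemma Dich.of_isLocallyClosed {Y E : Set X} (hY : IsIrreducible Y) (hE : IsLocallyClosed E) :
    Dich Y E := by
  obtain ⟨U, Z, hU, hZ, rfl⟩ := hE
  exact Dich.inter hY (Dich.of_isOpen hY hU) (Dich.of_isClosed hY hZ)

lemma Dich.empty {Y : Set X} (hY : IsIrreducible Y) : Dich Y (∅ : Set X) :=
  Dich.of_isOpen hY isOpen_empty

lemma Dich.biUnion_finset {ι : Type v} {Y : Set X} (hY : IsIrreducible Y) (L : ι → Set X)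
    (s : Finset ι) (h : ∀ i ∈ s, Dich Y (L i)) : Dich Y (⋃ i ∈ s, L i) := by
  classical
  induction s using Finset.induction_on with
  | empty => simpa using Dich.empty hY
  | insert a s _ ih =>
    rw [Finset.set_biUnion_insert]
    exact Dich.union hY (h a (Finset.mem_insert_self _ _))
      (ih fun i hi => h i (Finset.mem_insert_of_mem hi))

lemma Dich.iUnion_fintype {ι : Type v} [Fintype ι] {Y : Set X} (hY : IsIrreducible Y)
    (L : ι → Set X) (h : ∀ i, Dich Y (L i)) : Dich Y (⋃ i, L i) := by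
  have := Dich.biUnion_finset hY L Finset.univ (fun i _ => h i)
  simpa using this

/-- If the trace of `E` on irreducible `Y` is dense in `Y` and `Dich Y E`, it contains a nonempty
open part of `Y`. -/
lemma Dich.exists_open_of_dense {E Y : Set X} (hE : Dich Y E) (hd : Y ⊆ closure (E ∩ Y)) :
    ∃ U : Set X, IsOpen U ∧ (U ∩ Y).Nonempty ∧ U ∩ Y ⊆ E := by
  obtain ⟨U, hU, hne, h | h⟩ := hE
  · exact ⟨U, hU, hne, h⟩
  · exact absurd hd (not_dense_of_open_inter_subset_compl hU hne h)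

end Groth.Agent.Lib.helper11.ConstrTop
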