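import Mathlib

/-!
# Descent of pushout squares of commutative rings (helper11)

A commutative square of rings `(φ, ψ, ψ', φ')` is a pushout as soon as it becomes one after a
faithfully flat base change `T → T''`, or after localizing at every maximal ideal of `T`.
-/

set_option autoImplicit false
set_option linter.style.haveILetI false
universe u
open CategoryTheory CategoryTheory.Limits

namespace Groth.Agent.Lib.helper11.FE

section Bridge

variable {R S R' S' : CommRingCat.{u}} {a : R ⟶ S} {b : R ⟶ R'} {c : S ⟶ S'} {d : R' ⟶ S'}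

/-- codescent along a pushout square in `CommRingCat` -/
theorem codescends_of_isPushout
    {P Q : ∀ {R S : Type u} [CommRing R] [CommRing S], (R →+* S) → Prop}
    (hPQ : RingHom.CodescendsAlong (fun {R S} [CommRing R] [CommRing S] => @P R S _ _)
      (fun {R S} [CommRing R] [CommRing S] => @Q R S _ _)) (h : IsPushout a b c d)
    (hb : Q b.hom) (hd : P d.hom) : P a.hom := by
  algebraize [a.hom, b.hom, c.hom, d.hom, (c.hom.comp a.hom)]
  haveI : IsScalarTower R S S' := .of_algebraMap_eq' rfl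
  haveI : IsScalarTower R R' S' := .of_algebraMap_eq' (by
    have := congrArg CommRingCat.Hom.hom h.w
    exact this)
  haveI hP : Algebra.IsPushout R S R' S' := CommRingCat.isPushout_iff_isPushout.mp h
  exact hPQ (R := R) (S := S) (R' := R') (S' := S') hb hd

/-- base change along a pushout square in `CommRingCat` -/
theorem baseChange_of_isPushout
    {P : ∀ {R S : Type u} [CommRing R] [CommRing S], (R →+* S) → Prop}
    (hP : RingHom.IsStableUnderBaseChange (fun {R S} [CommRing R] [CommRing S] => @P R S _ _))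
    (h : IsPushout a b c d) (ha : P a.hom) : P d.hom := by
  algebraize [a.hom, b.hom, c.hom, d.hom, (c.hom.comp a.hom)]
  haveI : IsScalarTower R S S' := .of_algebraMap_eq' rfl
  haveI : IsScalarTower R R' S' := .of_algebraMap_eq' (by
    have := congrArg CommRingCat.Hom.hom h.w
    exact this)
  haveI hP' : Algebra.IsPushout R S R' S' := CommRingCat.isPushout_iff_isPushout.mp h
  exact hP R S R' S' ha

end Bridge

section Descent

variable {R B T C : CommRingCat.{u}} (φ : R ⟶ B) (ψ : R ⟶ T) (ψ' : B ⟶ C) (φ' : T ⟶ C)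
  (hσ : φ ≫ ψ' = ψ ≫ φ')

/-- the canonical comparison map -/
noncomputable def cmp : pushout φ ψ ⟶ C := pushout.desc ψ' φ' hσ

@[reassoc (attr := simp)]
theorem inl_cmp : pushout.inl φ ψ ≫ cmp φ ψ ψ' φ' hσ = ψ' := pushout.inl_desc _ _ _

@[reassoc (attr := simp)]
theorem inr_cmp : pushout.inr φ ψ ≫ cmp φ ψ ψ' φ' hσ = φ' := pushout.inr_desc _ _ _

theorem isPushout_of_isIso_cmp (h : IsIso (cmp φ ψ ψ' φ' hσ)) : IsPushout φ ψ ψ' φ' := by
  refine (IsPushout.of_hasPushout φ ψ).of_iso (Iso.refl _) (Iso.refl _) (Iso.refl _)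
    (asIso (cmp φ ψ ψ' φ' hσ)) ?_ ?_ ?_ ?_ <;> simp

theorem exists_square {T'' C'' : CommRingCat.{u}} (τ : T ⟶ T'') (γ : C ⟶ C'') (φ'' : T'' ⟶ C'')
    (h3 : IsPushout φ' τ γ φ'') (hc : IsPushout φ (ψ ≫ τ) (ψ' ≫ γ) φ'') :
    ∃ (P'' : CommRingCat.{u}) (l : pushout φ ψ ⟶ P'') (r : T'' ⟶ P'') (d : P'' ⟶ C''),
      IsPushout (pushout.inr φ ψ) τ l r ∧ IsPushout (cmp φ ψ ψ' φ' hσ) l γ d ∧ IsIso d := by
  have hP'' := IsPushout.of_hasPushout (pushout.inr φ ψ) τ
  have hpaste := (IsPushout.of_hasPushout φ ψ).paste_vert hP''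
  let θ := hpaste.isoIsPushout _ _ hc
  have hθ1 : (pushout.inl φ ψ ≫ pushout.inl (pushout.inr φ ψ) τ) ≫ θ.hom = ψ' ≫ γ :=
    IsPushout.inl_isoIsPushout_hom _ _ hpaste hc
  have hθ2 : pushout.inr (pushout.inr φ ψ) τ ≫ θ.hom = φ'' :=
    IsPushout.inr_isoIsPushout_hom _ _ hpaste hc
  refine ⟨_, pushout.inl (pushout.inr φ ψ) τ, pushout.inr (pushout.inr φ ψ) τ, θ.hom, hP'', ?_,
    inferInstance⟩
  have p : cmp φ ψ ψ' φ' hσ ≫ γ = pushout.inl (pushout.inr φ ψ) τ ≫ θ.hom := by
    apply pushout.hom_ext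
    · rw [inl_cmp_assoc, ← Category.assoc, hθ1]
    · rw [inr_cmp_assoc, h3.w, ← Category.assoc, hP''.w, Category.assoc, hθ2]
  refine IsPushout.of_left ?_ p hP''
  rw [inr_cmp, hθ2]
  exact h3

include hσ in
/-- **faithfully flat descent of pushout squares** -/
theorem isPushout_of_faithfullyFlat {T'' C'' : CommRingCat.{u}} (τ : T ⟶ T'') (γ : C ⟶ C'')
    (φ'' : T'' ⟶ C'') (hτ : τ.hom.FaithfullyFlat)
    (h3 : IsPushout φ' τ γ φ'') (hc : IsPushout φ (ψ ≫ τ) (ψ' ≫ γ) φ'') :
    IsPushout φ ψ ψ' φ' := by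
  obtain ⟨P'', l, r, d, h1, h2, hd⟩ := exists_square φ ψ ψ' φ' hσ τ γ φ'' h3 hc
  have hl : l.hom.FaithfullyFlat :=
    baseChange_of_isPushout (P := fun f => f.FaithfullyFlat)
      RingHom.FaithfullyFlat.isStableUnderBaseChange h1.flip hτ
  have hdb : Function.Bijective d.hom := (ConcreteCategory.isIso_iff_bijective d).mp hd
  have hbij : Function.Bijective (cmp φ ψ ψ' φ' hσ).hom :=
    codescends_of_isPushout (P := fun f => Function.Bijective f)
      (Q := fun f => f.FaithfullyFlat) RingHom.FaithfullyFlat.codescendsAlong_bijective h2 hl hdb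
  exact isPushout_of_isIso_cmp φ ψ ψ' φ' hσ ((ConcreteCategory.isIso_iff_bijective _).mpr hbij)

end Descent

section Local

/-- kernel and image of the localization map in a pushout square along `T → T_n` -/
theorem localization_facts {T M M'' : CommRingCat.{u}} (n : Ideal T) [n.IsPrime] (a : T ⟶ M)
    (l : M ⟶ M'') (r : CommRingCat.of (Localization.AtPrime n) ⟶ M'')
    (h : IsPushout a (CommRingCat.ofHom (algebraMap T (Localization.AtPrime n))) l r) :
    (∀ m : M, l.hom m = 0 → ∃ t : T, t ∉ n ∧ a.hom t * m = 0) ∧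
    (∀ z : M'', ∃ t : T, t ∉ n ∧ ∃ m : M, l.hom (a.hom t) * z = l.hom m) := by
  algebraize [a.hom, l.hom, r.hom, l.hom.comp a.hom]
  haveI : IsScalarTower T M M'' := .of_algebraMap_eq' rfl
  have hw : l.hom.comp a.hom = r.hom.comp (algebraMap T (Localization.AtPrime n)) := by
    have := congrArg CommRingCat.Hom.hom h.w
    exact this
  haveI : IsScalarTower T (Localization.AtPrime n) M'' := .of_algebraMap_eq' hw
  have hP : Algebra.IsPushout T (Localization.AtPrime n) M M'' :=
    CommRingCat.isPushout_iff_isPushout.mp h.flip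
  have hbc : IsBaseChange (Localization.AtPrime n) (IsScalarTower.toAlgHom T M M'').toLinearMap :=
    hP.out
  haveI hloc : IsLocalizedModule n.primeCompl (IsScalarTower.toAlgHom T M M'').toLinearMap :=
    (isLocalizedModule_iff_isBaseChange n.primeCompl (Localization.AtPrime n) _).mpr hbc
  constructor
  · intro m hm
    obtain ⟨⟨v, hv⟩, hvm⟩ := (IsLocalizedModule.eq_zero_iff n.primeCompl
      (IsScalarTower.toAlgHom T M M'').toLinearMap (m := m)).mp hm
    refine ⟨v, hv, ?_⟩
    have : v • m = 0 := hvm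
    rwa [Algebra.smul_def] at this
  · intro z
    obtain ⟨⟨m, ⟨t, ht⟩⟩, hmt⟩ := IsLocalizedModule.surj n.primeCompl
      (IsScalarTower.toAlgHom T M M'').toLinearMap z
    refine ⟨t, ht, m, ?_⟩
    have h1 : t • z = l.hom m := hmt
    rw [← h1, Algebra.smul_def]
    rfl

theorem bijective_of_forall_maximal {T P C : CommRingCat.{u}} (ι : T ⟶ P) (c : P ⟶ C)
    (H : ∀ (n : Ideal T) [n.IsMaximal], ∃ (P'' C'' : CommRingCat.{u}) (l : P ⟶ P'')
      (r : CommRingCat.of (Localization.AtPrime n) ⟶ P'') (γ : C ⟶ C'') (d : P'' ⟶ C''),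
      IsPushout ι (CommRingCat.ofHom (algebraMap T (Localization.AtPrime n))) l r ∧
      IsPushout c l γ d ∧ Function.Bijective d.hom) : Function.Bijective c.hom := by
  have key : ∀ (n : Ideal T) [n.IsMaximal],
      (∀ x : P, c.hom x = 0 → ∃ t : T, t ∉ n ∧ ι.hom t * x = 0) ∧
      (∀ y : C, ∃ t : T, t ∉ n ∧ ∃ x : P, c.hom (ι.hom t) * y = c.hom x) := by
    intro n hn
    obtain ⟨P'', C'', l, r, γ, d, h1, h2, hd⟩ := H n
    have f1 := localization_facts n ι l r h1
    have h12 := h1.paste_horiz h2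
    have f2 := localization_facts n (ι ≫ c) γ (r ≫ d) h12
    have hw2 : ∀ x : P, γ.hom (c.hom x) = d.hom (l.hom x) := fun x => by
      have := congrArg (fun k => k.hom x) h2.w
      exact this
    constructor
    · intro x hx
      have h3 : d.hom (l.hom x) = 0 := by rw [← hw2, hx, map_zero]
      have h4 : l.hom x = 0 := hd.1 (by rw [h3, map_zero])
      exact f1.1 x h4
    · intro y
      obtain ⟨z, hz⟩ := hd.2 (γ.hom y)
      obtain ⟨t, ht, x, htx⟩ := f1.2 z
      have h5 : γ.hom (c.hom (ι.hom t) * y - c.hom x) = 0 := by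
        rw [map_sub, map_mul, hw2, hw2, ← hz, ← map_mul, htx, sub_self]
      obtain ⟨t', ht', h6⟩ := f2.1 _ h5
      refine ⟨t' * t, fun hmem => ?_, ι.hom t' * x, ?_⟩
      · rcases (Ideal.IsPrime.mem_or_mem inferInstance hmem) with h | h
        · exact ht' h
        · exact ht h
      · have h7 : c.hom (ι.hom t') * (c.hom (ι.hom t) * y - c.hom x) = 0 := h6
        rw [mul_sub, sub_eq_zero] at h7
        rw [map_mul, map_mul, map_mul, mul_assoc, h7]
  constructor
  · rw [injective_iff_map_eq_zero]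
    intro x hx
    by_contra hx0
    let J : Ideal T :=
      { carrier := {t | ι.hom t * x = 0}
        add_mem' := by
          intro s t hs ht
          simp only [Set.mem_setOf_eq] at hs ht ⊢
          rw [map_add, add_mul, hs, ht, add_zero]
        zero_mem' := by simp
        smul_mem' := by
          intro s t ht
          simp only [Set.mem_setOf_eq, smul_eq_mul] at ht ⊢
          rw [map_mul, mul_assoc, ht, mul_zero] }
    have hJ : J ≠ ⊤ := by
      intro h
      have h1 : (1 : T) ∈ J := h ▸ Submodule.mem_top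
      have h2 : ι.hom 1 * x = 0 := h1
      rw [map_one, one_mul] at h2
      exact hx0 h2
    obtain ⟨n, hnmax, hJn⟩ := Ideal.exists_le_maximal J hJ
    obtain ⟨t, ht, htx⟩ := (key n).1 x hx
    exact ht (hJn htx)
  · intro y
    let I : Ideal T :=
      { carrier := {t | ∃ x, c.hom (ι.hom t) * y = c.hom x}
        add_mem' := by
          rintro s t ⟨x, hx⟩ ⟨x', hx'⟩
          exact ⟨x + x', by rw [map_add, map_add, add_mul, hx, hx', map_add]⟩
        zero_mem' := ⟨0, by simp⟩
        smul_mem' := by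
          rintro s t ⟨x, hx⟩
          exact ⟨ι.hom s * x, by
            rw [smul_eq_mul, map_mul, map_mul, mul_assoc, hx, map_mul]⟩ }
    by_cases hI : I = ⊤
    · have h1 : (1 : T) ∈ I := hI ▸ Submodule.mem_top
      obtain ⟨x, hx⟩ := h1
      exact ⟨x, by rw [← hx, map_one, map_one, one_mul]⟩
    · exfalso
      obtain ⟨n, hnmax, hIn⟩ := Ideal.exists_le_maximal I hI
      obtain ⟨t, ht, x, htx⟩ := (key n).2 y
      exact ht (hIn ⟨x, htx⟩)

variable {R B T C : CommRingCat.{u}} (φ : R ⟶ B) (ψ : R ⟶ T) (ψ' : B ⟶ C) (φ' : T ⟶ C)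
  (hσ : φ ≫ ψ' = ψ ≫ φ')

include hσ in
/-- **a square is a pushout if it is so after localizing at every maximal ideal of `T`** -/
theorem isPushout_of_forall_maximal
    (H : ∀ (n : Ideal T) [n.IsMaximal], ∃ (C'' : CommRingCat.{u}) (γ : C ⟶ C'')
      (φ'' : CommRingCat.of (Localization.AtPrime n) ⟶ C''),
      IsPushout φ' (CommRingCat.ofHom (algebraMap T (Localization.AtPrime n))) γ φ'' ∧
      IsPushout φ (ψ ≫ CommRingCat.ofHom (algebraMap T (Localization.AtPrime n))) (ψ' ≫ γ) φ'') :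
    IsPushout φ ψ ψ' φ' := by
  have hbij : Function.Bijective (cmp φ ψ ψ' φ' hσ).hom := by
    refine bijective_of_forall_maximal (pushout.inr φ ψ) (cmp φ ψ ψ' φ' hσ) (fun n hn => ?_)
    obtain ⟨C'', γ, φ'', h3, hc⟩ := H n
    obtain ⟨P'', l, r, d, h1, h2, hd⟩ := exists_square φ ψ ψ' φ' hσ _ γ φ'' h3 hc
    exact ⟨P'', C'', l, r, γ, d, h1, h2, (ConcreteCategory.isIso_iff_bijective d).mp hd⟩
  exact isPushout_of_isIso_cmp φ ψ ψ' φ' hσ ((ConcreteCategory.isIso_iff_bijective _).mpr hbij)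

end Local

end Groth.Agent.Lib.helper11.FE
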