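import Mathlib
import Groth.Agent.Lib.helper11.FEPush

/-!
# Descent of pushout squares along localizations, flexible form (helper11)
-/

set_option autoImplicit false
set_option linter.style.haveILetI false
universe u
open CategoryTheory CategoryTheory.Limits

namespace Groth.Agent.Lib.helper11.FE

theorem isPushout_of_comp_iso {Z X Y Y' P : CommRingCat.{u}} {f : Z ⟶ X} {g : Z ⟶ Y} (i : Y ≅ Y')
    {inl : X ⟶ P} {inr : Y' ⟶ P} (h : IsPushout f (g ≫ i.hom) inl inr) :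
    IsPushout f g inl (i.hom ≫ inr) := by
  refine h.of_iso (Iso.refl _) (Iso.refl _) i.symm (Iso.refl _) ?_ ?_ ?_ ?_
  · simp
  · simp
  · simp
  · simp

variable {R B T C : CommRingCat.{u}} (φ : R ⟶ B) (ψ : R ⟶ T) (ψ' : B ⟶ C) (φ' : T ⟶ C)
  (hσ : φ ≫ ψ' = ψ ≫ φ')

include hσ in
theorem isPushout_of_forall_maximal'
    (H : ∀ (n : Ideal T) [n.IsMaximal], ∃ (T₀ T'' C'' : CommRingCat.{u}) (τ₀ : T ⟶ T₀)
      (e : T₀ ≅ T'') (γ : C ⟶ C'') (φ'' : T'' ⟶ C''),
      (@IsLocalization.AtPrime T _ T₀ _ τ₀.hom.toAlgebra n _) ∧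
      IsPushout φ' (τ₀ ≫ e.hom) γ φ'' ∧
      IsPushout φ (ψ ≫ τ₀ ≫ e.hom) (ψ' ≫ γ) φ'') :
    IsPushout φ ψ ψ' φ' := by
  refine isPushout_of_forall_maximal φ ψ ψ' φ' hσ (fun n hn => ?_)
  obtain ⟨T₀, T'', C'', τ₀, e, γ, φ'', hloc, h3, hc⟩ := H n
  letI := τ₀.hom.toAlgebra
  haveI := hloc
  let j : Localization.AtPrime n ≃ₐ[T] T₀ :=
    IsLocalization.algEquiv n.primeCompl (Localization.AtPrime n) T₀
  let E : CommRingCat.of (Localization.AtPrime n) ≅ T'' :=
    j.toRingEquiv.toCommRingCatIso ≪≫ e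
  have hE : CommRingCat.ofHom (algebraMap T (Localization.AtPrime n)) ≫ E.hom = τ₀ ≫ e.hom := by
    have h1 : CommRingCat.ofHom (algebraMap T (Localization.AtPrime n)) ≫
        j.toRingEquiv.toCommRingCatIso.hom = τ₀ := by
      ext t
      exact j.commutes t
    rw [Iso.trans_hom, ← Category.assoc, h1]
  refine ⟨C'', γ, E.hom ≫ φ'', ?_, ?_⟩
  · apply isPushout_of_comp_iso E
    rw [hE]
    exact h3
  · have : IsPushout φ ((ψ ≫ CommRingCat.ofHom (algebraMap T (Localization.AtPrime n))) ≫ E.hom)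
        (ψ' ≫ γ) φ'' := by
      rw [Category.assoc, hE]
      exact hc
    exact isPushout_of_comp_iso E this

end Groth.Agent.Lib.helper11.FE
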