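import Mathlib
import Groth.Agent.Lib.helper11.FEPush2

/-!
# Étaleness of a finitely presented algebra from étaleness after localizing the base (helper11)
-/

set_option autoImplicit false
set_option linter.style.haveILetI false
universe u
open CategoryTheory CategoryTheory.Limits

namespace Groth.Agent.Lib.helper11.FE

theorem formallyEtale_atPrime_of_isPushout {R B L By : CommRingCat.{u}} (φ : R ⟶ B) (lam : R ⟶ L)
    (β : B ⟶ By) (φy : L ⟶ By) (hpo : IsPushout φ lam β φy) (q : Ideal B) [q.IsPrime]
    (hloc : @IsLocalization.AtPrime R _ L _ lam.hom.toAlgebra (q.comap φ.hom) _)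
    (hφy : φy.hom.FormallyEtale) :
    ((algebraMap B (Localization.AtPrime q)).comp φ.hom).FormallyEtale := by
  obtain ⟨hlam1, hlam2, ℓ0, hℓ0⟩ : lam.hom.FormallyEtale ∧ lam.hom.FormallyUnramified ∧
      ∃ ℓ0 : L →+* (Localization.AtPrime q),
        ℓ0.comp lam.hom = (algebraMap B (Localization.AtPrime q)).comp φ.hom := by
    letI := lam.hom.toAlgebra
    haveI := hloc
    have hlam1 : lam.hom.FormallyEtale := by
      have : Algebra.FormallyEtale R L :=
        Algebra.FormallyEtale.of_isLocalization (q.comap φ.hom).primeCompl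
      exact this
    have hlam2 : lam.hom.FormallyUnramified := by
      have : Algebra.FormallyUnramified R L :=
        Algebra.FormallyUnramified.of_isLocalization (q.comap φ.hom).primeCompl
      exact this
    -- the map `L → B_q`
    have hunits : ∀ y : (q.comap φ.hom).primeCompl,
        IsUnit (((algebraMap B (Localization.AtPrime q)).comp φ.hom) y) := by
      intro y
      have hy : φ.hom y.1 ∈ q.primeCompl := y.2
      exact IsLocalization.map_units (Localization.AtPrime q) ⟨φ.hom y.1, hy⟩
    let ℓ0 : L →+* (Localization.AtPrime q) :=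
      IsLocalization.lift (M := (q.comap φ.hom).primeCompl) hunits
    have hℓ0 : ℓ0.comp (algebraMap R L) = (algebraMap B (Localization.AtPrime q)).comp φ.hom :=
      IsLocalization.lift_comp (M := (q.comap φ.hom).primeCompl) (S := L) hunits
    clear_value ℓ0
    have hal : algebraMap R L = lam.hom := rfl
    rw [hal] at hℓ0
    exact ⟨hlam1, hlam2, ℓ0, hℓ0⟩
  let ℓ : L ⟶ CommRingCat.of (Localization.AtPrime q) := CommRingCat.ofHom ℓ0
  let algq : B ⟶ CommRingCat.of (Localization.AtPrime q) :=
    CommRingCat.ofHom (algebraMap B (Localization.AtPrime q))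
  have hcomm : φ ≫ algq = lam ≫ ℓ := by
    ext r
    exact (RingHom.congr_fun hℓ0 r).symm
  let θ : By ⟶ CommRingCat.of (Localization.AtPrime q) := hpo.desc algq ℓ hcomm
  have hθ1 : β ≫ θ = algq := hpo.inl_desc _ _ _
  have hθ2 : φy ≫ θ = ℓ := hpo.inr_desc _ _ _
  have hβ : β.hom.FormallyUnramified :=
    baseChange_of_isPushout (P := fun f => f.FormallyUnramified)
      RingHom.FormallyUnramified.isStableUnderBaseChange hpo.flip hlam2
  have halgq : algq.hom.FormallyEtale := by
    have : Algebra.FormallyEtale B (Localization.AtPrime q) :=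
      Algebra.FormallyEtale.of_isLocalization q.primeCompl
    exact (RingHom.formallyEtale_algebraMap).mpr this
  have hθ : θ.hom.FormallyEtale := by
    refine RingHom.FormallyEtale.of_comp hβ ?_
    have : θ.hom.comp β.hom = algq.hom := by
      rw [← CommRingCat.hom_comp, hθ1]
    rw [this]
    exact halgq
  have hall : (θ.hom.comp (φy.hom.comp lam.hom)).FormallyEtale :=
    (hlam1.comp hφy).comp hθ
  have heq : (algebraMap B (Localization.AtPrime q)).comp φ.hom =
      θ.hom.comp (φy.hom.comp lam.hom) := by
    have h1 : φ ≫ algq = lam ≫ φy ≫ θ := by rw [hθ2, hcomm]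
    have := congrArg CommRingCat.Hom.hom h1
    exact this
  rw [heq]
  exact hall

/-- a finitely presented algebra is étale if it is so after localizing the base at the contraction
of every prime -/
theorem etale_of_forall_prime {R B : CommRingCat.{u}} (φ : R ⟶ B) (hfp : φ.hom.FinitePresentation)
    (H : ∀ (q : Ideal B) [q.IsPrime], ∃ (L By : CommRingCat.{u}) (lam : R ⟶ L) (β : B ⟶ By)
      (φy : L ⟶ By), IsPushout φ lam β φy ∧
      (@IsLocalization.AtPrime R _ L _ lam.hom.toAlgebra (q.comap φ.hom) _) ∧ φy.hom.FormallyEtale) :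
    φ.hom.Etale := by
  algebraize [φ.hom]
  haveI : Algebra.FinitePresentation R B := hfp
  have huniv : Algebra.etaleLocus R B = Set.univ := by
    refine Set.eq_univ_of_forall (fun q => ?_)
    obtain ⟨L, By, lam, β, φy, hpo, hloc, hφy⟩ := H q.asIdeal
    have := formallyEtale_atPrime_of_isPushout φ lam β φy hpo q.asIdeal hloc hφy
    show Algebra.FormallyEtale R (Localization.AtPrime q.asIdeal)
    have h2 : (algebraMap B (Localization.AtPrime q.asIdeal)).comp φ.hom =
        algebraMap R (Localization.AtPrime q.asIdeal) := by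
      rw [IsScalarTower.algebraMap_eq R B (Localization.AtPrime q.asIdeal)]
      rfl
    rw [h2] at this
    exact (RingHom.formallyEtale_algebraMap).mp this
  exact (Algebra.etaleLocus_eq_univ_iff_etale).mp huniv

/-- flexible form of `etale_of_forall_prime` -/
theorem etale_of_forall_prime' {R B : CommRingCat.{u}} (φ : R ⟶ B)
    (hfp : φ.hom.FinitePresentation)
    (H : ∀ (q : Ideal B) [q.IsPrime], ∃ (L₀ L By : CommRingCat.{u}) (lam₀ : R ⟶ L₀) (e : L₀ ≅ L)
      (β : B ⟶ By) (φy : L ⟶ By), IsPushout φ (lam₀ ≫ e.hom) β φy ∧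
      (@IsLocalization.AtPrime R _ L₀ _ lam₀.hom.toAlgebra (q.comap φ.hom) _) ∧
      φy.hom.FormallyEtale) :
    φ.hom.Etale := by
  refine etale_of_forall_prime φ hfp (fun q hq => ?_)
  obtain ⟨L₀, L, By, lam₀, e, β, φy, hpo, hloc, hφy⟩ := H q
  refine ⟨L₀, By, lam₀, β, e.hom ≫ φy, isPushout_of_comp_iso e hpo, hloc, ?_⟩
  have he : e.hom.hom.FormallyEtale := by
    have : Function.Bijective e.hom.hom := by
      have := (ConcreteCategory.isIso_iff_bijective e.hom).mp inferInstance
      exact this
    exact (RingHom.Etale.of_bijective this).toAlgebra.formallyEtale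
  rw [CommRingCat.hom_comp]
  exact he.comp hφy

end Groth.Agent.Lib.helper11.FE
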