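import Mathlib

/-!
# Algebras which are finite products of copies of the base, via idempotents (helper11)

`PieceCond φ e`: the `e`-piece `B e` of `B` is a copy of `R` (via `φ : R → B`).
If `e_i` are complete orthogonal idempotents of `B` all satisfying `PieceCond`, then `B ≅ R^ι` is
finite étale, free with basis `e_i`; and such decompositions are compatible with base change.
-/

set_option autoImplicit false
set_option linter.style.haveILetI false
universe u
open TensorProduct CategoryTheory CategoryTheory.Limits

namespace Groth.Agent.Lib.helper11.FE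

section Piece

variable {R : Type*} {B : Type*} [CommRing R] [CommRing B]

/-- the `e`-piece of `B` is a copy of `R` -/
def PieceCond (φ : R →+* B) (e : B) : Prop := ∀ b : B, ∃! a : R, φ a * e = b * e

theorem pieceCond_of_isLocalization (φ : R →+* B) (e : B) (he : IsIdempotentElem e)
    (B' : Type*) [CommRing B'] [Algebra B B'] [IsLocalization.Away e B']
    (h : Function.Bijective ((algebraMap B B').comp φ)) : PieceCond φ e := by
  have hunit : algebraMap B B' e = 1 := by
    have hu : IsUnit (algebraMap B B' e) := IsLocalization.Away.algebraMap_isUnit e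
    have hid : algebraMap B B' e * algebraMap B B' e = algebraMap B B' e * 1 := by
      rw [← map_mul, he.eq, mul_one]
    exact hu.mul_left_cancel hid
  have hme : ∀ x : B, algebraMap B B' (x * e) = algebraMap B B' x := fun x => by
    rw [map_mul, hunit, mul_one]
  intro b
  obtain ⟨a, ha⟩ := h.2 (algebraMap B B' b)
  have ha' : algebraMap B B' (φ a) = algebraMap B B' b := ha
  refine ⟨a, ?_, ?_⟩
  · obtain ⟨⟨c, n, rfl⟩, hc⟩ := (IsLocalization.eq_iff_exists (Submonoid.powers e) B').mp ha'
    have hc' : e ^ n * φ a = e ^ n * b := hc
    have h1 : e * (e ^ n * φ a) = e * (e ^ n * b) := by rw [hc']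
    have hpow : e * e ^ n = e := by
      rw [← pow_succ']
      exact he.pow_succ_eq n
    rw [← mul_assoc, ← mul_assoc, hpow] at h1
    rw [mul_comm (φ a), mul_comm b]
    exact h1
  · intro a' ha2
    apply h.1
    change algebraMap B B' (φ a') = algebraMap B B' (φ a)
    rw [← hme (φ a'), ha2, hme, ha']

end Piece

section Basis

variable {R T V W ι : Type*} [CommRing R] [CommRing T] [Algebra R T] [AddCommGroup V] [Module R V]
  [AddCommGroup W] [Module R W] [Module T W] [IsScalarTower R T W]

theorem isBaseChange_of_basis (b : Module.Basis ι R V) (b' : Module.Basis ι T W) (ε : V →ₗ[R] W)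
    (h : ∀ i, ε (b i) = b' i) : IsBaseChange T ε := by
  let E : T ⊗[R] V ≃ₗ[T] W := (b.baseChange T).equiv b' (Equiv.refl ι)
  refine IsBaseChange.of_equiv E ?_
  intro x
  have : (E.toLinearMap.restrictScalars R) ∘ₗ (TensorProduct.mk R T V 1) = ε := by
    apply b.ext
    intro i
    simp only [LinearMap.coe_comp, LinearMap.coe_restrictScalars, LinearEquiv.coe_coe,
      Function.comp_apply, TensorProduct.mk_apply]
    rw [h, ← Module.Basis.baseChange_apply T b i]
    exact (Module.Basis.equiv_apply (b.baseChange T) i b' (Equiv.refl ι)).trans rfl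
  exact LinearMap.congr_fun this x

end Basis

section Main

variable {R B : Type*} [CommRing R] [CommRing B] [Algebra R B] {ι : Type*} [Fintype ι]
  [DecidableEq ι] (e : ι → B)

theorem linearCombination_mul (he : OrthogonalIdempotents e) (a : ι → R) (j : ι) :
    (Fintype.linearCombination R e a) * e j = a j • e j := by
  rw [Fintype.linearCombination_apply, Finset.sum_mul, Finset.sum_eq_single j]
  · rw [smul_mul_assoc, (he.idem j).eq]
  · intro i _ hij
    rw [smul_mul_assoc, he.ortho hij, smul_zero]
  · intro h
    exact absurd (Finset.mem_univ j) h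

variable (he : CompleteOrthogonalIdempotents e) (hpc : ∀ i, PieceCond (algebraMap R B) (e i))

include he hpc in
theorem bijective_linearCombination :
    Function.Bijective (Fintype.linearCombination R e : (ι → R) →ₗ[R] B) := by
  constructor
  · rw [injective_iff_map_eq_zero]
    intro a ha
    funext j
    have h1 := linearCombination_mul e he.toOrthogonalIdempotents a j
    rw [ha, zero_mul] at h1
    obtain ⟨a0, -, huniq⟩ := hpc j 0
    have h2 : algebraMap R B (a j) * e j = 0 * e j := by
      rw [zero_mul, ← Algebra.smul_def]
      exact h1.symm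
    have h3 : algebraMap R B 0 * e j = 0 * e j := by rw [map_zero]
    rw [huniq _ h2, ← huniq _ h3]
    rfl
  · intro b
    choose a ha _ using fun i => hpc i b
    refine ⟨a, ?_⟩
    rw [Fintype.linearCombination_apply]
    calc ∑ i, a i • e i = ∑ i, b * e i := by
          refine Finset.sum_congr rfl fun i _ => ?_
          rw [Algebra.smul_def]
          exact ha i
      _ = b := by rw [← Finset.mul_sum, he.complete, mul_one]

/-- the algebra map `R^ι → B` -/
noncomputable def piAlgHom (he : CompleteOrthogonalIdempotents e) : (ι → R) →ₐ[R] B :=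
  AlgHom.ofLinearMap (Fintype.linearCombination R e)
    (by
      rw [Fintype.linearCombination_apply]
      simp only [Pi.one_apply, one_smul]
      exact he.complete)
    (by
      intro a a'
      rw [Fintype.linearCombination_apply, Fintype.linearCombination_apply,
        Fintype.linearCombination_apply, Finset.sum_mul_sum]
      refine Finset.sum_congr rfl fun i _ => ?_
      rw [Finset.sum_eq_single i]
      · rw [smul_mul_smul_comm, (he.idem i).eq]
        rfl
      · intro j _ hji
        rw [smul_mul_smul_comm, he.ortho hji.symm, smul_zero]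
      · intro h
        exact absurd (Finset.mem_univ i) h)

include hpc in
theorem bijective_piAlgHom : Function.Bijective (piAlgHom (R := R) e he) :=
  bijective_linearCombination e he hpc

/-- `R^ι ≃ B` as algebras -/
noncomputable def piAlgEquiv : (ι → R) ≃ₐ[R] B :=
  AlgEquiv.ofBijective (piAlgHom e he) (bijective_piAlgHom e he hpc)

theorem piAlgEquiv_single (i : ι) : piAlgEquiv e he hpc (Pi.single i 1) = e i := by
  change Fintype.linearCombination R e (Pi.single i 1) = e i
  rw [Fintype.linearCombination_apply, Finset.sum_eq_single i]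
  · rw [Pi.single_eq_same, one_smul]
  · intro j _ hji
    rw [Pi.single_eq_of_ne hji, zero_smul]
  · intro h
    exact absurd (Finset.mem_univ i) h

/-- the basis `e_i` -/
noncomputable def pieceBasis : Module.Basis ι R B :=
  (Pi.basisFun R ι).map (piAlgEquiv e he hpc).toLinearEquiv

theorem pieceBasis_apply (i : ι) : pieceBasis e he hpc i = e i := by
  change piAlgEquiv e he hpc (Pi.basisFun R ι i) = e i
  rw [Pi.basisFun_apply]
  exact piAlgEquiv_single e he hpc i

include he hpc in
theorem finite_of_pieceCond : Module.Finite R B :=
  Module.Finite.equiv (piAlgEquiv e he hpc).toLinearEquiv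

include he hpc in
theorem etale_of_pieceCond : Algebra.Etale R B :=
  Algebra.Etale.of_equiv (piAlgEquiv e he hpc)

end Main

section RingHom

variable {R B : Type u} [CommRing R] [CommRing B] {ι : Type*} [Fintype ι] (φ : R →+* B) (e : ι → B)
  (he : CompleteOrthogonalIdempotents e) (hpc : ∀ i, PieceCond φ (e i))

include he hpc in
theorem ringHom_finite_of_pieceCond : φ.Finite := by
  classical
  letI := φ.toAlgebra
  exact finite_of_pieceCond (R := R) e he hpc

include he hpc in
theorem ringHom_etale_of_pieceCond : φ.Etale := by
  classical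
  letI := φ.toAlgebra
  exact etale_of_pieceCond (R := R) e he hpc

end RingHom

section Pushout

/-- compatible decompositions give a pushout square -/
theorem isPushout_of_pieceCond {R T B C : CommRingCat.{u}} (φ : R ⟶ B) (ψ : R ⟶ T) (ψ' : B ⟶ C)
    (φ' : T ⟶ C) (hcomm : φ ≫ ψ' = ψ ≫ φ') {ι : Type*} [Fintype ι] (e : ι → B)
    (he : CompleteOrthogonalIdempotents e) (h1 : ∀ i, PieceCond φ.hom (e i))
    (h2 : ∀ i, PieceCond φ'.hom (ψ'.hom (e i))) : IsPushout φ ψ ψ' φ' := by
  classical
  algebraize [φ.hom, ψ.hom, φ'.hom, ψ'.hom, (ψ'.hom.comp φ.hom)]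
  haveI : IsScalarTower R B C := .of_algebraMap_eq' rfl
  have hw : ψ'.hom.comp φ.hom = φ'.hom.comp ψ.hom := by
    have := congrArg CommRingCat.Hom.hom hcomm
    exact this
  haveI : IsScalarTower R T C := .of_algebraMap_eq' hw
  have he' : CompleteOrthogonalIdempotents (ψ'.hom ∘ e) := he.map ψ'.hom
  let β : Module.Basis ι R B := pieceBasis (R := R) e he h1
  let β' : Module.Basis ι T C := pieceBasis (R := T) (ψ'.hom ∘ e) he' h2
  have hbc : IsBaseChange T (IsScalarTower.toAlgHom R B C).toLinearMap := by
    refine isBaseChange_of_basis β β' _ (fun i => ?_)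
    change ψ'.hom (β i) = β' i
    rw [pieceBasis_apply, pieceBasis_apply]
    rfl
  have hP : Algebra.IsPushout R T B C := ⟨hbc⟩
  have := (CommRingCat.isPushout_iff_isPushout (R := R) (R' := T) (S := B) (S' := C)).mpr hP
  exact this.flip

end Pushout

end Groth.Agent.Lib.helper11.FE
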