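import Mathlib
import Groth.Agent.Lib.helper11.FEPush
import Groth.Agent.Lib.helper11.FEAlg

/-!
# Base change of global sections: definitions and formal properties (helper11)
-/

set_option autoImplicit false
set_option linter.style.haveILetI false
universe u
open CategoryTheory CategoryTheory.Limits AlgebraicGeometry Opposite TopologicalSpace

namespace Groth.Agent.Lib.helper11.FE

theorem appLE_top_top' {X Y : Scheme.{u}} (m : X ⟶ Y) (h : (⊤ : X.Opens) ≤ m ⁻¹ᵁ ⊤) :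
    m.appLE ⊤ ⊤ h = m.appTop := by
  have h1 : X.presheaf.map (homOfLE h).op = 𝟙 _ := X.presheaf.map_id _
  change m.app ⊤ ≫ X.presheaf.map (homOfLE h).op = m.app ⊤
  rw [h1]
  exact Category.comp_id _

variable {X Y T X' : Scheme.{u}}

/-- the square of global sections of a commutative square of schemes is a pushout -/
def BCsq (f : X ⟶ Y) (g : T ⟶ Y) (g' : X' ⟶ X) (f' : X' ⟶ T) : Prop :=
  IsPushout f.appTop g.appTop g'.appTop f'.appTop

/-- global sections commute with every base change to an affine scheme -/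
def BC (f : X ⟶ Y) : Prop :=
  ∀ ⦃T X' : Scheme.{u}⦄ (g : T ⟶ Y) (g' : X' ⟶ X) (f' : X' ⟶ T), IsAffine T →
    IsPullback g' f' f g → BCsq f g g' f'

/-- `Γ(Y) → Γ(X)` is finite étale -/
def FinEt (f : X ⟶ Y) : Prop := f.appTop.hom.Finite ∧ f.appTop.hom.Etale

theorem appTop_comm {f : X ⟶ Y} {g : T ⟶ Y} {g' : X' ⟶ X} {f' : X' ⟶ T} (w : g' ≫ f = f' ≫ g) :
    f.appTop ≫ g'.appTop = g.appTop ≫ f'.appTop := by
  rw [← Scheme.Hom.comp_appTop, ← Scheme.Hom.comp_appTop, w]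

/-- flat base change -/
theorem BCsq.of_flat (f : X ⟶ Y) (g : T ⟶ Y) (g' : X' ⟶ X) (f' : X' ⟶ T) [IsAffine Y]
    [IsAffine T] [QuasiCompact f] [QuasiSeparated f] [Flat g] (sq : IsPullback g' f' f g) :
    BCsq f g g' f' := by
  haveI : CompactSpace X := QuasiCompact.compactSpace_of_compactSpace f
  haveI : QuasiSeparatedSpace X := quasiSeparatedSpace_of_quasiSeparated f
  have hUST : (⊤ : T.Opens) ≤ g ⁻¹ᵁ ⊤ := le_rfl
  have hUSX : (⊤ : X.Opens) ≤ f ⁻¹ᵁ ⊤ := le_rfl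
  have hUY : (⊤ : X'.Opens) = g' ⁻¹ᵁ ⊤ ⊓ f' ⁻¹ᵁ ⊤ := by simp
  have hiso := isIso_pushoutSection_of_isQuasiSeparated_of_flat_right sq hUST hUSX hUY
    (isAffineOpen_top Y) (isAffineOpen_top T)
    (show IsCompact (Set.univ : Set X) from isCompact_univ)
    (show IsQuasiSeparated (Set.univ : Set X) from isQuasiSeparated_univ_iff.mpr inferInstance)
  have hpo := (isIso_pushoutSection_iff sq hUST hUSX hUY).mp hiso
  rw [appLE_top_top', appLE_top_top', appLE_top_top', appLE_top_top'] at hpo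
  exact hpo

theorem BCsq.paste {T' X'' : Scheme.{u}} {f : X ⟶ Y} {g : T ⟶ Y} {g' : X' ⟶ X} {f' : X' ⟶ T}
    {h : T' ⟶ T} {h' : X'' ⟶ X'} {f'' : X'' ⟶ T'} (h1 : BCsq f g g' f') (h2 : BCsq f' h h' f'') :
    BCsq f (h ≫ g) (h' ≫ g') f'' := by
  unfold BCsq at *
  rw [Scheme.Hom.comp_appTop, Scheme.Hom.comp_appTop]
  exact h1.paste_vert h2

theorem BCsq.congr {f : X ⟶ Y} {g g₂ : T ⟶ Y} {g' g'₂ : X' ⟶ X} {f' : X' ⟶ T}
    (h : BCsq f g g' f') (e1 : g = g₂) (e2 : g' = g'₂) : BCsq f g₂ g'₂ f' := by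
  subst e1 e2; exact h

/-- faithfully flat descent of the base change property of a square -/
theorem BCsq.of_faithfullyFlat {T'' X'' : Scheme.{u}} {f : X ⟶ Y} {g : T ⟶ Y} {g' : X' ⟶ X}
    {f' : X' ⟶ T} (w : g' ≫ f = f' ≫ g) [IsAffine T] [IsAffine T''] [QuasiCompact f']
    [QuasiSeparated f'] (τ : T'' ⟶ T) [Flat τ] (hτ : τ.appTop.hom.FaithfullyFlat)
    (a : X'' ⟶ X') (f'' : X'' ⟶ T'') (sq3 : IsPullback a f'' f' τ)
    (hc : BCsq f (τ ≫ g) (a ≫ g') f'') : BCsq f g g' f' := by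
  have h3 : BCsq f' τ a f'' := BCsq.of_flat f' τ a f'' sq3
  unfold BCsq at hc
  rw [Scheme.Hom.comp_appTop, Scheme.Hom.comp_appTop] at hc
  exact isPushout_of_faithfullyFlat f.appTop g.appTop g'.appTop f'.appTop (appTop_comm w)
    τ.appTop a.appTop f''.appTop hτ h3 hc

end Groth.Agent.Lib.helper11.FE
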