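import Mathlib
import Groth.Agent.Lib.helper11.FEDefs

/-!
# Formal consequences: from idempotent decompositions, and faithfully flat descent (helper11)
-/

set_option autoImplicit false
set_option linter.style.haveILetI false
universe u
open CategoryTheory CategoryTheory.Limits AlgebraicGeometry Opposite TopologicalSpace

namespace Groth.Agent.Lib.helper11.FE

/-- a compatible system of idempotent decompositions gives finite étaleness and base change -/
theorem finEt_bc_of_coi {X Y : Scheme.{u}} (f : X ⟶ Y)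
    (h : ∃ (ι : Type u) (_ : Fintype ι) (e : ι → Γ(X, ⊤)), CompleteOrthogonalIdempotents e ∧
      ∀ (i : ι) ⦃T X' : Scheme.{u}⦄ (g : T ⟶ Y) (g' : X' ⟶ X) (f' : X' ⟶ T),
        IsAffine T → IsPullback g' f' f g → PieceCond f'.appTop.hom (g'.appTop.hom (e i)))
    [IsAffine Y] : FinEt f ∧ BC f := by
  obtain ⟨ι, hι, e, he, hpc⟩ := h
  have h1 : ∀ i, PieceCond f.appTop.hom (e i) := by
    intro i
    have := hpc i (𝟙 Y) (𝟙 X) f inferInstance (IsPullback.id_horiz f)
    simpa using this
  refine ⟨⟨ringHom_finite_of_pieceCond f.appTop.hom e he h1,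
    ringHom_etale_of_pieceCond f.appTop.hom e he h1⟩, ?_⟩
  intro T X' g g' f' hT sq
  exact isPushout_of_pieceCond f.appTop g.appTop g'.appTop f'.appTop (appTop_comm sq.w) e he h1
    (fun i => hpc i g g' f' hT sq)

theorem faithfullyFlat_appTop_SpecMap {R R' : CommRingCat.{u}} (φ : R ⟶ R')
    (h : φ.hom.FaithfullyFlat) : (Spec.map φ).appTop.hom.FaithfullyFlat := by
  have hnat : (Spec.map φ).appTop = (Scheme.ΓSpecIso R).hom ≫ φ ≫ (Scheme.ΓSpecIso R').inv := by
    rw [← Category.assoc, ← Scheme.ΓSpecIso_naturality, Category.assoc, Iso.hom_inv_id,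
      Category.comp_id]
  rw [hnat]
  have h1 : (Scheme.ΓSpecIso R).hom.hom.FaithfullyFlat :=
    RingHom.FaithfullyFlat.of_bijective
      ((ConcreteCategory.isIso_iff_bijective (Scheme.ΓSpecIso R).hom).mp inferInstance)
  have h3 : (Scheme.ΓSpecIso R').inv.hom.FaithfullyFlat :=
    RingHom.FaithfullyFlat.of_bijective
      ((ConcreteCategory.isIso_iff_bijective (Scheme.ΓSpecIso R').inv).mp inferInstance)
  exact RingHom.FaithfullyFlat.stableUnderComposition _ _ h1
    (RingHom.FaithfullyFlat.stableUnderComposition _ _ h h3)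

/-- **faithfully flat descent** of finite étaleness and base change of global sections -/
theorem finEt_bc_descent {X Y Y'' X'' : Scheme.{u}} [IsAffine Y] [IsAffine Y''] (f : X ⟶ Y)
    [QuasiCompact f] [QuasiSeparated f] (c : Y'' ⟶ Y) [Flat c]
    (hc : c.appTop.hom.FaithfullyFlat) (c' : X'' ⟶ X) (f'' : X'' ⟶ Y'')
    (sqc : IsPullback c' f'' f c) (h : FinEt f'' ∧ BC f'') : FinEt f ∧ BC f := by
  obtain ⟨⟨hfin, het⟩, hbc⟩ := h
  have h1 : BCsq f c c' f'' := BCsq.of_flat f c c' f'' sqc
  refine ⟨⟨?_, ?_⟩, ?_⟩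
  · exact codescends_of_isPushout (P := fun f => f.Finite) (Q := fun f => f.FaithfullyFlat)
      RingHom.Finite.codescendsAlong_faithfullyFlat h1 hc hfin
  · exact codescends_of_isPushout (P := fun f => f.Etale) (Q := fun f => f.FaithfullyFlat)
      RingHom.Etale.codescendsAlong_faithfullyFlat h1 hc het
  · intro T X' g g' f' hT sq
    haveI := hT
    haveI : QuasiCompact f' := MorphismProperty.of_isPullback (P := @QuasiCompact) sq inferInstance
    haveI : QuasiSeparated f' :=
      MorphismProperty.of_isPullback (P := @QuasiSeparated) sq inferInstance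
    let τ : pullback g c ⟶ T := pullback.fst g c
    let g'' : pullback g c ⟶ Y'' := pullback.snd g c
    haveI : Flat τ := MorphismProperty.pullback_fst (P := @Flat) _ _ inferInstance
    let a : pullback f' τ ⟶ X' := pullback.fst f' τ
    let f₃ : pullback f' τ ⟶ pullback g c := pullback.snd f' τ
    have sq3 : IsPullback a f₃ f' τ := IsPullback.of_hasPullback f' τ
    have hτ : τ.appTop.hom.FaithfullyFlat := by
      have h4 : BCsq g c τ g'' := BCsq.of_flat g c τ g'' (IsPullback.of_hasPullback g c)
      exact baseChange_of_isPushout (P := fun f => f.FaithfullyFlat)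
        RingHom.FaithfullyFlat.isStableUnderBaseChange h4.flip hc
    have hw : (a ≫ g') ≫ f = (f₃ ≫ g'') ≫ c := by
      rw [Category.assoc, sq.w, ← Category.assoc, sq3.w, Category.assoc, Category.assoc,
        pullback.condition]
    let b : pullback f' τ ⟶ X'' := sqc.lift (a ≫ g') (f₃ ≫ g'') hw
    have hb1 : b ≫ c' = a ≫ g' := sqc.lift_fst _ _ _
    have hb2 : b ≫ f'' = f₃ ≫ g'' := sqc.lift_snd _ _ _
    have sq2 : IsPullback b f₃ f'' g'' := by
      refine IsPullback.of_right ?_ hb2 sqc
      rw [hb1, ← pullback.condition]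
      exact sq3.paste_horiz sq
    have h2 : BCsq f'' g'' b f₃ := hbc g'' b f₃ inferInstance sq2
    have h12 : BCsq f (τ ≫ g) (a ≫ g') f₃ :=
      (h1.paste h2).congr pullback.condition.symm hb1
    exact BCsq.of_faithfullyFlat sq.w τ hτ a f₃ sq3 h12

end Groth.Agent.Lib.helper11.FE
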