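import Mathlib
import Groth.Agent.Lib.helper11.FEAlg

/-!
# Finite reduced algebras over an algebraically closed field, and the converse piece lemma (helper11)
-/

set_option autoImplicit false
set_option linter.style.haveILetI false
universe u

namespace Groth.Agent.Lib.helper11.FE

section Converse

variable {R : Type*} {B : Type*} [CommRing R] [CommRing B]

theorem bijective_of_pieceCond (φ : R →+* B) (e : B) (he : IsIdempotentElem e)
    (B' : Type*) [CommRing B'] [Algebra B B'] [IsLocalization.Away e B']
    (h : PieceCond φ e) : Function.Bijective ((algebraMap B B').comp φ) := by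
  have hunit : algebraMap B B' e = 1 := by
    have hu : IsUnit (algebraMap B B' e) := IsLocalization.Away.algebraMap_isUnit e
    have hid : algebraMap B B' e * algebraMap B B' e = algebraMap B B' e * 1 := by
      rw [← map_mul, he.eq, mul_one]
    exact hu.mul_left_cancel hid
  have hme : ∀ x : B, algebraMap B B' (x * e) = algebraMap B B' x := fun x => by
    rw [map_mul, hunit, mul_one]
  have hpow : ∀ n : ℕ, e * e ^ n = e := fun n => by
    rw [← pow_succ']
    exact he.pow_succ_eq n
  constructor
  · rw [injective_iff_map_eq_zero]
    intro a ha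
    have ha' : algebraMap B B' (φ a) = algebraMap B B' 0 := by
      rw [map_zero]; exact ha
    obtain ⟨⟨c, n, rfl⟩, hc⟩ := (IsLocalization.eq_iff_exists (Submonoid.powers e) B').mp ha'
    have hc' : e ^ n * φ a = e ^ n * 0 := hc
    rw [mul_zero] at hc'
    have h1 : φ a * e = 0 * e := by
      rw [zero_mul, mul_comm, ← hpow n, mul_assoc, hc', mul_zero]
    obtain ⟨a0, -, huniq⟩ := h 0
    have h2 : φ 0 * e = 0 * e := by rw [map_zero]
    rw [huniq a h1, ← huniq 0 h2]
  · intro z
    obtain ⟨⟨b, ⟨c, n, rfl⟩⟩, hz⟩ := IsLocalization.surj (Submonoid.powers e) z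
    have hz' : z * algebraMap B B' (e ^ n) = algebraMap B B' b := hz
    rw [map_pow, hunit, one_pow, mul_one] at hz'
    obtain ⟨a, ha, -⟩ := h b
    refine ⟨a, ?_⟩
    change algebraMap B B' (φ a) = z
    rw [hz', ← hme (φ a), ha, hme]

end Converse

section Field

open Classical in
/-- a finite reduced algebra over an algebraically closed field is a finite product of copies of
the field, in idempotent form -/
theorem exists_coi_of_reduced_finite (K : Type u) [Field K] [IsAlgClosed K] (E : Type u)
    [CommRing E] [Algebra K E] [Module.Finite K E] [IsReduced E] :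
    ∃ (ι : Type u) (_ : Fintype ι) (ε : ι → E), CompleteOrthogonalIdempotents ε ∧
      ∀ i, PieceCond (algebraMap K E) (ε i) := by
  haveI : IsArtinianRing E := IsArtinianRing.of_finite K E
  haveI : Fintype (MaximalSpectrum E) := Fintype.ofFinite _
  let e := IsArtinianRing.equivPi E
  let ε : MaximalSpectrum E → E := fun m => e.symm (Pi.single m 1)
  have hcoi : CompleteOrthogonalIdempotents ε :=
    (CompleteOrthogonalIdempotents.single (fun m : MaximalSpectrum E => E ⧸ m.asIdeal)).map
      (e.symm : (∀ m : MaximalSpectrum E, E ⧸ m.asIdeal) →+* E)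
  refine ⟨MaximalSpectrum E, inferInstance, ε, hcoi, fun m x => ?_⟩
  haveI := m.isMaximal
  letI : Field (E ⧸ m.asIdeal) := Ideal.Quotient.field m.asIdeal
  have hbij : Function.Bijective (algebraMap K (E ⧸ m.asIdeal)) :=
    IsAlgClosed.algebraMap_bijective_of_isIntegral
  have key : ∀ y z : E, y * ε m = z * ε m ↔
      Ideal.Quotient.mk m.asIdeal y = Ideal.Quotient.mk m.asIdeal z := by
    intro y z
    have h1 : ∀ w : E, e (w * ε m) = Pi.single m (Ideal.Quotient.mk m.asIdeal w) := by
      intro w
      rw [map_mul]
      have : e (ε m) = Pi.single m 1 := e.apply_symm_apply _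
      rw [this]
      ext m'
      by_cases hm : m' = m
      · subst hm
        simp only [Pi.mul_apply, Pi.single_eq_same, mul_one]
        exact IsArtinianRing.equivPi_apply E w m'
      · simp only [Pi.mul_apply, Pi.single_eq_of_ne hm, mul_zero]
    constructor
    · intro h
      have := congrArg e h
      rw [h1, h1] at this
      exact Pi.single_injective m this
    · intro h
      apply e.injective
      rw [h1, h1, h]
  obtain ⟨c, hc⟩ := hbij.2 (Ideal.Quotient.mk m.asIdeal x)
  refine ⟨c, (key _ _).mpr hc, fun c' hc' => ?_⟩
  have := (key _ _).mp hc'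
  exact hbij.1 (this.trans hc.symm)

end Field

end Groth.Agent.Lib.helper11.FE
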