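import Groth.Agent.Lib.helper11.UnitSec
import Groth.Agent.Lib.helper11.H0Finrank
import Mathlib

/-!
# The unit-section trick, II: all generizations (helper11)

`f : X ⟶ Y` proper flat, `Y` locally noetherian, `κ(y) → Γ(X_y, O)` bijective.  Then
`κ(z) → Γ(X_z, O)` is bijective for every generization `z` of `y`.
-/

set_option backward.isDefEq.respectTransparency.types false
set_option autoImplicit false
set_option linter.style.haveILetI false
set_option linter.unusedSectionVars false
universe u
open CategoryTheory CategoryTheory.Limits AlgebraicGeometry Opposite TopologicalSpace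

noncomputable section
namespace Groth.Agent.Lib.helper11.UnitSec

open Groth.Agent.Lib.Helper6.FibreLink Groth.Agent.Lib.Helper6.GrothLocal

section Rank

variable {X Y : Scheme.{u}} (f : X ⟶ Y) (y : Y)

/-- `h^0(X_y, O_{X_y}) = dim_{κ(y)} Γ(X_y, O)` -/
theorem fiberRank_structureModule_zero_eq :
    CohIII.fiberRank f (Coh.structureModule X) 0 y =
      Module.finrank (Y.residueField y) Γ(f.fiber y, ⊤) := by
  unfold CohIII.fiberRank
  letI : (f.fiber y).Over (Spec (CommRingCat.of ↑(Y.residueField y))) :=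
    ⟨f.fiberToSpecResidueField y⟩
  let i : CohIII.fiberMod f (Coh.structureModule X) y ≅ Coh.structureModule (f.fiber y) :=
    Groth.Agent.Lib.Helper16.RS.pullbackUnitIso (f.fiberι y)
  let e1 : CohIII.fiberH f (Coh.structureModule X) y 0 ≃ₗ[Y.residueField y]
      Coh.HH (f.fiber y) (Coh.structureModule (f.fiber y)) 0 :=
    ((Groth.Agent.Lib.Helper4.HHFun.HHfun (Y.residueField y) (X := f.fiber y) 0).mapIso i).toLinearEquiv
  let e0 := Groth.Agent.Lib.Helper13.AlbTriv.e0 (f.fiber y)
  let e2 : Coh.HH (f.fiber y) (Coh.structureModule (f.fiber y)) 0 ≃ₗ[Y.residueField y]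
      Γ(f.fiber y, ⊤) :=
    { toFun := fun x => e0 x
      invFun := fun c => e0.symm c
      map_add' := fun a b => map_add e0 a b
      map_smul' := fun c x => by
        simp only [RingHom.id_apply, Algebra.smul_def]
        exact Groth.Agent.Lib.Helper13.AlbTriv.e0_smul (Y.residueField y) (f.fiber y) c x
      left_inv := fun x => e0.symm_apply_apply x
      right_inv := fun c => e0.apply_symm_apply c }
  exact (e1 ≪≫ₗ e2).finrank_eq

end Rank

section Final

variable {X Y : Scheme.{u}} (f : X ⟶ Y) (y : Y) [IsProper f] [Flat f] [IsLocallyNoetherian Y]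
  [HasInjectiveResolutions X.Modules]

/-- `h^0(X_z, O) = 1` for all generizations `z` of `y` when `κ(y) → Γ(X_y, O)` is bijective -/
theorem fiberRank_zero_fromSpecStalk
    (hy : Function.Bijective (algebraMap (Y.residueField y) Γ(f.fiber y, ⊤)))
    (𝔮 : PrimeSpectrum (Y.presheaf.stalk y)) :
    CohIII.fiberRank f (Coh.structureModule X) 0 (Y.fromSpecStalk y 𝔮) = 1 := by
  have hF : Coh.IsCoh (Coh.structureModule X) := Groth.Agent.Lib.Helper6.DevRed.isCoh_structureModule
  have hfl : FlatMod.IsFlatOver f (Coh.structureModule X) :=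
    Groth.Agent.Lib.Helper25.UnitDense.isFlatOver_structureModule f
  obtain ⟨L, t, h1, h2, hnat, hst, hdr, hneg⟩ :=
    exists_local_complex_nat f y (Coh.structureModule X) hF hfl
  have hP : ∀ i, Module.Finite (Y.presheaf.stalk y) (L.X i) ∧ Module.Flat (Y.presheaf.stalk y) (L.X i) :=
    fun i => ⟨(h1 i).1, haveI := (h1 i).2; inferInstance⟩
  have hflat : ∀ i, Module.Flat (Y.presheaf.stalk y) (L.X i) := fun i => (hP i).2
  have hr : CohIII.dRank L 0 (IsLocalRing.closedPoint (Y.presheaf.stalk y)) = 1 := by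
    have h5 := hdr 0 (IsLocalRing.closedPoint (Y.presheaf.stalk y))
    rw [Scheme.fromSpecStalk_closedPoint, Nat.cast_zero] at h5
    rw [h5]
    exact fiberRank_structureModule_zero f y hy
  obtain ⟨e⟩ := hnat 0
  let ψ : Coh.structureModule (XL f y) ⟶ FL f y (Coh.structureModule X) :=
    (Groth.Agent.Lib.Helper16.RS.pullbackUnitIso (gL f y)).inv
  have hsurj : Function.Surjective ((CohIII.TFun L 0).map
      (TFunLocal.resMap (Y.presheaf.stalk y))).hom :=
    surjective_resMap_of_unit (Y.presheaf.stalk y) (FL f y (Coh.structureModule X)) ψ L e hr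
  have he : (CohIII.TFun L 0).PreservesEpimorphisms :=
    TFunLocal.preservesEpi_of_surjective L hP 0 1 (by simp) hsurj
  have hm : (CohIII.TFun L 0).PreservesMonomorphisms := by
    refine (TFunBasic.preservesEpi_iff_preservesMono L hflat (-1) 0 (by simp)).1 ⟨fun {M N} g _ => ?_⟩
    exact (hneg (-1) (by omega) N).epi _
  haveI hfree : Module.Free (Y.presheaf.stalk y)
      ((CohIII.TFun L 0).obj (ModuleCat.of (Y.presheaf.stalk y) (Y.presheaf.stalk y))) :=
    ((TFunExact.exact_iff_preservesEpi_and_free L 0 hP).1 ⟨hm, he⟩).2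
  haveI hfree' : Module.Free (Y.presheaf.stalk y)
      (CohIII.T L (0 : ℤ) (ModuleCat.of (Y.presheaf.stalk y) (Y.presheaf.stalk y)) :
        ModuleCat.{u} (Y.presheaf.stalk y)) := hfree
  haveI hfreeH : Module.Free (Y.presheaf.stalk y)
      (L.homology (0 : ℤ) : ModuleCat.{u} (Y.presheaf.stalk y)) :=
    Module.Free.of_equiv (Groth.Agent.Lib.helper11.DRankFlat.TAEquiv L (0 : ℤ))
  have hd : ∀ x : PrimeSpectrum (Y.presheaf.stalk y), CohIII.dRank L 0 x =
      Module.finrank (Y.presheaf.stalk y) (L.homology (0 : ℤ) : ModuleCat.{u} (Y.presheaf.stalk y)) := by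
    intro x
    rw [Groth.Agent.Lib.helper11.DRankFlat.dRank_eq_fibDim_homology L hflat 0 1 (by simp) he]
    unfold Groth.Agent.Lib.helper11.FibDim.fibDim
    exact Module.finrank_baseChange
  have h6 := hdr 0 𝔮
  rw [Nat.cast_zero] at h6
  rw [← h6, hd 𝔮, ← hd (IsLocalRing.closedPoint (Y.presheaf.stalk y)), hr]

/-- `κ(z) → Γ(X_z, O)` is an isomorphism for every generization `z` of `y` when it is so at `y`. -/
theorem isIso_fiber_appTop_of_specializes {z : Y} (hz : z ⤳ y)
    (hy : IsIso (f.fiberToSpecResidueField y).appTop) :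
    IsIso (f.fiberToSpecResidueField z).appTop := by
  have hy' : Function.Bijective (algebraMap (Y.residueField y) Γ(f.fiber y, ⊤)) := by
    rw [← Algebra.finrank_eq_one_iff_bijective_algebraMap]
    exact (Groth.Agent.Lib.helper11.H0.finrank_eq_one_iff_isIso_appTop f y).mpr hy
  have hmem : z ∈ Set.range (Y.fromSpecStalk y) := by
    rw [Scheme.range_fromSpecStalk]
    exact hz
  obtain ⟨𝔮, rfl⟩ := hmem
  rw [← Groth.Agent.Lib.helper11.H0.finrank_eq_one_iff_isIso_appTop,
    ← fiberRank_structureModule_zero_eq]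
  exact fiberRank_zero_fromSpecStalk f y hy' 𝔮

end Final

end Groth.Agent.Lib.helper11.UnitSec
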