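import Mathlib
import Groth.Agent.Lib.helper11.UnitSec2
import Groth.Agent.Lib.helper11.H0Local
import Groth.Agent.Lib.Helper2.SD5

/-!
# `H⁰` of all fibres from the closed fibre, over an arbitrary local base (helper11)

`B` local, `f : X ⟶ Spec B` proper flat of finite presentation with `κ → Γ(X_s, O)` an isomorphism
at the closed point. Then the same holds at every point, hence universally.
-/

set_option autoImplicit false
set_option linter.style.haveILetI false
universe u
open CategoryTheory CategoryTheory.Limits AlgebraicGeometry Opposite TopologicalSpace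

namespace Groth.Agent.Lib.helper11.FE

open Groth.Agent.Lib.Helper22 Groth.Agent.Lib.lead.HensK Groth.Agent.Lib.helper11.H0

theorem isIso_fiber_appTop_of_isLocalRing (B : Type u) [CommRing B] [IsLocalRing B] {X : Scheme.{u}}
    (f : X ⟶ Spec (CommRingCat.of B)) [IsProper f] [Flat f] [LocallyOfFinitePresentation f]
    (h0 : IsIso (f.fiberToSpecResidueField (IsLocalRing.closedPoint B)).appTop)
    (s : Spec (CommRingCat.of B)) :
    IsIso (f.fiberToSpecResidueField s).appTop := by
  let D := fgDiag B
  let c := fgCone B
  have hc : IsLimit c := fgIsLimit B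
  haveI : ∀ i, CompactSpace (D.obj i) := fun i => inferInstance
  haveI : ∀ i, QuasiSeparatedSpace (D.obj i) := fun i => inferInstance
  haveI : ∀ (i j : (Finset B)ᵒᵖ) (a : i ⟶ j), IsAffineHom (D.map a) := fun i j a => inferInstance
  let f' : X ⟶ c.pt := f
  haveI : IsProper f' := ‹IsProper f›
  haveI : Flat f' := ‹Flat f›
  haveI : LocallyOfFinitePresentation f' := ‹LocallyOfFinitePresentation f›
  obtain ⟨j₀, Y₀, h₀, g₀, hprop, hflat, hfp, hpb⟩ := exists_proper_flat_fp_model D c hc f'
  haveI := hprop
  haveI := hflat
  haveI := hfp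
  haveI : IsLocallyNoetherian (D.obj j₀) := by
    show IsLocallyNoetherian (Spec (CommRingCat.of (fgSub B j₀.unop)))
    infer_instance
  have key : ∀ t : Spec (CommRingCat.of B),
      IsIso (f.fiberToSpecResidueField t).appTop ↔
        IsIso (h₀.fiberToSpecResidueField ((c.π.app j₀) t)).appTop := by
    intro t
    have hfib := isPullback_fiberToSpecResidueField_of_isPullback hpb t
    haveI : CompactSpace ↥(h₀.fiber ((c.π.app j₀) t)) :=
      QuasiCompact.compactSpace_of_compactSpace (h₀.fiberToSpecResidueField _)
    haveI : QuasiSeparated (h₀.fiberToSpecResidueField ((c.π.app j₀) t)) :=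
      MorphismProperty.pullback_snd (P := @QuasiSeparated) _ _ inferInstance
    haveI : QuasiSeparatedSpace ↥(h₀.fiber ((c.π.app j₀) t)) :=
      quasiSeparatedSpace_of_quasiSeparated (h₀.fiberToSpecResidueField _)
    exact isIso_appTop_iff_of_isPullback_field (Field.toIsField _) (Field.toIsField _) _ _ _ _ hfib
  rw [key]
  have h1 := (key (IsLocalRing.closedPoint B)).mp h0
  have hsp : s ⤳ IsLocalRing.closedPoint B := IsLocalRing.specializes_closedPoint (R := B) s
  haveI : HasInjectiveResolutions Y₀.Modules := inferInstance
  exact Groth.Agent.Lib.helper11.UnitSec.isIso_fiber_appTop_of_specializes h₀ _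
    (hsp.map (c.π.app j₀).continuous) h1

/-- universal form: all sections of all base changes -/
theorem isIso_app_baseChange_of_isLocalRing (B : Type u) [CommRing B] [IsLocalRing B]
    {X : Scheme.{u}}
    (f : X ⟶ Spec (CommRingCat.of B)) [IsProper f] [Flat f] [LocallyOfFinitePresentation f]
    (h0 : IsIso (f.fiberToSpecResidueField (IsLocalRing.closedPoint B)).appTop)
    {T X' : Scheme.{u}} (g : T ⟶ Spec (CommRingCat.of B)) (g' : X' ⟶ X) (f' : X' ⟶ T)
    (sq : IsPullback g' f' f g) (U : T.Opens) : IsIso (f'.app U) := by
  have h' : ∀ s, IsIso (f.fiberToSpecResidueField s).appTop :=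
    isIso_fiber_appTop_of_isLocalRing B f h0
  haveI : IsProper f' := MorphismProperty.of_isPullback (P := @IsProper) sq inferInstance
  haveI : Flat f' := MorphismProperty.of_isPullback (P := @Flat) sq inferInstance
  haveI : LocallyOfFinitePresentation f' :=
    MorphismProperty.of_isPullback (P := @LocallyOfFinitePresentation) sq inferInstance
  refine isIso_app f' (fun t => ?_) U
  have hfib := isPullback_fiberToSpecResidueField_of_isPullback sq t
  haveI : QuasiCompact (f.fiberToSpecResidueField (g t)) :=
    MorphismProperty.pullback_snd (P := @QuasiCompact) _ _ inferInstance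
  haveI : QuasiSeparated (f.fiberToSpecResidueField (g t)) :=
    MorphismProperty.pullback_snd (P := @QuasiSeparated) _ _ inferInstance
  haveI : CompactSpace ↥(f.fiber (g t)) :=
    QuasiCompact.compactSpace_of_compactSpace (f.fiberToSpecResidueField (g t))
  haveI : QuasiSeparatedSpace ↥(f.fiber (g t)) :=
    quasiSeparatedSpace_of_quasiSeparated (f.fiberToSpecResidueField (g t))
  exact (isIso_appTop_iff_of_isPullback_field (Field.toIsField _) (Field.toIsField _) _ _ _ _
    hfib).mpr (h' (g t))

end Groth.Agent.Lib.helper11.FE
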