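import Mathlib
import Groth.Agent.Lib.helper11.FEStageA
import Groth.Agent.Lib.helper11.FEDefs
import Groth.Agent.Lib.Helper12.HCoupA

/-!
# Clopen pieces with trivial `H⁰` of the closed fibre (helper11)

`B` local, `f : X ⟶ Spec B` proper flat of finite presentation, `e ∈ Γ(X, O)` idempotent such that
the closed fibre of the clopen piece `D(e)` has `H⁰ = κ`. Then for every base change `X' → T` to an
affine scheme, the `e`-piece of `Γ(X', O)` is a copy of `Γ(T, O)`.
-/

set_option autoImplicit false
set_option linter.style.haveILetI false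
universe u
open CategoryTheory CategoryTheory.Limits AlgebraicGeometry Opposite TopologicalSpace

namespace Groth.Agent.Lib.helper11.FE

/-- `IsIso` of the `H⁰` map of a fibre can be tested on any field-valued point over it -/
theorem isIso_appTop_iff_fiber {X S F : Scheme.{u}} (f : X ⟶ S) [QuasiCompact f]
    [QuasiSeparated f] (K : Type u) [Field K] (s : S) (φ : S.residueField s ⟶ CommRingCat.of K)
    (a : F ⟶ X) (b : F ⟶ Spec (CommRingCat.of K))
    (sq : IsPullback a b f (Spec.map φ ≫ S.fromSpecResidueField s)) :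
    IsIso b.appTop ↔ IsIso (f.fiberToSpecResidueField s).appTop := by
  let q : F ⟶ f.fiber s :=
    pullback.lift a (b ≫ Spec.map φ) (by rw [sq.w, Category.assoc])
  have hbig : IsPullback (q ≫ pullback.fst f (S.fromSpecResidueField s)) b f
      (Spec.map φ ≫ S.fromSpecResidueField s) := by
    have : q ≫ pullback.fst f (S.fromSpecResidueField s) = a := pullback.lift_fst _ _ _
    rw [this]
    exact sq
  have hq : IsPullback q b (f.fiberToSpecResidueField s) (Spec.map φ) :=
    IsPullback.of_right hbig (pullback.lift_snd _ _ _)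
      (IsPullback.of_hasPullback f (S.fromSpecResidueField s))
  haveI : QuasiCompact (f.fiberToSpecResidueField s) :=
    MorphismProperty.pullback_snd (P := @QuasiCompact) _ _ inferInstance
  haveI : QuasiSeparated (f.fiberToSpecResidueField s) :=
    MorphismProperty.pullback_snd (P := @QuasiSeparated) _ _ inferInstance
  haveI : CompactSpace ↥(f.fiber s) :=
    QuasiCompact.compactSpace_of_compactSpace (f.fiberToSpecResidueField s)
  haveI : QuasiSeparatedSpace ↥(f.fiber s) :=
    quasiSeparatedSpace_of_quasiSeparated (f.fiberToSpecResidueField s)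
  exact Groth.Agent.Lib.helper11.H0.isIso_appTop_iff_of_isPullback_field (Field.toIsField _)
    (Field.toIsField _) φ (f.fiberToSpecResidueField s) b q hq

section Piece

variable (B : Type u) [CommRing B] [IsLocalRing B] {X : Scheme.{u}}
  (f : X ⟶ Spec (CommRingCat.of B)) [IsProper f] [Flat f] [LocallyOfFinitePresentation f]

theorem isClosedImmersion_ι_of_isClosed (U : X.Opens) (hU : IsClosed (U : Set X)) :
    IsClosedImmersion U.ι := by
  apply IsClosedImmersion.of_isPreimmersion
  rw [Scheme.Opens.range_ι]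
  exact hU

theorem isIso_piece (U : X.Opens) (hU : IsClosed (U : Set X))
    (h0 : IsIso ((U.ι ≫ f).fiberToSpecResidueField (IsLocalRing.closedPoint B)).appTop)
    {T X' : Scheme.{u}} (g : T ⟶ Spec (CommRingCat.of B)) (g' : X' ⟶ X) (f' : X' ⟶ T)
    (sq : IsPullback g' f' f g) (W : T.Opens) :
    IsIso (((g' ⁻¹ᵁ U).ι ≫ f').app W) := by
  haveI := isClosedImmersion_ι_of_isClosed U hU
  haveI : IsProper (U.ι ≫ f) := inferInstance
  haveI : Flat (U.ι ≫ f) := inferInstance
  haveI : LocallyOfFinitePresentation (U.ι ≫ f) := inferInstance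
  have sqU : IsPullback (g' ∣_ U) ((g' ⁻¹ᵁ U).ι ≫ f') (U.ι ≫ f) g :=
    (isPullback_morphismRestrict g' U).paste_vert sq
  exact isIso_app_baseChange_of_isLocalRing B (U.ι ≫ f) h0 g (g' ∣_ U) ((g' ⁻¹ᵁ U).ι ≫ f') sqU W

theorem bijective_res_comp_appTop_of_piece (U : X.Opens) (hU : IsClosed (U : Set X))
    (h0 : IsIso ((U.ι ≫ f).fiberToSpecResidueField (IsLocalRing.closedPoint B)).appTop)
    {T X' : Scheme.{u}} (g : T ⟶ Spec (CommRingCat.of B)) (g' : X' ⟶ X) (f' : X' ⟶ T)
    (sq : IsPullback g' f' f g) (V : X'.Opens) (hV : V = g' ⁻¹ᵁ U) :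
    Function.Bijective ((X'.presheaf.map (homOfLE (le_top : V ≤ ⊤)).op).hom.comp f'.appTop.hom) := by
  subst hV
  have hiso := isIso_piece B f U hU h0 g g' f' sq ⊤
  have hbij := (ConcreteCategory.isIso_iff_bijective _).mp hiso
  set U' := g' ⁻¹ᵁ U with hU'
  -- the target open of the restricted morphism
  have hopen : U'.ι ''ᵁ (((U').ι ≫ f') ⁻¹ᵁ ⊤) = U' := by
    rw [show ((U').ι ≫ f') ⁻¹ᵁ ⊤ = ⊤ from rfl]
    exact Scheme.Opens.ι_image_top U'
  have hcomp : ((U').ι ≫ f').app ⊤ ≫ X'.presheaf.map (eqToHom hopen.symm).op =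
      f'.appTop ≫ X'.presheaf.map (homOfLE (le_top : U' ≤ ⊤)).op := by
    rw [Scheme.Hom.comp_app, Scheme.Opens.ι_app]
    erw [Category.assoc, ← Functor.map_comp]
    rfl
  have hr : Function.Bijective (X'.presheaf.map (eqToHom hopen.symm).op).hom :=
    (ConcreteCategory.isIso_iff_bijective _).mp inferInstance
  have := hr.comp hbij
  have h2 : (X'.presheaf.map (homOfLE (le_top : U' ≤ ⊤)).op).hom.comp f'.appTop.hom =
      (((U').ι ≫ f').app ⊤ ≫ X'.presheaf.map (eqToHom hopen.symm).op).hom := by
    rw [hcomp]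
    rfl
  rw [h2]
  exact this

/-- the `e`-piece of every base change is a copy of the base -/
theorem pieceCond_of_piece (e : Γ(X, ⊤)) (he : IsIdempotentElem e)
    (h0 : IsIso (((X.basicOpen e).ι ≫ f).fiberToSpecResidueField
      (IsLocalRing.closedPoint B)).appTop)
    {T X' : Scheme.{u}} [IsAffine T] (g : T ⟶ Spec (CommRingCat.of B)) (g' : X' ⟶ X) (f' : X' ⟶ T)
    (sq : IsPullback g' f' f g) : PieceCond f'.appTop.hom (g'.appTop.hom e) := by
  have hcl := Groth.Agent.Lib.Helper12.HCoup.isClosed_basicOpen_of_isIdempotentElem X e he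
  haveI : QuasiCompact f' := MorphismProperty.of_isPullback (P := @QuasiCompact) sq inferInstance
  haveI : QuasiSeparated f' :=
    MorphismProperty.of_isPullback (P := @QuasiSeparated) sq inferInstance
  haveI : CompactSpace X' := QuasiCompact.compactSpace_of_compactSpace f'
  haveI : QuasiSeparatedSpace X' := quasiSeparatedSpace_of_quasiSeparated f'
  have hV : X'.basicOpen (g'.appTop.hom e) = g' ⁻¹ᵁ (X.basicOpen e) :=
    (Scheme.preimage_basicOpen_top g' e).symm
  have hbij := bijective_res_comp_appTop_of_piece B f (X.basicOpen e) hcl h0 g g' f' sq _ hV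
  haveI : IsLocalization.Away (g'.appTop.hom e) Γ(X', X'.basicOpen (g'.appTop.hom e)) :=
    isLocalization_basicOpen_of_qcqs (U := ⊤) isCompact_univ
      (isQuasiSeparated_univ_iff.mpr inferInstance) (g'.appTop.hom e)
  exact pieceCond_of_isLocalization f'.appTop.hom (g'.appTop.hom e) (he.map g'.appTop.hom)
    Γ(X', X'.basicOpen (g'.appTop.hom e)) hbij

end Piece

end Groth.Agent.Lib.helper11.FE
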