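import Mathlib
import Groth.Agent.Lib.helper11.FEPiece
import Groth.Agent.Lib.helper11.FEAlg2
import Groth.Agent.Lib.lead.HensKF
import Groth.Agent.Lib.Helper21.ProperGamma1

/-!
# The henselian case of the finite-étaleness theorem (helper11)
-/

set_option autoImplicit false
set_option linter.style.haveILetI false
universe u
open CategoryTheory CategoryTheory.Limits AlgebraicGeometry Opposite TopologicalSpace

namespace Groth.Agent.Lib.helper11.FE

theorem isIso_ι_comp_appTop_iff {F S : Scheme.{u}} (p : F ⟶ S) (W : F.Opens) :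
    IsIso ((W.ι ≫ p).appTop) ↔
      Function.Bijective ((F.presheaf.map (homOfLE (le_top : W ≤ ⊤)).op).hom.comp p.appTop.hom) := by
  have hopen : W.ι ''ᵁ ⊤ = W := Scheme.Opens.ι_image_top W
  have hcomp : (W.ι ≫ p).appTop ≫ F.presheaf.map (eqToHom hopen.symm).op =
      p.appTop ≫ F.presheaf.map (homOfLE (le_top : W ≤ ⊤)).op := by
    rw [Scheme.Hom.comp_appTop, Scheme.Opens.ι_appTop]
    erw [Category.assoc, ← Functor.map_comp]
    rfl
  have h2 : (F.presheaf.map (homOfLE (le_top : W ≤ ⊤)).op).hom.comp p.appTop.hom =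
      ((W.ι ≫ p).appTop ≫ F.presheaf.map (eqToHom hopen.symm).op).hom := by
    rw [hcomp]
    rfl
  haveI hr : IsIso (F.presheaf.map (eqToHom hopen.symm).op) := by
    rw [eqToHom_op, eqToHom_map]
    infer_instance
  rw [h2, ← ConcreteCategory.isIso_iff_bijective]
  constructor
  · intro h
    exact @IsIso.comp_isIso _ _ _ _ _ _ _ h hr
  · intro h
    exact @IsIso.of_isIso_comp_right _ _ _ _ _ (W.ι ≫ p).appTop
      (F.presheaf.map (eqToHom hopen.symm).op) hr h

section Lift

variable (A : Type u) [CommRing A] (I : Ideal A) [HenselianRing A I]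
  (Ω : Type u) [Field Ω] (φ : A →+* Ω) (hφs : Function.Surjective φ) (hφk : RingHom.ker φ = I)
  {X : Scheme.{u}} (f : X ⟶ Spec (CommRingCat.of A)) [IsProper f] [LocallyOfFinitePresentation f]

include hφs hφk in
theorem range_SpecMap_eq :
    Set.range (Spec.map (CommRingCat.ofHom φ)) = PrimeSpectrum.zeroLocus (I : Set A) := by
  rw [← hφk]
  exact range_comap_of_surjective _ φ hφs

include hφs hφk in
theorem range_fst_eq :
    Set.range (pullback.fst f (Spec.map (CommRingCat.ofHom φ))) =
      f ⁻¹' PrimeSpectrum.zeroLocus (I : Set A) := by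
  rw [Scheme.Pullback.range_fst, range_SpecMap_eq A I Ω φ hφs hφk]

include hφs hφk in
theorem existsUnique_idempotent_lift (ε : Γ(pullback f (Spec.map (CommRingCat.ofHom φ)), ⊤))
    (hε : IsIdempotentElem ε) :
    ∃! e : Γ(X, ⊤), IsIdempotentElem e ∧
      (pullback.fst f (Spec.map (CommRingCat.ofHom φ))).appTop.hom e = ε := by
  haveI : IsClosedImmersion (Spec.map (CommRingCat.ofHom φ)) :=
    IsClosedImmersion.spec_of_surjective _ hφs
  let F := pullback f (Spec.map (CommRingCat.ofHom φ))
  let ιF : F ⟶ X := pullback.fst f (Spec.map (CommRingCat.ofHom φ))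
  change ∃! e : Γ(X, ⊤), IsIdempotentElem e ∧ ιF.appTop.hom e = ε
  haveI : IsClosedImmersion ιF :=
    MorphismProperty.pullback_fst (P := @IsClosedImmersion) _ _ inferInstance
  haveI : CompactSpace X := QuasiCompact.compactSpace_of_compactSpace f
  haveI : CompactSpace F := QuasiCompact.compactSpace_of_compactSpace ιF
  set Z : Set X := f ⁻¹' PrimeSpectrum.zeroLocus (I : Set A) with hZ
  have hrange : Set.range ιF = Z := range_fst_eq A I Ω φ hφs hφk f
  have hemb : Topology.IsClosedEmbedding ιF := ιF.isClosedEmbedding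
  have hinter : ∀ e : Γ(X, ⊤), (X.basicOpen e : Set X) ∩ Z =
      ιF '' (F.basicOpen (ιF.appTop.hom e) : Set F) := by
    intro e
    have h1 : F.basicOpen (ιF.appTop.hom e) = ιF ⁻¹ᵁ (X.basicOpen e) :=
      (Scheme.preimage_basicOpen_top ιF e).symm
    rw [h1, ← hrange]
    exact (Set.image_preimage_eq_inter_range).symm
  have hclopen : ∀ e : Γ(X, ⊤), IsIdempotentElem e → IsClopen (X.basicOpen e : Set X) :=
    fun e he => ⟨Groth.Agent.Lib.Helper12.HCoup.isClosed_basicOpen_of_isIdempotentElem X e he,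
      (X.basicOpen e).isOpen⟩
  -- existence
  have hex : ∃ e : Γ(X, ⊤), IsIdempotentElem e ∧ ιF.appTop.hom e = ε := by
    set V : Set X := ιF '' (F.basicOpen ε : Set F) with hV
    have hVZ : V ⊆ Z := by
      rw [← hrange]
      exact Set.image_subset_range _ _
    have hVc : IsClosed V :=
      hemb.isClosedMap _
        (Groth.Agent.Lib.Helper12.HCoup.isClosed_basicOpen_of_isIdempotentElem F ε hε)
    have hW : IsClosed (Z \ V) := by
      have : Z \ V = ιF '' ((F.basicOpen ε : Set F)ᶜ) := by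
        rw [Set.image_compl_eq_range_diff_image hemb.injective, hrange]
      rw [this]
      exact hemb.isClosedMap _ (F.basicOpen ε).isOpen.isClosed_compl
    obtain ⟨U, hU, hUV⟩ := Groth.Agent.Lib.lead.HensK.exists_clopen_of_fp A I f V hVZ hVc hW
    obtain ⟨e, he, hbo⟩ := Groth.Agent.Lib.Helper12.HCoup.exists_idempotent_basicOpen_eq X
      ⟨U, hU.isOpen⟩ hU.isClosed
    refine ⟨e, he, ?_⟩
    apply Groth.Agent.Lib.Helper12.HCoup.idempotent_eq_of_basicOpen_eq F _ _
      (he.map ιF.appTop.hom) hε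
    apply Opens.ext
    apply hemb.injective.image_injective
    rw [← hinter e, hbo]
    exact hUV
  obtain ⟨e, he, hee⟩ := hex
  refine ⟨e, ⟨he, hee⟩, ?_⟩
  rintro e' ⟨he', hee'⟩
  apply Groth.Agent.Lib.Helper12.HCoup.idempotent_eq_of_basicOpen_eq X e' e he' he
  apply Opens.ext
  refine Groth.Agent.Lib.lead.HensClopen.eq_of_inter_eq I HenselianRing.jac (fun y => f y)
    f.isClosedMap _ _ (hclopen e' he') (hclopen e he) ?_
  change (X.basicOpen e' : Set X) ∩ Z = (X.basicOpen e : Set X) ∩ Z
  rw [hinter, hinter, hee, hee']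

end Lift

end Groth.Agent.Lib.helper11.FE
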