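import Mathlib
import Groth.Agent.Lib.helper11.FEHens

/-!
# The henselian case of the finite-étaleness theorem, II (helper11)
-/

set_option autoImplicit false
set_option linter.style.haveILetI false
universe u
open CategoryTheory CategoryTheory.Limits AlgebraicGeometry Opposite TopologicalSpace

namespace Groth.Agent.Lib.helper11.FE

/-- `Ω → Γ(F, O) → Γ(F, D(ε))` is bijective when the `ε`-piece of `Γ(F, O)` is a copy of `Ω` -/
theorem bijective_res_of_pieceCond {F : Scheme.{u}} [CompactSpace F] [QuasiSeparatedSpace F]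
    {R : CommRingCat.{u}} (a : R ⟶ Γ(F, ⊤)) (ε : Γ(F, ⊤)) (hε : IsIdempotentElem ε)
    (hpc : PieceCond a.hom ε) (W : F.Opens) (hW : W = F.basicOpen ε) :
    Function.Bijective ((F.presheaf.map (homOfLE (le_top : W ≤ ⊤)).op).hom.comp a.hom) := by
  subst hW
  haveI : IsLocalization.Away ε Γ(F, F.basicOpen ε) :=
    isLocalization_basicOpen_of_qcqs (U := ⊤) isCompact_univ
      (isQuasiSeparated_univ_iff.mpr inferInstance) ε
  exact bijective_of_pieceCond a.hom ε hε Γ(F, F.basicOpen ε) hpc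

section Main

variable (A : Type u) [CommRing A] [IsLocalRing A] (I : Ideal A) [HenselianRing A I]
  (Ω : Type u) [Field Ω] [IsAlgClosed Ω] (φ : A →+* Ω) (hφs : Function.Surjective φ)
  (hφk : RingHom.ker φ = I)
  {X : Scheme.{u}} (f : X ⟶ Spec (CommRingCat.of A)) [IsProper f] [Flat f]
  [LocallyOfFinitePresentation f]
  (hred : _root_.IsReduced Γ(pullback f (Spec.map (CommRingCat.ofHom φ)), ⊤))

include hφs hφk in
theorem SpecMap_apply_eq_closedPoint (z : Spec (CommRingCat.of Ω)) :
    (Spec.map (CommRingCat.ofHom φ)) z = IsLocalRing.closedPoint A := by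
  have hmem : (Spec.map (CommRingCat.ofHom φ)) z ∈ PrimeSpectrum.zeroLocus (I : Set A) := by
    rw [← range_SpecMap_eq A I Ω φ hφs hφk]
    exact ⟨z, rfl⟩
  haveI hmax : (RingHom.ker φ).IsMaximal := RingHom.ker_isMaximal_of_surjective φ hφs
  have hI : I = IsLocalRing.maximalIdeal A := by
    rw [← hφk]
    exact IsLocalRing.eq_maximalIdeal hmax
  apply PrimeSpectrum.ext
  have hle : IsLocalRing.maximalIdeal A ≤ ((Spec.map (CommRingCat.ofHom φ)) z).asIdeal := by
    rw [← hI]
    exact (PrimeSpectrum.mem_zeroLocus _ _).mp hmem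
  exact ((IsLocalRing.maximalIdeal.isMaximal A).eq_of_le
    (Ideal.IsPrime.ne_top inferInstance) hle).symm

include hφs hφk hred in
theorem exists_coi_hens :
    ∃ (ι : Type u) (_ : Fintype ι) (e : ι → Γ(X, ⊤)), CompleteOrthogonalIdempotents e ∧
      ∀ (i : ι) ⦃T X' : Scheme.{u}⦄ (g : T ⟶ Spec (CommRingCat.of A)) (g' : X' ⟶ X) (f' : X' ⟶ T),
        IsAffine T → IsPullback g' f' f g → PieceCond f'.appTop.hom (g'.appTop.hom (e i)) := by
  classical
  haveI : IsClosedImmersion (Spec.map (CommRingCat.ofHom φ)) :=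
    IsClosedImmersion.spec_of_surjective _ hφs
  let F := pullback f (Spec.map (CommRingCat.ofHom φ))
  let ιF : F ⟶ X := pullback.fst f (Spec.map (CommRingCat.ofHom φ))
  let pF : F ⟶ Spec (CommRingCat.of Ω) := pullback.snd f (Spec.map (CommRingCat.ofHom φ))
  haveI : IsProper pF := MorphismProperty.pullback_snd (P := @IsProper) _ _ inferInstance
  haveI : CompactSpace F := QuasiCompact.compactSpace_of_compactSpace pF
  haveI : QuasiSeparatedSpace F := quasiSeparatedSpace_of_quasiSeparated pF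
  haveI : CompactSpace X := QuasiCompact.compactSpace_of_compactSpace f
  let a : CommRingCat.of Ω ⟶ Γ(F, ⊤) := (Scheme.ΓSpecIso (CommRingCat.of Ω)).inv ≫ pF.appTop
  have hfin : a.hom.Finite :=
    Groth.Agent.Lib.Helper21.ProperGamma.finite_appTop (CommRingCat.of Ω) F pF
  letI : Algebra Ω Γ(F, ⊤) := a.hom.toAlgebra
  haveI : Module.Finite Ω Γ(F, ⊤) := hfin
  haveI : _root_.IsReduced Γ(F, ⊤) := hred
  obtain ⟨ι, hι, ε, hε, hpc⟩ := exists_coi_of_reduced_finite Ω Γ(F, ⊤)
  have hpc' : ∀ i, PieceCond a.hom (ε i) := hpc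
  have hlift := fun x hx => existsUnique_idempotent_lift A I Ω φ hφs hφk f x hx
  have huniq : ∀ x y : Γ(X, ⊤), IsIdempotentElem x → IsIdempotentElem y →
      ιF.appTop.hom x = ιF.appTop.hom y → x = y := by
    intro x y hx hy hxy
    exact (hlift (ιF.appTop.hom y) (hy.map ιF.appTop.hom)).unique ⟨hx, hxy⟩ ⟨hy, rfl⟩
  choose e he using fun i => (hlift (ε i) (hε.idem i)).exists
  have hidem : ∀ i, IsIdempotentElem (e i) := fun i => (he i).1
  have hρ : ∀ i, ιF.appTop.hom (e i) = ε i := fun i => (he i).2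
  have hortho : OrthogonalIdempotents e := by
    refine ⟨hidem, fun i j hij => ?_⟩
    refine huniq _ _ ((hidem i).mul (hidem j)) IsIdempotentElem.zero ?_
    rw [map_mul, hρ, hρ, hε.ortho hij, map_zero]
  have hcoi : CompleteOrthogonalIdempotents e := by
    refine ⟨hortho, ?_⟩
    refine huniq _ _ hortho.isIdempotentElem_sum IsIdempotentElem.one ?_
    rw [map_sum, map_one]
    simp only [hρ]
    exact hε.complete
  refine ⟨ι, hι, e, hcoi, fun i T X' g g' f' hT sq => ?_⟩
  haveI := hT
  -- the closed fibre of the piece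
  have h0 : IsIso (((X.basicOpen (e i)).ι ≫ f).fiberToSpecResidueField
      (IsLocalRing.closedPoint A)).appTop := by
    obtain ⟨⟨s, φ'⟩, hσ⟩ := (Scheme.SpecToEquivOfField Ω (Spec (CommRingCat.of A))).symm.surjective
      (Spec.map (CommRingCat.ofHom φ))
    have hσ' : Spec.map φ' ≫ (Spec (CommRingCat.of A)).fromSpecResidueField s =
        Spec.map (CommRingCat.ofHom φ) := hσ
    have hs : s = IsLocalRing.closedPoint A := by
      have h1 := SpecMap_apply_eq_closedPoint A I Ω φ hφs hφk (IsLocalRing.closedPoint Ω)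
      rw [← hσ'] at h1
      rw [← h1]
      simp only [Scheme.Hom.comp_apply, Scheme.fromSpecResidueField_apply]
    subst hs
    set U := X.basicOpen (e i) with hU
    have hcl : IsClosed (U : Set X) :=
      Groth.Agent.Lib.Helper12.HCoup.isClosed_basicOpen_of_isIdempotentElem X (e i) (hidem i)
    haveI := isClosedImmersion_ι_of_isClosed U hcl
    have sqU : IsPullback (ιF ∣_ U) ((ιF ⁻¹ᵁ U).ι ≫ pF) (U.ι ≫ f)
        (Spec.map φ' ≫ (Spec (CommRingCat.of A)).fromSpecResidueField _) := by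
      rw [hσ']
      exact (isPullback_morphismRestrict ιF U).paste_vert (IsPullback.of_hasPullback f _)
    refine (isIso_appTop_iff_fiber (U.ι ≫ f) Ω _ φ' (ιF ∣_ U) ((ιF ⁻¹ᵁ U).ι ≫ pF) sqU).mp ?_
    rw [isIso_ι_comp_appTop_iff]
    have hW : ιF ⁻¹ᵁ U = F.basicOpen (ε i) := by
      rw [hU, Scheme.preimage_basicOpen_top ιF (e i)]
      exact congrArg F.basicOpen (hρ i)
    have hb := bijective_res_of_pieceCond a (ε i) (hε.idem i) (hpc' i) (ιF ⁻¹ᵁ U) hW
    have hΓ : Function.Bijective (Scheme.ΓSpecIso (CommRingCat.of Ω)).hom.hom :=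
      (ConcreteCategory.isIso_iff_bijective (Scheme.ΓSpecIso (CommRingCat.of Ω)).hom).mp
        inferInstance
    have hpa : pF.appTop.hom = a.hom.comp (Scheme.ΓSpecIso (CommRingCat.of Ω)).hom.hom := by
      have : pF.appTop = (Scheme.ΓSpecIso (CommRingCat.of Ω)).hom ≫ a := by
        simp [a]
      rw [this]
      rfl
    rw [hpa, ← RingHom.comp_assoc]
    exact hb.comp hΓ
  exact pieceCond_of_piece A f (e i) (hidem i) h0 g g' f' sq

end Main

end Groth.Agent.Lib.helper11.FE
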