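import Mathlib
import Groth.Agent.Lib.Helper12.PairKer
import Groth.Agent.Lib.Helper12.PairLocal
import Groth.Agent.Lib.Helper12.HCoupA
import Groth.Agent.Lib.lead.HensKH
import Groth.Agent.Lib.lead.HensKG

/-!
# Zariski's connectedness theorem without Noetherian hypotheses (helper11)

For a proper morphism `f : X ⟶ Y` with `O_Y(U) ≅ O_X(f⁻¹U)` for one affine open `U`, the closed fibre
of the base change along any flat morphism `Spec R ⟶ Y` from a local ring (closed point into `U`) is
connected. Route: pair henselization of `(R, m)` (helper12), flat base change of global sections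
(Mathlib), Lemma K (lead).
-/

set_option autoImplicit false
set_option backward.isDefEq.respectTransparency.types false
set_option linter.style.haveILetI false
universe u
open CategoryTheory CategoryTheory.Limits AlgebraicGeometry Opposite TopologicalSpace

namespace Groth.Agent.Lib.helper11.SteinConn

open Groth.Agent.Lib.Helper12

/-- Over a henselian pair, the closed part of a connected proper scheme is connected. -/
theorem isConnected_preimage_zeroLocus (A : Type u) [CommRing A] (I : Ideal A) [HenselianRing A I]
    {X : Scheme.{u}} (g : X ⟶ Spec (CommRingCat.of A)) [IsProper g] [ConnectedSpace X] :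
    _root_.IsConnected (g ⁻¹' PrimeSpectrum.zeroLocus (I : Set A)) := by
  set Z := g ⁻¹' PrimeSpectrum.zeroLocus (I : Set A) with hZ
  have hZc : IsClosed Z := (PrimeSpectrum.isClosed_zeroLocus _).preimage g.continuous
  have hemb : Topology.IsClosedEmbedding (Subtype.val : Z → X) := hZc.isClosedEmbedding_subtypeVal
  have hr : Set.range (Subtype.val : Z → X) = Z := Subtype.range_coe
  have key := Groth.Agent.Lib.lead.HensK.connectedSpace_iff_of_clopen_extension
    (Subtype.val : Z → X) hemb ?_ ?_
  · rw [isConnected_iff_connectedSpace]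
    exact key.mp inferInstance
  · intro V hV hVc hW
    rw [hr] at hV hW ⊢
    exact Groth.Agent.Lib.lead.HensK.exists_clopen A I g V hV hVc hW
  · intro U₁ U₂ h₁ h₂ h
    rw [hr] at h
    have hV : U₁ ∩ Z ⊆ Z := Set.inter_subset_right
    have hVc : IsClosed (U₁ ∩ Z) := h₁.isClosed.inter hZc
    have hW : IsClosed (Z \ (U₁ ∩ Z)) := by
      have : Z \ (U₁ ∩ Z) = Z ∩ U₁ᶜ := by
        ext x
        simp only [Set.mem_sdiff, Set.mem_inter_iff, Set.mem_compl_iff]
        tauto
      rw [this]
      exact hZc.inter h₁.compl.isClosed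
    obtain ⟨U, -, hU⟩ := Groth.Agent.Lib.lead.HensK.existsUnique_clopen A I g _ hV hVc hW
    exact (hU U₁ ⟨h₁, rfl⟩).trans (hU U₂ ⟨h₂, h.symm⟩).symm

/-- flat base change of global sections to an affine scheme mapping into an affine open
(copied from helper21 `ZarConn5` to keep the import closure small). -/
theorem isIso_appTop_pullback_of_flat {X Y T : Scheme.{u}} (f : X ⟶ Y) [QuasiCompact f]
    [QuasiSeparated f] [IsAffine T] (h : T ⟶ Y) [Flat h] (U : Y.Opens) (hU : IsAffineOpen U)
    (hUST : (⊤ : T.Opens) ≤ h ⁻¹ᵁ U) (hfU : IsIso (f.app U)) :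
    IsIso (pullback.snd f h).appTop := by
  have H : IsPullback (pullback.fst f h) (pullback.snd f h) f h := IsPullback.of_hasPullback f h
  have hUSX : f ⁻¹ᵁ U ≤ f ⁻¹ᵁ U := le_rfl
  have hUY : (⊤ : (pullback f h).Opens) =
      (pullback.fst f h) ⁻¹ᵁ (f ⁻¹ᵁ U) ⊓ (pullback.snd f h) ⁻¹ᵁ ⊤ := by
    ext z
    simp only [Opens.coe_top, Set.mem_univ, Opens.coe_inf, Set.mem_inter_iff, true_iff]
    refine ⟨?_, trivial⟩
    change f (pullback.fst f h z) ∈ U
    rw [← Scheme.Hom.comp_apply, pullback.condition, Scheme.Hom.comp_apply]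
    exact hUST (Set.mem_univ _)
  have hiso := isIso_pushoutSection_of_isQuasiSeparated_of_flat_right H hUST hUSX hUY hU
    (isAffineOpen_top _) (f.isCompact_preimage hU.isCompact)
    (f.isQuasiSeparated_preimage hU.isQuasiSeparated)
  have hpo := (isIso_pushoutSection_iff H hUST hUSX hUY).mp hiso
  haveI : IsIso (f.appLE U (f ⁻¹ᵁ U) hUSX) := by
    rw [← Scheme.Hom.app_eq_appLE]; exact hfU
  have h2 := hpo.isIso_inr_of_isIso
  have h3 : (pullback.snd f h).appLE ⊤ ⊤ (by simp) = (pullback.snd f h).appTop := by
    simp [Scheme.Hom.appLE, Scheme.Hom.appTop]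
  rw [← h3]
  exact h2

/-- a scheme whose ring of global functions is local is connected. -/
theorem connectedSpace_of_isLocalRing_gamma (X : Scheme.{u}) [IsLocalRing Γ(X, ⊤)] :
    ConnectedSpace X := by
  rw [connectedSpace_iff_clopen]
  refine ⟨?_, ?_⟩
  · by_contra hemp
    rw [not_nonempty_iff] at hemp
    haveI : Subsingleton Γ(X, ⊤) := inferInstance
    exact not_subsingleton Γ(X, ⊤) ‹_›
  · intro U hU
    obtain ⟨e, he, hbo⟩ := HCoup.exists_idempotent_basicOpen_eq X ⟨U, hU.isOpen⟩ hU.isClosed
    have h0 : e * (1 - e) = 0 := by rw [mul_sub, mul_one, he.eq, sub_self]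
    rcases IsLocalRing.isUnit_or_isUnit_one_sub_self e with hu | hu
    · right
      have h1 : X.basicOpen e = ⊤ := Scheme.basicOpen_of_isUnit X hu
      have := congrArg (fun W : X.Opens => (W : Set X)) (hbo.symm.trans h1)
      simpa using this
    · left
      have h1 : e = 0 := by
        apply hu.mul_left_injective
        simp only
        rw [h0, zero_mul]
      have h2 : X.basicOpen e = ⊥ := by rw [h1, Scheme.basicOpen_zero]
      have := congrArg (fun W : X.Opens => (W : Set X)) (hbo.symm.trans h2)
      simpa using this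

end Groth.Agent.Lib.helper11.SteinConn
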