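import Mathlib
import Groth.Agent.Lib.helper11.SteinConn1
import Groth.Agent.Lib.Helper12.GonfE

/-!
# Zariski's connectedness theorem without Noetherian hypotheses, II (helper11)
-/

set_option autoImplicit false
set_option backward.isDefEq.respectTransparency.types false
set_option linter.style.haveILetI false
universe u
open CategoryTheory CategoryTheory.Limits AlgebraicGeometry Opposite TopologicalSpace

namespace Groth.Agent.Lib.helper11.SteinConn

open Groth.Agent.Lib.Helper12 Groth.Agent.Lib.Helper12.PairNbhd

section LocalAlg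

variable (R : Type u) [CommRing R] [IsLocalRing R]

/-- the pair henselization of a local ring along its maximal ideal -/
abbrev Rh : Type u := Lim R (IsLocalRing.maximalIdeal R)

/-- the ideal generated by the maximal ideal -/
noncomputable abbrev Jh : Ideal (Rh R) :=
  (IsLocalRing.maximalIdeal R).map (algebraMap R (Rh R))

instance : HenselianRing (Rh R) (Jh R) := Lim.henselianRing _ _

instance : IsLocalRing (Rh R) := Lim.isLocalRing (IsLocalRing.maximalIdeal.isMaximal R).ne_top

theorem Jh_ne_top : Jh R ≠ ⊤ := by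
  have h := Lim.ker_pt_eq_map R (IsLocalRing.maximalIdeal R)
  intro h2
  exact RingHom.ker_ne_top _ (h.trans h2)

/-- the image of `V(m Rh)` in `Spec R` is the closed point -/
theorem image_zeroLocus_Jh :
    (PrimeSpectrum.comap (algebraMap R (Rh R))) '' PrimeSpectrum.zeroLocus (Jh R : Set (Rh R)) =
      {IsLocalRing.closedPoint R} := by
  have key : ∀ q : PrimeSpectrum (Rh R), q ∈ PrimeSpectrum.zeroLocus (Jh R : Set (Rh R)) →
      PrimeSpectrum.comap (algebraMap R (Rh R)) q = IsLocalRing.closedPoint R := by
    intro q hq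
    apply PrimeSpectrum.ext
    have h1 : IsLocalRing.maximalIdeal R ≤ (q.asIdeal).comap (algebraMap R (Rh R)) := by
      rw [← Ideal.map_le_iff_le_comap]
      exact (PrimeSpectrum.mem_zeroLocus _ _).mp hq
    exact ((IsLocalRing.maximalIdeal.isMaximal R).eq_of_le
      (Ideal.IsPrime.ne_top inferInstance) h1).symm
  ext y
  constructor
  · rintro ⟨q, hq, rfl⟩
    exact key q hq
  · rintro rfl
    obtain ⟨M, hM, hle⟩ := Ideal.exists_le_maximal (Jh R) (Jh_ne_top R)
    refine ⟨⟨M, hM.isPrime⟩, ?_, ?_⟩
    · exact (PrimeSpectrum.mem_zeroLocus _ _).mpr hle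
    · exact key _ ((PrimeSpectrum.mem_zeroLocus _ _).mpr hle)

end LocalAlg

/-- **Connectedness of the closed fibre after a flat local base change**, no Noetherian hypothesis. -/
theorem isConnected_closedFibre_of_flat {X Y : Scheme.{u}} (f : X ⟶ Y) [IsProper f]
    (R : CommRingCat.{u}) [IsLocalRing R] (h : Spec R ⟶ Y) [Flat h]
    (U : Y.Opens) (hU : IsAffineOpen U) (hyU : h (IsLocalRing.closedPoint R) ∈ U)
    (hfU : IsIso (f.app U)) :
    _root_.IsConnected ((pullback.snd f h) ⁻¹' {IsLocalRing.closedPoint R}) := by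
  let B : CommRingCat.{u} := CommRingCat.of (Rh R)
  let c : Spec B ⟶ Spec R := Spec.map (CommRingCat.ofHom (algebraMap R (Rh R)))
  haveI : Flat c := by
    rw [Flat.SpecMap_iff]
    exact (RingHom.flat_algebraMap_iff).2 inferInstance
  let h' : Spec B ⟶ Y := c ≫ h
  haveI : Flat h' := inferInstance
  have hUST : (⊤ : (Spec B).Opens) ≤ h' ⁻¹ᵁ U := by
    intro z _
    have hz : c z ⤳ IsLocalRing.closedPoint R := IsLocalRing.specializes_closedPoint (c z)
    have : h (c z) ∈ U := (hz.map h.continuous).mem_open U.2 hyU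
    simpa [h'] using this
  set g' := pullback.snd f h' with hg'
  haveI hiso : IsIso g'.appTop := isIso_appTop_pullback_of_flat f h' U hU hUST hfU
  -- `Γ(X_B)` is local
  let ψ : B ⟶ Γ(pullback f h', ⊤) := (Scheme.ΓSpecIso B).inv ≫ g'.appTop
  haveI : IsIso ψ := inferInstance
  haveI : IsLocalRing Γ(pullback f h', ⊤) :=
    (asIso ψ).commRingCatIsoToRingEquiv.isLocalRing
  haveI : ConnectedSpace ↥(pullback f h') := connectedSpace_of_isLocalRing_gamma _
  have hconn := isConnected_preimage_zeroLocus (Rh R) (Jh R) g'
  -- map down to `X_R`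
  set g := pullback.snd f h with hg
  let p : pullback f h' ⟶ pullback f h :=
    pullback.lift (pullback.fst f h') (g' ≫ c) (by rw [pullback.condition, Category.assoc])
  have hp1 : p ≫ pullback.fst f h = pullback.fst f h' := pullback.lift_fst _ _ _
  have hp2 : p ≫ g = g' ≫ c := pullback.lift_snd _ _ _
  have hpb : IsPullback p g' g c := by
    refine IsPullback.of_right ?_ hp2 (IsPullback.of_hasPullback f h)
    rw [hp1]
    exact IsPullback.of_hasPullback f h'
  have himg := Scheme.image_preimage_eq_of_isPullback hpb.flip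
    (PrimeSpectrum.zeroLocus (Jh R : Set (Rh R)))
  have hc : (c : Spec B → Spec R) '' PrimeSpectrum.zeroLocus (Jh R : Set (Rh R)) =
      {IsLocalRing.closedPoint R} := image_zeroLocus_Jh R
  rw [hc] at himg
  rw [← himg]
  exact hconn.image _ p.continuous.continuousOn

end Groth.Agent.Lib.helper11.SteinConn
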