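import Mathlib
import Groth.Agent.Lib.helper11.FEHens2
import Groth.Agent.Lib.helper11.FEDescent
import Groth.Agent.Lib.helper11.SteinConn2

/-!
# The local case of the finite-étaleness theorem (helper11)

`R` any local ring, `f : X ⟶ Spec R` proper flat of finite presentation, such that for some
algebraically closed point `Spec Ω → Spec R` over the closed point the ring of global functions of
the geometric closed fibre is reduced. Then `R → Γ(X, O)` is finite étale and commutes with
arbitrary base change.
-/

set_option autoImplicit false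
set_option linter.style.haveILetI false
universe u
open CategoryTheory CategoryTheory.Limits AlgebraicGeometry Opposite TopologicalSpace

namespace Groth.Agent.Lib.helper11.FE

open Groth.Agent.Lib.Helper12 Groth.Agent.Lib.Helper12.PairNbhd
open Groth.Agent.Lib.helper11.SteinConn

theorem isReduced_of_iso {P Q : Scheme.{u}} (i : P ≅ Q) (h : _root_.IsReduced Γ(P, ⊤)) :
    _root_.IsReduced Γ(Q, ⊤) := by
  have hinj : Function.Injective i.hom.appTop.hom := by
    haveI : IsIso i.hom.appTop := inferInstanceAs (IsIso (Scheme.Γ.map i.hom.op))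
    exact ((ConcreteCategory.isIso_iff_bijective i.hom.appTop).mp inferInstance).1
  exact isReduced_of_injective i.hom.appTop.hom hinj

section Aux

variable (R : Type u) [CommRing R] [IsLocalRing R] (R' : Type u) [CommRing R'] [IsLocalRing R']
  [Algebra R R'] [IsLocalHom (algebraMap R R')] [Module.Flat R R']
  (Ω : Type u) [Field Ω] [IsAlgClosed Ω] (φ₀ : R →+* Ω)
  (e : IsLocalRing.ResidueField R' →+* Ω) (he : Function.Bijective e)
  (hcompat : ∀ r : R, e (IsLocalRing.residue R' (algebraMap R R' r)) = φ₀ r)

include he hcompat in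
theorem finEt_bc_of_gonflement {X : Scheme.{u}}
    (f : X ⟶ Spec (CommRingCat.of R)) [IsProper f] [Flat f] [LocallyOfFinitePresentation f]
    (hred : _root_.IsReduced Γ(pullback f (Spec.map (CommRingCat.ofHom φ₀)), ⊤)) :
    FinEt f ∧ BC f := by
  letI iCR : CommRing (Rh R') := inferInstance
  letI : Monoid (Rh R') := iCR.toCommMonoid.toMonoid
  haveI hlocA : IsLocalHom (algebraMap R' (Rh R')) :=
    Lim.isLocalHom_algebraMap (IsLocalRing.maximalIdeal.isMaximal R').ne_top
  let ψ : R →+* Rh R' := (algebraMap R' (Rh R')).comp (algebraMap R R')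
  have hψ : ψ.FaithfullyFlat := by
    have h1 : (algebraMap R R').FaithfullyFlat :=
      (RingHom.faithfullyFlat_algebraMap_iff).2 Module.FaithfullyFlat.of_flat_of_isLocalHom
    have h2 : (algebraMap R' (Rh R')).FaithfullyFlat :=
      (RingHom.faithfullyFlat_algebraMap_iff).2 Module.FaithfullyFlat.of_flat_of_isLocalHom
    exact RingHom.FaithfullyFlat.stableUnderComposition _ _ h1 h2
  -- the point of `A`
  let φA : Rh R' →+* Ω := e.comp (Lim.pt R' (IsLocalRing.maximalIdeal R')).toRingHom
  have hφs : Function.Surjective φA := by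
    intro w
    obtain ⟨q, hq⟩ := he.2 w
    obtain ⟨y, hy⟩ := Lim.pt_surjective (A := R') (I := IsLocalRing.maximalIdeal R') q
    exact ⟨y, by show e (Lim.pt R' _ y) = w; rw [hy, hq]⟩
  have hφk : RingHom.ker φA = Jh R' := by
    have h1 : RingHom.ker φA = RingHom.ker (Lim.pt R' (IsLocalRing.maximalIdeal R')).toRingHom := by
      ext y
      simp only [RingHom.mem_ker, φA, RingHom.comp_apply]
      exact (map_eq_zero_iff _ he.1)
    rw [h1]
    exact Lim.ker_pt_eq_map R' (IsLocalRing.maximalIdeal R')
  have hcomp : φA.comp ψ = φ₀ := by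
    ext r
    show e (Lim.pt R' _ (algebraMap R' (Rh R') (algebraMap R R' r))) = φ₀ r
    rw [AlgHom.commutes]
    exact hcompat r
  -- base change to `A`
  let c : Spec (CommRingCat.of (Rh R')) ⟶ Spec (CommRingCat.of R) :=
    Spec.map (CommRingCat.ofHom ψ)
  haveI : Flat c := by
    rw [Flat.SpecMap_iff]
    exact hψ.flat
  have hcff : c.appTop.hom.FaithfullyFlat := faithfullyFlat_appTop_SpecMap _ hψ
  let fA : pullback f c ⟶ Spec (CommRingCat.of (Rh R')) := pullback.snd f c
  haveI : IsProper fA := MorphismProperty.pullback_snd (P := @IsProper) _ _ inferInstance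
  haveI : Flat fA := MorphismProperty.pullback_snd (P := @Flat) _ _ inferInstance
  haveI : LocallyOfFinitePresentation fA :=
    MorphismProperty.pullback_snd (P := @LocallyOfFinitePresentation) _ _ inferInstance
  have hredA : _root_.IsReduced Γ(pullback fA (Spec.map (CommRingCat.ofHom φA)), ⊤) := by
    have hσ : Spec.map (CommRingCat.ofHom φA) ≫ c = Spec.map (CommRingCat.ofHom φ₀) := by
      rw [← Spec.map_comp, ← CommRingCat.ofHom_comp, hcomp]
    let i1 : pullback fA (Spec.map (CommRingCat.ofHom φA)) ≅
        pullback f (Spec.map (CommRingCat.ofHom φA) ≫ c) :=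
      pullbackLeftPullbackSndIso f c (Spec.map (CommRingCat.ofHom φA))
    let i2 : pullback f (Spec.map (CommRingCat.ofHom φA) ≫ c) ≅
        pullback f (Spec.map (CommRingCat.ofHom φ₀)) := pullback.congrHom rfl hσ
    exact isReduced_of_iso (i1 ≪≫ i2).symm hred
  have hA := finEt_bc_of_coi fA (exists_coi_hens (Rh R') (Jh R') Ω φA hφs hφk fA hredA)
  exact finEt_bc_descent f c hcff (pullback.fst f c) fA (IsPullback.of_hasPullback f c) hA

end Aux

theorem finEt_bc_of_isLocalRing (R : Type u) [CommRing R] [IsLocalRing R] (Ω : Type u) [Field Ω]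
    [IsAlgClosed Ω] (φ₀ : R →+* Ω) [IsLocalHom φ₀] {X : Scheme.{u}}
    (f : X ⟶ Spec (CommRingCat.of R)) [IsProper f] [Flat f] [LocallyOfFinitePresentation f]
    (hred : _root_.IsReduced Γ(pullback f (Spec.map (CommRingCat.ofHom φ₀)), ⊤)) :
    FinEt f ∧ BC f := by
  letI : Algebra (IsLocalRing.ResidueField R) Ω := (IsLocalRing.ResidueField.lift φ₀).toAlgebra
  obtain ⟨R', i1, hR'L, i2, hloc, hflat, hm, ⟨e⟩⟩ :=
    Groth.Agent.Lib.Helper12.Gonf.exists_flat_local_extension R Ω
  refine @finEt_bc_of_gonflement R _ _ R' i1 hR'L i2 hloc hflat Ω _ _ φ₀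
    (e : IsLocalRing.ResidueField R' →+* Ω) e.bijective (fun r => ?_) X f _ _ _ hred
  have h1 : IsLocalRing.residue R' (algebraMap R R' r) =
      algebraMap (IsLocalRing.ResidueField R) (IsLocalRing.ResidueField R')
        (IsLocalRing.residue R r) :=
    (IsLocalRing.ResidueField.algebraMap_residue r).symm
  show e (IsLocalRing.residue R' (algebraMap R R' r)) = φ₀ r
  rw [h1, e.commutes]
  rfl

end Groth.Agent.Lib.helper11.FE
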