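import Mathlib
import Groth.Agent.Lib.helper11.FELocal
import Groth.Agent.Lib.Helper5.StalkBCA

/-!
# Good points: the hypothesis on a fibre, and the local theorem at stalks (helper11)
-/

set_option autoImplicit false
set_option linter.style.haveILetI false
universe u
open CategoryTheory CategoryTheory.Limits AlgebraicGeometry Opposite TopologicalSpace

namespace Groth.Agent.Lib.helper11.FE

/-- the fibre of `f` at `s` is *good*: for some algebraically closed field over `κ(s)`, the ring
of global functions of the corresponding geometric fibre is reduced. -/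
def GoodAt {X S : Scheme.{u}} (f : X ⟶ S) (s : S) : Prop :=
  ∃ (Ω : Type u) (_ : Field Ω) (_ : IsAlgClosed Ω) (φ : S.residueField s ⟶ CommRingCat.of Ω),
    _root_.IsReduced Γ(pullback f (Spec.map φ ≫ S.fromSpecResidueField s), ⊤)

/-- goodness passes from a base change to the original morphism -/
theorem GoodAt.of_isPullback {X S T X' : Scheme.{u}} {f : X ⟶ S} {g : T ⟶ S} {g' : X' ⟶ X}
    {f' : X' ⟶ T} (sq : IsPullback g' f' f g) (t : T) (h : GoodAt f' t) : GoodAt f (g t) := by
  obtain ⟨Ω, i1, i2, φ, hred⟩ := h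
  refine ⟨Ω, i1, i2, g.residueFieldMap t ≫ φ, ?_⟩
  have hσ : Spec.map (g.residueFieldMap t ≫ φ) ≫ S.fromSpecResidueField (g t) =
      (Spec.map φ ≫ T.fromSpecResidueField t) ≫ g := by
    rw [Spec.map_comp, Category.assoc, Scheme.Hom.SpecMap_residueFieldMap_fromSpecResidueField,
      Category.assoc]
  have big := (IsPullback.of_hasPullback f' (Spec.map φ ≫ T.fromSpecResidueField t)).paste_horiz sq
  let i1 : pullback f' (Spec.map φ ≫ T.fromSpecResidueField t) ≅
      pullback f ((Spec.map φ ≫ T.fromSpecResidueField t) ≫ g) := big.isoPullback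
  let i2 : pullback f ((Spec.map φ ≫ T.fromSpecResidueField t) ≫ g) ≅
      pullback f (Spec.map (g.residueFieldMap t ≫ φ) ≫ S.fromSpecResidueField (g t)) :=
    pullback.congrHom rfl hσ.symm
  exact isReduced_of_iso (i1 ≪≫ i2) hred

/-- geometrically reduced fibres are good -/
theorem goodAt_of_isReduced {X S : Scheme.{u}} (f : X ⟶ S) (s : S)
    (h : ∀ (Ω : Type u) [Field Ω] [IsAlgClosed Ω] (σ : Spec (CommRingCat.of Ω) ⟶ S),
      IsReduced (pullback f σ)) : GoodAt f s := by
  let Ω := AlgebraicClosure (S.residueField s)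
  let φ : S.residueField s ⟶ CommRingCat.of Ω :=
    CommRingCat.ofHom (algebraMap (S.residueField s) Ω)
  refine ⟨Ω, inferInstance, inferInstance, φ, ?_⟩
  haveI := h Ω (Spec.map φ ≫ S.fromSpecResidueField s)
  infer_instance

/-- **the local theorem at the stalk of a good point** -/
theorem finEt_bc_stalk {X Y : Scheme.{u}} (f : X ⟶ Y) [IsProper f] [Flat f]
    [LocallyOfFinitePresentation f] (y : Y) (hy : GoodAt f y) :
    FinEt (pullback.snd f (Y.fromSpecStalk y)) ∧ BC (pullback.snd f (Y.fromSpecStalk y)) := by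
  obtain ⟨Ω, i1, i2, φ, hred⟩ := hy
  let φ₀ : Y.presheaf.stalk y →+* Ω := φ.hom.comp (Y.residue y).hom
  haveI : IsLocalHom (Y.residue y).hom := by
    show IsLocalHom (IsLocalRing.residue (Y.presheaf.stalk y))
    infer_instance
  haveI : IsLocalHom φ₀ := by
    show IsLocalHom (φ.hom.comp (Y.residue y).hom)
    infer_instance
  let c := Y.fromSpecStalk y
  let fy : pullback f c ⟶ Spec (CommRingCat.of (Y.presheaf.stalk y)) := pullback.snd f c
  haveI : IsProper fy := MorphismProperty.pullback_snd (P := @IsProper) _ _ inferInstance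
  haveI : Flat fy := MorphismProperty.pullback_snd (P := @Flat) _ _ inferInstance
  haveI : LocallyOfFinitePresentation fy :=
    MorphismProperty.pullback_snd (P := @LocallyOfFinitePresentation) _ _ inferInstance
  have hσ : Spec.map (CommRingCat.ofHom φ₀) ≫ c = Spec.map φ ≫ Y.fromSpecResidueField y := by
    have : CommRingCat.ofHom φ₀ = Y.residue y ≫ φ := rfl
    rw [this, Spec.map_comp, Category.assoc]
    rfl
  have hred' : _root_.IsReduced Γ(pullback fy (Spec.map (CommRingCat.ofHom φ₀)), ⊤) := by
    let j1 : pullback fy (Spec.map (CommRingCat.ofHom φ₀)) ≅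
        pullback f (Spec.map (CommRingCat.ofHom φ₀) ≫ c) :=
      pullbackLeftPullbackSndIso f c (Spec.map (CommRingCat.ofHom φ₀))
    let j2 : pullback f (Spec.map (CommRingCat.ofHom φ₀) ≫ c) ≅
        pullback f (Spec.map φ ≫ Y.fromSpecResidueField y) := pullback.congrHom rfl hσ
    exact isReduced_of_iso (j1 ≪≫ j2).symm hred
  exact finEt_bc_of_isLocalRing (Y.presheaf.stalk y) Ω φ₀ fy hred'

end Groth.Agent.Lib.helper11.FE
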