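import Mathlib
import Groth.Agent.Lib.helper11.FEGood
import Groth.Agent.Lib.helper11.FEPush2

/-!
# Base change of global sections over an arbitrary affine base, at good points (helper11)
-/

set_option autoImplicit false
set_option linter.style.haveILetI false
universe u
open CategoryTheory CategoryTheory.Limits AlgebraicGeometry Opposite TopologicalSpace

namespace Groth.Agent.Lib.helper11.FE

/-- the iso `O_{T,t} ≅ Γ(Spec O_{T,t}, ⊤)` through which `(T.fromSpecStalk t).appTop` factors -/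
theorem exists_iso_fromSpecStalk_appTop (T : Scheme.{u}) (t : T) :
    ∃ e : T.presheaf.stalk t ≅ Γ(Spec (T.presheaf.stalk t), ⊤),
      (T.fromSpecStalk t).appTop = T.presheaf.germ ⊤ t trivial ≫ e.hom := by
  have h1 : IsIso ((Spec (T.presheaf.stalk t)).presheaf.map
      (homOfLE (le_top : (T.fromSpecStalk t) ⁻¹ᵁ ⊤ ≤ ⊤)).op) := by
    have : (Spec (T.presheaf.stalk t)).presheaf.map
        (homOfLE (le_top : (T.fromSpecStalk t) ⁻¹ᵁ ⊤ ≤ ⊤)).op = 𝟙 _ :=
      (Spec (T.presheaf.stalk t)).presheaf.map_id _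
    rw [this]
    exact IsIso.id _
  refine ⟨(Scheme.ΓSpecIso (T.presheaf.stalk t)).symm ≪≫ @asIso _ _ _ _ _ h1, ?_⟩
  rw [Scheme.fromSpecStalk_appTop]
  rfl

/-- **base change at good points**, over an arbitrary affine base -/
theorem bcsq_of_goodAt {X Y T X' : Scheme.{u}} [IsAffine Y] [IsAffine T] (f : X ⟶ Y) [IsProper f]
    [Flat f] [LocallyOfFinitePresentation f] (g : T ⟶ Y) (g' : X' ⟶ X) (f' : X' ⟶ T)
    (sq : IsPullback g' f' f g) (hgood : ∀ t : T, GoodAt f (g t)) : BCsq f g g' f' := by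
  haveI : QuasiCompact f' := MorphismProperty.of_isPullback (P := @QuasiCompact) sq inferInstance
  haveI : QuasiSeparated f' :=
    MorphismProperty.of_isPullback (P := @QuasiSeparated) sq inferInstance
  unfold BCsq
  refine isPushout_of_forall_maximal' _ _ _ _ (appTop_comm sq.w) (fun n hn => ?_)
  have hU := isAffineOpen_top T
  let y₀ : PrimeSpectrum Γ(T, ⊤) := ⟨n, hn.isPrime⟩
  have hloc := hU.isLocalization_stalk' y₀ (show hU.fromSpec y₀ ∈ (⊤ : T.Opens) from trivial)
  let t : T := hU.fromSpec y₀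
  let τ := T.fromSpecStalk t
  let c := Y.fromSpecStalk (g t)
  let gt : Spec (T.presheaf.stalk t) ⟶ Spec (Y.presheaf.stalk (g t)) := Spec.map (g.stalkMap t)
  have hgt : gt ≫ c = τ ≫ g := Scheme.SpecMap_stalkMap_fromSpecStalk g
  let fy := pullback.snd f c
  let c' := pullback.fst f c
  let a := pullback.fst f' τ
  let ft := pullback.snd f' τ
  have sq3 : IsPullback a ft f' τ := IsPullback.of_hasPullback f' τ
  have hw : (a ≫ g') ≫ f = (ft ≫ gt) ≫ c := by
    rw [Category.assoc, sq.w, ← Category.assoc, sq3.w, Category.assoc, Category.assoc, hgt]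
  let b : pullback f' τ ⟶ pullback f c := pullback.lift (a ≫ g') (ft ≫ gt) hw
  have hb1 : b ≫ c' = a ≫ g' := pullback.lift_fst _ _ _
  have hb2 : b ≫ fy = ft ≫ gt := pullback.lift_snd _ _ _
  have sq2 : IsPullback b ft fy gt := by
    refine IsPullback.of_right ?_ hb2 (IsPullback.of_hasPullback f c)
    rw [hb1, hgt]
    exact sq3.paste_horiz sq
  obtain ⟨-, hbc⟩ := finEt_bc_stalk f (g t) (hgood t)
  have h2 : BCsq fy gt b ft := hbc gt b ft inferInstance sq2
  have h1 : BCsq f c c' fy := BCsq.of_flat f c c' fy (IsPullback.of_hasPullback f c)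
  have h12 : BCsq f (τ ≫ g) (a ≫ g') ft := (h1.paste h2).congr hgt hb1
  have h3 : BCsq f' τ a ft := BCsq.of_flat f' τ a ft sq3
  obtain ⟨e, he⟩ := exists_iso_fromSpecStalk_appTop T t
  refine ⟨T.presheaf.stalk t, Γ(Spec (T.presheaf.stalk t), ⊤), Γ(pullback f' τ, ⊤),
    T.presheaf.germ ⊤ t trivial, e, a.appTop, ft.appTop, hloc, ?_, ?_⟩
  · rw [← he]
    exact h3
  · unfold BCsq at h12
    rw [Scheme.Hom.comp_appTop, Scheme.Hom.comp_appTop, he] at h12
    exact h12

end Groth.Agent.Lib.helper11.FE
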