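import Mathlib
import Groth.Agent.Lib.helper11.FEGlobal
import Groth.Agent.Lib.helper11.FEEtale
import Groth.Agent.Lib.helper11.FEStageA
import Groth.Agent.Lib.Helper21.ProperGamma1

/-!
# `Γ(S) → Γ(X)` is finite étale over an arbitrary affine base, at good points (helper11)
-/

set_option autoImplicit false
set_option linter.style.haveILetI false
universe u
open CategoryTheory CategoryTheory.Limits AlgebraicGeometry Opposite TopologicalSpace

namespace Groth.Agent.Lib.helper11.FE

open Groth.Agent.Lib.Helper22 Groth.Agent.Lib.lead.HensK Groth.Agent.Lib.helper11.H0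

/-- finiteness and finite presentation of `Γ(S) → Γ(X)`, via a Noetherian model -/
theorem finite_fp_of_goodAt_Spec (B : Type u) [CommRing B] {X : Scheme.{u}}
    (f : X ⟶ Spec (CommRingCat.of B)) [IsProper f] [Flat f] [LocallyOfFinitePresentation f]
    (hgood : ∀ s, GoodAt f s) : f.appTop.hom.Finite ∧ f.appTop.hom.FinitePresentation := by
  let D := fgDiag B
  let c := fgCone B
  have hc : IsLimit c := fgIsLimit B
  haveI : ∀ i, CompactSpace (D.obj i) := fun i => inferInstance
  haveI : ∀ i, QuasiSeparatedSpace (D.obj i) := fun i => inferInstance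
  haveI : ∀ (i j : (Finset B)ᵒᵖ) (a : i ⟶ j), IsAffineHom (D.map a) := fun i j a => inferInstance
  let f' : X ⟶ c.pt := f
  haveI : IsProper f' := ‹IsProper f›
  haveI : Flat f' := ‹Flat f›
  haveI : LocallyOfFinitePresentation f' := ‹LocallyOfFinitePresentation f›
  obtain ⟨j₀, Y₀, h₀, g₀, hprop, hflat, hfp, hpb⟩ := exists_proper_flat_fp_model D c hc f'
  haveI := hprop
  haveI := hflat
  haveI := hfp
  haveI : IsLocallyNoetherian (D.obj j₀) := by
    show IsLocallyNoetherian (Spec (CommRingCat.of (fgSub B j₀.unop)))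
    infer_instance
  haveI : IsAffine (D.obj j₀) := by
    show IsAffine (Spec (CommRingCat.of (fgSub B j₀.unop)))
    infer_instance
  haveI : IsAffine c.pt := by
    show IsAffine (Spec (CommRingCat.of B))
    infer_instance
  let g : c.pt ⟶ D.obj j₀ := c.π.app j₀
  have hpb' : IsPullback g₀ f' h₀ g := hpb
  have hbc : BCsq h₀ g g₀ f' :=
    bcsq_of_goodAt h₀ g g₀ f' hpb' (fun s => GoodAt.of_isPullback hpb' s (hgood s))
  unfold BCsq at hbc
  have hfin0 : h₀.appTop.hom.Finite :=
    Groth.Agent.Lib.Helper21.ProperGamma.finite_app_of_isProper h₀ ⊤ (isAffineOpen_top _)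
  haveI : IsNoetherianRing Γ(D.obj j₀, ⊤) :=
    IsLocallyNoetherian.component_noetherian ⟨⊤, isAffineOpen_top _⟩
  have hfp0 : h₀.appTop.hom.FinitePresentation :=
    RingHom.FinitePresentation.of_finiteType.mp (RingHom.FiniteType.of_finite hfin0)
  exact ⟨baseChange_of_isPushout (P := fun f => f.Finite) RingHom.finite_isStableUnderBaseChange
      hbc hfin0,
    baseChange_of_isPushout (P := fun f => f.FinitePresentation)
      RingHom.finitePresentation_isStableUnderBaseChange hbc hfp0⟩

/-- **finite étale** over an arbitrary affine base `Spec B` -/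
theorem finEt_of_goodAt_Spec (B : Type u) [CommRing B] {X : Scheme.{u}}
    (f : X ⟶ Spec (CommRingCat.of B)) [IsProper f] [Flat f] [LocallyOfFinitePresentation f]
    (hgood : ∀ s, GoodAt f s) : FinEt f := by
  obtain ⟨hfin, hfp⟩ := finite_fp_of_goodAt_Spec B f hgood
  refine ⟨hfin, etale_of_forall_prime' f.appTop hfp (fun q hq => ?_)⟩
  let S := Spec (CommRingCat.of B)
  have hU := isAffineOpen_top S
  let y₀ : PrimeSpectrum Γ(S, ⊤) := ⟨q.comap f.appTop.hom, inferInstance⟩
  have hloc := hU.isLocalization_stalk' y₀ (show hU.fromSpec y₀ ∈ (⊤ : S.Opens) from trivial)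
  let y : S := hU.fromSpec y₀
  let c := S.fromSpecStalk y
  let fy := pullback.snd f c
  let c' := pullback.fst f c
  have h1 : BCsq f c c' fy := BCsq.of_flat f c c' fy (IsPullback.of_hasPullback f c)
  obtain ⟨e, he⟩ := exists_iso_fromSpecStalk_appTop S y
  have het : fy.appTop.hom.Etale := (finEt_bc_stalk f y (hgood y)).1.2
  refine ⟨S.presheaf.stalk y, Γ(Spec (S.presheaf.stalk y), ⊤), Γ(pullback f c, ⊤),
    S.presheaf.germ ⊤ y trivial, e, c'.appTop, fy.appTop, ?_, hloc, ?_⟩
  · rw [← he]
    exact h1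
  · exact het.toAlgebra.formallyEtale

end Groth.Agent.Lib.helper11.FE
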