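import Mathlib
import Groth.Agent.Lib.helper11.FEGlobal2

/-!
# `Γ(V) → Γ(f⁻¹V)` is finite étale for affine opens `V` of an arbitrary base (helper11)
-/

set_option autoImplicit false
set_option linter.style.haveILetI false
universe u
open CategoryTheory CategoryTheory.Limits AlgebraicGeometry Opposite TopologicalSpace

namespace Groth.Agent.Lib.helper11.FE

/-- the geometric fibres over algebraically closed fields are reduced -/
def GRed {X S : Scheme.{u}} (f : X ⟶ S) : Prop :=
  ∀ (Ω : Type u) [Field Ω] [IsAlgClosed Ω] (σ : Spec (CommRingCat.of Ω) ⟶ S),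
    IsReduced (pullback f σ)

theorem GRed.of_isPullback {X S T X' : Scheme.{u}} {f : X ⟶ S} {g : T ⟶ S} {g' : X' ⟶ X}
    {f' : X' ⟶ T} (sq : IsPullback g' f' f g) (h : GRed f) : GRed f' := by
  intro Ω _ _ σ
  have big := (IsPullback.of_hasPullback f' σ).paste_horiz sq
  haveI := h Ω (σ ≫ g)
  exact isReduced_of_isOpenImmersion big.isoPullback.hom

theorem GRed.goodAt {X S : Scheme.{u}} {f : X ⟶ S} (h : GRed f) (s : S) : GoodAt f s :=
  goodAt_of_isReduced f s h

theorem GRed.of_geometricallyReduced {X S : Scheme.{u}} (f : X ⟶ S) [GeometricallyReduced f] :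
    GRed f := fun _ _ _ σ =>
  GeometricallyReduced.geometrically_isReduced σ _ _ (IsPullback.of_hasPullback f σ)

/-- **finite étale on sections over affine opens** -/
theorem finEt_app {X S : Scheme.{u}} (f : X ⟶ S) [IsProper f] [Flat f]
    [LocallyOfFinitePresentation f] (hred : GRed f) (U : S.Opens) (hU : IsAffineOpen U) :
    (f.app U).hom.Finite ∧ (f.app U).hom.Etale := by
  haveI : IsProper (f ∣_ U) := IsZariskiLocalAtTarget.restrict ‹_› U
  haveI : Flat (f ∣_ U) := IsZariskiLocalAtTarget.restrict ‹_› U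
  haveI : LocallyOfFinitePresentation (f ∣_ U) := IsZariskiLocalAtTarget.restrict ‹_› U
  let fU : (f ⁻¹ᵁ U).toScheme ⟶ Spec Γ(S, U) := (f ∣_ U) ≫ hU.isoSpec.hom
  haveI : IsProper fU := inferInstance
  haveI : Flat fU := inferInstance
  haveI : LocallyOfFinitePresentation fU := inferInstance
  have sq : IsPullback (f ⁻¹ᵁ U).ι fU f (hU.isoSpec.inv ≫ U.ι) := by
    have h0 := (isPullback_morphismRestrict f U).flip
    refine IsPullback.of_iso h0 (Iso.refl _) (Iso.refl _) hU.isoSpec (Iso.refl _) ?_ ?_ ?_ ?_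
    · simp
    · simp [fU]
    · simp
    · simp
  have hredU : GRed fU := hred.of_isPullback sq
  have h1 := finEt_of_goodAt_Spec Γ(S, U) fU (fun s => hredU.goodAt s)
  have h2 : (Scheme.ΓSpecIso Γ(S, U)).inv ≫ fU.appTop =
      f.app U ≫ (f ⁻¹ᵁ U).topIso.inv := by
    rw [Scheme.Hom.comp_appTop, IsAffineOpen.isoSpec_hom_appTop, Category.assoc,
      Iso.inv_hom_id_assoc, morphismRestrict_appTop]
    simp only [Scheme.Opens.topIso, Functor.mapIso_inv, Iso.op_inv, eqToIso.inv]
    exact Groth.Agent.Lib.Helper21.ProperGamma.app_aux f _ _ _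
  have h3 : fU.appTop = (Scheme.ΓSpecIso Γ(S, U)).hom ≫ f.app U ≫ (f ⁻¹ᵁ U).topIso.inv := by
    rw [← h2, Iso.hom_inv_id_assoc]
  obtain ⟨hfin, het⟩ := h1
  rw [h3] at hfin het
  constructor
  · have := (RingHom.finite_respectsIso.cancel_left_isIso _ _).mp hfin
    exact (RingHom.finite_respectsIso.cancel_right_isIso _ _).mp this
  · have := (RingHom.Etale.respectsIso.cancel_left_isIso _ _).mp het
    exact (RingHom.Etale.respectsIso.cancel_right_isIso _ _).mp this

end Groth.Agent.Lib.helper11.FE
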