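import Mathlib
import Groth.Agent.Lib.helper11.FEGlobal3
import Groth.Agent.Lib.Helper13.SteinUC

/-!
# The Stein factorization `S' → S` is finite étale (helper11)
-/

set_option autoImplicit false
set_option linter.style.haveILetI false
universe u
open CategoryTheory CategoryTheory.Limits AlgebraicGeometry Opposite TopologicalSpace

namespace Groth.Agent.Lib.helper11.FE

theorem fromNormalization_app_finEt {X S : Scheme.{u}} (f : X ⟶ S) [IsProper f] [Flat f]
    [LocallyOfFinitePresentation f] (hred : GRed f) (V : S.Opens) (hV : IsAffineOpen V) :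
    (f.fromNormalization.app V).hom.Finite ∧ (f.fromNormalization.app V).hom.Etale := by
  have h := finEt_app f hred V hV
  have key : ∀ (f' : X ⟶ S), f' = f → (f'.app V).hom.Finite ∧ (f'.app V).hom.Etale := by
    rintro _ rfl; exact h
  have h' := key _ f.toNormalization_fromNormalization
  rw [Scheme.Hom.comp_app] at h'
  haveI := Groth.Agent.Lib.Helper13.SteinUC.isIso_toNormalization_app f
    (f.fromNormalization ⁻¹ᵁ V)
  exact ⟨(RingHom.finite_respectsIso.cancel_right_isIso _ _).mp h'.1,
    (RingHom.Etale.respectsIso.cancel_right_isIso _ _).mp h'.2⟩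

theorem etale_stableUnderCompositionWithLocalizationAwaySource :
    RingHom.StableUnderCompositionWithLocalizationAwaySource.{u} RingHom.Etale := by
  intro R S T _ _ _ _ r _ f hf
  have h1 : (algebraMap R S).Etale :=
    RingHom.etale_algebraMap.mpr (Algebra.Etale.of_isLocalizationAway r)
  exact RingHom.Etale.stableUnderComposition _ _ h1 hf

/-- **the Stein factorization is finite étale** -/
theorem isFinite_etale_fromNormalization {X S : Scheme.{u}} (f : X ⟶ S) [IsProper f] [Flat f]
    [LocallyOfFinitePresentation f] (hred : GRed f) :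
    IsFinite f.fromNormalization ∧ Etale f.fromNormalization := by
  constructor
  · exact { toIsAffineHom := inferInstance
            finite_app := fun U hU => (fromNormalization_app_finEt f hred U hU).1 }
  · refine (HasRingHomProperty.iff_exists_appLE (P := @Etale)
      etale_stableUnderCompositionWithLocalizationAwaySource).mpr (fun x => ?_)
    obtain ⟨U, hU, hxU⟩ : ∃ U : S.Opens, IsAffineOpen U ∧ f.fromNormalization x ∈ U := by
      obtain ⟨_, ⟨U, hU, rfl⟩, hxU, -⟩ := S.isBasis_affineOpens.exists_subset_of_mem_open
        (Set.mem_univ (f.fromNormalization x)) isOpen_univ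
      exact ⟨U, hU, hxU⟩
    refine ⟨⟨U, hU⟩, ⟨f.fromNormalization ⁻¹ᵁ U, hU.preimage f.fromNormalization⟩, hxU, le_rfl, ?_⟩
    rw [← Scheme.Hom.app_eq_appLE]
    exact (fromNormalization_app_finEt f hred U hU).2

end Groth.Agent.Lib.helper11.FE
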