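import Mathlib
import Groth.Prelude.Def_FEt

/-!
# A criterion for full faithfulness of pullback of finite étale covers (helper11)

If `g : X' ⟶ X` induces a bijection on clopen subsets after base change to every finite étale
`X`-scheme (`ClopenBij g`), then `FEt.restrict g` is full and faithful
(`full_faithful_of_clopenBij`).  The proof identifies sections of a finite étale morphism with
clopen subsets of degree one.
-/

set_option autoImplicit false
set_option backward.isDefEq.respectTransparency.types false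
set_option linter.style.haveILetI false
universe u
open CategoryTheory CategoryTheory.Limits AlgebraicGeometry Opposite TopologicalSpace

namespace Groth.Agent.Lib.helper11.FFCrit

/-- a section of an étale separated morphism is an open and closed immersion -/
theorem section_isOpenImmersion_isClosedImmersion {W Y : Scheme.{u}} (π : W ⟶ Y) [IsFinite π]
    [Etale π] (s : Y ⟶ W) (hs : s ≫ π = 𝟙 Y) : IsOpenImmersion s ∧ IsClosedImmersion s := by
  haveI : Etale (s ≫ π) := by rw [hs]; infer_instance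
  haveI : IsClosedImmersion (s ≫ π) := by rw [hs]; infer_instance
  haveI : Etale s := Etale.of_comp s π
  haveI : Mono s := mono_of_mono_fac hs
  exact ⟨IsOpenImmersion.of_flat_of_mono s, IsClosedImmersion.of_comp s π⟩

theorem isClopen_range_section {W Y : Scheme.{u}} (π : W ⟶ Y) [IsFinite π]
    [Etale π] (s : Y ⟶ W) (hs : s ≫ π = 𝟙 Y) : IsClopen (Set.range s) := by
  obtain ⟨h1, h2⟩ := section_isOpenImmersion_isClosedImmersion π s hs
  exact ⟨s.isClosedEmbedding.isClosed_range, s.isOpenEmbedding.isOpen_range⟩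

/-- **Sections descend**: existence. -/
theorem exists_section {W Y Y' W' : Scheme.{u}} (π : W ⟶ Y) [IsFinite π] [Etale π]
    (q : Y' ⟶ Y) (qW : W' ⟶ W) (π' : W' ⟶ Y') (sq : IsPullback qW π' π q)
    (hW : ∀ C' : Set W', IsClopen C' → ∃ C : Set W, IsClopen C ∧ qW ⁻¹' C = C')
    (hY : ∀ D : Set Y, IsClopen D → q ⁻¹' D = Set.univ → D = Set.univ)
    (s' : Y' ⟶ W') (hs' : s' ≫ π' = 𝟙 Y') :
    ∃ s : Y ⟶ W, s ≫ π = 𝟙 Y ∧ q ≫ s = s' ≫ qW := by
  haveI : IsFinite π' := MorphismProperty.of_isPullback (P := @IsFinite) sq inferInstance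
  haveI : Etale π' := MorphismProperty.of_isPullback (P := @Etale) sq inferInstance
  obtain ⟨hs'o, hs'c⟩ := section_isOpenImmersion_isClosedImmersion π' s' hs'
  obtain ⟨C, hC, hCeq⟩ := hW _ (isClopen_range_section π' s' hs')
  let U : W.Opens := ⟨C, hC.isOpen⟩
  haveI : IsClosedImmersion U.ι :=
    IsClosedImmersion.of_isPreimmersion _ (by rw [Scheme.Opens.range_ι]; exact hC.isClosed)
  let p : (U : Scheme.{u}) ⟶ Y := U.ι ≫ π
  haveI : IsFinite p := inferInstance
  haveI : Etale p := inferInstance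
  -- the comparison map `j`
  let j : pullback p q ⟶ W' := sq.lift (pullback.fst p q ≫ U.ι) (pullback.snd p q)
    (by rw [Category.assoc]; exact pullback.condition)
  have hj_fst : j ≫ qW = pullback.fst p q ≫ U.ι := sq.lift_fst _ _ _
  have hj_snd : j ≫ π' = pullback.snd p q := sq.lift_snd _ _ _
  have hjrange : Set.range j ⊆ Set.range s' := by
    rintro _ ⟨x, rfl⟩
    rw [← hCeq]
    show qW (j x) ∈ C
    rw [← Scheme.Hom.comp_apply, hj_fst, Scheme.Hom.comp_apply]
    exact (pullback.fst p q x).2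
  let j₀ : pullback p q ⟶ Y' := IsOpenImmersion.lift s' j hjrange
  have hj₀ : j₀ ≫ s' = j := IsOpenImmersion.lift_fac _ _ _
  have hsnd_eq : pullback.snd p q = j₀ := by
    rw [← hj_snd, ← hj₀, Category.assoc, hs', Category.comp_id]
  have hsnd_s' : pullback.snd p q ≫ s' = j := by rw [hsnd_eq, hj₀]
  -- `t : Y' ⟶ U`
  have htrange : Set.range (s' ≫ qW) ⊆ Set.range U.ι := by
    rintro _ ⟨y, rfl⟩
    rw [Scheme.Opens.range_ι, Scheme.Hom.comp_apply]
    show qW (s' y) ∈ C
    have : s' y ∈ qW ⁻¹' C := by rw [hCeq]; exact ⟨y, rfl⟩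
    exact this
  let t : Y' ⟶ (U : Scheme.{u}) := IsOpenImmersion.lift U.ι (s' ≫ qW) htrange
  have ht : t ≫ U.ι = s' ≫ qW := IsOpenImmersion.lift_fac _ _ _
  have htp : t ≫ p = q := by
    simp only [p]
    rw [reassoc_of% ht, sq.w, reassoc_of% hs']
  let r : Y' ⟶ pullback p q := pullback.lift t (𝟙 Y') (by rw [htp, Category.id_comp])
  have hr_fst : r ≫ pullback.fst p q = t := pullback.lift_fst _ _ _
  have hr_snd : r ≫ pullback.snd p q = 𝟙 Y' := pullback.lift_snd _ _ _
  haveI : IsIso (pullback.snd p q) := by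
    refine ⟨r, ?_, hr_snd⟩
    apply pullback.hom_ext
    · rw [← cancel_mono U.ι, Category.assoc, Category.assoc, reassoc_of% hr_fst, ht,
        reassoc_of% hsnd_s', hj_fst, Category.id_comp]
    · rw [Category.assoc, hr_snd, Category.comp_id, Category.id_comp]
  -- the rank of `p` is one
  have hrank : ∀ y' : Y', Scheme.Hom.finrank p (q y') = 1 := by
    intro y'
    rw [← Scheme.Hom.finrank_pullback_snd p q y', Scheme.Hom.finrank_eq_one_of_isIso]; rfl
  have hD : IsClopen (Scheme.Hom.finrank p ⁻¹' {1}) :=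
    (Scheme.Hom.isLocallyConstant_finrank p).isClopen_fiber 1
  have hDuniv := hY _ hD (by ext y'; simpa using hrank y')
  haveI : IsIso p := by
    rw [Scheme.Hom.isIso_iff_finrank_eq]
    funext y
    have : y ∈ Scheme.Hom.finrank p ⁻¹' {1} := by rw [hDuniv]; trivial
    exact this
  refine ⟨inv p ≫ U.ι, ?_, ?_⟩
  · rw [Category.assoc]; exact IsIso.inv_hom_id p
  · have : q ≫ inv p = t := by rw [← htp, Category.assoc, IsIso.hom_inv_id, Category.comp_id]
    rw [reassoc_of% this, ht]

/-- **Sections descend**: uniqueness. -/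
theorem section_ext {W Y Y' : Scheme.{u}} (π : W ⟶ Y) [IsFinite π] [Etale π] (q : Y' ⟶ Y)
    (hY : ∀ D : Set Y, IsClopen D → q ⁻¹' D = Set.univ → D = Set.univ)
    (s₁ s₂ : Y ⟶ W) (h₁ : s₁ ≫ π = 𝟙 Y) (h₂ : s₂ ≫ π = 𝟙 Y) (h : q ≫ s₁ = q ≫ s₂) :
    s₁ = s₂ := by
  obtain ⟨ho, -⟩ := section_isOpenImmersion_isClosedImmersion π s₂ h₂
  have hD : IsClopen (s₁ ⁻¹' (Set.range s₂)) :=
    (isClopen_range_section π s₂ h₂).preimage s₁.continuous
  have hDuniv := hY _ hD (by
    ext y'
    simp only [Set.mem_preimage, Set.mem_univ, iff_true]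
    rw [← Scheme.Hom.comp_apply, h, Scheme.Hom.comp_apply]
    exact ⟨_, rfl⟩)
  have hsub : Set.range s₁ ⊆ Set.range s₂ := by
    rintro _ ⟨y, rfl⟩
    have : y ∈ s₁ ⁻¹' (Set.range s₂) := by rw [hDuniv]; trivial
    exact this
  have hl : IsOpenImmersion.lift s₂ s₁ hsub ≫ s₂ = s₁ := IsOpenImmersion.lift_fac _ _ _
  have hl1 : IsOpenImmersion.lift s₂ s₁ hsub = 𝟙 Y := by
    have := congrArg (· ≫ π) hl
    simp only [Category.assoc, h₂, h₁, Category.comp_id] at this
    exact this
  rw [← hl, hl1, Category.id_comp]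

/-- `g : X' ⟶ X` induces a bijection on clopen subsets after base change to any finite étale
`X`-scheme. (`inj` is stated for the top element only, which is what is needed.) -/
structure ClopenBij {X' X : Scheme.{u}} (g : X' ⟶ X) : Prop where
  surj : ∀ {Z : Scheme.{u}} (p : Z ⟶ X) [IsFinite p] [Etale p] (C' : Set ↥(pullback p g)),
    IsClopen C' → ∃ C : Set Z, IsClopen C ∧ (pullback.fst p g) ⁻¹' C = C'
  inj : ∀ {Z : Scheme.{u}} (p : Z ⟶ X) [IsFinite p] [Etale p] (D : Set Z), IsClopen D →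
    (pullback.fst p g) ⁻¹' D = Set.univ → D = Set.univ

/-- **Criterion for full faithfulness of `FEt.restrict`.** -/
theorem full_faithful_of_clopenBij {X' X : Scheme.{u}} (g : X' ⟶ X) (H : ClopenBij g) :
    (FEt.restrict g).Full ∧ (FEt.restrict g).Faithful := by
  constructor
  · refine ⟨fun {Y₁ Y₂} ψ => ?_⟩
    haveI : IsFinite Y₁.hom := Y₁.prop.1
    haveI : Etale Y₁.hom := Y₁.prop.2
    haveI : IsFinite Y₂.hom := Y₂.prop.1
    haveI : Etale Y₂.hom := Y₂.prop.2
    let ψl : pullback Y₁.hom g ⟶ pullback Y₂.hom g := ψ.left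
    have hψw : ψl ≫ pullback.snd Y₂.hom g = pullback.snd Y₁.hom g :=
      MorphismProperty.Over.w ψ
    let π := pullback.fst Y₁.hom Y₂.hom
    let pW := π ≫ Y₁.hom
    let q := pullback.fst Y₁.hom g
    let qW := pullback.fst pW g
    let π' : pullback pW g ⟶ pullback Y₁.hom g :=
      pullback.lift (qW ≫ π) (pullback.snd pW g) (by
        rw [Category.assoc]; exact pullback.condition)
    have hπ'_fst : π' ≫ q = qW ≫ π := pullback.lift_fst _ _ _
    have hπ'_snd : π' ≫ pullback.snd Y₁.hom g = pullback.snd pW g := pullback.lift_snd _ _ _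
    have sq : IsPullback qW π' π q := by
      have big : IsPullback qW (π' ≫ pullback.snd Y₁.hom g) (π ≫ Y₁.hom) g := by
        rw [hπ'_snd]; exact IsPullback.of_hasPullback pW g
      exact IsPullback.of_bot big hπ'_fst.symm (IsPullback.of_hasPullback Y₁.hom g)
    have c1 : q ≫ Y₁.hom = (ψl ≫ pullback.fst Y₂.hom g) ≫ Y₂.hom :=
      calc q ≫ Y₁.hom = pullback.snd Y₁.hom g ≫ g := pullback.condition
        _ = (ψl ≫ pullback.snd Y₂.hom g) ≫ g := by rw [hψw]
        _ = _ := by rw [Category.assoc, ← pullback.condition, Category.assoc]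
    let gr : pullback Y₁.hom g ⟶ pullback Y₁.hom Y₂.hom :=
      pullback.lift q (ψl ≫ pullback.fst Y₂.hom g) c1
    have hgr_fst : gr ≫ π = q := pullback.lift_fst _ _ _
    have hgr_snd : gr ≫ pullback.snd Y₁.hom Y₂.hom = ψl ≫ pullback.fst Y₂.hom g :=
      pullback.lift_snd _ _ _
    let s' : pullback Y₁.hom g ⟶ pullback pW g :=
      pullback.lift gr (pullback.snd Y₁.hom g) (by
        simp only [pW]
        rw [reassoc_of% hgr_fst]; exact pullback.condition)
    have hs'_fst : s' ≫ qW = gr := pullback.lift_fst _ _ _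
    have hs'_snd : s' ≫ pullback.snd pW g = pullback.snd Y₁.hom g := pullback.lift_snd _ _ _
    have hs' : s' ≫ π' = 𝟙 _ := by
      apply pullback.hom_ext
      · rw [Category.assoc, hπ'_fst, reassoc_of% hs'_fst, hgr_fst, Category.id_comp]
      · rw [Category.assoc, hπ'_snd, hs'_snd, Category.id_comp]
    obtain ⟨s, hsπ, hqs⟩ := exists_section π q qW π' sq (H.surj pW) (H.inj Y₁.hom) s' hs'
    let k : Y₁.left ⟶ Y₂.left := s ≫ pullback.snd Y₁.hom Y₂.hom
    have hkw : k ≫ Y₂.hom = Y₁.hom := by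
      simp only [k]
      rw [Category.assoc, ← pullback.condition, reassoc_of% hsπ]
    refine ⟨MorphismProperty.Over.homMk k hkw trivial, ?_⟩
    apply MorphismProperty.Over.Hom.ext
    show pullback.lift (pullback.fst Y₁.hom g ≫ k) (pullback.snd Y₁.hom g) _ = ψl
    apply pullback.hom_ext
    · rw [pullback.lift_fst]
      simp only [k]
      rw [reassoc_of% hqs, reassoc_of% hs'_fst, hgr_snd]
    · rw [pullback.lift_snd, hψw]
  · refine ⟨fun {Y₁ Y₂} a b hab => ?_⟩
    haveI : IsFinite Y₁.hom := Y₁.prop.1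
    haveI : Etale Y₁.hom := Y₁.prop.2
    haveI : IsFinite Y₂.hom := Y₂.prop.1
    haveI : Etale Y₂.hom := Y₂.prop.2
    apply MorphismProperty.Over.Hom.ext
    let al : pullback Y₁.hom g ⟶ pullback Y₂.hom g := ((FEt.restrict g).map a).left
    let bl : pullback Y₁.hom g ⟶ pullback Y₂.hom g := ((FEt.restrict g).map b).left
    have hl : al = bl := congrArg (fun t => t.left) hab
    have ha : al ≫ pullback.fst Y₂.hom g = pullback.fst Y₁.hom g ≫ a.left :=
      pullback.lift_fst _ _ _
    have hb : bl ≫ pullback.fst Y₂.hom g = pullback.fst Y₁.hom g ≫ b.left :=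
      pullback.lift_fst _ _ _
    rw [hl, hb] at ha
    let π := pullback.fst Y₁.hom Y₂.hom
    let sa : Y₁.left ⟶ pullback Y₁.hom Y₂.hom :=
      pullback.lift (𝟙 _) a.left (by rw [Category.id_comp]; exact (MorphismProperty.Over.w a).symm)
    let sb : Y₁.left ⟶ pullback Y₁.hom Y₂.hom :=
      pullback.lift (𝟙 _) b.left (by rw [Category.id_comp]; exact (MorphismProperty.Over.w b).symm)
    have hsa : sa ≫ π = 𝟙 _ := pullback.lift_fst _ _ _
    have hsb : sb ≫ π = 𝟙 _ := pullback.lift_fst _ _ _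
    have hq : pullback.fst Y₁.hom g ≫ sa = pullback.fst Y₁.hom g ≫ sb := by
      apply pullback.hom_ext
      · rw [Category.assoc, Category.assoc, hsa, hsb]
      · rw [Category.assoc, Category.assoc, pullback.lift_snd, pullback.lift_snd, ha]
    have := section_ext π (pullback.fst Y₁.hom g) (H.inj Y₁.hom) sa sb hsa hsb hq
    have h2 := congrArg (· ≫ pullback.snd Y₁.hom Y₂.hom) this
    simp only [sa, sb, pullback.lift_snd] at h2
    exact h2

end Groth.Agent.Lib.helper11.FFCrit
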