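import Mathlib

/-!
# Geometric connectedness / reducedness can be tested on algebraically closed fields (helper11)
-/

set_option autoImplicit false
set_option linter.style.haveILetI false
universe u
open CategoryTheory CategoryTheory.Limits AlgebraicGeometry Opposite TopologicalSpace

namespace Groth.Agent.Lib.helper11.GeomAlgClosed

variable {X S : Scheme.{u}} (f : X ⟶ S)

/-- the comparison square for a change of the base point -/
theorem isPullback_lift {T T' : Scheme.{u}} (y : T ⟶ S) (φ : T' ⟶ T) :
    IsPullback (pullback.lift (pullback.fst f (φ ≫ y)) (pullback.snd f (φ ≫ y) ≫ φ)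
        (by rw [pullback.condition, Category.assoc]))
      (pullback.snd f (φ ≫ y)) (pullback.snd f y) φ := by
  have hbig : IsPullback (pullback.lift (pullback.fst f (φ ≫ y)) (pullback.snd f (φ ≫ y) ≫ φ)
        (by rw [pullback.condition, Category.assoc]) ≫ pullback.fst f y)
      (pullback.snd f (φ ≫ y)) f (φ ≫ y) := by
    rw [pullback.lift_fst]
    exact IsPullback.of_hasPullback f (φ ≫ y)
  exact IsPullback.of_right hbig (pullback.lift_snd _ _ _) (IsPullback.of_hasPullback f y)

section

variable (K : Type u) [Field K] (y : Spec (CommRingCat.of K) ⟶ S)

/-- the geometric point over `y` with values in the algebraic closure -/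
noncomputable abbrev φbar : CommRingCat.of K ⟶ CommRingCat.of (AlgebraicClosure K) :=
  CommRingCat.ofHom (algebraMap K (AlgebraicClosure K))

instance : Surjective (Spec.map (φbar K)) :=
  ⟨Function.surjective_to_subsingleton (α := Spec (CommRingCat.of (AlgebraicClosure K)))
    (β := Spec (CommRingCat.of K)) _⟩

theorem connectedSpace_pullback_of_algClosure
    (h : ConnectedSpace ↥(pullback f (Spec.map (φbar K) ≫ y))) :
    ConnectedSpace ↥(pullback f y) := by
  have H := isPullback_lift f y (Spec.map (φbar K))
  set q := pullback.lift (pullback.fst f (Spec.map (φbar K) ≫ y))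
    (pullback.snd f (Spec.map (φbar K) ≫ y) ≫ Spec.map (φbar K))
    (by rw [pullback.condition, Category.assoc]) with hq
  haveI : Surjective q := MorphismProperty.of_isPullback (P := @Surjective) H.flip inferInstance
  exact q.surjective.connectedSpace q.continuous

theorem isReduced_pullback_of_algClosure
    (h : IsReduced (pullback f (Spec.map (φbar K) ≫ y))) :
    IsReduced (pullback f y) := by
  have H := isPullback_lift f y (Spec.map (φbar K))
  set q := pullback.lift (pullback.fst f (Spec.map (φbar K) ≫ y))
    (pullback.snd f (Spec.map (φbar K) ≫ y) ≫ Spec.map (φbar K))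
    (by rw [pullback.condition, Category.assoc]) with hq
  haveI : IsAffineHom q := MorphismProperty.of_isPullback (P := @IsAffineHom) H.flip inferInstance
  haveI : IsDominant (Spec.map (φbar K)) := inferInstance
  haveI : IsSchemeTheoreticallyDominant (Spec.map (φbar K)) :=
    IsSchemeTheoreticallyDominant.of_isDominant _
  haveI : IsSchemeTheoreticallyDominant q := IsSchemeTheoreticallyDominant.of_isPullback H.flip
  exact IsSchemeTheoreticallyDominant.isReduced q

end

/-- geometric connectedness can be tested on algebraically closed fields -/
theorem geometricallyConnected_of_algClosed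
    (h : ∀ (Ω : Type u) [Field Ω] [IsAlgClosed Ω] (s : Spec (CommRingCat.of Ω) ⟶ S),
      ConnectedSpace ↥(pullback f s)) : GeometricallyConnected f := by
  rw [geometricallyConnected_iff, geometrically_iff_of_isClosedUnderIsomorphisms]
  intro K _ y
  exact connectedSpace_pullback_of_algClosure f K y (h _ _)

/-- geometric reducedness can be tested on algebraically closed fields -/
theorem geometricallyReduced_of_algClosed
    (h : ∀ (Ω : Type u) [Field Ω] [IsAlgClosed Ω] (s : Spec (CommRingCat.of Ω) ⟶ S),
      IsReduced (pullback f s)) : GeometricallyReduced f := by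
  rw [geometricallyReduced_iff, geometrically_iff_of_isClosedUnderIsomorphisms]
  intro K _ y
  exact isReduced_pullback_of_algClosure f K y (h _ _)

end Groth.Agent.Lib.helper11.GeomAlgClosed
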