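import Mathlib
import Groth.Prelude.Def_FEt
import Groth.Agent.Lib.helper11.RigidGen
import Groth.Agent.Lib.helper11.GeomAlgClosed

/-!
# Pullback of finite étale covers along a proper flat morphism with geometrically connected and
reduced fibres is fully faithful (helper11)
-/

set_option autoImplicit false
set_option backward.isDefEq.respectTransparency.types false
set_option linter.style.haveILetI false
universe u
open CategoryTheory CategoryTheory.Limits AlgebraicGeometry Opposite TopologicalSpace

namespace Groth.Agent.Lib.helper11.FEtFF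

open Groth.Agent.Lib.Helper21.Rigid

variable {X S : Scheme.{u}} (f : X ⟶ S)

/-- a morphism from the base change of a finite étale cover (more generally anything over `S`)
into a scheme quasi-finite and separated over `S` factors through the projection -/
theorem exists_factor [IsProper f] [Flat f] [LocallyOfFinitePresentation f]
    [GeometricallyConnected f] [GeometricallyReduced f]
    {Y₁ Y₂ : Scheme.{u}} (p₁ : Y₁ ⟶ S) (p₂ : Y₂ ⟶ S) [LocallyQuasiFinite p₂]
    (ψ : pullback p₁ f ⟶ Y₂) (hψ : ψ ≫ p₂ = pullback.fst p₁ f ≫ p₁) :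
    ∃ k : Y₁ ⟶ Y₂, ψ = pullback.fst p₁ f ≫ k := by
  let g := pullback.fst p₁ f
  haveI : IsProper g := MorphismProperty.pullback_fst (P := @IsProper) _ _ inferInstance
  haveI : Flat g := MorphismProperty.pullback_fst (P := @Flat) _ _ inferInstance
  haveI : LocallyOfFinitePresentation g :=
    MorphismProperty.pullback_fst (P := @LocallyOfFinitePresentation) _ _ inferInstance
  haveI : GeometricallyReduced g :=
    MorphismProperty.pullback_fst (P := @GeometricallyReduced) _ _ inferInstance
  haveI : GeometricallyConnected g :=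
    MorphismProperty.pullback_fst (P := @GeometricallyConnected) _ _ inferInstance
  apply RigidGen.rigidity_global g ψ
  intro t
  obtain ⟨x₀, hx₀⟩ := g.surjective t
  refine ⟨ψ x₀, fun x hx => ?_⟩
  have hdisc : _root_.IsDiscrete (p₂ ⁻¹' {p₁ t}) := p₂.isDiscrete_preimage_singleton _
  have hconn : _root_.IsPreconnected (ψ '' (g ⁻¹' {t})) :=
    ((g.isConnected_preimage_singleton t).image _ ψ.continuous.continuousOn).isPreconnected
  have hsub : ψ '' (g ⁻¹' {t}) ⊆ p₂ ⁻¹' {p₁ t} := by
    rintro _ ⟨z, hz, rfl⟩
    show p₂ (ψ z) = p₁ t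
    rw [← Scheme.Hom.comp_apply, hψ, Scheme.Hom.comp_apply]
    exact congrArg _ hz
  exact RigidGen.subsingleton_of_isPreconnected_of_isDiscrete hdisc hconn hsub
    ⟨x, hx, rfl⟩ ⟨x₀, hx₀, rfl⟩

theorem full_faithful [IsProper f] [Flat f] [LocallyOfFinitePresentation f]
    [GeometricallyConnected f] [GeometricallyReduced f] :
    (FEt.restrict f).Full ∧ (FEt.restrict f).Faithful := by
  have hepi : ∀ Y : FEt.Cat S, Epi (pullback.fst Y.hom f) := by
    intro Y
    haveI : Flat (pullback.fst Y.hom f) :=
      MorphismProperty.pullback_fst (P := @Flat) _ _ inferInstance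
    haveI : QuasiCompact (pullback.fst Y.hom f) :=
      MorphismProperty.pullback_fst (P := @QuasiCompact) _ _ inferInstance
    haveI : Surjective (pullback.fst Y.hom f) :=
      MorphismProperty.pullback_fst (P := @Surjective) _ _ inferInstance
    exact Flat.epi_of_flat_of_surjective _
  constructor
  · refine ⟨fun {Y₁ Y₂} ψ => ?_⟩
    haveI : IsFinite Y₂.hom := Y₂.prop.1
    let ψl : pullback Y₁.hom f ⟶ pullback Y₂.hom f := ψ.left
    have hψw : ψl ≫ pullback.snd Y₂.hom f = pullback.snd Y₁.hom f :=
      MorphismProperty.Over.w ψ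
    have h1 : (ψl ≫ pullback.fst Y₂.hom f) ≫ Y₂.hom = pullback.fst Y₁.hom f ≫ Y₁.hom := by
      rw [Category.assoc, pullback.condition, ← Category.assoc, hψw, pullback.condition]
    obtain ⟨k, hk⟩ := exists_factor f Y₁.hom Y₂.hom (ψl ≫ pullback.fst Y₂.hom f) h1
    haveI := hepi Y₁
    have hkw : k ≫ Y₂.hom = Y₁.hom := by
      rw [← cancel_epi (pullback.fst Y₁.hom f), ← Category.assoc, ← hk, h1]
    refine ⟨MorphismProperty.Over.homMk k hkw trivial, ?_⟩
    apply MorphismProperty.Over.Hom.ext
    show pullback.lift (pullback.fst Y₁.hom f ≫ k) (pullback.snd Y₁.hom f) _ = ψl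
    apply pullback.hom_ext
    · rw [pullback.lift_fst, hk]
    · rw [pullback.lift_snd, hψw]
  · refine ⟨fun {Y₁ Y₂} a b hab => ?_⟩
    haveI := hepi Y₁
    apply MorphismProperty.Over.Hom.ext
    let al : pullback Y₁.hom f ⟶ pullback Y₂.hom f := ((FEt.restrict f).map a).left
    let bl : pullback Y₁.hom f ⟶ pullback Y₂.hom f := ((FEt.restrict f).map b).left
    have hl : al = bl := congrArg (fun t => t.left) hab
    have ha : al ≫ pullback.fst Y₂.hom f = pullback.fst Y₁.hom f ≫ a.left :=
      pullback.lift_fst _ _ _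
    have hb : bl ≫ pullback.fst Y₂.hom f = pullback.fst Y₁.hom f ≫ b.left :=
      pullback.lift_fst _ _ _
    rw [hl, hb] at ha
    exact ((cancel_epi _).mp ha).symm

end Groth.Agent.Lib.helper11.FEtFF
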