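import Mathlib
import Groth.Agent.Lib.helper11.SteinConn2
import Groth.Agent.Lib.Helper5.StalkBCA

/-!
# Geometric connectedness of the fibres of a proper Stein morphism, over any base (helper11)

Same route as helper21 `ZarConn6` (gonflement, flat base change), with the Noetherian connectedness
theorem replaced by `SteinConn.isConnected_closedFibre_of_flat` (henselization + Lemma K).
-/

set_option autoImplicit false
set_option backward.isDefEq.respectTransparency.types false
set_option linter.style.haveILetI false
universe u
open CategoryTheory CategoryTheory.Limits AlgebraicGeometry Opposite TopologicalSpace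

namespace Groth.Agent.Lib.helper11.SteinConn

lemma connectedSpace_of_isInducing {α β : Type*} [TopologicalSpace α] [TopologicalSpace β]
    (i : α → β) (hi : Topology.IsInducing i) (h : _root_.IsConnected (Set.range i)) :
    ConnectedSpace α := by
  have h1 : Nonempty α := by
    obtain ⟨_, a, -⟩ := h.nonempty
    exact ⟨a⟩
  have h2 : PreconnectedSpace α := by
    refine ⟨?_⟩
    rw [← hi.isPreconnected_image, Set.image_univ]
    exact h.isPreconnected
  exact { toPreconnectedSpace := h2, toNonempty := h1 }

/-- a closed immersion from the spectrum of a field to a local scheme has range the closed point. -/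
lemma range_eq_closedPoint (R : CommRingCat.{u}) [IsLocalRing R] (K : Type u) [Field K]
    (j : Spec (.of K) ⟶ Spec R) [IsClosedImmersion j] :
    Set.range j = {IsLocalRing.closedPoint R} := by
  have hcl : IsClosed (Set.range j) := j.isClosedEmbedding.isClosed_range
  let pt : Spec (.of K) := default
  have hr : Set.range j = {j pt} := by
    ext z
    constructor
    · rintro ⟨w, rfl⟩
      rw [Subsingleton.elim w pt]; rfl
    · rintro rfl
      exact ⟨pt, rfl⟩
  rw [hr] at hcl ⊢
  have hmax : (j pt).asIdeal.IsMaximal := (PrimeSpectrum.isClosed_singleton_iff_isMaximal _).mp hcl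
  congr 1
  apply PrimeSpectrum.ext
  exact IsLocalRing.eq_maximalIdeal hmax

/-- pointwise version: only one affine neighbourhood `U` of `y` with `IsIso (f.app U)` is needed. -/
theorem connectedSpace_pullback_of_field' {X Y : Scheme.{u}} (f : X ⟶ Y) [IsProper f]
    (K : Type u) [Field K] (y : Y) (φ : Y.residueField y ⟶ .of K)
    (U : Y.Opens) (hU : IsAffineOpen U) (hyU : y ∈ U) (hfU : IsIso (f.app U)) :
    ConnectedSpace ↥(pullback f (Spec.map φ ≫ Y.fromSpecResidueField y)) := by
  letI : Algebra (IsLocalRing.ResidueField (Y.presheaf.stalk y)) K := φ.hom.toAlgebra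
  obtain ⟨B, _, hBL, _, hloc, hflat, hm, ⟨e⟩⟩ :=
    Groth.Agent.Lib.Helper12.Gonf.exists_flat_local_extension (Y.presheaf.stalk y) K
  let R : CommRingCat.{u} := .of B
  haveI : IsLocalRing R := hBL
  let α : Y.presheaf.stalk y ⟶ R := CommRingCat.ofHom (algebraMap (Y.presheaf.stalk y) B)
  let β : R ⟶ .of K := CommRingCat.ofHom ((e : IsLocalRing.ResidueField B →+* K).comp
    (IsLocalRing.residue B))
  have hαβ : α ≫ β = Y.residue y ≫ φ := by
    ext a
    change e (IsLocalRing.residue B (algebraMap (Y.presheaf.stalk y) B a)) = _
    have h1 : IsLocalRing.residue B (algebraMap (Y.presheaf.stalk y) B a) =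
        algebraMap (IsLocalRing.ResidueField (Y.presheaf.stalk y)) (IsLocalRing.ResidueField B)
          (IsLocalRing.residue (Y.presheaf.stalk y) a) :=
      (IsLocalRing.ResidueField.algebraMap_residue a).symm
    rw [h1, e.commutes]
    rfl
  let h : Spec R ⟶ Y := Spec.map α ≫ Y.fromSpecStalk y
  let j : Spec (.of K) ⟶ Spec R := Spec.map β
  have hψ : Spec.map φ ≫ Y.fromSpecResidueField y = j ≫ h := by
    simp only [j, h, Scheme.fromSpecResidueField, ← Category.assoc, ← Spec.map_comp, hαβ]
  suffices key : ∀ ψ' : Spec (.of K) ⟶ Y, ψ' = j ≫ h → ConnectedSpace ↥(pullback f ψ') from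
    key _ hψ
  rintro _ rfl
  haveI : Flat (Spec.map α) := by
    rw [Flat.SpecMap_iff]
    show (algebraMap (Y.presheaf.stalk y) B).Flat
    rw [RingHom.flat_algebraMap_iff]
    exact hflat
  haveI := Groth.Agent.Lib.Helper5.StalkBC.flat_fromSpecStalk Y y
  haveI : Flat h := inferInstance
  haveI : IsClosedImmersion j := by
    apply IsClosedImmersion.spec_of_surjective
    intro k
    obtain ⟨b, hb⟩ := IsLocalRing.residue_surjective (e.symm k)
    exact ⟨b, by show e (IsLocalRing.residue B b) = k; rw [hb]; simp⟩
  have hcp : h (IsLocalRing.closedPoint R) ∈ U := by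
    have hz : h (IsLocalRing.closedPoint R) ⤳ y := by
      have : h (IsLocalRing.closedPoint R) ∈ Set.range (Y.fromSpecStalk y) :=
        ⟨Spec.map α (IsLocalRing.closedPoint R), rfl⟩
      rw [Scheme.range_fromSpecStalk] at this
      exact this
    exact hz.mem_open U.2 hyU
  have hconn := isConnected_closedFibre_of_flat f R h U hU hcp hfU
  set g := pullback.snd f h with hg
  haveI : ConnectedSpace ↥(pullback g j) := by
    refine connectedSpace_of_isInducing (pullback.fst g j)
      (pullback.fst g j).isClosedEmbedding.isInducing ?_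
    rw [Scheme.Pullback.range_fst, range_eq_closedPoint R K j]
    exact hconn
  let iso := pullbackLeftPullbackSndIso f h j
  exact iso.hom.homeomorph.surjective.connectedSpace iso.hom.homeomorph.continuous

/-- the fibre at `y` is geometrically connected as soon as `f.app U` is an isomorphism for one
affine open neighbourhood `U` of `y`. -/
theorem geometricallyConnected_fiberToSpecResidueField {X Y : Scheme.{u}} (f : X ⟶ Y) [IsProper f]
    (y : Y) (U : Y.Opens) (hU : IsAffineOpen U) (hyU : y ∈ U)
    (hfU : IsIso (f.app U)) : GeometricallyConnected (f.fiberToSpecResidueField y) := by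
  rw [geometricallyConnected_iff, geometrically_iff_of_isClosedUnderIsomorphisms]
  intro K _ ψ
  obtain ⟨φ, rfl⟩ := Spec.map_surjective ψ
  haveI := connectedSpace_pullback_of_field' f K y φ U hU hyU hfU
  let iso := pullbackLeftPullbackSndIso f (Y.fromSpecResidueField y) (Spec.map φ)
  exact iso.inv.homeomorph.surjective.connectedSpace iso.inv.homeomorph.continuous

theorem connectedSpace_pullback_of_field {X Y : Scheme.{u}} (f : X ⟶ Y) [IsProper f]
    (hf : ∀ U : Y.Opens, IsAffineOpen U → IsIso (f.app U))
    (K : Type u) [Field K] (ψ : Spec (.of K) ⟶ Y) : ConnectedSpace ↥(pullback f ψ) := by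
  obtain ⟨⟨y, φ⟩, rfl⟩ := (Scheme.SpecToEquivOfField _ _).symm.surjective ψ
  simp only [Scheme.SpecToEquivOfField, Equiv.coe_fn_symm_mk]
  obtain ⟨U, hU, hyU, -⟩ :=
    TopologicalSpace.Opens.isBasis_iff_nbhd.mp Y.isBasis_affineOpens
      (show y ∈ (⊤ : Y.Opens) from trivial)
  exact connectedSpace_pullback_of_field' f K y φ U hU hyU (hf U hU)

/-- **Zariski connectedness, general base**: a proper morphism with `O_Y(U) ≅ O_X(f⁻¹ U)` for all
affine opens `U` has geometrically connected fibres. No Noetherian hypothesis. -/
theorem geometricallyConnected_of_isIso_app {X Y : Scheme.{u}} (f : X ⟶ Y) [IsProper f]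
    (hf : ∀ U : Y.Opens, IsAffineOpen U → IsIso (f.app U)) :
    GeometricallyConnected f := by
  rw [geometricallyConnected_iff, geometrically_iff_of_isClosedUnderIsomorphisms]
  intro K _ ψ
  exact connectedSpace_pullback_of_field f hf K ψ

end Groth.Agent.Lib.helper11.SteinConn
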