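import Mathlib
import Groth.Agent.Lib.Helper21.SteinUH1
import Groth.Agent.Lib.helper11.SteinConn3
import Groth.Agent.Lib.Helper13.SteinUC

/-!
# Stein factorization and base change (helper11)

* `geometricallyConnected_toNormalization`: the first Stein factor of a proper morphism has
  geometrically connected fibres (any base).
* `isUnivHomeo_of_surjective_of_geometricallyConnected`: an integral morphism `ν` such that `t ≫ ν`
  is geometrically connected for some surjective `t` is a universal homeomorphism.
* `isUnivHomeo_normalizationPullback`: Stein factorization commutes with arbitrary base change up to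
  universal homeomorphism.
-/

set_option autoImplicit false
set_option linter.style.haveILetI false
universe u
open CategoryTheory CategoryTheory.Limits AlgebraicGeometry Opposite TopologicalSpace

namespace Groth.Agent.Lib.helper11.SteinBC

open Groth.Agent.Lib.Helper21.SteinUH

instance isProper_toNormalization {X S : Scheme.{u}} (f : X ⟶ S) [IsProper f] :
    IsProper f.toNormalization := by
  haveI : IsProper (f.toNormalization ≫ f.fromNormalization) := by
    rw [Scheme.Hom.toNormalization_fromNormalization]; infer_instance
  exact MorphismProperty.of_postcomp (W := @IsProper) (W' := @IsSeparated)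
      f.toNormalization f.fromNormalization inferInstance inferInstance

instance geometricallyConnected_toNormalization {X S : Scheme.{u}} (f : X ⟶ S) [IsProper f] :
    GeometricallyConnected f.toNormalization :=
  Groth.Agent.Lib.helper11.SteinConn.geometricallyConnected_of_isIso_app f.toNormalization
    (fun U _ => Groth.Agent.Lib.Helper13.SteinUC.isIso_toNormalization_app f U)

theorem isUnivHomeo_of_surjective_of_geometricallyConnected {P Q Z : Scheme.{u}} (t : P ⟶ Q)
    (ν : Q ⟶ Z) [Surjective t] [IsIntegralHom ν] [GeometricallyConnected (t ≫ ν)] :
    FlatMor.IsUnivHomeo ν := by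
  rw [Groth.Agent.Lib.Helper9.UnivHomeoRing.isUnivHomeo_iff]
  refine ⟨inferInstance, ⟨?_⟩, ?_⟩
  · intro P' T i₁ i₂ h hsq
    haveI : IsIntegralHom h :=
      MorphismProperty.of_isPullback (P := @IsIntegralHom) hsq.flip inferInstance
    have hleft : IsPullback (pullback.snd t i₁) (pullback.fst t i₁) i₁ t :=
      (IsPullback.of_hasPullback t i₁).flip
    have hpaste := hleft.paste_horiz hsq
    haveI hgc : GeometricallyConnected (pullback.snd t i₁ ≫ h) :=
      MorphismProperty.of_isPullback (P := @GeometricallyConnected) hpaste.flip inferInstance
    haveI hsu : Surjective (pullback.snd t i₁) :=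
      MorphismProperty.of_isPullback (P := @Surjective)
        (IsPullback.of_hasPullback t i₁) inferInstance
    intro z₁ z₂ hz
    have hconn := (pullback.snd t i₁ ≫ h).isConnected_preimage_singleton (h z₁)
    have himg : (pullback.snd t i₁) ''
        ((pullback.snd t i₁ ≫ h) ⁻¹' {h z₁}) = h ⁻¹' {h z₁} := by
      ext w
      constructor
      · rintro ⟨q, hq, rfl⟩
        simpa using hq
      · intro hw
        obtain ⟨q, rfl⟩ := hsu.surj w
        exact ⟨q, by simpa using hw, rfl⟩
    have hpre : _root_.IsPreconnected (h ⁻¹' {h z₁}) := by
      rw [← himg]
      exact hconn.isPreconnected.image _ (pullback.snd t i₁).continuous.continuousOn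
    exact subsingleton_fibre_of_isIntegralHom h (h z₁) hpre rfl hz.symm
  · haveI : Surjective (t ≫ ν) := inferInstance
    exact Surjective.of_comp t ν

/-- **Stein factorization and base change** (S7845). -/
theorem isUnivHomeo_normalizationPullback {X S T : Scheme.{u}} (f : X ⟶ S) [IsProper f]
    (g : T ⟶ S) : FlatMor.IsUnivHomeo (f.normalizationPullback g) := by
  haveI : Surjective (pullback.snd f g).toNormalization := surjective_toNormalization _
  have hfst : ((pullback.snd f g).toNormalization ≫ f.normalizationPullback g) ≫
      pullback.fst f.fromNormalization g = pullback.fst f g ≫ f.toNormalization := by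
    rw [Category.assoc]
    exact Scheme.Hom.toNormalization_normalizationPullback_fst f g
  have hsnd : ((pullback.snd f g).toNormalization ≫ f.normalizationPullback g) ≫
      pullback.snd f.fromNormalization g = pullback.snd f g := by
    rw [Category.assoc, Scheme.Hom.normalizationPullback_snd,
      Scheme.Hom.toNormalization_fromNormalization]
  have big : IsPullback (pullback.fst f g)
      (((pullback.snd f g).toNormalization ≫ f.normalizationPullback g) ≫
        pullback.snd f.fromNormalization g)
      (f.toNormalization ≫ f.fromNormalization) g := by
    rw [hsnd, Scheme.Hom.toNormalization_fromNormalization]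
    exact IsPullback.of_hasPullback f g
  have hpb : IsPullback (pullback.fst f g)
      ((pullback.snd f g).toNormalization ≫ f.normalizationPullback g)
      f.toNormalization (pullback.fst f.fromNormalization g) :=
    IsPullback.of_bot big hfst.symm (IsPullback.of_hasPullback _ _)
  haveI : GeometricallyConnected
      ((pullback.snd f g).toNormalization ≫ f.normalizationPullback g) :=
    MorphismProperty.of_isPullback (P := @GeometricallyConnected) hpb inferInstance
  exact isUnivHomeo_of_surjective_of_geometricallyConnected
    (pullback.snd f g).toNormalization (f.normalizationPullback g)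

end Groth.Agent.Lib.helper11.SteinBC
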