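import Mathlib
import Groth.Prelude.Def_FEt
import Groth.Agent.Lib.helper11.FEtFF
import Groth.Agent.Lib.helper11.FEStein
import Groth.Agent.Lib.helper11.SteinBC
import Groth.Agent.Lib.Helper12.EtaleReduced

/-!
# Exactness of the homotopy sequence in the middle (helper11)

* `isReduced_of_etale`: a scheme étale over a reduced scheme is reduced.
* `gred_comp_etale`: geometric reducedness of the fibres is preserved by precomposition with an
  étale morphism.
* `essImage_of_section`: for `f : X ⟶ S` proper, flat, of finite presentation with geometrically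
  connected and reduced fibres, a connected finite étale cover of `X` having a section over one
  geometric fibre of `f` is the pullback of a finite étale cover of `S` (its Stein factor).
-/

set_option autoImplicit false
set_option backward.isDefEq.respectTransparency.types false
set_option linter.style.haveILetI false
universe u
open CategoryTheory CategoryTheory.Limits AlgebraicGeometry Opposite TopologicalSpace

namespace Groth.Agent.Lib.helper11.HomotopyExact

theorem isReduced_of_etale_affine (R : CommRingCat.{u}) [_root_.IsReduced R] {W : Scheme.{u}}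
    (q : W ⟶ Spec R) [Etale q] : IsReduced W := by
  apply +allowSynthFailures @IsReduced.of_openCover (𝒰 := W.affineOpenCover.openCover)
  intro i
  show IsReduced (Spec (W.affineOpenCover.X i))
  haveI : IsOpenImmersion (W.affineOpenCover.f i) := W.affineOpenCover.map_prop i
  haveI : Etale (W.affineOpenCover.f i ≫ q) := inferInstance
  obtain ⟨φ, hφ⟩ := Spec.map_surjective (W.affineOpenCover.f i ≫ q)
  have hφe : φ.hom.Etale := by
    rw [← HasRingHomProperty.Spec_iff (P := @Etale), hφ]; infer_instance
  algebraize [φ.hom]
  haveI : Algebra.Etale R (W.affineOpenCover.X i) := RingHom.etale_algebraMap.mp hφe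
  haveI : _root_.IsReduced (W.affineOpenCover.X i) :=
    Groth.Agent.Lib.Helper12.isReduced_of_etale R (W.affineOpenCover.X i)
  infer_instance

/-- étale over a reduced scheme is reduced -/
theorem isReduced_of_etale {Y X : Scheme.{u}} (g : Y ⟶ X) [Etale g] [IsReduced X] :
    IsReduced Y := by
  apply +allowSynthFailures @IsReduced.of_openCover (𝒰 := X.affineOpenCover.openCover.pullback₁ g)
  intro i
  haveI : IsOpenImmersion (X.affineOpenCover.f i) := X.affineOpenCover.map_prop i
  haveI : IsReduced (Spec (X.affineOpenCover.X i)) :=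
    isReduced_of_isOpenImmersion (X.affineOpenCover.f i)
  haveI : _root_.IsReduced (X.affineOpenCover.X i) := by
    rw [← affine_isReduced_iff]; infer_instance
  haveI : Etale (pullback.snd g (X.affineOpenCover.f i)) :=
    MorphismProperty.pullback_snd (P := @Etale) _ _ inferInstance
  have key := isReduced_of_etale_affine (X.affineOpenCover.X i)
    (pullback.snd g (X.affineOpenCover.f i))
  exact key

open Groth.Agent.Lib.helper11 in
theorem gred_comp_etale {Y X S : Scheme.{u}} (g : Y ⟶ X) (f : X ⟶ S) [Etale g]
    (hred : FE.GRed f) : FE.GRed (g ≫ f) := by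
  intro Ω _ _ σ
  haveI := hred Ω σ
  haveI : IsReduced (pullback g (pullback.fst f σ)) :=
    isReduced_of_etale (pullback.snd g (pullback.fst f σ))
  exact isReduced_of_isOpenImmersion (pullbackRightPullbackFstIso f σ g).inv

open Groth.Agent.Lib.helper11 in
theorem essImage_of_section {X S : Scheme.{u}} (f : X ⟶ S) [IsProper f] [Flat f]
    [LocallyOfFinitePresentation f] [GeometricallyConnected f] [GeometricallyReduced f]
    (Y : FEt.Cat X) [ConnectedSpace Y.left] (Ω : Type u) [Field Ω] [IsAlgClosed Ω]
    (s : Spec (CommRingCat.of Ω) ⟶ S) (σ : pullback f s ⟶ Y.left)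
    (hσ : σ ≫ Y.hom = pullback.fst f s) :
    (FEt.restrict f).essImage Y := by
  haveI : IsFinite Y.hom := Y.prop.1
  haveI : Etale Y.hom := Y.prop.2
  set h : Y.left ⟶ S := Y.hom ≫ f with hh
  have hred : FE.GRed h := gred_comp_etale Y.hom f (FE.GRed.of_geometricallyReduced f)
  obtain ⟨hfin, het⟩ := FE.isFinite_etale_fromNormalization h hred
  set τ := h.fromNormalization with hτ
  set h' := h.toNormalization with hh'
  have hfac : h' ≫ τ = h := h.toNormalization_fromNormalization
  let TT : FEt.Cat S := MorphismProperty.Over.mk ⊤ τ ⟨hfin, het⟩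
  let φ : Y.left ⟶ pullback τ f := pullback.lift h' Y.hom hfac
  have hφ_fst : φ ≫ pullback.fst τ f = h' := pullback.lift_fst _ _ _
  have hφ_snd : φ ≫ pullback.snd τ f = Y.hom := pullback.lift_snd _ _ _
  haveI : IsFinite (φ ≫ pullback.snd τ f) := by rw [hφ_snd]; infer_instance
  haveI : Etale (φ ≫ pullback.snd τ f) := by rw [hφ_snd]; infer_instance
  haveI : IsFinite φ := IsFinite.of_comp φ (pullback.snd τ f)
  haveI : Etale φ := Etale.of_comp φ (pullback.snd τ f)
  haveI : Surjective h' := Groth.Agent.Lib.Helper21.SteinUH.surjective_toNormalization h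
  haveI : ConnectedSpace ↥h.normalization :=
    (h'.surjective).connectedSpace h'.continuous
  haveI : ConnectedSpace ↥(pullback τ f) := inferInstance
  -- the rank of `φ` is constant
  have hconst : ∀ z z' : ↥(pullback τ f), Scheme.Hom.finrank φ z = Scheme.Hom.finrank φ z' :=
    fun z z' => (Scheme.Hom.isLocallyConstant_finrank φ).apply_eq_of_preconnectedSpace z z'
  -- rigidity: the geometric fibre maps to a single geometric point of the Stein factor
  haveI : LocallyQuasiFinite τ := inferInstance
  let ψ : pullback s f ⟶ h.normalization := (pullbackSymmetry s f).hom ≫ σ ≫ h'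
  have hψ : ψ ≫ τ = pullback.fst s f ≫ s := by
    simp only [ψ, Category.assoc, hfac, hh]
    rw [reassoc_of% hσ, pullback.condition, pullbackSymmetry_hom_comp_snd_assoc]
  obtain ⟨k, hk⟩ := FEtFF.exists_factor f s τ ψ hψ
  have hσk : σ ≫ h' = pullback.snd f s ≫ k := by
    have h1 : σ ≫ h' = (pullbackSymmetry s f).inv ≫ ψ := by simp [ψ]
    rw [h1, hk, pullbackSymmetry_inv_comp_fst_assoc]
  haveI : Epi (pullback.snd f s) := by
    haveI : Flat (pullback.snd f s) := inferInstance
    haveI : QuasiCompact (pullback.snd f s) := inferInstance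
    haveI : Surjective (pullback.snd f s) := inferInstance
    exact Flat.epi_of_flat_of_surjective _
  have hkτ : k ≫ τ = s := by
    rw [← cancel_epi (pullback.snd f s), ← Category.assoc, ← hσk, Category.assoc, hfac, hh,
      reassoc_of% hσ, pullback.condition]
  -- the fibre square
  let ρ : pullback f s ⟶ pullback τ f := σ ≫ φ
  have hρ_snd : ρ ≫ pullback.snd τ f = pullback.fst f s := by
    simp only [ρ, Category.assoc, hφ_snd, hσ]
  have hρ_fst : ρ ≫ pullback.fst τ f = pullback.snd f s ≫ k := by
    simp only [ρ, Category.assoc, hφ_fst, hσk]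
  have sq1 : IsPullback ρ (pullback.snd f s) (pullback.fst τ f) k := by
    have big : IsPullback (ρ ≫ pullback.snd τ f) (pullback.snd f s) f (k ≫ τ) := by
      rw [hρ_snd, hkτ]; exact IsPullback.of_hasPullback f s
    exact IsPullback.of_right big hρ_fst (IsPullback.of_hasPullback τ f).flip
  have sq2 : IsPullback (pullback.snd φ ρ ≫ pullback.snd f s) (pullback.fst φ ρ) k
      (φ ≫ pullback.fst τ f) :=
    (IsPullback.of_hasPullback φ ρ).flip.paste_horiz sq1.flip
  rw [hφ_fst] at sq2
  haveI : ConnectedSpace ↥(pullback φ ρ) :=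
    GeometricallyConnected.geometrically_connectedSpace k _ _ sq2.flip
  -- the section of `pullback.snd φ ρ`
  let sec : pullback f s ⟶ pullback φ ρ := pullback.lift σ (𝟙 _) (by simp [ρ])
  have hsec : sec ≫ pullback.snd φ ρ = 𝟙 _ := pullback.lift_snd _ _ _
  haveI : IsIso sec := by
    haveI : Etale (sec ≫ pullback.snd φ ρ) := by rw [hsec]; infer_instance
    haveI : IsClosedImmersion (sec ≫ pullback.snd φ ρ) := by rw [hsec]; infer_instance
    haveI : Etale sec := Etale.of_comp sec (pullback.snd φ ρ)
    haveI : Mono sec := mono_of_mono_fac hsec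
    haveI : IsOpenImmersion sec := IsOpenImmersion.of_flat_of_mono sec
    haveI : IsClosedImmersion sec := IsClosedImmersion.of_comp sec (pullback.snd φ ρ)
    apply isIso_of_isOpenImmersion_of_opensRange_eq_top
    apply TopologicalSpace.Opens.ext
    have hclopen : IsClopen (Set.range sec) :=
      ⟨sec.isClosedEmbedding.isClosed_range, sec.isOpenEmbedding.isOpen_range⟩
    exact hclopen.eq_univ (Set.range_nonempty _)
  haveI : IsIso (pullback.snd φ ρ) := by
    have : pullback.snd φ ρ = inv sec := by
      rw [← cancel_epi sec, hsec, IsIso.hom_inv_id]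
    rw [this]; infer_instance
  obtain ⟨x₀⟩ : Nonempty ↥(pullback f s) := inferInstance
  have h1 : Scheme.Hom.finrank φ (ρ x₀) = 1 := by
    rw [← Scheme.Hom.finrank_pullback_snd φ ρ x₀, Scheme.Hom.finrank_eq_one_of_isIso]; rfl
  haveI : IsIso φ := by
    rw [Scheme.Hom.isIso_iff_finrank_eq]
    funext z
    rw [hconst z (ρ x₀), h1]; rfl
  refine ⟨TT, ⟨MorphismProperty.Over.isoMk (asIso φ).symm ?_⟩⟩
  show inv φ ≫ Y.hom = pullback.snd τ f
  rw [IsIso.inv_comp_eq, hφ_snd]

end Groth.Agent.Lib.helper11.HomotopyExact
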