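import Mathlib
import Groth.Agent.Lib.helper11.FFCrit
import Groth.Agent.Lib.helper11.RigidGen
import Groth.Agent.Lib.helper11.FEStein
import Groth.Agent.Lib.helper11.SteinBC
import Groth.Agent.Lib.helper11.HomotopyExact

/-!
# Lifting morphisms through finite étale covers (helper11)

* `lift_unique`: two lifts through a finite étale morphism of a morphism from a scheme with
  geometrically connected fibres over `S` and a section, agreeing along the section, coincide.
* `exists_relComponent`: for `γ : W ⟶ T` proper flat lfp with geometrically reduced fibres and a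
  section `i'`, there is a clopen `Γ ⊆ W` containing `i'(T)` with `Γ → T` geometrically connected
  (via the Stein factorisation, which is finite étale).
-/

set_option autoImplicit false
set_option backward.isDefEq.respectTransparency.types false
set_option linter.style.haveILetI false
universe u
open CategoryTheory CategoryTheory.Limits AlgebraicGeometry Opposite TopologicalSpace

namespace Groth.Agent.Lib.helper11.CoverLift

open Groth.Agent.Lib.helper11

/-- **Uniqueness of lifts.** -/
theorem lift_unique {Y X Z S : Scheme.{u}} (f : Y ⟶ X) [IsFinite f] [Etale f]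
    (h : Z ⟶ S) [GeometricallyConnected h] (z₀ : S ⟶ Z) (hz₀ : z₀ ≫ h = 𝟙 S)
    (u v : Z ⟶ Y) (huv : u ≫ f = v ≫ f) (h0 : z₀ ≫ u = z₀ ≫ v) : u = v := by
  let Δ : Y ⟶ pullback f f := pullback.diagonal f
  have hΔ : Δ ≫ pullback.fst f f = 𝟙 Y := pullback.diagonal_fst f
  obtain ⟨hoi, hci⟩ := FFCrit.section_isOpenImmersion_isClosedImmersion (pullback.fst f f) Δ hΔ
  have hclopen : IsClopen (Set.range Δ) := FFCrit.isClopen_range_section (pullback.fst f f) Δ hΔ
  let w : Z ⟶ pullback f f := pullback.lift u v huv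
  have hw1 : w ≫ pullback.fst f f = u := pullback.lift_fst _ _ _
  have hw2 : w ≫ pullback.snd f f = v := pullback.lift_snd _ _ _
  have hpre : IsClopen (w ⁻¹' Set.range Δ) := hclopen.preimage w.continuous
  have hsec : ∀ s : S, z₀ s ∈ w ⁻¹' Set.range Δ := by
    intro s
    refine ⟨(z₀ ≫ u) s, ?_⟩
    have : z₀ ≫ w = (z₀ ≫ u) ≫ Δ := by
      apply pullback.hom_ext
      · rw [Category.assoc, hw1, Category.assoc, hΔ, Category.comp_id]
      · rw [Category.assoc, hw2, Category.assoc, pullback.diagonal_snd, Category.comp_id, h0]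
    show Δ ((z₀ ≫ u) s) = w (z₀ s)
    rw [← Scheme.Hom.comp_apply, ← Scheme.Hom.comp_apply, this]
  have huniv := RigidGen.eq_univ_of_isClopen_of_section h z₀ hz₀ _ hpre hsec
  have hr : Set.range w ⊆ Set.range Δ := by
    rintro _ ⟨z, rfl⟩
    have : z ∈ w ⁻¹' Set.range Δ := by rw [huniv]; trivial
    exact this
  let l := IsOpenImmersion.lift Δ w hr
  have hl : l ≫ Δ = w := IsOpenImmersion.lift_fac _ _ _
  calc u = w ≫ pullback.fst f f := hw1.symm
    _ = l := by rw [← hl, Category.assoc, hΔ, Category.comp_id]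
    _ = w ≫ pullback.snd f f := by
        rw [← hl, Category.assoc, pullback.diagonal_snd, Category.comp_id]
    _ = v := hw2

/-- étale over geometrically reduced is geometrically reduced -/
theorem geometricallyReduced_comp_etale {Y X S : Scheme.{u}} (g : Y ⟶ X) (f : X ⟶ S) [Etale g]
    [GeometricallyReduced f] : GeometricallyReduced (g ≫ f) := by
  refine ⟨fun K _ y Z fst snd h => ?_⟩
  -- `Z = Y ×_S Spec K → X ×_S Spec K` is étale
  let P := pullback f y
  have hP : IsReduced P :=
    GeometricallyReduced.geometrically_isReduced y _ _ (IsPullback.of_hasPullback f y)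
  let t : Z ⟶ P := pullback.lift (fst ≫ g) snd (by rw [Category.assoc]; exact h.w)
  have ht1 : t ≫ pullback.fst f y = fst ≫ g := pullback.lift_fst _ _ _
  have ht2 : t ≫ pullback.snd f y = snd := pullback.lift_snd _ _ _
  have big : IsPullback fst (t ≫ pullback.snd f y) (g ≫ f) y := by rw [ht2]; exact h
  have hsq : IsPullback fst t g (pullback.fst f y) :=
    IsPullback.of_bot big ht1.symm (IsPullback.of_hasPullback f y)
  haveI : Etale t := MorphismProperty.of_isPullback (P := @Etale) hsq inferInstance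
  exact HomotopyExact.isReduced_of_etale t

/-- **Relative connected component of a section.** -/
theorem exists_relComponent {W T : Scheme.{u}} (γ : W ⟶ T) [IsProper γ] [Flat γ]
    [LocallyOfFinitePresentation γ] [GeometricallyReduced γ] (i' : T ⟶ W) (hi' : i' ≫ γ = 𝟙 T) :
    ∃ Γ : W.Opens, IsClosed (Γ : Set W) ∧ Set.range i' ⊆ (Γ : Set W) ∧
      GeometricallyConnected (Γ.ι ≫ γ) := by
  obtain ⟨hfin, het⟩ := FE.isFinite_etale_fromNormalization γ (FE.GRed.of_geometricallyReduced γ)
  set τ := γ.fromNormalization with hτ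
  set h' := γ.toNormalization with hh'
  have hfac : h' ≫ τ = γ := γ.toNormalization_fromNormalization
  let ρ : T ⟶ γ.normalization := i' ≫ h'
  have hρ : ρ ≫ τ = 𝟙 T := by rw [Category.assoc, hfac, hi']
  have hcl := FFCrit.isClopen_range_section τ ρ hρ
  obtain ⟨hoi, hci⟩ := FFCrit.section_isOpenImmersion_isClosedImmersion τ ρ hρ
  let V : γ.normalization.Opens := ⟨Set.range ρ, hcl.2⟩
  refine ⟨h' ⁻¹ᵁ V, hcl.1.preimage h'.continuous, ?_, ?_⟩
  · rintro _ ⟨t, rfl⟩
    exact ⟨t, rfl⟩
  · -- `Γ → V → T`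
    have h1 : (h' ⁻¹ᵁ V).ι ≫ γ = (h' ∣_ V) ≫ V.ι ≫ τ := by
      calc (h' ⁻¹ᵁ V).ι ≫ γ = (h' ⁻¹ᵁ V).ι ≫ h' ≫ τ := by rw [hfac]
        _ = (h' ∣_ V) ≫ V.ι ≫ τ := by
            rw [← Category.assoc, ← Category.assoc, morphismRestrict_ι]
    rw [h1]
    -- `V.ι ≫ τ` is an isomorphism
    have hr : Set.range ρ ⊆ Set.range V.ι := by
      rw [Scheme.Opens.range_ι]; exact subset_rfl
    let ρV : T ⟶ V := IsOpenImmersion.lift V.ι ρ hr
    have hρV : ρV ≫ V.ι = ρ := IsOpenImmersion.lift_fac _ _ _
    have hinv1 : ρV ≫ (V.ι ≫ τ) = 𝟙 T := by rw [← Category.assoc, hρV, hρ]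
    haveI : IsOpenImmersion ρV := by
      haveI : IsOpenImmersion (ρV ≫ V.ι) := by rw [hρV]; exact hoi
      exact IsOpenImmersion.of_comp ρV V.ι
    haveI : Surjective ρV := by
      refine ⟨fun v => ?_⟩
      obtain ⟨t, ht⟩ : V.ι v ∈ Set.range ρ := v.2
      refine ⟨t, ?_⟩
      apply V.ι.isOpenEmbedding.injective
      rw [← Scheme.Hom.comp_apply, hρV]
      exact ht
    haveI : IsIso ρV := (isIso_iff_isOpenImmersion_and_surjective ρV).2 ⟨inferInstance, inferInstance⟩
    haveI : IsIso (V.ι ≫ τ) := by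
      have : V.ι ≫ τ = inv ρV := by
        rw [← cancel_epi ρV, hinv1, IsIso.hom_inv_id]
      rw [this]; infer_instance
    haveI : GeometricallyConnected (h' ∣_ V) := inferInstance
    exact (MorphismProperty.cancel_right_of_respectsIso @GeometricallyConnected
      (h' ∣_ V) (V.ι ≫ τ)).2 inferInstance

end Groth.Agent.Lib.helper11.CoverLift
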