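import Groth.Agent.Lib.helper11.DRank

/-!
# More on `dRank` (helper11): neighbours, constructibility
-/

set_option autoImplicit false
universe u

namespace Groth.Agent.Lib.helper11.DRank

open CategoryTheory CohIII TensorProduct
open Groth.Agent.Lib.helper11.FibDim

variable {A : Type u} [CommRing A] {ι : Type} {c : ComplexShape ι}

theorem dRank_add' (P : HomologicalComplex (ModuleCat.{u} A) c) (p i j : ι) (hi : c.prev p = i)
    (hj : c.next p = j) [Module.Finite A (P.X p)] (x : PrimeSpectrum A) :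
    dRank P p x + fibRank (P.d i p).hom x + fibRank (P.d p j).hom x = fibDim (P.X p) x := by
  subst hi hj
  exact dRank_add P p x

/-- S16288 -/
theorem dRank_eventually_const_of_neighbours [IsNoetherianRing A]
    (P : ChainComplex (ModuleCat.{u} A) ℤ)
    (hP : ∀ i, Module.Finite A (P.X i) ∧ Module.Flat A (P.X i))
    (p : ℤ) (z : PrimeSpectrum A)
    (hlo : ∀ᶠ x in nhds z, dRank P (p - 1) x = dRank P (p - 1) z)
    (hhi : ∀ᶠ x in nhds z, dRank P (p + 1) x = dRank P (p + 1) z) :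
    ∀ᶠ x in nhds z, dRank P p x = dRank P p z := by
  have hfin : ∀ i, Module.Finite A (P.X i) := fun i => (hP i).1
  have hflat : ∀ i, Module.Flat A (P.X i) := fun i => (hP i).2
  have hfp : ∀ i, Module.FinitePresentation A (P.X i) :=
    fun i => Module.finitePresentation_of_finite A (P.X i)
  have hprev : ∀ q : ℤ, (ComplexShape.down ℤ).prev q = q + 1 := fun q => by simp
  have hnext : ∀ q : ℤ, (ComplexShape.down ℤ).next q = q - 1 := fun q => by simp
  -- local constancy of the fibre dimensions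
  obtain ⟨U₀, hU₀, hz₀, h₀⟩ := exists_open_fibDim_eq (N := P.X p) z
  obtain ⟨U₁, hU₁, hz₁, h₁⟩ := exists_open_fibDim_eq (N := P.X (p - 1)) z
  obtain ⟨U₂, hU₂, hz₂, h₂⟩ := exists_open_fibDim_eq (N := P.X (p + 1)) z
  -- lower semicontinuity of the four ranks
  obtain ⟨V₀, hV₀, hzV₀, r₀⟩ := exists_open_fibRank_ge (P.d (p - 1) (p - 1 - 1)).hom z
  obtain ⟨V₁, hV₁, hzV₁, r₁⟩ := exists_open_fibRank_ge (P.d p (p - 1)).hom z
  obtain ⟨V₂, hV₂, hzV₂, r₂⟩ := exists_open_fibRank_ge (P.d (p + 1) p).hom z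
  obtain ⟨V₃, hV₃, hzV₃, r₃⟩ := exists_open_fibRank_ge (P.d (p + 1 + 1) (p + 1)).hom z
  have hopen : IsOpen (U₀ ∩ U₁ ∩ U₂ ∩ (V₀ ∩ V₁ ∩ V₂ ∩ V₃)) :=
    ((hU₀.inter hU₁).inter hU₂).inter (((hV₀.inter hV₁).inter hV₂).inter hV₃)
  have hmem : z ∈ U₀ ∩ U₁ ∩ U₂ ∩ (V₀ ∩ V₁ ∩ V₂ ∩ V₃) :=
    ⟨⟨⟨hz₀, hz₁⟩, hz₂⟩, ⟨⟨⟨hzV₀, hzV₁⟩, hzV₂⟩, hzV₃⟩⟩
  filter_upwards [hlo, hhi, hopen.mem_nhds hmem] with x hxlo hxhi hx
  obtain ⟨⟨⟨hx₀, hx₁⟩, hx₂⟩, ⟨⟨⟨hxV₀, hxV₁⟩, hxV₂⟩, hxV₃⟩⟩ := hx
  have ap := fun y => dRank_add' P p (p + 1) (p - 1) (hprev p) (hnext p) y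
  have alo := fun y => dRank_add' P (p - 1) p (p - 1 - 1)
    (by rw [hprev]; ring) (hnext (p - 1)) y
  have ahi := fun y => dRank_add' P (p + 1) (p + 1 + 1) p (hprev (p + 1))
    (by rw [hnext]; ring) y
  have e1 := ap x
  have e2 := ap z
  have e3 := alo x
  have e4 := alo z
  have e5 := ahi x
  have e6 := ahi z
  have f0 := h₀ x hx₀
  have f1 := h₁ x hx₁
  have f2 := h₂ x hx₂
  have g0 := r₀ x hxV₀
  have g1 := r₁ x hxV₁
  have g2 := r₂ x hxV₂
  have g3 := r₃ x hxV₃
  omega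

/-- S2419 -/
theorem dRank_constructible [IsNoetherianRing A]
    (P : HomologicalComplex (ModuleCat.{u} A) c)
    (hP : ∀ i, Module.Finite A (P.X i) ∧ Module.Flat A (P.X i)) (p : ι) :
    (Set.range (dRank P p)).Finite ∧
      ∀ n : ℕ, Topology.IsConstructible {x : PrimeSpectrum A | dRank P p x = n} := by
  have hfin : ∀ i, Module.Finite A (P.X i) := fun i => (hP i).1
  have hflat : ∀ i, Module.Flat A (P.X i) := fun i => (hP i).2
  have hfp : ∀ i, Module.FinitePresentation A (P.X i) :=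
    fun i => Module.finitePresentation_of_finite A (P.X i)
  have husc := dRank_upperSemicontinuous P hP p
  constructor
  · have hlc := Module.isLocallyConstant_rankAtStalk (R := A) (M := P.X p)
    have hrf := hlc.range_finite
    obtain ⟨N, hN⟩ := hrf.bddAbove
    apply (Set.finite_le_nat N).subset
    rintro _ ⟨x, rfl⟩
    have h1 := dRank_add P p x
    have h2 : fibDim (P.X p) x = Module.rankAtStalk (P.X p) x := fibDim_eq_rankAtStalk x
    have h3 : Module.rankAtStalk (P.X p) x ≤ N := hN ⟨x, rfl⟩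
    simp only [Set.mem_setOf_eq]
    omega
  · intro n
    have hopen : ∀ m : ℕ, IsOpen {x : PrimeSpectrum A | dRank P p x < m} := fun m =>
      husc.isOpen_preimage m
    have hc : ∀ m : ℕ, Topology.IsConstructible {x : PrimeSpectrum A | dRank P p x < m} :=
      fun m => (TopologicalSpace.NoetherianSpace.isCompact _).isConstructible (hopen m)
    have : {x : PrimeSpectrum A | dRank P p x = n} =
        {x | dRank P p x < n + 1} \ {x | dRank P p x < n} := by
      ext x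
      simp only [Set.mem_setOf_eq, Set.mem_diff]
      omega
    rw [this]
    exact (hc (n + 1)).sdiff (hc n)

end Groth.Agent.Lib.helper11.DRank
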