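import Groth.Agent.Lib.helper11.FlatUpTo
import Groth.Agent.Lib.helper11.DRankBC

/-!
# Local constancy of `dRank` on the common free locus of the homology modules (helper11)
-/

set_option autoImplicit false
universe u

namespace Groth.Agent.Lib.helper11.DRankGeneric

open CategoryTheory CategoryTheory.Limits CohIII TensorProduct PrimeSpectrum
open Groth.Agent.Lib.helper11 Groth.Agent.Lib.helper11.TFunBC

attribute [-instance] CategoryTheory.ShortComplex.hasHomology_of_preserves

section Inst

variable {A B : Type u} [CommRing A] [CommRing B]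

set_option backward.isDefEq.respectTransparency false in
lemma finite_extendScalars_obj (φ : A →+* B) (M : ModuleCat.{u} A) [Module.Finite A M] :
    Module.Finite B ((ModuleCat.extendScalars φ).obj M) := by
  let := ((algebraMap B B).comp φ).toAlgebra
  exact inferInstanceAs (Module.Finite B (B ⊗[A] M))

end Inst

variable {B : Type u} [CommRing B]

/-- exactness of `T_n`, `n ≤ N`, after inverting `g`, when `D(g)` lies in the free loci of the
homology modules. -/
theorem exact_upTo_away (Q : ChainComplex (ModuleCat.{u} B) ℤ) (hQ : ∀ i, Module.Flat B (Q.X i))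
    (i₀ N : ℤ) (hb : ∀ i < i₀, IsZero (Q.X i))
    (hfp : ∀ n : ℤ, Module.FinitePresentation B (Q.homology n)) (g : B)
    (hsub : ∀ n : ℤ, i₀ ≤ n → n ≤ N →
      (basicOpen g : Set (PrimeSpectrum B)) ⊆ Module.freeLocus B (Q.homology n)) :
    ∀ n ≤ N, (TFun (bcCx (algebraMap B (Localization.Away g)) Q) n).PreservesMonomorphisms ∧
      (TFun (bcCx (algebraMap B (Localization.Away g)) Q) n).PreservesEpimorphisms := by
  set φ := algebraMap B (Localization.Away g) with hφ
  have hφflat : φ.Flat := RingHom.flat_algebraMap_iff.mpr inferInstance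
  have hsub' : ∀ n ≤ N, (basicOpen g : Set (PrimeSpectrum B)) ⊆
      Module.freeLocus B (Q.homology n) := by
    intro n hn
    by_cases h : n < i₀
    · have hz : IsZero (Q.homology n) := ShortComplex.isZero_homology_of_isZero_X₂ _ (hb n h)
      haveI := ModuleCat.subsingleton_of_isZero hz
      intro x _
      rw [Module.mem_freeLocus]
      exact Module.Free.of_subsingleton _ _
    · exact hsub n (by omega) hn
  have hH : ∀ n ≤ N, Module.Flat (Localization.Away g) ((bcCx φ Q).homology n) := by
    intro n hn
    apply FlatUpTo.flat_homology_bcCx φ hφflat Q n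
    rw [TFunBC.weird_eq]
    haveI := hfp n
    have hproj : Module.Projective (Localization.Away g)
        (LocalizedModule.Away g (Q.homology n)) :=
      Module.basicOpen_subset_freeLocus_iff.mp (hsub' n hn)
    have hflat : Module.Flat (Localization.Away g) (LocalizedModule.Away g (Q.homology n)) :=
      Module.Flat.of_projective
    exact Module.Flat.of_linearEquiv
      (LocalizedModule.equivTensorProduct (Submonoid.powers g) (Q.homology n)).symm
  exact FlatUpTo.exact_upTo (bcCx φ Q) (TFunBC.flat_bcCx φ Q hQ) i₀ N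
    (fun i hi => Functor.map_isZero (ModuleCat.extendScalars φ) (hb i hi)) hH

variable [IsNoetherianRing B]

/-- `dRank` is locally constant at points of the common free locus. -/
theorem exists_open_dRank_eq (Q : ChainComplex (ModuleCat.{u} B) ℤ)
    (hQ : ∀ i, Module.Flat B (Q.X i)) (i₀ N : ℤ) (hb : ∀ i < i₀, IsZero (Q.X i))
    (hfin : ∀ n : ℤ, Module.Finite B (Q.homology n)) (x : PrimeSpectrum B)
    (hx : ∀ n : ℤ, i₀ ≤ n → n ≤ N → x ∈ Module.freeLocus B (Q.homology n)) (p : ℤ) (hp : p ≤ N) :
    ∃ W : Set (PrimeSpectrum B), IsOpen W ∧ x ∈ W ∧ ∀ y ∈ W, dRank Q p y = dRank Q p x := by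
  classical
  have hfp : ∀ n : ℤ, Module.FinitePresentation B (Q.homology n) := fun n =>
    haveI := hfin n
    Module.finitePresentation_of_finite B _
  -- the common free locus is open
  set U' : Set (PrimeSpectrum B) :=
    ⋂ n ∈ Finset.Icc i₀ N, Module.freeLocus B (Q.homology n) with hU'
  have hU'open : IsOpen U' := by
    apply isOpen_biInter_finset
    intro n _
    haveI := hfp n
    exact Module.isOpen_freeLocus
  have hxU' : x ∈ U' := by
    rw [hU', Set.mem_iInter₂]
    intro n hn
    rw [Finset.mem_Icc] at hn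
    exact hx n hn.1 hn.2
  obtain ⟨v, ⟨g, rfl⟩, hxg, hgU'⟩ :=
    isTopologicalBasis_basic_opens.exists_subset_of_mem_open hxU' hU'open
  have hsub : ∀ n : ℤ, i₀ ≤ n → n ≤ N →
      (basicOpen g : Set (PrimeSpectrum B)) ⊆ Module.freeLocus B (Q.homology n) := by
    intro n h1 h2 y hy
    have := hgU' hy
    rw [hU', Set.mem_iInter₂] at this
    exact this n (Finset.mem_Icc.mpr ⟨h1, h2⟩)
  set φ := algebraMap B (Localization.Away g) with hφ
  have hφflat : φ.Flat := RingHom.flat_algebraMap_iff.mpr inferInstance
  have hex := exact_upTo_away Q hQ i₀ N hb hfp g hsub p hp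
  have hQg : ∀ i, Module.Flat (Localization.Away g) ((bcCx φ Q).X i) := TFunBC.flat_bcCx φ Q hQ
  haveI : IsNoetherianRing (Localization.Away g) :=
    IsLocalization.isNoetherianRing (Submonoid.powers g) _ inferInstance
  have hfpg : Module.FinitePresentation (Localization.Away g)
      (T (bcCx φ Q) p (ModuleCat.of (Localization.Away g) (Localization.Away g))) := by
    haveI := hfin p
    haveI : Module.Finite (Localization.Away g)
        ((ModuleCat.extendScalars φ).obj (Q.homology p)) := finite_extendScalars_obj φ _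
    haveI : Module.Finite (Localization.Away g) ((bcCx φ Q).homology p) :=
      Module.Finite.equiv (FlatUpTo.homologyBCIso φ hφflat Q p).toLinearEquiv.symm
    haveI : Module.Finite (Localization.Away g)
        (T (bcCx φ Q) p (ModuleCat.of (Localization.Away g) (Localization.Away g))) :=
      Module.Finite.equiv (DRankFlat.TAEquiv (bcCx φ Q) p).symm
    exact Module.finitePresentation_of_finite _ _
  -- the point of `Spec B_g` above `x`
  have hrange : Set.range (comap φ) = basicOpen g :=
    localization_away_comap_range (Localization.Away g) g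
  have hxr : x ∈ Set.range (comap φ) := by
    rw [hrange]; exact hxg
  obtain ⟨y₀, hy₀⟩ := hxr
  have hrel : (ComplexShape.down ℤ).Rel p (p - 1) := by
    change p - 1 + 1 = p
    ring
  obtain ⟨W, hW, hy₀W, hWc⟩ := DRankFlat.dRank_const_of_exact_flat (bcCx φ Q) hQg p (p - 1) hrel
    hex.1 hex.2 hfpg y₀
  have hopen : IsOpenMap (comap φ) :=
    (localization_away_isOpenEmbedding (Localization.Away g) g).isOpenMap
  refine ⟨comap φ '' W, hopen W hW, ⟨y₀, hy₀W, hy₀⟩, ?_⟩
  rintro _ ⟨y, hyW, rfl⟩
  rw [← hy₀, ← DRankBC.dRank_bcCx φ Q p y, ← DRankBC.dRank_bcCx φ Q p y₀]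
  exact hWc y hyW

/-- minimal primes of a reduced ring lie in every free locus. -/
theorem mem_freeLocus_of_minimalPrimes [IsReduced B] (M : Type u) [AddCommGroup M] [Module B M]
    (x : PrimeSpectrum B) (hx : x.asIdeal ∈ minimalPrimes B) : x ∈ Module.freeLocus B M := by
  rw [Module.mem_freeLocus]
  have h1 := IsLocalization.AtPrime.radical_map_of_mem_minimalPrimes
    (Localization.AtPrime x.asIdeal) x.asIdeal ⊥ hx
  rw [Ideal.map_bot] at h1
  have h2 : (⊥ : Ideal (Localization.AtPrime x.asIdeal)).radical = ⊥ :=
    nilradical_eq_zero (Localization.AtPrime x.asIdeal)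
  have hf : IsField (Localization.AtPrime x.asIdeal) := by
    rw [IsLocalRing.isField_iff_maximalIdeal_eq, ← Localization.AtPrime.map_eq_maximalIdeal,
      ← h1, h2]
  let := hf.toField
  exact Module.Free.of_divisionRing _ _

/-- an open set containing all minimal primes is dense. -/
theorem dense_of_minimalPrimes_subset (U : Set (PrimeSpectrum B)) (hU : IsOpen U)
    (h : ∀ x : PrimeSpectrum B, x.asIdeal ∈ minimalPrimes B → x ∈ U) : Dense U := by
  rw [dense_iff_inter_open]
  rintro V hV ⟨y, hy⟩
  obtain ⟨q, hq, hqy⟩ := Ideal.exists_minimalPrimes_le (I := (⊥ : Ideal B)) (J := y.asIdeal) bot_le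
  haveI : q.IsPrime := hq.1.1
  have hspec : (⟨q, inferInstance⟩ : PrimeSpectrum B) ⤳ y :=
    (PrimeSpectrum.le_iff_specializes _ _).mp hqy
  exact ⟨⟨q, inferInstance⟩, hspec.mem_open hV hy, h _ hq⟩

end Groth.Agent.Lib.helper11.DRankGeneric
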