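import Groth.Prelude.Def_DiffOp
import Mathlib.Algebra.Algebra.Subalgebra.Basic
import Mathlib.Tactic.Abel
import Mathlib.Tactic.Ring

/-!
# Differential operators (helper11): basic closure properties, composition
-/

set_option autoImplicit false
universe u v

namespace Groth.Agent.Lib.helper11.DiffOp

open Diff16

variable {A B : Type u} [CommRing A] [CommRing B] [Algebra A B]
variable {M N P : Type v} [AddCommGroup M] [Module A M] [Module B M] [IsScalarTower A B M]
  [AddCommGroup N] [Module A N] [Module B N] [IsScalarTower A B N]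
  [AddCommGroup P] [Module A P] [Module B P] [IsScalarTower A B P]

@[simp] lemma commutator_apply (D : M →ₗ[A] N) (b : B) (m : M) :
    commutator A B M N D b m = D (b • m) - b • D m := rfl

lemma commutator_zero (b : B) : commutator A B M N 0 b = 0 := by
  ext m; simp

lemma commutator_add (D D' : M →ₗ[A] N) (b : B) :
    commutator A B M N (D + D') b = commutator A B M N D b + commutator A B M N D' b := by
  ext m; simp [smul_add]; abel

lemma commutator_neg (D : M →ₗ[A] N) (b : B) :
    commutator A B M N (-D) b = -commutator A B M N D b := by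
  ext m; simp [smul_neg]; abel

lemma commutator_sub (D D' : M →ₗ[A] N) (b : B) :
    commutator A B M N (D - D') b = commutator A B M N D b - commutator A B M N D' b := by
  ext m; simp [smul_sub]; abel

lemma commutator_smul (a : A) (D : M →ₗ[A] N) (b : B) :
    commutator A B M N (a • D) b = a • commutator A B M N D b := by
  ext m; simp [smul_sub, smul_comm a b]

lemma isDiffOpLE_zero_iff (D : M →ₗ[A] N) :
    IsDiffOpLE A B M N 0 D ↔ ∀ (b : B) (m : M), D (b • m) = b • D m := Iff.rfl

lemma isDiffOpLE_succ_iff (n : ℕ) (D : M →ₗ[A] N) :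
    IsDiffOpLE A B M N (n + 1) D ↔ ∀ b : B, IsDiffOpLE A B M N n (commutator A B M N D b) :=
  Iff.rfl

lemma commutator_eq_zero_of_isDiffOpLE_zero {D : M →ₗ[A] N} (h : IsDiffOpLE A B M N 0 D) (b : B) :
    commutator A B M N D b = 0 := by
  ext m; simp [h b m]

lemma IsDiffOpLE.zero (n : ℕ) : IsDiffOpLE A B M N n (0 : M →ₗ[A] N) := by
  induction n with
  | zero => intro b m; simp
  | succ n ih => intro b; rw [commutator_zero]; exact ih

lemma IsDiffOpLE.add {n : ℕ} {D D' : M →ₗ[A] N} (h : IsDiffOpLE A B M N n D)
    (h' : IsDiffOpLE A B M N n D') : IsDiffOpLE A B M N n (D + D') := by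
  induction n generalizing D D' with
  | zero => intro b m; simp [h b m, h' b m]
  | succ n ih => intro b; rw [commutator_add]; exact ih (h b) (h' b)

lemma IsDiffOpLE.neg {n : ℕ} {D : M →ₗ[A] N} (h : IsDiffOpLE A B M N n D) :
    IsDiffOpLE A B M N n (-D) := by
  induction n generalizing D with
  | zero => intro b m; simp [h b m]
  | succ n ih => intro b; rw [commutator_neg]; exact ih (h b)

lemma IsDiffOpLE.sub {n : ℕ} {D D' : M →ₗ[A] N} (h : IsDiffOpLE A B M N n D)
    (h' : IsDiffOpLE A B M N n D') : IsDiffOpLE A B M N n (D - D') := by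
  rw [sub_eq_add_neg]; exact IsDiffOpLE.add h (IsDiffOpLE.neg h')

lemma IsDiffOpLE.smul {n : ℕ} {D : M →ₗ[A] N} (a : A) (h : IsDiffOpLE A B M N n D) :
    IsDiffOpLE A B M N n (a • D) := by
  induction n generalizing D with
  | zero => intro b m; simp [h b m, smul_comm a b]
  | succ n ih => intro b; rw [commutator_smul]; exact ih (h b)

lemma IsDiffOpLE.sum {ι : Type*} (s : Finset ι) {n : ℕ} (D : ι → (M →ₗ[A] N))
    (h : ∀ i ∈ s, IsDiffOpLE A B M N n (D i)) : IsDiffOpLE A B M N n (∑ i ∈ s, D i) := by
  classical
  induction s using Finset.induction_on with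
  | empty => simpa using IsDiffOpLE.zero n
  | insert a s ha ih =>
    rw [Finset.sum_insert ha]
    exact IsDiffOpLE.add (h a (Finset.mem_insert_self a s))
      (ih fun i hi => h i (Finset.mem_insert_of_mem hi))

lemma IsDiffOpLE.succ {n : ℕ} {D : M →ₗ[A] N} (h : IsDiffOpLE A B M N n D) :
    IsDiffOpLE A B M N (n + 1) D := by
  induction n generalizing D with
  | zero => intro b; rw [commutator_eq_zero_of_isDiffOpLE_zero h]; exact IsDiffOpLE.zero 0
  | succ n ih => intro b; exact ih (h b)

lemma IsDiffOpLE.mono {n m : ℕ} (hnm : n ≤ m) {D : M →ₗ[A] N} (h : IsDiffOpLE A B M N n D) :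
    IsDiffOpLE A B M N m D := by
  induction hnm with
  | refl => exact h
  | step _ ih => exact IsDiffOpLE.succ ih

lemma commutator_comp (D : M →ₗ[A] N) (D' : N →ₗ[A] P) (b : B) :
    commutator A B M P (D' ∘ₗ D) b =
      D' ∘ₗ commutator A B M N D b + commutator A B N P D' b ∘ₗ D := by
  ext m; simp

/-- composition of differential operators -/
theorem IsDiffOpLE.comp : ∀ (k n n' : ℕ), n + n' = k → ∀ {D : M →ₗ[A] N} {D' : N →ₗ[A] P},
    IsDiffOpLE A B M N n D → IsDiffOpLE A B N P n' D' → IsDiffOpLE A B M P k (D' ∘ₗ D) := by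
  intro k
  induction k with
  | zero =>
    intro n n' hk D D' hD hD'
    obtain ⟨rfl, rfl⟩ : n = 0 ∧ n' = 0 := by omega
    intro b m
    simp [hD b m, hD' b]
  | succ k ih =>
    intro n n' hk D D' hD hD' b
    rw [commutator_comp]
    apply IsDiffOpLE.add
    · rcases n with _ | n
      · rw [commutator_eq_zero_of_isDiffOpLE_zero hD, LinearMap.comp_zero]
        exact IsDiffOpLE.zero k
      · exact ih n n' (by omega) (hD b) hD'
    · rcases n' with _ | n'
      · rw [commutator_eq_zero_of_isDiffOpLE_zero hD', LinearMap.zero_comp]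
        exact IsDiffOpLE.zero k
      · exact ih n n' (by omega) hD (hD' b)

/-- multiplication by `b : B` as an `A`-linear map. -/
noncomputable abbrev mulB (M : Type v) [AddCommGroup M] [Module A M] [Module B M]
    [IsScalarTower A B M] (b : B) : M →ₗ[A] M :=
  (LinearMap.lsmul B M b).restrictScalars A

lemma isDiffOpLE_mulB (b : B) : IsDiffOpLE A B M M 0 (mulB (A := A) M b) := by
  intro b' m
  simp [smul_comm b b']

lemma commutator_algebraMap (D : M →ₗ[A] N) (a : A) :
    commutator A B M N D (algebraMap A B a) = 0 := by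
  ext m; simp

lemma commutator_add_right (D : M →ₗ[A] N) (b b' : B) :
    commutator A B M N D (b + b') = commutator A B M N D b + commutator A B M N D b' := by
  ext m; simp [add_smul]; abel

lemma commutator_mul_right (D : M →ₗ[A] N) (b b' : B) :
    commutator A B M N D (b * b') =
      commutator A B M N D b ∘ₗ mulB (A := A) M b' +
        mulB (A := A) N b ∘ₗ commutator A B M N D b' := by
  ext m; simp [mul_smul, smul_sub]

/-- S2797: it suffices to check commutators with algebra generators. -/
theorem isDiffOpLE_succ_of_generators (s : Set B) (hs : Algebra.adjoin A s = ⊤) (n : ℕ)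
    (D : M →ₗ[A] N) (hD : ∀ g ∈ s, IsDiffOpLE A B M N n (commutator A B M N D g)) :
    IsDiffOpLE A B M N (n + 1) D := by
  let S : Subalgebra A B :=
    { carrier := {b | IsDiffOpLE A B M N n (commutator A B M N D b)}
      mul_mem' := by
        intro b b' hb hb'
        change IsDiffOpLE A B M N n _
        rw [commutator_mul_right]
        exact IsDiffOpLE.add
          (IsDiffOpLE.comp n 0 n (by omega) (isDiffOpLE_mulB b') hb)
          (IsDiffOpLE.comp n n 0 (by omega) hb' (isDiffOpLE_mulB b))
      add_mem' := by
        intro b b' hb hb'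
        change IsDiffOpLE A B M N n _
        rw [commutator_add_right]
        exact IsDiffOpLE.add hb hb'
      algebraMap_mem' := by
        intro a
        change IsDiffOpLE A B M N n _
        rw [commutator_algebraMap]
        exact IsDiffOpLE.zero n }
  have h1 : Algebra.adjoin A s ≤ S := Algebra.adjoin_le hD
  rw [hs] at h1
  intro b
  exact h1 (Algebra.mem_top : b ∈ (⊤ : Subalgebra A B))

end Groth.Agent.Lib.helper11.DiffOp
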