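import Mathlib
import Groth.Agent.Lib.helper11.FGEtale
import Groth.Agent.Lib.helper11.ConstrTop

/-!
# Divisible closed subgroups of commutative algebraic groups (helper11)

For a finite type group scheme `G` over an algebraically closed field whose group of rational points
is commutative, and a rational point `h`, some power `h ^ j` (`j ≥ 1`) lies in a divisible subgroup
of the rational points (the Zariski closure of a suitable cyclic subgroup).
-/

set_option autoImplicit false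
universe u

open CategoryTheory Limits MonoidalCategory CartesianMonoidalCategory MonObj GrpObj AlgebraicGeometry
open TopologicalSpace Topology

namespace Groth.Agent.Lib.helper11.DivClosure

section top

variable {X : Type u} [TopologicalSpace X]

/-- a constructible set which is dense in a nonempty closed subset `Z` of a noetherian space
contains a nonempty relatively open subset of `Z` -/
theorem exists_open_inter_subset [NoetherianSpace X] {Z E : Set X} (hne : Z.Nonempty)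
    (hE : IsConstructible E) (hZ : IsClosed Z) (hd : Z ⊆ closure (E ∩ Z)) :
    ∃ U : Set X, IsOpen U ∧ (U ∩ Z).Nonempty ∧ U ∩ Z ⊆ E := by
  haveI : Nonempty Z := hne.to_subtype
  obtain ⟨Y, hY⟩ : (irreducibleComponents Z).Nonempty :=
    ⟨irreducibleComponent (Classical.arbitrary Z), irreducibleComponent_mem_irreducibleComponents _⟩
  obtain ⟨o, ho, hone, hoY⟩ :=
    NoetherianSpace.exists_isOpen_nonempty_subset_irreducibleComponent Y hY
  have hoirr : IsIrreducible o := ⟨hone, hY.1.isPreirreducible.open_subset ho hoY⟩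
  set E' : Set Z := Subtype.val ⁻¹' E with hE'def
  have hE' : IsConstructible E' :=
    hE.preimage_of_isClosedEmbedding hZ.isClosedEmbedding_subtypeVal (NoetherianSpace.isCompact _)
  have hd' : o ⊆ closure (E' ∩ o) := by
    intro y hy
    rw [mem_closure_iff]
    intro O' hO' hyO'
    obtain ⟨W', hW', hW'eq⟩ := isOpen_induced_iff.mp (hO'.inter ho)
    have hyW' : y.1 ∈ W' := by
      have : y ∈ Subtype.val ⁻¹' W' := by rw [hW'eq]; exact ⟨hyO', hy⟩
      exact this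
    obtain ⟨x, hxW', hxE, hxZ⟩ := mem_closure_iff.mp (hd y.2) W' hW' hyW'
    have hx : (⟨x, hxZ⟩ : Z) ∈ O' ∩ o := by
      rw [← hW'eq]; exact hxW'
    exact ⟨⟨x, hxZ⟩, hx.1, hxE, hx.2⟩
  obtain ⟨U, hU, hUne, hUE⟩ := ConstrTop.exists_open_of_dense hE' hoirr hd'
  obtain ⟨W, hW, hWeq⟩ := isOpen_induced_iff.mp (hU.inter ho)
  refine ⟨W, hW, ?_, ?_⟩
  · obtain ⟨y, hy⟩ := hUne
    refine ⟨y.1, ?_, y.2⟩
    have : y ∈ Subtype.val ⁻¹' W := by rw [hWeq]; exact hy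
    exact this
  · rintro x ⟨hxW, hxZ⟩
    have : (⟨x, hxZ⟩ : Z) ∈ U ∩ o := by rw [← hWeq]; exact hxW
    exact hUE this

end top

section grp

open FGEtale (ptOf ptOf_comp ptOf_mul isClosed_singleton_ptOf)

variable {K : Type u} [Field K] (G : Over (Spec (CommRingCat.of K))) [GrpObj G]

/-- Zariski closure of a set of rational points -/
def Zc (S : Set (𝟙_ (Over (Spec (CommRingCat.of K))) ⟶ G)) : Set G.left :=
  closure (ptOf G '' S)

theorem isClosed_Zc (S : Set (𝟙_ (Over (Spec (CommRingCat.of K))) ⟶ G)) : IsClosed (Zc G S) :=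
  isClosed_closure

theorem ptOf_mem_Zc {S : Set (𝟙_ (Over (Spec (CommRingCat.of K))) ⟶ G)}
    {x : 𝟙_ (Over (Spec (CommRingCat.of K))) ⟶ G} (hx : x ∈ S) : ptOf G x ∈ Zc G S :=
  subset_closure ⟨x, hx, rfl⟩

theorem ptOf_inv (x : 𝟙_ (Over (Spec (CommRingCat.of K))) ⟶ G) :
    ptOf G x⁻¹ = ((𝟙 G : G ⟶ G)⁻¹).left (ptOf G x) := by
  rw [← ptOf_comp, GrpObj.comp_inv, Category.comp_id]

theorem ptOf_pow (x : 𝟙_ (Over (Spec (CommRingCat.of K))) ⟶ G) (m : ℕ) :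
    ptOf G (x ^ m) = ((𝟙 G : G ⟶ G) ^ m).left (ptOf G x) := by
  rw [← ptOf_comp, MonObj.comp_pow, Category.comp_id]

/-- a continuous self-map mapping `ptOf '' S` into `Zc S` maps `Zc S` into itself -/
theorem map_mem_Zc {S : Set (𝟙_ (Over (Spec (CommRingCat.of K))) ⟶ G)} (φ : G.left ⟶ G.left)
    (h : ∀ s ∈ S, φ (ptOf G s) ∈ Zc G S) {z : G.left} (hz : z ∈ Zc G S) : φ z ∈ Zc G S := by
  have h1 := image_closure_subset_closure_image φ.continuous (s := ptOf G '' S)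
  have h2 : φ '' (ptOf G '' S) ⊆ Zc G S := by
    rintro _ ⟨_, ⟨s, hs, rfl⟩, rfl⟩
    exact h s hs
  have h3 : closure (φ '' (ptOf G '' S)) ⊆ Zc G S :=
    closure_minimal h2 (isClosed_Zc G S)
  exact h3 (h1 ⟨z, hz, rfl⟩)

variable (hcomm : ∀ a b : 𝟙_ (Over (Spec (CommRingCat.of K))) ⟶ G, a * b = b * a)

theorem trans_mem_Zc (S : Subgroup (𝟙_ (Over (Spec (CommRingCat.of K))) ⟶ G))
    (s : 𝟙_ (Over (Spec (CommRingCat.of K))) ⟶ G) (hs : s ∈ S) {z : G.left}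
    (hz : z ∈ Zc G (S : Set (𝟙_ (Over (Spec (CommRingCat.of K))) ⟶ G))) :
    (FFGal.trans s).left z ∈ Zc G (S : Set (𝟙_ (Over (Spec (CommRingCat.of K))) ⟶ G)) := by
  refine map_mem_Zc G (FFGal.trans s).left ?_ hz
  intro y hy
  rw [← ptOf_mul]
  exact ptOf_mem_Zc G (S.mul_mem hy hs)

include hcomm in
theorem trans_mem_Zc' (S : Subgroup (𝟙_ (Over (Spec (CommRingCat.of K))) ⟶ G))
    (a : 𝟙_ (Over (Spec (CommRingCat.of K))) ⟶ G)
    (ha : ptOf G a ∈ Zc G (S : Set (𝟙_ (Over (Spec (CommRingCat.of K))) ⟶ G))) {z : G.left}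
    (hz : z ∈ Zc G (S : Set (𝟙_ (Over (Spec (CommRingCat.of K))) ⟶ G))) :
    (FFGal.trans a).left z ∈ Zc G (S : Set (𝟙_ (Over (Spec (CommRingCat.of K))) ⟶ G)) := by
  refine map_mem_Zc G (FFGal.trans a).left ?_ hz
  intro s hs
  rw [← ptOf_mul, hcomm s a, ptOf_mul]
  exact trans_mem_Zc G S s hs ha

theorem inv_mem_Zc (S : Subgroup (𝟙_ (Over (Spec (CommRingCat.of K))) ⟶ G)) {z : G.left}
    (hz : z ∈ Zc G (S : Set (𝟙_ (Over (Spec (CommRingCat.of K))) ⟶ G))) :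
    ((𝟙 G : G ⟶ G)⁻¹).left z ∈ Zc G (S : Set (𝟙_ (Over (Spec (CommRingCat.of K))) ⟶ G)) := by
  refine map_mem_Zc G ((𝟙 G : G ⟶ G)⁻¹).left ?_ hz
  intro y hy
  rw [← ptOf_inv]
  exact ptOf_mem_Zc G (S.inv_mem hy)

theorem pow_mem_Zc (S : Subgroup (𝟙_ (Over (Spec (CommRingCat.of K))) ⟶ G)) (m : ℕ) {z : G.left}
    (hz : z ∈ Zc G (S : Set (𝟙_ (Over (Spec (CommRingCat.of K))) ⟶ G))) :
    ((𝟙 G : G ⟶ G) ^ m).left z ∈ Zc G (S : Set (𝟙_ (Over (Spec (CommRingCat.of K))) ⟶ G)) := by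
  refine map_mem_Zc G ((𝟙 G : G ⟶ G) ^ m).left ?_ hz
  intro y hy
  rw [← ptOf_pow]
  exact ptOf_mem_Zc G (S.pow_mem hy m)

/-- the rational points of the Zariski closure of a subgroup form a subgroup -/
def cl (hcomm : ∀ a b : 𝟙_ (Over (Spec (CommRingCat.of K))) ⟶ G, a * b = b * a)
    (S : Subgroup (𝟙_ (Over (Spec (CommRingCat.of K))) ⟶ G)) :
    Subgroup (𝟙_ (Over (Spec (CommRingCat.of K))) ⟶ G) where
  carrier := {b | ptOf G b ∈ Zc G (S : Set (𝟙_ (Over (Spec (CommRingCat.of K))) ⟶ G))}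
  one_mem' := ptOf_mem_Zc G S.one_mem
  mul_mem' {a b} ha hb := by
    show ptOf G (a * b) ∈ Zc G (S : Set (𝟙_ (Over (Spec (CommRingCat.of K))) ⟶ G))
    rw [ptOf_mul]
    exact trans_mem_Zc' G hcomm S b hb ha
  inv_mem' {a} ha := by
    show ptOf G a⁻¹ ∈ Zc G (S : Set (𝟙_ (Over (Spec (CommRingCat.of K))) ⟶ G))
    rw [ptOf_inv]
    exact inv_mem_Zc G S ha

theorem mem_cl_iff (S : Subgroup (𝟙_ (Over (Spec (CommRingCat.of K))) ⟶ G))
    (b : 𝟙_ (Over (Spec (CommRingCat.of K))) ⟶ G) :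
    b ∈ cl G hcomm S ↔ ptOf G b ∈ Zc G (S : Set (𝟙_ (Over (Spec (CommRingCat.of K))) ⟶ G)) :=
  Iff.rfl

theorem le_cl (S : Subgroup (𝟙_ (Over (Spec (CommRingCat.of K))) ⟶ G)) : S ≤ cl G hcomm S :=
  fun _ hx => ptOf_mem_Zc G hx

section algClosed

variable [IsAlgClosed K] [LocallyOfFiniteType G.hom]

theorem ptOf_injective : Function.Injective (ptOf G) := by
  intro x y hxy
  have h := ext_of_apply_closedPoint_eq (f := x.left) (g := y.left) G.hom
    (by simpa using Over.w x) (by simpa using Over.w y) hxy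
  ext1
  exact h

variable [CompactSpace G.left]

theorem exists_pt_of_closed {F : Set G.left} (hF : IsClosed F) (hne : F.Nonempty) :
    ∃ x : 𝟙_ (Over (Spec (CommRingCat.of K))) ⟶ G, ptOf G x ∈ F := by
  obtain ⟨c, hc, hcl⟩ := IsClosed.exists_closed_singleton hF hne
  obtain ⟨⟨p, hp⟩, hpc⟩ := (pointEquivClosedPoint G.hom).surjective ⟨c, hcl⟩
  have hpc' : p (IsLocalRing.closedPoint K) = c := congrArg Subtype.val hpc
  let x : 𝟙_ (Over (Spec (CommRingCat.of K))) ⟶ G := Over.homMk p (by simpa using hp)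
  refine ⟨x, ?_⟩
  have hxc : ptOf G x = c := hpc'
  rw [hxc]
  exact hc

theorem exists_pow_eq_of_mem_image (S : Subgroup (𝟙_ (Over (Spec (CommRingCat.of K))) ⟶ G))
    (m : ℕ) (c : 𝟙_ (Over (Spec (CommRingCat.of K))) ⟶ G)
    (hc : ptOf G c ∈ ((𝟙 G : G ⟶ G) ^ m).left ''
      Zc G (S : Set (𝟙_ (Over (Spec (CommRingCat.of K))) ⟶ G))) :
    ∃ d ∈ cl G hcomm S, d ^ m = c := by
  have hF : IsClosed (Zc G (S : Set (𝟙_ (Over (Spec (CommRingCat.of K))) ⟶ G)) ∩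
      ((𝟙 G : G ⟶ G) ^ m).left ⁻¹' {ptOf G c}) :=
    (isClosed_Zc G _).inter ((isClosed_singleton_ptOf c).preimage
      ((𝟙 G : G ⟶ G) ^ m).left.continuous)
  obtain ⟨z, hz, hzc⟩ := hc
  obtain ⟨d, hdZ, hdc⟩ := exists_pt_of_closed G hF ⟨z, hz, hzc⟩
  refine ⟨d, hdZ, ?_⟩
  apply ptOf_injective G
  rw [ptOf_pow]
  exact hdc

include hcomm in
/-- if the `m`-th powers of `S` are dense in the closure of `S`, then the closure is `m`-divisible
-/
theorem exists_pow_eq_of_dense (S : Subgroup (𝟙_ (Over (Spec (CommRingCat.of K))) ⟶ G))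
    (m : ℕ)
    (hdense : Zc G (S : Set (𝟙_ (Over (Spec (CommRingCat.of K))) ⟶ G)) ⊆
      Zc G {x | ∃ s ∈ S, s ^ m = x})
    (b : 𝟙_ (Over (Spec (CommRingCat.of K))) ⟶ G) (hb : b ∈ cl G hcomm S) :
    ∃ d ∈ cl G hcomm S, d ^ m = b := by
  haveI : IsLocallyNoetherian G.left := LocallyOfFiniteType.isLocallyNoetherian G.hom
  haveI : IsNoetherian G.left := {}
  set Z : Set G.left := Zc G (S : Set (𝟙_ (Over (Spec (CommRingCat.of K))) ⟶ G)) with hZdef
  have hZcl : IsClosed Z := isClosed_Zc G _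
  have hZne : Z.Nonempty := ⟨_, ptOf_mem_Zc G S.one_mem⟩
  set I : Set G.left := ((𝟙 G : G ⟶ G) ^ m).left '' Z with hIdef
  have hIZ : I ⊆ Z := by
    rintro _ ⟨z, hz, rfl⟩
    exact pow_mem_Zc G S m hz
  haveI : LocallyOfFiniteType ((𝟙 G : G ⟶ G) ^ m).left :=
    haveI : LocallyOfFiniteType (((𝟙 G : G ⟶ G) ^ m).left ≫ G.hom) := by
      rw [Over.w]; infer_instance
    locallyOfFiniteType_of_comp (((𝟙 G : G ⟶ G) ^ m).left) G.hom
  have hIc : IsConstructible I :=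
    Scheme.Hom.isConstructible_image ((𝟙 G : G ⟶ G) ^ m).left
      (ConstrTop.isConstructible_of_isClosed hZcl)
  have hd : Z ⊆ closure (I ∩ Z) := by
    refine hdense.trans (closure_mono ?_)
    rintro _ ⟨x, ⟨s, hs, rfl⟩, rfl⟩
    refine ⟨⟨ptOf G s, ptOf_mem_Zc G hs, (ptOf_pow G s m).symm⟩, ?_⟩
    exact ptOf_mem_Zc G (S.pow_mem hs m)
  obtain ⟨U, hU, ⟨v, hvU, hvZ⟩, hUI⟩ := exists_open_inter_subset hZne hIc hZcl hd
  -- the involution-like map `x ↦ x⁻¹ b`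
  have hιι : ((𝟙 G : G ⟶ G)⁻¹ ≫ (𝟙 G : G ⟶ G)⁻¹) = 𝟙 G := by
    rw [GrpObj.comp_inv, Category.comp_id, _root_.inv_inv]
  have htt : FFGal.trans b⁻¹ ≫ FFGal.trans b = 𝟙 G := by
    rw [FFGal.trans_comp, inv_mul_cancel, FFGal.trans_one]
  set w : G.left := ((𝟙 G : G ⟶ G)⁻¹).left ((FFGal.trans b⁻¹).left v) with hwdef
  have hwZ : w ∈ Z :=
    inv_mem_Zc G S (trans_mem_Zc' G hcomm S b⁻¹ ((cl G hcomm S).inv_mem hb) hvZ)
  have hφw : (FFGal.trans b).left (((𝟙 G : G ⟶ G)⁻¹).left w) = v := by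
    have h1 : ((𝟙 G : G ⟶ G)⁻¹).left w = (FFGal.trans b⁻¹).left v := by
      rw [hwdef, ← Scheme.Hom.comp_apply, ← Over.comp_left, hιι]
      rfl
    rw [h1, ← Scheme.Hom.comp_apply, ← Over.comp_left, htt]
    rfl
  set W : Set G.left := ((𝟙 G : G ⟶ G)⁻¹).left ⁻¹' ((FFGal.trans b).left ⁻¹' U) with hWdef
  have hWo : IsOpen W :=
    (hU.preimage (FFGal.trans b).left.continuous).preimage ((𝟙 G : G ⟶ G)⁻¹).left.continuous
  have hwW : w ∈ W := by
    show (FFGal.trans b).left (((𝟙 G : G ⟶ G)⁻¹).left w) ∈ U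
    rw [hφw]; exact hvU
  obtain ⟨_, hjW, ⟨j, ⟨s, hs, rfl⟩, rfl⟩⟩ := mem_closure_iff.mp (hdense hwZ) W hWo hwW
  have hjb : ptOf G ((s ^ m)⁻¹ * b) ∈ U := by
    rw [ptOf_mul, ptOf_inv]
    exact hjW
  have hjbZ : ptOf G ((s ^ m)⁻¹ * b) ∈ Z :=
    (cl G hcomm S).mul_mem ((cl G hcomm S).inv_mem (le_cl G hcomm S (S.pow_mem hs m))) hb
  obtain ⟨d, hd, hdm⟩ := exists_pow_eq_of_mem_image G hcomm S m _ (hUI ⟨hjb, hjbZ⟩)
  refine ⟨s * d, (cl G hcomm S).mul_mem (le_cl G hcomm S hs) hd, ?_⟩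
  rw [(show Commute s d from hcomm s d).mul_pow, hdm]
  group

include hcomm in
/-- **Some power of every rational point lies in a divisible subgroup.** -/
theorem exists_divisible (h : 𝟙_ (Over (Spec (CommRingCat.of K))) ⟶ G) :
    ∃ j : ℕ, 0 < j ∧ ∃ D : Subgroup (𝟙_ (Over (Spec (CommRingCat.of K))) ⟶ G), h ^ j ∈ D ∧
      ∀ m : ℕ, 0 < m → ∀ d ∈ D, ∃ d' ∈ D, d' ^ m = d := by
  haveI : IsLocallyNoetherian G.left := LocallyOfFiniteType.isLocallyNoetherian G.hom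
  haveI : IsNoetherian G.left := {}
  let S : ℕ → Subgroup (𝟙_ (Over (Spec (CommRingCat.of K))) ⟶ G) :=
    fun i => Subgroup.zpowers (h ^ (i.factorial))
  have hSanti : ∀ i i', i ≤ i' → S i' ≤ S i := by
    intro i i' hii'
    obtain ⟨q, hq⟩ := Nat.factorial_dvd_factorial hii'
    refine (Subgroup.zpowers_le).mpr ?_
    rw [hq, pow_mul]
    exact (S i).pow_mem (Subgroup.mem_zpowers _) q
  let f : ℕ → Closeds G.left := fun i =>
    ⟨Zc G (S i : Set (𝟙_ (Over (Spec (CommRingCat.of K))) ⟶ G)), isClosed_Zc G _⟩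
  have hfanti : ∀ i i', i ≤ i' → f i' ≤ f i := by
    intro i i' hii'
    exact closure_mono (Set.image_mono (hSanti i i' hii'))
  obtain ⟨_, ⟨N, rfl⟩, hmin⟩ := (wellFounded_lt (α := Closeds G.left)).has_min (Set.range f)
    ⟨_, ⟨0, rfl⟩⟩
  have hstab : ∀ i, N ≤ i → f i = f N := by
    intro i hi
    exact eq_of_le_of_not_lt (hfanti N i hi) (hmin _ ⟨i, rfl⟩)
  refine ⟨N.factorial, Nat.factorial_pos N, cl G hcomm (S N),
    le_cl G hcomm (S N) (Subgroup.mem_zpowers _), ?_⟩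
  intro m hm d hd
  refine exists_pow_eq_of_dense G hcomm (S N) m ?_ d hd
  have h1 : Zc G (S N : Set (𝟙_ (Over (Spec (CommRingCat.of K))) ⟶ G)) =
      Zc G (S (N + m) : Set (𝟙_ (Over (Spec (CommRingCat.of K))) ⟶ G)) :=
    (congrArg (fun C : Closeds G.left => (C : Set G.left)) (hstab (N + m) (Nat.le_add_right N m))).symm
  rw [h1]
  refine closure_mono (Set.image_mono ?_)
  intro x hx
  obtain ⟨z, rfl⟩ := Subgroup.mem_zpowers_iff.mp hx
  have hdvd : N.factorial * m ∣ (N + m).factorial :=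
    (Nat.mul_dvd_mul_left _ (Nat.dvd_factorial hm le_rfl)).trans
      (Nat.factorial_mul_factorial_dvd_factorial_add N m)
  obtain ⟨q, hq⟩ := hdvd
  refine ⟨(h ^ N.factorial) ^ ((q : ℤ) * z), (S N).zpow_mem (Subgroup.mem_zpowers _) _, ?_⟩
  rw [hq]
  simp only [← zpow_natCast, ← zpow_mul]
  congr 1
  push_cast
  ring

end algClosed

end grp

end Groth.Agent.Lib.helper11.DivClosure
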