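import Mathlib
import Groth.Statements.S19889
import Groth.Agent.Lib.helper11.DivClosure
import Groth.Agent.Lib.Helper24.NFT.Conn

/-!
# Torsion lifts modulo the identity component (helper11), S19889
-/

set_option autoImplicit false
universe u

open CategoryTheory Limits MonoidalCategory CartesianMonoidalCategory MonObj GrpObj AlgebraicGeometry

namespace Groth.Agent.Lib.helper11.DivClosure2

theorem main (k : Type u) [Field k] [IsAlgClosed k]
    {G G0 : Over (Spec (CommRingCat.of k))} [GrpObj G] [IsCommMonObj G] [GrpObj G0]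
    [LocallyOfFiniteType G.hom] (i : G0 ⟶ G) [IsMonHom i] (hi : AutSch.IsIdComp i)
    (g : 𝟙_ (Over (Spec (CommRingCat.of k))) ⟶ G) (n : ℕ) (hn : 0 < n)
    (hg : g ^ n ∈ AutSch.ptsRange i) :
    ∃ t : 𝟙_ (Over (Spec (CommRingCat.of k))) ⟶ G, IsOfFinOrder t ∧ t⁻¹ * g ∈ AutSch.ptsRange i := by
  obtain ⟨-, hopen, hrange⟩ := (AutSch.isIdComp_iff_of_field i).mp hi
  haveI := hopen
  -- `G0` is of finite type
  haveI : LocallyOfFiniteType G0.hom := by
    rw [← Over.w i]; infer_instance
  haveI : CompactSpace G0.left := by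
    have hc : IsCompact (Set.range i.left.base) := by
      rw [hrange, AutSch.unitPt, Groth.Agent.Lib.Helper24.NFT.connectedComponent_unit]
      exact Groth.Agent.Lib.Helper24.NFT.isCompact_unitComponent _
    rw [← isCompact_univ_iff]
    have := i.left.isOpenEmbedding.isInducing.isCompact_preimage_iff (K := Set.range i.left.base)
      subset_rfl
    rw [← this] at hc
    simpa using hc
  haveI : Mono i := by
    haveI : Mono i.left := inferInstance
    exact (Over.forget _).mono_of_mono_map ‹_›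
  have hcomm : ∀ a b : 𝟙_ (Over (Spec (CommRingCat.of k))) ⟶ G0, a * b = b * a := by
    intro a b
    rw [← cancel_mono i, MonObj.mul_comp, MonObj.mul_comp]  -- `(a * b) ≫ i`
    exact mul_comm _ _
  obtain ⟨h, hh⟩ := (AutSch.mem_ptsRange_iff i _).mp hg
  obtain ⟨j, hj, D, hjD, hdiv⟩ := DivClosure.exists_divisible G0 hcomm h
  obtain ⟨h', -, hh'⟩ := hdiv (n * j) (Nat.mul_pos hn hj) _ hjD
  refine ⟨g * (h' ≫ i)⁻¹, ?_, ?_⟩
  · rw [isOfFinOrder_iff_pow_eq_one]
    refine ⟨n * j, Nat.mul_pos hn hj, ?_⟩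
    have h1 : (h' ≫ i) ^ (n * j) = (g ^ n) ^ j := by
      rw [← hh, ← MonObj.pow_comp, hh', MonObj.pow_comp]
    rw [mul_pow, inv_pow, h1, ← pow_mul, mul_inv_cancel]
  · rw [(AutSch.mem_ptsRange_iff i _)]
    refine ⟨h', ?_⟩
    rw [_root_.mul_inv_rev, _root_.inv_inv, _root_.mul_assoc, inv_mul_cancel, _root_.mul_one]

end Groth.Agent.Lib.helper11.DivClosure2
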