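import Mathlib
import Groth.Agent.Lib.helper11.PSMono
import Groth.Agent.Lib.helper11.ExtShift
import Groth.Agent.Lib.helper11.RnExt3

/-!
# `Ext¹` of a two-generated module `A + A X^s ⊆ k⟦X⟧` over a subalgebra `A ⊆ k⟦X⟧` (helper11)

`M = A + A X^s`.  Its syzygy module is `{b ∈ A | b X^s ∈ A} = X^c K` with
`K = {f | X^c f ∈ A ∧ X^{c+s} f ∈ A}`, and for an `A`-submodule `N ⊆ k⟦X⟧`
`Ext¹(M, N) ≅ (N : K) / (X^c N + X^{c+s} N)`.
-/

set_option autoImplicit false

namespace Groth.Agent.Lib.helper11.TwoGenExt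

open PowerSeries CategoryTheory Abelian
open Groth.Agent.Lib.helper11.PSMono Groth.Agent.Lib.helper11.ExtShift
  Groth.Agent.Lib.helper11.RnExt3

universe u

variable {k : Type u} [Field k] (A : Subalgebra k (PowerSeries k)) (s c d : ℕ)

/-- `M = A + A X^s`. -/
noncomputable def M : Submodule ↥A (PowerSeries k) :=
  Submodule.span ↥A {1, (X : PowerSeries k) ^ s}

theorem one_mem_M : (1 : PowerSeries k) ∈ M A s := Submodule.subset_span (Or.inl rfl)

theorem X_pow_mem_M : (X : PowerSeries k) ^ s ∈ M A s := Submodule.subset_span (Or.inr rfl)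

/-- `K = {f | X^c f ∈ A ∧ X^{c+s} f ∈ A}`. -/
def K : Submodule ↥A (PowerSeries k) where
  carrier := {f | X ^ c * f ∈ A ∧ X ^ (c + s) * f ∈ A}
  add_mem' := by
    rintro a b ⟨ha1, ha2⟩ ⟨hb1, hb2⟩
    refine ⟨?_, ?_⟩
    · rw [mul_add]; exact A.add_mem ha1 hb1
    · rw [mul_add]; exact A.add_mem ha2 hb2
  zero_mem' := by
    refine ⟨?_, ?_⟩
    · rw [mul_zero]; exact A.zero_mem
    · rw [mul_zero]; exact A.zero_mem
  smul_mem' := by
    rintro a f ⟨hf1, hf2⟩
    refine ⟨?_, ?_⟩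
    · have : X ^ c * (a • f) = (a : PowerSeries k) * (X ^ c * f) := by
        change X ^ c * ((a : PowerSeries k) * f) = _
        ring
      rw [this]
      exact A.mul_mem a.2 hf1
    · have : X ^ (c + s) * (a • f) = (a : PowerSeries k) * (X ^ (c + s) * f) := by
        change X ^ (c + s) * ((a : PowerSeries k) * f) = _
        ring
      rw [this]
      exact A.mul_mem a.2 hf2

theorem mem_K {f : PowerSeries k} : f ∈ K A s c ↔ X ^ c * f ∈ A ∧ X ^ (c + s) * f ∈ A := Iff.rfl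

/-- the syzygy inclusion `f ↦ (-X^{c+s} f, X^c f)`. -/
noncomputable def iota : ↥(K A s c) →ₗ[↥A] (↥A × ↥A) where
  toFun f := (-(⟨X ^ (c + s) * (f : PowerSeries k), f.2.2⟩ : ↥A),
    (⟨X ^ c * (f : PowerSeries k), f.2.1⟩ : ↥A))
  map_add' p q := by
    apply Prod.ext
    · apply Subtype.ext
      change -(X ^ (c + s) * ((p : PowerSeries k) + (q : PowerSeries k))) =
        -(X ^ (c + s) * (p : PowerSeries k)) + -(X ^ (c + s) * (q : PowerSeries k))
      ring
    · apply Subtype.ext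
      change X ^ c * ((p : PowerSeries k) + (q : PowerSeries k)) =
        X ^ c * (p : PowerSeries k) + X ^ c * (q : PowerSeries k)
      ring
  map_smul' a p := by
    apply Prod.ext
    · apply Subtype.ext
      change -(X ^ (c + s) * ((a : PowerSeries k) * (p : PowerSeries k))) =
        (a : PowerSeries k) * -(X ^ (c + s) * (p : PowerSeries k))
      ring
    · apply Subtype.ext
      change X ^ c * ((a : PowerSeries k) * (p : PowerSeries k)) =
        (a : PowerSeries k) * (X ^ c * (p : PowerSeries k))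
      ring

theorem iota_fst (f : ↥(K A s c)) :
    (((iota A s c f).1 : ↥A) : PowerSeries k) = -(X ^ (c + s) * (f : PowerSeries k)) := rfl

theorem iota_snd (f : ↥(K A s c)) :
    (((iota A s c f).2 : ↥A) : PowerSeries k) = X ^ c * (f : PowerSeries k) := rfl

/-- the presentation `(a, b) ↦ a + b X^s`. -/
noncomputable def pi' : (↥A × ↥A) →ₗ[↥A] ↥(M A s) :=
  LinearMap.coprod (LinearMap.toSpanSingleton ↥A ↥(M A s) ⟨1, one_mem_M A s⟩)
    (LinearMap.toSpanSingleton ↥A ↥(M A s) ⟨X ^ s, X_pow_mem_M A s⟩)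

theorem pi'_coe (x : ↥A × ↥A) :
    ((pi' A s x : ↥(M A s)) : PowerSeries k) =
      (x.1 : PowerSeries k) + (x.2 : PowerSeries k) * X ^ s := by
  change (x.1 : PowerSeries k) * 1 + (x.2 : PowerSeries k) * X ^ s = _
  rw [mul_one]

theorem iota_injective : Function.Injective (iota A s c) := by
  intro m m' h
  have h2 := congrArg (fun x => ((x.2 : ↥A) : PowerSeries k)) h
  simp only [iota_snd] at h2
  exact Subtype.ext (mul_left_cancel₀ (pow_ne_zero _ X_ne_zero) h2)

theorem pi'_surjective : Function.Surjective (pi' A s) := by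
  rintro ⟨f, hf⟩
  have hf' : f ∈ Submodule.span ↥A {1, (X : PowerSeries k) ^ s} := hf
  obtain ⟨a, b, hab⟩ := Submodule.mem_span_pair.mp hf'
  refine ⟨(a, b), ?_⟩
  apply Subtype.ext
  rw [pi'_coe]
  change _ = f
  rw [← hab]
  change (a : PowerSeries k) + (b : PowerSeries k) * X ^ s =
    (a : PowerSeries k) * 1 + (b : PowerSeries k) * X ^ s
  rw [mul_one]

variable (hdiv : ∀ b : PowerSeries k, b ∈ A → b * X ^ s ∈ A → ∃ f, b = X ^ c * f)

include hdiv in
theorem exact_iota_pi' : Function.Exact (iota A s c) (pi' A s) := by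
  intro x
  constructor
  · intro hx
    have hx' : (x.1 : PowerSeries k) + (x.2 : PowerSeries k) * X ^ s = 0 := by
      rw [← pi'_coe A s x, hx]
      rfl
    have h1 : (x.2 : PowerSeries k) * X ^ s = -(x.1 : PowerSeries k) :=
      eq_neg_of_add_eq_zero_right hx'
    have h2 : (x.2 : PowerSeries k) * X ^ s ∈ A := by
      rw [h1]
      exact A.neg_mem x.1.2
    obtain ⟨f, hf⟩ := hdiv _ x.2.2 h2
    have hfK : f ∈ K A s c := by
      refine ⟨?_, ?_⟩
      · rw [← hf]; exact x.2.2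
      · have : X ^ (c + s) * f = (x.2 : PowerSeries k) * X ^ s := by
          rw [hf, pow_add]; ring
        rw [this]; exact h2
    refine ⟨⟨f, hfK⟩, ?_⟩
    apply Prod.ext
    · apply Subtype.ext
      rw [iota_fst]
      have : (x.1 : PowerSeries k) = -((x.2 : PowerSeries k) * X ^ s) :=
        eq_neg_of_add_eq_zero_left hx'
      rw [this, hf, pow_add]
      change -(X ^ c * X ^ s * f) = -(X ^ c * f * X ^ s)
      ring
    · apply Subtype.ext
      rw [iota_snd]
      exact hf.symm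
  · rintro ⟨m, rfl⟩
    apply Subtype.ext
    rw [pi'_coe, iota_fst, iota_snd, pow_add]
    change _ = (0 : PowerSeries k)
    ring

variable (N : Submodule ↥A (PowerSeries k))

/-- the colon `(N : K)`. -/
def C : Submodule ↥A (PowerSeries k) where
  carrier := {u | ∀ m ∈ K A s c, u * m ∈ N}
  add_mem' := by
    intro a b ha hb m hm
    rw [add_mul]
    exact N.add_mem (ha m hm) (hb m hm)
  zero_mem' := by
    intro m _
    rw [zero_mul]
    exact N.zero_mem
  smul_mem' := by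
    intro a u hu m hm
    have : a • u * m = a • (u * m) := by
      change (a : PowerSeries k) * u * m = (a : PowerSeries k) * (u * m)
      ring
    rw [this]
    exact N.smul_mem a (hu m hm)

theorem mem_C {u : PowerSeries k} : u ∈ C A s c N ↔ ∀ m ∈ K A s c, u * m ∈ N := Iff.rfl

/-- `u ↦ (m ↦ u m)`. -/
noncomputable def Psi : ↥(C A s c N) →ₗ[↥A] (↥(K A s c) →ₗ[↥A] ↥N) :=
  LinearMap.mk₂ ↥A
    (fun u m => ⟨(u : PowerSeries k) * (m : PowerSeries k), u.2 _ m.2⟩)
    (by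
      intro u u' m
      apply Subtype.ext
      change ((u : PowerSeries k) + (u' : PowerSeries k)) * (m : PowerSeries k) =
        (u : PowerSeries k) * (m : PowerSeries k) + (u' : PowerSeries k) * (m : PowerSeries k)
      ring)
    (by
      intro a u m
      apply Subtype.ext
      change ((a : PowerSeries k) * (u : PowerSeries k)) * (m : PowerSeries k) =
        (a : PowerSeries k) * ((u : PowerSeries k) * (m : PowerSeries k))
      ring)
    (by
      intro u m m'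
      apply Subtype.ext
      change (u : PowerSeries k) * ((m : PowerSeries k) + (m' : PowerSeries k)) =
        (u : PowerSeries k) * (m : PowerSeries k) + (u : PowerSeries k) * (m' : PowerSeries k)
      ring)
    (by
      intro a u m
      apply Subtype.ext
      change (u : PowerSeries k) * ((a : PowerSeries k) * (m : PowerSeries k)) =
        (a : PowerSeries k) * ((u : PowerSeries k) * (m : PowerSeries k))
      ring)

theorem Psi_apply (u : ↥(C A s c N)) (m : ↥(K A s c)) :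
    ((Psi A s c N u m : ↥N) : PowerSeries k) = (u : PowerSeries k) * (m : PowerSeries k) := rfl

variable (hd : ∀ f : PowerSeries k, X ^ d * f ∈ A)
  (hc1 : (X : PowerSeries k) ^ c ∈ A) (hc2 : (X : PowerSeries k) ^ (c + s) ∈ A)

include hc1 hc2 in
theorem one_mem_K : (1 : PowerSeries k) ∈ K A s c := by
  refine ⟨?_, ?_⟩
  · rw [mul_one]; exact hc1
  · rw [mul_one]; exact hc2

include hd hc1 hc2 in
theorem Psi_surjective : Function.Surjective (Psi A s c N) := by
  intro φ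
  have hX : (X : PowerSeries k) ^ d ∈ A := by
    have := hd 1
    rwa [mul_one] at this
  have h1K := one_mem_K A s c hc1 hc2
  have key : ∀ m : ↥(K A s c), ((φ m : ↥N) : PowerSeries k) =
      ((φ ⟨1, h1K⟩ : ↥N) : PowerSeries k) * (m : PowerSeries k) := by
    intro m
    have h1 : (⟨X ^ d * (m : PowerSeries k), hd _⟩ : ↥A) •
        (⟨1, h1K⟩ : ↥(K A s c)) = (⟨X ^ d, hX⟩ : ↥A) • m := by
      apply Subtype.ext
      change X ^ d * (m : PowerSeries k) * 1 = X ^ d * (m : PowerSeries k)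
      rw [mul_one]
    have h2 := congrArg (fun z => ((φ z : ↥N) : PowerSeries k)) h1
    simp only [map_smul] at h2
    change X ^ d * (m : PowerSeries k) * ((φ ⟨1, h1K⟩ : ↥N) : PowerSeries k) =
      X ^ d * ((φ m : ↥N) : PowerSeries k) at h2
    have h3 : X ^ d * ((φ m : ↥N) : PowerSeries k) =
        X ^ d * (((φ ⟨1, h1K⟩ : ↥N) : PowerSeries k) * (m : PowerSeries k)) := by
      rw [← h2]; ring
    exact mul_left_cancel₀ (pow_ne_zero _ X_ne_zero) h3
  refine ⟨⟨((φ ⟨1, h1K⟩ : ↥N) : PowerSeries k), fun m hm => ?_⟩, ?_⟩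
  · rw [← key ⟨m, hm⟩]
    exact (φ ⟨m, hm⟩).2
  · apply LinearMap.ext
    intro m
    apply Subtype.ext
    rw [Psi_apply]
    exact (key m).symm

/-- the surjection `(N : K) → Ext¹(M, N)`. -/
noncomputable def Xi : ↥(C A s c N) →ₗ[↥A]
    Ext (ModuleCat.of ↥A ↥(M A s)) (ModuleCat.of ↥A ↥N) 1 :=
  (deltaLin (Λ := ↥A) (K := ↥(K A s c)) (F := ↥A × ↥A) (M := ↥(M A s))
    (iota A s c) (pi' A s)
    (exact_iota_pi' A s c hdiv) ↥N (iota_injective A s c)
    (pi'_surjective A s)) ∘ₗ Psi A s c N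

include hd hc1 hc2 in
theorem Xi_surjective : Function.Surjective (Xi A s c hdiv N) := by
  intro x
  obtain ⟨φ, hφ⟩ := deltaLin_surjective (Λ := ↥A) (K := ↥(K A s c)) (F := ↥A × ↥A)
    (M := ↥(M A s)) (iota A s c) (pi' A s)
    (iota_injective A s c) (pi'_surjective A s)
    (exact_iota_pi' A s c hdiv) ↥N x
  obtain ⟨w, hw⟩ := Psi_surjective A s c d N hd hc1 hc2 φ
  refine ⟨w, ?_⟩
  unfold Xi
  rw [LinearMap.comp_apply, hw, hφ]

include hc1 hc2 in
theorem Xi_eq_zero_iff (u : ↥(C A s c N)) :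
    Xi A s c hdiv N u = 0 ↔
      ∃ ν₁ ∈ N, ∃ ν₂ ∈ N, (u : PowerSeries k) = X ^ c * ν₂ - X ^ (c + s) * ν₁ := by
  have h1K := one_mem_K A s c hc1 hc2
  unfold Xi
  rw [LinearMap.comp_apply, deltaLin_eq_zero_iff]
  constructor
  · rintro ⟨ψ, hψ⟩
    refine ⟨((ψ (1, 0) : ↥N) : PowerSeries k), (ψ (1, 0)).2,
      ((ψ (0, 1) : ↥N) : PowerSeries k), (ψ (0, 1)).2, ?_⟩
    have h1 := congrArg (fun z => ((z : ↥N) : PowerSeries k))
      (LinearMap.congr_fun hψ ⟨1, h1K⟩)
    simp only [LinearMap.comp_apply] at h1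
    rw [Psi_apply] at h1
    change _ = (u : PowerSeries k) * 1 at h1
    rw [mul_one] at h1
    rw [← h1]
    have hdec : iota A s c ⟨1, h1K⟩ =
        (iota A s c ⟨1, h1K⟩).1 • ((1 : ↥A), (0 : ↥A)) +
          (iota A s c ⟨1, h1K⟩).2 • ((0 : ↥A), (1 : ↥A)) := by
      apply Prod.ext
      · simp
      · simp
    rw [hdec, map_add, map_smul, map_smul]
    change (((iota A s c ⟨1, h1K⟩).1 : ↥A) : PowerSeries k) *
        ((ψ (1, 0) : ↥N) : PowerSeries k) +
      (((iota A s c ⟨1, h1K⟩).2 : ↥A) : PowerSeries k) *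
        ((ψ (0, 1) : ↥N) : PowerSeries k) = _
    rw [iota_fst, iota_snd]
    change -(X ^ (c + s) * 1) * _ + X ^ c * 1 * _ = _
    ring
  · rintro ⟨ν₁, hν₁, ν₂, hν₂, hu⟩
    refine ⟨LinearMap.coprod (LinearMap.toSpanSingleton ↥A ↥N ⟨ν₁, hν₁⟩)
      (LinearMap.toSpanSingleton ↥A ↥N ⟨ν₂, hν₂⟩), ?_⟩
    apply LinearMap.ext
    intro m
    apply Subtype.ext
    rw [Psi_apply]
    change (((iota A s c m).1 : ↥A) : PowerSeries k) * ν₁ +
      (((iota A s c m).2 : ↥A) : PowerSeries k) * ν₂ = _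
    rw [iota_fst, iota_snd, hu]
    ring

/-- `(ν₁, ν₂) ↦ X^c ν₂ - X^{c+s} ν₁`. -/
noncomputable def rho : (↥N × ↥N) →ₗ[↥A] PowerSeries k :=
  (LinearMap.mulLeft ↥A (X ^ c)) ∘ₗ N.subtype ∘ₗ (LinearMap.snd ↥A ↥N ↥N) -
    (LinearMap.mulLeft ↥A (X ^ (c + s))) ∘ₗ N.subtype ∘ₗ (LinearMap.fst ↥A ↥N ↥N)

theorem rho_apply (x : ↥N × ↥N) :
    rho A s c N x = X ^ c * (x.2 : PowerSeries k) - X ^ (c + s) * (x.1 : PowerSeries k) :=
  rfl

/-- `R = X^c N + X^{c+s} N`. -/
noncomputable def R : Submodule ↥A (PowerSeries k) := LinearMap.range (rho A s c N)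

theorem mem_R {u : PowerSeries k} : u ∈ R A s c N ↔
    ∃ ν₁ ∈ N, ∃ ν₂ ∈ N, u = X ^ c * ν₂ - X ^ (c + s) * ν₁ := by
  constructor
  · rintro ⟨x, rfl⟩
    exact ⟨x.1, x.1.2, x.2, x.2.2, rfl⟩
  · rintro ⟨ν₁, hν₁, ν₂, hν₂, rfl⟩
    exact ⟨(⟨ν₁, hν₁⟩, ⟨ν₂, hν₂⟩), rfl⟩

theorem R_le_C : R A s c N ≤ C A s c N := by
  intro u hu m hm
  obtain ⟨ν₁, hν₁, ν₂, hν₂, rfl⟩ := (mem_R A s c N).mp hu
  have h1 : (X ^ c * ν₂ - X ^ (c + s) * ν₁) * m =
      (⟨X ^ c * m, hm.1⟩ : ↥A) • ν₂ - (⟨X ^ (c + s) * m, hm.2⟩ : ↥A) • ν₁ := by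
    change _ = X ^ c * m * ν₂ - X ^ (c + s) * m * ν₁
    ring
  rw [h1]
  exact N.sub_mem (N.smul_mem _ hν₂) (N.smul_mem _ hν₁)

include hd hc1 hc2 hdiv in
/-- `ℓ(Ext¹(M, N)) + ℓ(P/(N:K)) = ℓ(P/R)`. -/
theorem length_identity :
    Module.length ↥A (Ext (ModuleCat.of ↥A ↥(M A s)) (ModuleCat.of ↥A ↥N) 1) +
        Module.length ↥A (PowerSeries k ⧸ C A s c N) =
      Module.length ↥A (PowerSeries k ⧸ R A s c N) := by
  let p₂ : ↥(C A s c N) →ₗ[↥A] ↥((C A s c N).map (R A s c N).mkQ) :=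
    LinearMap.codRestrict _ ((R A s c N).mkQ ∘ₗ (C A s c N).subtype)
      (fun u => Submodule.mem_map_of_mem u.2)
  have hp₂ : Function.Surjective p₂ := by
    rintro ⟨z, d, hd, rfl⟩
    exact ⟨⟨d, hd⟩, Subtype.ext rfl⟩
  have hker : ∀ u, Xi A s c hdiv N u = 0 ↔ p₂ u = 0 := by
    intro u
    rw [Xi_eq_zero_iff A s c hdiv N hc1 hc2, ← mem_R]
    constructor
    · intro h
      apply Subtype.ext
      change (R A s c N).mkQ (u : PowerSeries k) = 0
      rwa [← LinearMap.mem_ker, Submodule.ker_mkQ]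
    · intro h
      have := congrArg Subtype.val h
      change (R A s c N).mkQ (u : PowerSeries k) = 0 at this
      rwa [← LinearMap.mem_ker, Submodule.ker_mkQ] at this
  have e1 := length_eq_of_ker_eq (R := ↥A) (X := ↥(C A s c N))
    (Z₁ := Ext (ModuleCat.of ↥A ↥(M A s)) (ModuleCat.of ↥A ↥N) 1)
    (Xi A s c hdiv N) p₂ (Xi_surjective A s c d hdiv N hd hc1 hc2) hp₂ hker
  rw [e1, length_quot_eq (R A s c N) (C A s c N) (R_le_C A s c N)]

/-! ### The monomial layer -/

section Mono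

variable (G EN : Set ℕ) (hA : ∀ f : PowerSeries k, f ∈ A ↔ SuppIn f G)
  (hN : ∀ f : PowerSeries k, f ∈ N ↔ SuppIn f EN)

include hA in
theorem mem_K_iff (f : PowerSeries k) :
    f ∈ K A s c ↔ SuppIn f {q | c + q ∈ G ∧ c + s + q ∈ G} := by
  rw [mem_K, hA, hA]
  constructor
  · rintro ⟨h1, h2⟩ q hq
    refine ⟨h1 (c + q) ?_, h2 (c + s + q) ?_⟩
    · rw [coeff_X_pow_mul', if_pos (Nat.le_add_right c q), Nat.add_sub_cancel_left]
      exact hq
    · rw [coeff_X_pow_mul', if_pos (Nat.le_add_right (c + s) q), Nat.add_sub_cancel_left]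
      exact hq
  · intro h
    exact ⟨suppIn_X_pow_mul c h (fun q hq => hq.1), suppIn_X_pow_mul (c + s) h (fun q hq => hq.2)⟩

include hA hN in
/-- the colon is monomial, with exponent set `EH`. -/
theorem mem_C_iff (EH : Set ℕ)
    (h1 : ∀ e ∈ EH, ∀ q, c + q ∈ G → c + s + q ∈ G → e + q ∈ EN)
    (h2 : ∀ e, e ∉ EH → ∃ q, c + q ∈ G ∧ c + s + q ∈ G ∧ e + q ∉ EN)
    (f : PowerSeries k) : f ∈ C A s c N ↔ SuppIn f EH := by
  constructor
  · intro hf e he
    by_contra hne
    obtain ⟨q, hq1, hq2, hq3⟩ := h2 e hne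
    have hXq : (X : PowerSeries k) ^ q ∈ K A s c := by
      rw [mem_K_iff A s c G hA]
      exact suppIn_X_pow q ⟨hq1, hq2⟩
    have := (hN _).mp (hf _ hXq) (e + q) (by
      rw [coeff_mul_X_pow', if_pos (Nat.le_add_left _ _), Nat.add_sub_cancel]
      exact he)
    exact hq3 this
  · intro hf m hm
    rw [hN]
    refine SuppIn.mul hf ((mem_K_iff A s c G hA m).mp hm) ?_
    intro p hp q hq
    exact h1 p hp q hq.1 hq.2

include hN in
/-- `R` is monomial. -/
theorem mem_R_iff (f : PowerSeries k) :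
    f ∈ R A s c N ↔
      SuppIn f {e | (c ≤ e ∧ e - c ∈ EN) ∨ (c + s ≤ e ∧ e - (c + s) ∈ EN)} := by
  classical
  rw [mem_R]
  constructor
  · rintro ⟨ν₁, hν₁, ν₂, hν₂, rfl⟩
    rw [hN] at hν₁ hν₂
    refine SuppIn.sub (suppIn_X_pow_mul _ hν₂ ?_) (suppIn_X_pow_mul _ hν₁ ?_)
    · intro q hq
      left
      refine ⟨Nat.le_add_right c q, ?_⟩
      rw [Nat.add_sub_cancel_left]; exact hq
    · intro q hq
      right
      refine ⟨Nat.le_add_right (c + s) q, ?_⟩
      rw [Nat.add_sub_cancel_left]; exact hq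
  · intro hf
    obtain ⟨f₀, f₁, hsum, h0, h1⟩ := exists_split f (fun e => c ≤ e ∧ e - c ∈ EN) hf
    obtain ⟨g₀, hg₀, hg₀s⟩ := exists_eq_X_pow_mul c h0 (by
      rintro e ⟨-, he2⟩
      exact he2.1)
    obtain ⟨g₁, hg₁, hg₁s⟩ := exists_eq_X_pow_mul (c + s) h1 (by
      rintro e ⟨he1, he2⟩
      rcases he1 with he1 | he1
      · exact absurd he1 he2
      · exact he1.1)
    have hg₀N : g₀ ∈ N := by
      rw [hN]
      intro q hq
      obtain ⟨-, hq2⟩ := hg₀s q hq
      have := hq2.2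
      rwa [Nat.add_sub_cancel_left] at this
    have hg₁N : g₁ ∈ N := by
      rw [hN]
      intro q hq
      obtain ⟨hq1, hq2⟩ := hg₁s q hq
      rcases hq1 with hq1 | hq1
      · exact absurd hq1 hq2
      · have := hq1.2
        rwa [Nat.add_sub_cancel_left] at this
    refine ⟨-g₁, N.neg_mem hg₁N, g₀, hg₀N, ?_⟩
    rw [hsum, hg₀, hg₁]
    ring

include hA in
/-- `M = A + A X^s` is monomial. -/
theorem mem_M_iff (hG0 : 0 ∈ G) (hGadd : ∀ p ∈ G, ∀ q ∈ G, p + q ∈ G) (f : PowerSeries k) :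
    f ∈ M A s ↔ SuppIn f {e | e ∈ G ∨ (s ≤ e ∧ e - s ∈ G)} := by
  classical
  constructor
  · intro hf
    unfold M at hf
    induction hf using Submodule.span_induction with
    | mem x hx =>
      rcases hx with rfl | rfl
      · exact suppIn_one (Or.inl hG0)
      · refine suppIn_X_pow _ (Or.inr ⟨le_rfl, ?_⟩)
        rw [Nat.sub_self]; exact hG0
    | zero => exact suppIn_zero _
    | add x y _ _ hx hy => exact hx.add hy
    | smul a x _ hx =>
      change SuppIn ((a : PowerSeries k) * x) _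
      refine SuppIn.mul ((hA _).mp a.2) hx ?_
      intro p hp q hq
      rcases hq with hq | ⟨hq1, hq2⟩
      · exact Or.inl (hGadd p hp q hq)
      · refine Or.inr ⟨le_trans hq1 (Nat.le_add_left q p), ?_⟩
        rw [Nat.add_sub_assoc hq1]
        exact hGadd p hp _ hq2
  · intro hf
    obtain ⟨f₁, f₂, hsum, h1, h2⟩ := exists_split f (fun e => e ∈ G) hf
    have hf₁A : f₁ ∈ A := by
      rw [hA]
      exact h1.mono (fun e he => he.2)
    obtain ⟨g, hg, hgs⟩ := exists_eq_X_pow_mul s h2 (by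
      rintro e ⟨he1, he2⟩
      rcases he1 with he1 | he1
      · exact absurd he1 he2
      · exact he1.1)
    have hgA : g ∈ A := by
      rw [hA]
      intro q hq
      obtain ⟨hq1, hq2⟩ := hgs q hq
      rcases hq1 with hq1 | hq1
      · exact absurd hq1 hq2
      · have := hq1.2
        rwa [Nat.add_sub_cancel_left] at this
    rw [hsum]
    refine Submodule.add_mem _ ?_ ?_
    · have : f₁ = (⟨f₁, hf₁A⟩ : ↥A) • (1 : PowerSeries k) := by
        change f₁ = f₁ * 1
        rw [mul_one]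
      rw [this]
      exact Submodule.smul_mem _ _ (Submodule.subset_span (Or.inl rfl))
    · have : f₂ = (⟨g, hgA⟩ : ↥A) • ((X : PowerSeries k) ^ s) := by
        change f₂ = g * X ^ s
        rw [hg, mul_comm]
      rw [this]
      exact Submodule.smul_mem _ _ (Submodule.subset_span (Or.inr rfl))

include hA in
/-- the divisibility hypothesis from exponents. -/
theorem hdiv_of_exponents (hmin : ∀ e ∈ G, e + s ∈ G → c ≤ e) :
    ∀ b : PowerSeries k, b ∈ A → b * X ^ s ∈ A → ∃ f, b = X ^ c * f := by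
  intro b hb hbs
  have hsupp : SuppIn b {e | e ∈ G ∧ e + s ∈ G} := by
    intro e he
    refine ⟨(hA _).mp hb e he, (hA _).mp hbs (e + s) ?_⟩
    rw [coeff_mul_X_pow', if_pos (Nat.le_add_left _ _), Nat.add_sub_cancel]
    exact he
  obtain ⟨g, hg, -⟩ := exists_eq_X_pow_mul c hsupp (fun e he => hmin e he.1 he.2)
  exact ⟨g, hg⟩

end Mono

end Groth.Agent.Lib.helper11.TwoGenExt
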