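import Mathlib
import Groth.Agent.Lib.helper11.TwoGenExt

/-!
# `Ext¹(M, M)` for the two-generated rank one modules over `E₆ = k⟦X³, X⁴⟧` (helper11)
-/

set_option autoImplicit false

namespace Groth.Agent.Lib.helper11.E6Ext

open PowerSeries CategoryTheory Abelian
open Groth.Agent.Lib.helper11.PSMono Groth.Agent.Lib.helper11.TwoGenExt

universe u

/-- the semigroup `⟨3, 4⟩`. -/
def G6 : Set ℕ := {e | e = 0 ∨ e = 3 ∨ e = 4 ∨ 6 ≤ e}

theorem mem_G6 {e : ℕ} : e ∈ G6 ↔ e = 0 ∨ e = 3 ∨ e = 4 ∨ 6 ≤ e := Iff.rfl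

theorem mem_closure_iff (n : ℕ) :
    n ∈ AddSubmonoid.closure ({3, 4} : Set ℕ) ↔ n ∈ G6 := by
  constructor
  · intro hn
    induction hn using AddSubmonoid.closure_induction with
    | mem x hx =>
      rcases hx with rfl | rfl
      · exact Or.inr (Or.inl rfl)
      · exact Or.inr (Or.inr (Or.inl rfl))
    | zero => exact Or.inl rfl
    | add x y _ _ hx hy =>
      rw [mem_G6] at hx hy ⊢
      omega
  · intro hn
    have h3 : (3 : ℕ) ∈ AddSubmonoid.closure ({3, 4} : Set ℕ) :=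
      AddSubmonoid.subset_closure (Set.mem_insert _ _)
    have h4 : (4 : ℕ) ∈ AddSubmonoid.closure ({3, 4} : Set ℕ) :=
      AddSubmonoid.subset_closure (Set.mem_insert_of_mem _ rfl)
    have hbig : ∀ m : ℕ, 6 ≤ m → m ∈ AddSubmonoid.closure ({3, 4} : Set ℕ) := by
      intro m
      induction m using Nat.strong_induction_on with
      | _ m ih =>
        intro hm
        by_cases h9 : 9 ≤ m
        · have := ih (m - 3) (by omega) (by omega)
          have h := AddSubmonoid.add_mem _ this h3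
          rwa [Nat.sub_add_cancel (by omega)] at h
        · have : m = 6 ∨ m = 7 ∨ m = 8 := by omega
          rcases this with rfl | rfl | rfl
          · exact AddSubmonoid.add_mem _ h3 h3
          · exact AddSubmonoid.add_mem _ h3 h4
          · exact AddSubmonoid.add_mem _ h4 h4
    rw [mem_G6] at hn
    rcases hn with rfl | rfl | rfl | h
    · exact AddSubmonoid.zero_mem _
    · exact h3
    · exact h4
    · exact hbig n h

theorem length_eq_sub {l : ℕ∞} {a b : ℕ} (h : l + (a : ℕ∞) = (b : ℕ∞)) :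
    l = ((b - a : ℕ) : ℕ∞) := by
  have hfin : l ≠ ⊤ := by
    intro htop
    rw [htop, top_add] at h
    exact ENat.top_ne_coe _ h
  obtain ⟨n, hn⟩ := ENat.ne_top_iff_exists.mp hfin
  rw [← hn] at h ⊢
  have h' : n + a = b := by exact_mod_cast h
  have : n = b - a := by omega
  rw [this]

variable {k : Type u} [Field k] (A : Subalgebra k (PowerSeries k))
  (hA : ∀ f : PowerSeries k, f ∈ A ↔ SuppIn f G6)

include hA in
theorem hcond (f : PowerSeries k) : X ^ 12 * f ∈ A := by
  rw [hA]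
  intro e he
  rw [coeff_X_pow_mul'] at he
  by_cases h : 12 ≤ e
  · rw [mem_G6]; omega
  · rw [if_neg h] at he
    exact absurd rfl he

include hA in
theorem X_pow_mem {e : ℕ} (he : e ∈ G6) : (X : PowerSeries k) ^ e ∈ A := by
  rw [hA]
  exact suppIn_X_pow e he

include hA in
/-- the general two-generator computation over `E₆`. -/
theorem twoGen_length (s c : ℕ) (hc1 : c ∈ G6) (hc2 : c + s ∈ G6) (hc6 : c ≤ 6)
    (hmin : ∀ e ∈ G6, e + s ∈ G6 → c ≤ e)
    (EN EH : Set ℕ) (hEN : {e | e ∈ G6 ∨ (s ≤ e ∧ e - s ∈ G6)} = EN)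
    (h1 : ∀ e ∈ EH, ∀ q, c + q ∈ G6 → c + s + q ∈ G6 → e + q ∈ EN)
    (h2 : ∀ e, e ∉ EH → ∃ q, c + q ∈ G6 ∧ c + s + q ∈ G6 ∧ e + q ∉ EN)
    (hEH12 : ∀ m, 12 ≤ m → m ∈ EH)
    (FH FR : Finset ℕ) (hFH : EHᶜ = ↑FH)
    (hFR : {e | (c ≤ e ∧ e - c ∈ EN) ∨ (c + s ≤ e ∧ e - (c + s) ∈ EN)}ᶜ = ↑FR) :
    Module.length ↥A (Ext (ModuleCat.of ↥A ↥(M A s)) (ModuleCat.of ↥A ↥(M A s)) 1) =
      ((FR.card - FH.card : ℕ) : ℕ∞) := by
  have hG0 : (0 : ℕ) ∈ G6 := Or.inl rfl
  have hGadd : ∀ p ∈ G6, ∀ q ∈ G6, p + q ∈ G6 := by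
    intro p hp q hq
    rw [mem_G6] at hp hq ⊢
    omega
  have hN : ∀ f : PowerSeries k, f ∈ M A s ↔ SuppIn f EN := by
    intro f
    rw [mem_M_iff A s G6 hA hG0 hGadd, hEN]
  have hEN6 : ∀ m, 6 ≤ m → m ∈ EN := by
    intro m hm
    rw [← hEN]
    exact Or.inl (Or.inr (Or.inr (Or.inr hm)))
  have hdiv := hdiv_of_exponents A s c G6 hA hmin
  have key := length_identity A s c 12 hdiv (M A s) (hcond A hA) (X_pow_mem A hA hc1)
    (X_pow_mem A hA hc2)
  have hC := (colength_monomial A 12 (hcond A hA) (C A s c (M A s)) EH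
    (mem_C_iff A s c (M A s) G6 EN hA hN EH h1 h2) hEH12).2
  have hR := (colength_monomial A 12 (hcond A hA) (R A s c (M A s)) _
    (mem_R_iff A s c (M A s) EN hN) (fun m hm => by
      left
      exact ⟨by omega, hEN6 _ (by omega)⟩)).2
  rw [hC, hR, hFH, hFR, Set.ncard_coe_finset, Set.ncard_coe_finset] at key
  exact length_eq_sub key

include hA in
/-- `M₁ = A + A X⁵`. -/
theorem length_M1 :
    Module.length ↥A (Ext (ModuleCat.of ↥A ↥(M A 5)) (ModuleCat.of ↥A ↥(M A 5)) 1) = 2 := by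
  have := twoGen_length A hA 5 3 (by rw [mem_G6]; omega) (by rw [mem_G6]; omega) (by omega)
    (by intro e he1 he2; rw [mem_G6] at he1 he2; omega)
    {e | e = 0 ∨ 3 ≤ e} {e | 3 ≤ e}
    (by ext e; simp only [Set.mem_setOf_eq, mem_G6]; omega)
    (by intro e he q _ _; simp only [Set.mem_setOf_eq] at he ⊢; omega)
    (by
      intro e he
      simp only [Set.mem_setOf_eq, not_le] at he
      have : e = 0 ∨ e = 1 ∨ e = 2 := by omega
      rcases this with rfl | rfl | rfl
      · refine ⟨1, ?_, ?_, ?_⟩ <;> simp [mem_G6]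
      · refine ⟨0, ?_, ?_, ?_⟩ <;> simp [mem_G6]
      · refine ⟨0, ?_, ?_, ?_⟩ <;> simp [mem_G6])
    (by intro m hm; simp only [Set.mem_setOf_eq]; omega)
    {0, 1, 2} {0, 1, 2, 4, 5}
    (by
      ext e
      simp only [Set.mem_compl_iff, Set.mem_setOf_eq, Finset.coe_insert, Finset.coe_singleton,
        Set.mem_insert_iff, Set.mem_singleton_iff]
      omega)
    (by
      ext e
      simp only [Set.mem_compl_iff, Set.mem_setOf_eq, Finset.coe_insert, Finset.coe_singleton,
        Set.mem_insert_iff, Set.mem_singleton_iff]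
      omega)
  rw [this]
  rfl

include hA in
/-- `M₁* = A + A X`. -/
theorem length_M1' :
    Module.length ↥A (Ext (ModuleCat.of ↥A ↥(M A 1)) (ModuleCat.of ↥A ↥(M A 1)) 1) = 2 := by
  have := twoGen_length A hA 1 3 (by rw [mem_G6]; omega) (by rw [mem_G6]; omega) (by omega)
    (by intro e he1 he2; rw [mem_G6] at he1 he2; omega)
    {e | e ≤ 1 ∨ 3 ≤ e} {e | e ≤ 1 ∨ 3 ≤ e}
    (by ext e; simp only [Set.mem_setOf_eq, mem_G6]; omega)
    (by
      intro e he q hq1 hq2
      simp only [Set.mem_setOf_eq, mem_G6] at he hq1 hq2 ⊢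
      omega)
    (by
      intro e he
      simp only [Set.mem_setOf_eq, not_or, not_le] at he
      have : e = 2 := by omega
      subst this
      refine ⟨0, ?_, ?_, ?_⟩ <;> simp [mem_G6])
    (by intro m hm; simp only [Set.mem_setOf_eq]; omega)
    {2} {0, 1, 2}
    (by
      ext e
      simp only [Set.mem_compl_iff, Set.mem_setOf_eq, Finset.coe_singleton,
        Set.mem_singleton_iff]
      omega)
    (by
      ext e
      simp only [Set.mem_compl_iff, Set.mem_setOf_eq, Finset.coe_insert, Finset.coe_singleton,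
        Set.mem_insert_iff, Set.mem_singleton_iff]
      omega)
  rw [this]
  rfl

include hA in
/-- `M₂ = A + A X²`. -/
theorem length_M2 :
    Module.length ↥A (Ext (ModuleCat.of ↥A ↥(M A 2)) (ModuleCat.of ↥A ↥(M A 2)) 1) = 4 := by
  have := twoGen_length A hA 2 4 (by rw [mem_G6]; omega) (by rw [mem_G6]; omega) (by omega)
    (by intro e he1 he2; rw [mem_G6] at he1 he2; omega)
    {e | e = 0 ∨ 2 ≤ e} {e | e = 0 ∨ 2 ≤ e}
    (by ext e; simp only [Set.mem_setOf_eq, mem_G6]; omega)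
    (by
      intro e he q hq1 hq2
      simp only [Set.mem_setOf_eq, mem_G6] at he hq1 hq2 ⊢
      omega)
    (by
      intro e he
      simp only [Set.mem_setOf_eq, not_or, not_le] at he
      have : e = 1 := by omega
      subst this
      refine ⟨0, ?_, ?_, ?_⟩ <;> simp [mem_G6])
    (by intro m hm; simp only [Set.mem_setOf_eq]; omega)
    {1} {0, 1, 2, 3, 5}
    (by
      ext e
      simp only [Set.mem_compl_iff, Set.mem_setOf_eq, Finset.coe_singleton,
        Set.mem_singleton_iff]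
      omega)
    (by
      ext e
      simp only [Set.mem_compl_iff, Set.mem_setOf_eq, Finset.coe_insert, Finset.coe_singleton,
        Set.mem_insert_iff, Set.mem_singleton_iff]
      omega)
  rw [this]
  rfl

end Groth.Agent.Lib.helper11.E6Ext
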