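import Mathlib
import Groth.Agent.Lib.helper11.E6Ext

/-!
# `Ext¹(B, B)` for `B = k⟦X⟧` over `E₆ = k⟦X³, X⁴⟧` (helper11)

Presentation `0 → K → A³ → B → 0`, `K ≅ {(p,q) | X⁴p, X³q, X³p - X⁴q ∈ A}`,
`Hom(K, B) ≅ B²`, `Ext¹(B,B) ≅ B²/X³B²`.
-/

set_option autoImplicit false

namespace Groth.Agent.Lib.helper11.E6B

open PowerSeries CategoryTheory Abelian
open Groth.Agent.Lib.helper11.PSMono Groth.Agent.Lib.helper11.ExtShift
  Groth.Agent.Lib.helper11.RnExt3 Groth.Agent.Lib.helper11.E6Ext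

universe u

variable {k : Type u} [Field k] (A : Subalgebra k (PowerSeries k))
  (hA : ∀ f : PowerSeries k, f ∈ A ↔ SuppIn f G6)

/-- `B = A + A X + A X²`. -/
noncomputable def MB : Submodule ↥A (PowerSeries k) :=
  Submodule.span ↥A {1, (X : PowerSeries k), (X : PowerSeries k) ^ 2}

theorem one_mem_MB : (1 : PowerSeries k) ∈ MB A := Submodule.subset_span (Or.inl rfl)

theorem X_mem_MB : (X : PowerSeries k) ∈ MB A := Submodule.subset_span (Or.inr (Or.inl rfl))

theorem X_sq_mem_MB : (X : PowerSeries k) ^ 2 ∈ MB A :=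
  Submodule.subset_span (Or.inr (Or.inr rfl))

include hA in
theorem mem_MB (f : PowerSeries k) : f ∈ MB A := by
  classical
  have hf : SuppIn f Set.univ := fun e _ => Set.mem_univ e
  obtain ⟨f₁, f', hsum, h1, h2⟩ := exists_split f (fun e => e ∈ G6) hf
  obtain ⟨f₂, f₃, hsum', h3, h4⟩ := exists_split f' (fun e => e = 1 ∨ e = 5) h2
  have hf₁A : f₁ ∈ A := by
    rw [hA]
    exact h1.mono (fun e he => he.2)
  obtain ⟨g₂, hg₂, hg₂s⟩ := exists_eq_X_pow_mul 1 h3 (by
    rintro e ⟨-, he2⟩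
    omega)
  have hg₂A : g₂ ∈ A := by
    rw [hA]
    intro q hq
    obtain ⟨-, hq2⟩ := hg₂s q hq
    rw [mem_G6]
    omega
  obtain ⟨g₃, hg₃, hg₃s⟩ := exists_eq_X_pow_mul 2 h4 (by
    rintro e ⟨⟨-, he1⟩, he2⟩
    have h1' : ¬ (e = 0 ∨ e = 3 ∨ e = 4 ∨ 6 ≤ e) := he1
    omega)
  have hg₃A : g₃ ∈ A := by
    rw [hA]
    intro q hq
    obtain ⟨⟨-, hq1⟩, hq2⟩ := hg₃s q hq
    have h1' : ¬ (2 + q = 0 ∨ 2 + q = 3 ∨ 2 + q = 4 ∨ 6 ≤ 2 + q) := hq1
    rw [mem_G6]
    omega
  rw [hsum, hsum']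
  refine Submodule.add_mem _ ?_ (Submodule.add_mem _ ?_ ?_)
  · have : f₁ = (⟨f₁, hf₁A⟩ : ↥A) • (1 : PowerSeries k) := by
      change f₁ = f₁ * 1
      rw [mul_one]
    rw [this]
    exact Submodule.smul_mem _ _ (one_mem_MB A)
  · have : f₂ = (⟨g₂, hg₂A⟩ : ↥A) • (X : PowerSeries k) := by
      change f₂ = g₂ * X
      rw [hg₂, pow_one, mul_comm]
    rw [this]
    exact Submodule.smul_mem _ _ (X_mem_MB A)
  · have : f₃ = (⟨g₃, hg₃A⟩ : ↥A) • ((X : PowerSeries k) ^ 2) := by
      change f₃ = g₃ * X ^ 2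
      rw [hg₃, mul_comm]
    rw [this]
    exact Submodule.smul_mem _ _ (X_sq_mem_MB A)

/-- the syzygy module. -/
def K : Submodule ↥A (PowerSeries k × PowerSeries k) where
  carrier := {x | X ^ 4 * x.1 ∈ A ∧ X ^ 3 * x.2 ∈ A ∧ X ^ 3 * x.1 - X ^ 4 * x.2 ∈ A}
  add_mem' := by
    rintro a b ⟨ha1, ha2, ha3⟩ ⟨hb1, hb2, hb3⟩
    refine ⟨?_, ?_, ?_⟩
    · change X ^ 4 * (a.1 + b.1) ∈ A
      rw [mul_add]; exact A.add_mem ha1 hb1
    · change X ^ 3 * (a.2 + b.2) ∈ A
      rw [mul_add]; exact A.add_mem ha2 hb2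
    · change X ^ 3 * (a.1 + b.1) - X ^ 4 * (a.2 + b.2) ∈ A
      have : X ^ 3 * (a.1 + b.1) - X ^ 4 * (a.2 + b.2) =
          (X ^ 3 * a.1 - X ^ 4 * a.2) + (X ^ 3 * b.1 - X ^ 4 * b.2) := by ring
      rw [this]; exact A.add_mem ha3 hb3
  zero_mem' := by
    refine ⟨?_, ?_, ?_⟩
    · change X ^ 4 * (0 : PowerSeries k) ∈ A
      rw [mul_zero]; exact A.zero_mem
    · change X ^ 3 * (0 : PowerSeries k) ∈ A
      rw [mul_zero]; exact A.zero_mem
    · change X ^ 3 * (0 : PowerSeries k) - X ^ 4 * (0 : PowerSeries k) ∈ A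
      rw [mul_zero, mul_zero, sub_zero]; exact A.zero_mem
  smul_mem' := by
    rintro a x ⟨hx1, hx2, hx3⟩
    refine ⟨?_, ?_, ?_⟩
    · change X ^ 4 * ((a : PowerSeries k) * x.1) ∈ A
      have : X ^ 4 * ((a : PowerSeries k) * x.1) = (a : PowerSeries k) * (X ^ 4 * x.1) := by ring
      rw [this]; exact A.mul_mem a.2 hx1
    · change X ^ 3 * ((a : PowerSeries k) * x.2) ∈ A
      have : X ^ 3 * ((a : PowerSeries k) * x.2) = (a : PowerSeries k) * (X ^ 3 * x.2) := by ring
      rw [this]; exact A.mul_mem a.2 hx2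
    · change X ^ 3 * ((a : PowerSeries k) * x.1) - X ^ 4 * ((a : PowerSeries k) * x.2) ∈ A
      have : X ^ 3 * ((a : PowerSeries k) * x.1) - X ^ 4 * ((a : PowerSeries k) * x.2) =
          (a : PowerSeries k) * (X ^ 3 * x.1 - X ^ 4 * x.2) := by ring
      rw [this]; exact A.mul_mem a.2 hx3

/-- the syzygy inclusion `(p,q) ↦ (-X⁴p, X³p - X⁴q, X³q)`. -/
noncomputable def iota : ↥(K A) →ₗ[↥A] (↥A × ↥A × ↥A) where
  toFun x := (-(⟨X ^ 4 * (x : PowerSeries k × PowerSeries k).1, x.2.1⟩ : ↥A),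
    (⟨X ^ 3 * (x : PowerSeries k × PowerSeries k).1 -
      X ^ 4 * (x : PowerSeries k × PowerSeries k).2, x.2.2.2⟩ : ↥A),
    (⟨X ^ 3 * (x : PowerSeries k × PowerSeries k).2, x.2.2.1⟩ : ↥A))
  map_add' p q := by
    refine Prod.ext ?_ (Prod.ext ?_ ?_)
    · apply Subtype.ext
      change -(X ^ 4 * ((p : PowerSeries k × PowerSeries k).1 +
        (q : PowerSeries k × PowerSeries k).1)) = -(X ^ 4 * _) + -(X ^ 4 * _)
      ring
    · apply Subtype.ext
      change X ^ 3 * ((p : PowerSeries k × PowerSeries k).1 +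
          (q : PowerSeries k × PowerSeries k).1) -
        X ^ 4 * ((p : PowerSeries k × PowerSeries k).2 +
          (q : PowerSeries k × PowerSeries k).2) =
        (X ^ 3 * (p : PowerSeries k × PowerSeries k).1 -
          X ^ 4 * (p : PowerSeries k × PowerSeries k).2) +
        (X ^ 3 * (q : PowerSeries k × PowerSeries k).1 -
          X ^ 4 * (q : PowerSeries k × PowerSeries k).2)
      ring
    · apply Subtype.ext
      change X ^ 3 * ((p : PowerSeries k × PowerSeries k).2 +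
        (q : PowerSeries k × PowerSeries k).2) = X ^ 3 * _ + X ^ 3 * _
      ring
  map_smul' a p := by
    refine Prod.ext ?_ (Prod.ext ?_ ?_)
    · apply Subtype.ext
      change -(X ^ 4 * ((a : PowerSeries k) * (p : PowerSeries k × PowerSeries k).1)) =
        (a : PowerSeries k) * -(X ^ 4 * (p : PowerSeries k × PowerSeries k).1)
      ring
    · apply Subtype.ext
      change X ^ 3 * ((a : PowerSeries k) * (p : PowerSeries k × PowerSeries k).1) -
          X ^ 4 * ((a : PowerSeries k) * (p : PowerSeries k × PowerSeries k).2) =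
        (a : PowerSeries k) * (X ^ 3 * (p : PowerSeries k × PowerSeries k).1 -
          X ^ 4 * (p : PowerSeries k × PowerSeries k).2)
      ring
    · apply Subtype.ext
      change X ^ 3 * ((a : PowerSeries k) * (p : PowerSeries k × PowerSeries k).2) =
        (a : PowerSeries k) * (X ^ 3 * (p : PowerSeries k × PowerSeries k).2)
      ring

theorem iota_1 (x : ↥(K A)) :
    (((iota A x).1 : ↥A) : PowerSeries k) =
      -(X ^ 4 * (x : PowerSeries k × PowerSeries k).1) := rfl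

theorem iota_2 (x : ↥(K A)) :
    (((iota A x).2.1 : ↥A) : PowerSeries k) =
      X ^ 3 * (x : PowerSeries k × PowerSeries k).1 -
        X ^ 4 * (x : PowerSeries k × PowerSeries k).2 := rfl

theorem iota_3 (x : ↥(K A)) :
    (((iota A x).2.2 : ↥A) : PowerSeries k) =
      X ^ 3 * (x : PowerSeries k × PowerSeries k).2 := rfl

/-- the presentation `(a, b, c) ↦ a + b X + c X²`. -/
noncomputable def pi' : (↥A × ↥A × ↥A) →ₗ[↥A] ↥(MB A) :=
  LinearMap.coprod (LinearMap.toSpanSingleton ↥A ↥(MB A) ⟨1, one_mem_MB A⟩)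
    (LinearMap.coprod (LinearMap.toSpanSingleton ↥A ↥(MB A) ⟨X, X_mem_MB A⟩)
      (LinearMap.toSpanSingleton ↥A ↥(MB A) ⟨X ^ 2, X_sq_mem_MB A⟩))

theorem pi'_coe (x : ↥A × ↥A × ↥A) :
    ((pi' A x : ↥(MB A)) : PowerSeries k) =
      (x.1 : PowerSeries k) + ((x.2.1 : PowerSeries k) * X + (x.2.2 : PowerSeries k) * X ^ 2) := by
  change (x.1 : PowerSeries k) * 1 + ((x.2.1 : PowerSeries k) * X +
    (x.2.2 : PowerSeries k) * X ^ 2) = _
  rw [mul_one]

theorem iota_injective : Function.Injective (iota A) := by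
  intro m m' h
  have h1 := congrArg (fun x => ((x.1 : ↥A) : PowerSeries k)) h
  have h3 := congrArg (fun x => ((x.2.2 : ↥A) : PowerSeries k)) h
  simp only [iota_1, iota_3, neg_inj] at h1 h3
  apply Subtype.ext
  exact Prod.ext (mul_left_cancel₀ (pow_ne_zero _ X_ne_zero) h1)
    (mul_left_cancel₀ (pow_ne_zero _ X_ne_zero) h3)

theorem pi'_surjective : Function.Surjective (pi' A) := by
  rintro ⟨f, hf⟩
  have hf' : f ∈ Submodule.span ↥A {1, (X : PowerSeries k), (X : PowerSeries k) ^ 2} := hf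
  rw [Submodule.mem_span_insert] at hf'
  obtain ⟨a, z, hz, rfl⟩ := hf'
  obtain ⟨b, c, rfl⟩ := Submodule.mem_span_pair.mp hz
  refine ⟨(a, b, c), ?_⟩
  apply Subtype.ext
  rw [pi'_coe]
  change (a : PowerSeries k) + ((b : PowerSeries k) * X + (c : PowerSeries k) * X ^ 2) =
    (a : PowerSeries k) * 1 + ((b : PowerSeries k) * X + (c : PowerSeries k) * X ^ 2)
  rw [mul_one]

include hA in
theorem exact_iota_pi' : Function.Exact (iota A) (pi' A) := by
  intro x
  constructor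
  · intro hx
    have hx' : (x.1 : PowerSeries k) + ((x.2.1 : PowerSeries k) * X +
        (x.2.2 : PowerSeries k) * X ^ 2) = 0 := by
      rw [← pi'_coe A x, hx]
      rfl
    have ha := (hA _).mp x.1.2
    have hb := (hA _).mp x.2.1.2
    have hc := (hA _).mp x.2.2.2
    -- vanishing of coefficients outside the semigroup
    have hnot : ∀ {g : PowerSeries k}, SuppIn g G6 → ∀ e, e ∉ G6 → coeff e g = 0 := by
      intro g hg e he
      by_contra hne
      exact he (hg e hne)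
    have n1 : (1 : ℕ) ∉ G6 := by rw [mem_G6]; omega
    have n2 : (2 : ℕ) ∉ G6 := by rw [mem_G6]; omega
    have hcoef : ∀ n : ℕ, coeff n (x.1 : PowerSeries k) +
        (coeff n ((x.2.1 : PowerSeries k) * X) +
          coeff n ((x.2.2 : PowerSeries k) * X ^ 2)) = 0 := by
      intro n
      rw [← map_add, ← map_add, hx', map_zero]
    have ha0 : coeff 0 (x.1 : PowerSeries k) = 0 := by
      have := hcoef 0
      rw [coeff_zero_mul_X, coeff_mul_X_pow', if_neg (by omega), add_zero, add_zero] at this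
      exact this
    have hc0 : coeff 0 (x.2.2 : PowerSeries k) = 0 := by
      have := hcoef 2
      rw [show (2 : ℕ) = 1 + 1 from rfl, coeff_succ_mul_X, coeff_mul_X_pow',
        if_pos (by omega)] at this
      rw [hnot ha 2 n2, hnot hb 1 n1, zero_add, zero_add] at this
      exact this
    have ha3 : coeff 3 (x.1 : PowerSeries k) = 0 := by
      have := hcoef 3
      rw [show (3 : ℕ) = 2 + 1 from rfl, coeff_succ_mul_X, coeff_mul_X_pow',
        if_pos (by omega)] at this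
      rw [hnot hb 2 n2, show 2 + 1 - 2 = 1 from rfl, hnot hc 1 n1, add_zero, add_zero] at this
      exact this
    have hcs : SuppIn (x.2.2 : PowerSeries k) {e | e ∈ G6 ∧ e ≠ 0} := by
      intro e he
      refine ⟨hc e he, ?_⟩
      rintro rfl
      exact he hc0
    have has : SuppIn (x.1 : PowerSeries k) {e | e ∈ G6 ∧ e ≠ 0 ∧ e ≠ 3} := by
      intro e he
      refine ⟨ha e he, ?_, ?_⟩
      · rintro rfl
        exact he ha0
      · rintro rfl
        exact he ha3
    obtain ⟨q, hq, -⟩ := exists_eq_X_pow_mul 3 hcs (by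
      rintro e ⟨he1, he2⟩
      rw [mem_G6] at he1
      omega)
    obtain ⟨p', hp', -⟩ := exists_eq_X_pow_mul 4 has (by
      rintro e ⟨he1, he2, he3⟩
      rw [mem_G6] at he1
      omega)
    have hbX : (x.2.1 : PowerSeries k) * X = (X ^ 3 * (-p') - X ^ 4 * q) * X := by
      have h1 : (x.2.1 : PowerSeries k) * X =
          -(x.1 : PowerSeries k) - (x.2.2 : PowerSeries k) * X ^ 2 := by
        have := hx'
        linear_combination this
      rw [h1, hp', hq]
      ring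
    have hb' : (x.2.1 : PowerSeries k) = X ^ 3 * (-p') - X ^ 4 * q :=
      mul_right_cancel₀ X_ne_zero hbX
    have hK : ((-p', q) : PowerSeries k × PowerSeries k) ∈ K A := by
      refine ⟨?_, ?_, ?_⟩
      · change X ^ 4 * (-p') ∈ A
        have : X ^ 4 * (-p') = -(x.1 : PowerSeries k) := by rw [hp']; ring
        rw [this]; exact A.neg_mem x.1.2
      · change X ^ 3 * q ∈ A
        rw [← hq]; exact x.2.2.2
      · change X ^ 3 * (-p') - X ^ 4 * q ∈ A
        rw [← hb']; exact x.2.1.2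
    refine ⟨⟨(-p', q), hK⟩, ?_⟩
    refine Prod.ext ?_ (Prod.ext ?_ ?_)
    · apply Subtype.ext
      rw [iota_1]
      change -(X ^ 4 * (-p')) = (x.1 : PowerSeries k)
      rw [hp']; ring
    · apply Subtype.ext
      rw [iota_2]
      exact hb'.symm
    · apply Subtype.ext
      rw [iota_3]
      exact hq.symm
  · rintro ⟨m, rfl⟩
    apply Subtype.ext
    rw [pi'_coe, iota_1, iota_2, iota_3]
    change _ = (0 : PowerSeries k)
    ring

/-- `(u, v) ↦ ((p, q) ↦ u p + v q)`. -/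
noncomputable def Psi : (PowerSeries k × PowerSeries k) →ₗ[↥A] (↥(K A) →ₗ[↥A] ↥(MB A)) :=
  LinearMap.mk₂ ↥A
    (fun u x => ⟨u.1 * (x : PowerSeries k × PowerSeries k).1 +
      u.2 * (x : PowerSeries k × PowerSeries k).2, mem_MB A hA _⟩)
    (by
      intro u u' m
      apply Subtype.ext
      change (u.1 + u'.1) * (m : PowerSeries k × PowerSeries k).1 +
          (u.2 + u'.2) * (m : PowerSeries k × PowerSeries k).2 =
        (u.1 * (m : PowerSeries k × PowerSeries k).1 +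
          u.2 * (m : PowerSeries k × PowerSeries k).2) +
        (u'.1 * (m : PowerSeries k × PowerSeries k).1 +
          u'.2 * (m : PowerSeries k × PowerSeries k).2)
      ring)
    (by
      intro a u m
      apply Subtype.ext
      change ((a : PowerSeries k) * u.1) * (m : PowerSeries k × PowerSeries k).1 +
          ((a : PowerSeries k) * u.2) * (m : PowerSeries k × PowerSeries k).2 =
        (a : PowerSeries k) * (u.1 * (m : PowerSeries k × PowerSeries k).1 +
          u.2 * (m : PowerSeries k × PowerSeries k).2)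
      ring)
    (by
      intro u m m'
      apply Subtype.ext
      change u.1 * ((m : PowerSeries k × PowerSeries k).1 +
            (m' : PowerSeries k × PowerSeries k).1) +
          u.2 * ((m : PowerSeries k × PowerSeries k).2 +
            (m' : PowerSeries k × PowerSeries k).2) =
        (u.1 * (m : PowerSeries k × PowerSeries k).1 +
          u.2 * (m : PowerSeries k × PowerSeries k).2) +
        (u.1 * (m' : PowerSeries k × PowerSeries k).1 +
          u.2 * (m' : PowerSeries k × PowerSeries k).2)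
      ring)
    (by
      intro a u m
      apply Subtype.ext
      change u.1 * ((a : PowerSeries k) * (m : PowerSeries k × PowerSeries k).1) +
          u.2 * ((a : PowerSeries k) * (m : PowerSeries k × PowerSeries k).2) =
        (a : PowerSeries k) * (u.1 * (m : PowerSeries k × PowerSeries k).1 +
          u.2 * (m : PowerSeries k × PowerSeries k).2)
      ring)

theorem Psi_apply (u : PowerSeries k × PowerSeries k) (m : ↥(K A)) :
    ((Psi A hA u m : ↥(MB A)) : PowerSeries k) =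
      u.1 * (m : PowerSeries k × PowerSeries k).1 +
        u.2 * (m : PowerSeries k × PowerSeries k).2 := rfl

include hA in
theorem e1_mem : ((1, 0) : PowerSeries k × PowerSeries k) ∈ K A := by
  refine ⟨?_, ?_, ?_⟩
  · change X ^ 4 * (1 : PowerSeries k) ∈ A
    rw [mul_one]; exact X_pow_mem A hA (by rw [mem_G6]; omega)
  · change X ^ 3 * (0 : PowerSeries k) ∈ A
    rw [mul_zero]; exact A.zero_mem
  · change X ^ 3 * (1 : PowerSeries k) - X ^ 4 * (0 : PowerSeries k) ∈ A
    rw [mul_one, mul_zero, sub_zero]; exact X_pow_mem A hA (by rw [mem_G6]; omega)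

include hA in
theorem e2_mem : ((0, 1) : PowerSeries k × PowerSeries k) ∈ K A := by
  refine ⟨?_, ?_, ?_⟩
  · change X ^ 4 * (0 : PowerSeries k) ∈ A
    rw [mul_zero]; exact A.zero_mem
  · change X ^ 3 * (1 : PowerSeries k) ∈ A
    rw [mul_one]; exact X_pow_mem A hA (by rw [mem_G6]; omega)
  · change X ^ 3 * (0 : PowerSeries k) - X ^ 4 * (1 : PowerSeries k) ∈ A
    rw [mul_zero, mul_one, zero_sub]
    exact A.neg_mem (X_pow_mem A hA (by rw [mem_G6]; omega))

theorem Psi_surjective : Function.Surjective (Psi A hA) := by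
  intro φ
  have hX : (X : PowerSeries k) ^ 12 ∈ A := by
    have := hcond A hA 1
    rwa [mul_one] at this
  have key : ∀ m : ↥(K A), ((φ m : ↥(MB A)) : PowerSeries k) =
      ((φ ⟨(1, 0), e1_mem A hA⟩ : ↥(MB A)) : PowerSeries k) *
          (m : PowerSeries k × PowerSeries k).1 +
        ((φ ⟨(0, 1), e2_mem A hA⟩ : ↥(MB A)) : PowerSeries k) *
          (m : PowerSeries k × PowerSeries k).2 := by
    intro m
    have h1 : (⟨X ^ 12 * (m : PowerSeries k × PowerSeries k).1, hcond A hA _⟩ : ↥A) •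
          (⟨(1, 0), e1_mem A hA⟩ : ↥(K A)) +
        (⟨X ^ 12 * (m : PowerSeries k × PowerSeries k).2, hcond A hA _⟩ : ↥A) •
          (⟨(0, 1), e2_mem A hA⟩ : ↥(K A)) = (⟨X ^ 12, hX⟩ : ↥A) • m := by
      apply Subtype.ext
      refine Prod.ext ?_ ?_
      · change X ^ 12 * (m : PowerSeries k × PowerSeries k).1 * 1 +
          X ^ 12 * (m : PowerSeries k × PowerSeries k).2 * 0 =
          X ^ 12 * (m : PowerSeries k × PowerSeries k).1
        ring
      · change X ^ 12 * (m : PowerSeries k × PowerSeries k).1 * 0 +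
          X ^ 12 * (m : PowerSeries k × PowerSeries k).2 * 1 =
          X ^ 12 * (m : PowerSeries k × PowerSeries k).2
        ring
    have h2 := congrArg (fun z => ((φ z : ↥(MB A)) : PowerSeries k)) h1
    simp only [map_add, map_smul] at h2
    change X ^ 12 * (m : PowerSeries k × PowerSeries k).1 *
          ((φ ⟨(1, 0), e1_mem A hA⟩ : ↥(MB A)) : PowerSeries k) +
        X ^ 12 * (m : PowerSeries k × PowerSeries k).2 *
          ((φ ⟨(0, 1), e2_mem A hA⟩ : ↥(MB A)) : PowerSeries k) =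
      X ^ 12 * ((φ m : ↥(MB A)) : PowerSeries k) at h2
    have h3 : X ^ 12 * ((φ m : ↥(MB A)) : PowerSeries k) =
        X ^ 12 * (((φ ⟨(1, 0), e1_mem A hA⟩ : ↥(MB A)) : PowerSeries k) *
            (m : PowerSeries k × PowerSeries k).1 +
          ((φ ⟨(0, 1), e2_mem A hA⟩ : ↥(MB A)) : PowerSeries k) *
            (m : PowerSeries k × PowerSeries k).2) := by
      rw [← h2]; ring
    exact mul_left_cancel₀ (pow_ne_zero _ X_ne_zero) h3
  refine ⟨(((φ ⟨(1, 0), e1_mem A hA⟩ : ↥(MB A)) : PowerSeries k),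
    ((φ ⟨(0, 1), e2_mem A hA⟩ : ↥(MB A)) : PowerSeries k)), ?_⟩
  apply LinearMap.ext
  intro m
  apply Subtype.ext
  rw [Psi_apply]
  exact (key m).symm

/-- the surjection `B² → Ext¹(B, B)`. -/
noncomputable def Xi : (PowerSeries k × PowerSeries k) →ₗ[↥A]
    Ext (ModuleCat.of ↥A ↥(MB A)) (ModuleCat.of ↥A ↥(MB A)) 1 :=
  (deltaLin (Λ := ↥A) (K := ↥(K A)) (F := ↥A × ↥A × ↥A) (M := ↥(MB A))
    (iota A) (pi' A)
    (exact_iota_pi' A hA) ↥(MB A) (iota_injective A)
    (pi'_surjective A)) ∘ₗ Psi A hA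

theorem Xi_surjective : Function.Surjective (Xi A hA) := by
  intro x
  obtain ⟨φ, hφ⟩ := deltaLin_surjective (Λ := ↥A) (K := ↥(K A)) (F := ↥A × ↥A × ↥A)
    (M := ↥(MB A)) (iota A) (pi' A)
    (iota_injective A) (pi'_surjective A)
    (exact_iota_pi' A hA) ↥(MB A) x
  obtain ⟨w, hw⟩ := Psi_surjective A hA φ
  refine ⟨w, ?_⟩
  unfold Xi
  rw [LinearMap.comp_apply, hw, hφ]

theorem Xi_eq_zero_iff (u : PowerSeries k × PowerSeries k) :
    Xi A hA u = 0 ↔ (∃ g, u.1 = X ^ 3 * g) ∧ (∃ g, u.2 = X ^ 3 * g) := by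
  unfold Xi
  rw [LinearMap.comp_apply, deltaLin_eq_zero_iff]
  constructor
  · rintro ⟨ψ, hψ⟩
    have hdec : ∀ y : ↥A × ↥A × ↥A, ((ψ y : ↥(MB A)) : PowerSeries k) =
        (y.1 : PowerSeries k) * ((ψ (1, 0, 0) : ↥(MB A)) : PowerSeries k) +
          ((y.2.1 : PowerSeries k) * ((ψ (0, 1, 0) : ↥(MB A)) : PowerSeries k) +
            (y.2.2 : PowerSeries k) * ((ψ (0, 0, 1) : ↥(MB A)) : PowerSeries k)) := by
      intro y
      have hy : y = y.1 • ((1 : ↥A), (0 : ↥A), (0 : ↥A)) +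
          (y.2.1 • ((0 : ↥A), (1 : ↥A), (0 : ↥A)) +
            y.2.2 • ((0 : ↥A), (0 : ↥A), (1 : ↥A))) := by
        refine Prod.ext ?_ (Prod.ext ?_ ?_) <;> simp
      conv_lhs => rw [hy]
      rw [map_add, map_add, map_smul, map_smul, map_smul]
      rfl
    have h1 := congrArg (fun z => ((z : ↥(MB A)) : PowerSeries k))
      (LinearMap.congr_fun hψ ⟨(1, 0), e1_mem A hA⟩)
    have h2 := congrArg (fun z => ((z : ↥(MB A)) : PowerSeries k))
      (LinearMap.congr_fun hψ ⟨(0, 1), e2_mem A hA⟩)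
    simp only [LinearMap.comp_apply] at h1 h2
    rw [Psi_apply, hdec, iota_1, iota_2, iota_3] at h1 h2
    change -(X ^ 4 * 1) * _ + ((X ^ 3 * 1 - X ^ 4 * 0) * _ + X ^ 3 * 0 * _) =
      u.1 * 1 + u.2 * 0 at h1
    change -(X ^ 4 * 0) * _ + ((X ^ 3 * 0 - X ^ 4 * 1) * _ + X ^ 3 * 1 * _) =
      u.1 * 0 + u.2 * 1 at h2
    refine ⟨⟨((ψ (0, 1, 0) : ↥(MB A)) : PowerSeries k) -
        X * ((ψ (1, 0, 0) : ↥(MB A)) : PowerSeries k), ?_⟩,
      ⟨((ψ (0, 0, 1) : ↥(MB A)) : PowerSeries k) -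
        X * ((ψ (0, 1, 0) : ↥(MB A)) : PowerSeries k), ?_⟩⟩
    · linear_combination (-1 : PowerSeries k) * h1
    · linear_combination (-1 : PowerSeries k) * h2
  · rintro ⟨⟨g₁, hg₁⟩, ⟨g₂, hg₂⟩⟩
    refine ⟨LinearMap.coprod (LinearMap.toSpanSingleton ↥A ↥(MB A) 0)
      (LinearMap.coprod (LinearMap.toSpanSingleton ↥A ↥(MB A) ⟨g₁, mem_MB A hA _⟩)
        (LinearMap.toSpanSingleton ↥A ↥(MB A) ⟨g₂ + X * g₁, mem_MB A hA _⟩)), ?_⟩
    apply LinearMap.ext
    intro m
    apply Subtype.ext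
    rw [Psi_apply]
    change (((iota A m).1 : ↥A) : PowerSeries k) * 0 +
      ((((iota A m).2.1 : ↥A) : PowerSeries k) * g₁ +
        (((iota A m).2.2 : ↥A) : PowerSeries k) * (g₂ + X * g₁)) = _
    rw [iota_2, iota_3, hg₁, hg₂]
    ring

/-- `S = X³ B`. -/
def S : Submodule ↥A (PowerSeries k) where
  carrier := {f | ∃ g, f = X ^ 3 * g}
  add_mem' := by
    rintro a b ⟨g, rfl⟩ ⟨h, rfl⟩
    exact ⟨g + h, by ring⟩
  zero_mem' := ⟨0, by ring⟩
  smul_mem' := by
    rintro a f ⟨g, rfl⟩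
    refine ⟨(a : PowerSeries k) * g, ?_⟩
    change (a : PowerSeries k) * (X ^ 3 * g) = _
    ring

theorem mem_S_iff (f : PowerSeries k) : f ∈ S A ↔ SuppIn f {e | 3 ≤ e} := by
  constructor
  · rintro ⟨g, rfl⟩
    refine suppIn_X_pow_mul 3 (fun e _ => Set.mem_univ e) ?_
    intro q _
    change 3 ≤ 3 + q
    omega
  · intro hf
    obtain ⟨g, hg, -⟩ := exists_eq_X_pow_mul 3 hf (fun e he => he)
    exact ⟨g, hg⟩

include hA in
theorem length_B :
    Module.length ↥A (Ext (ModuleCat.of ↥A ↥(MB A)) (ModuleCat.of ↥A ↥(MB A)) 1) = 6 := by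
  let p₂ : (PowerSeries k × PowerSeries k) →ₗ[↥A]
      ((PowerSeries k ⧸ S A) × (PowerSeries k ⧸ S A)) :=
    LinearMap.prodMap (S A).mkQ (S A).mkQ
  have hp₂ : Function.Surjective p₂ := by
    rintro ⟨a, b⟩
    obtain ⟨a', rfl⟩ := Submodule.mkQ_surjective _ a
    obtain ⟨b', rfl⟩ := Submodule.mkQ_surjective _ b
    exact ⟨(a', b'), rfl⟩
  have hker : ∀ u, Xi A hA u = 0 ↔ p₂ u = 0 := by
    intro u
    rw [Xi_eq_zero_iff]
    change _ ↔ ((S A).mkQ u.1, (S A).mkQ u.2) = 0
    rw [Prod.mk_eq_zero, ← LinearMap.mem_ker, ← LinearMap.mem_ker, Submodule.ker_mkQ]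
    rfl
  have e1 := length_eq_of_ker_eq (R := ↥A) (Xi A hA) p₂ (Xi_surjective A hA) hp₂ hker
  have hS := (colength_monomial A 12 (hcond A hA) (S A) {e | 3 ≤ e} (mem_S_iff A)
    (fun m hm => by change 3 ≤ m; omega)).2
  have hcompl : ({e : ℕ | 3 ≤ e})ᶜ = ↑({0, 1, 2} : Finset ℕ) := by
    ext e
    simp only [Set.mem_compl_iff, Set.mem_setOf_eq, Finset.coe_insert, Finset.coe_singleton,
      Set.mem_insert_iff, Set.mem_singleton_iff]
    omega
  rw [hcompl, Set.ncard_coe_finset] at hS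
  rw [e1, Module.length_prod, hS]
  rfl

end Groth.Agent.Lib.helper11.E6B
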