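import Mathlib
import Groth.Agent.Lib.helper11.E6B

/-!
# `ℓ Ext¹(M, M)` for the rank one modules over `E₆ = k⟦X³, X⁴⟧`, statement form (helper11)
-/

set_option autoImplicit false

namespace Groth.Agent.Lib.helper11.E6Main

open PowerSeries CategoryTheory Abelian
open Groth.Agent.Lib.helper11.PSMono Groth.Agent.Lib.helper11.TwoGenExt
  Groth.Agent.Lib.helper11.E6Ext Groth.Agent.Lib.helper11.E6B

universe u

theorem main {k : Type u} [Field k] (A : Subalgebra k (PowerSeries k))
    (hmono : ∀ f : PowerSeries k, f ∈ A ↔ ∀ n : ℕ, PowerSeries.coeff n f ≠ 0 →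
      n ∈ AddSubmonoid.closure ({3, 4} : Set ℕ)) :
    Module.length ↥A (Abelian.Ext (ModuleCat.of ↥A ↥(Submodule.span ↥A ({1, (PowerSeries.X : PowerSeries k) ^ 5} : Set (PowerSeries k)))) (ModuleCat.of ↥A ↥(Submodule.span ↥A ({1, (PowerSeries.X : PowerSeries k) ^ 5} : Set (PowerSeries k)))) 1) = 2 ∧ Module.length ↥A (Abelian.Ext (ModuleCat.of ↥A ↥(Submodule.span ↥A ({1, (PowerSeries.X : PowerSeries k)} : Set (PowerSeries k)))) (ModuleCat.of ↥A ↥(Submodule.span ↥A ({1, (PowerSeries.X : PowerSeries k)} : Set (PowerSeries k)))) 1) = 2 ∧ Module.length ↥A (Abelian.Ext (ModuleCat.of ↥A ↥(Submodule.span ↥A ({1, (PowerSeries.X : PowerSeries k) ^ 2} : Set (PowerSeries k)))) (ModuleCat.of ↥A ↥(Submodule.span ↥A ({1, (PowerSeries.X : PowerSeries k) ^ 2} : Set (PowerSeries k)))) 1) = 4 ∧ Module.length ↥A (Abelian.Ext (ModuleCat.of ↥A ↥(Submodule.span ↥A ({1, (PowerSeries.X : PowerSeries k), (PowerSeries.X : PowerSeries k) ^ 2} : Set (PowerSeries k)))) (ModuleCat.of ↥A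 ↥(Submodule.span ↥A ({1, (PowerSeries.X : PowerSeries k), (PowerSeries.X : PowerSeries k) ^ 2} : Set (PowerSeries k)))) 1) = 6 := by
  have hA : ∀ f : PowerSeries k, f ∈ A ↔ SuppIn f G6 := by
    intro f
    rw [hmono]
    constructor
    · intro h e he
      exact (mem_closure_iff e).mp (h e he)
    · intro h e he
      exact (mem_closure_iff e).mpr (h e he)
  have h1 : Submodule.span ↥A ({1, (PowerSeries.X : PowerSeries k)} : Set (PowerSeries k)) =
      M A 1 := by
    unfold M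
    rw [pow_one]
  refine ⟨length_M1 A hA, ?_, length_M2 A hA, length_B A hA⟩
  rw [h1]
  exact length_M1' A hA

end Groth.Agent.Lib.helper11.E6Main
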