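import Mathlib
import Groth.Agent.Lib.helper11.EilenbergWatts

/-!
# Eilenberg–Watts for functors `Mod A ⥤ Mod B`
-/

set_option autoImplicit false
universe u

namespace Groth.Agent.Lib.helper11.EWGen

open CategoryTheory CategoryTheory.Limits TensorProduct
open Groth.Agent.Lib.helper11.EW

variable {A B : Type u} [CommRing A] [CommRing B]
  (F : ModuleCat.{u} A ⥤ ModuleCat.{u} B) [F.Additive]

section Theta

variable {M : ModuleCat.{u} A}

lemma theta_add (x y : M) : theta (x + y) = theta x + theta y := by
  ext
  change (1 : A) • (x + y) = (1 : A) • x + (1 : A) • y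
  rw [smul_add]

lemma theta_zero : theta (0 : M) = 0 := by
  ext
  change (1 : A) • (0 : M) = 0
  rw [smul_zero]

lemma theta_one : theta (M := ModuleCat.of A A) (1 : A) = 𝟙 _ := by
  ext
  change (1 : A) • (1 : A) = 1
  simp

lemma theta_mul (a b : A) :
    theta (M := ModuleCat.of A A) (a * b) = theta (M := ModuleCat.of A A) a ≫ theta b := by
  rw [theta_comp]
  rfl

lemma theta_smul (a : A) (x : M) : theta (a • x) = theta (M := ModuleCat.of A A) a ≫ theta x := by
  rw [theta_comp]
  rfl

end Theta

/-- the bimodule `F(A)`. -/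
def KK : Type u := F.obj (ModuleCat.of A A)

instance : AddCommGroup (KK F) := inferInstanceAs (AddCommGroup (F.obj (ModuleCat.of A A)))
instance : Module B (KK F) := inferInstanceAs (Module B (F.obj (ModuleCat.of A A)))

/-- the action of `A` on `F(A)` by functoriality. -/
noncomputable def ρ : A →+* Module.End B (KK F) where
  toFun a := (F.map (theta (M := ModuleCat.of A A) a)).hom
  map_one' := by
    rw [theta_one, CategoryTheory.Functor.map_id]
    rfl
  map_mul' a b := by
    rw [mul_comm, theta_mul, F.map_comp]
    rfl
  map_zero' := by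
    rw [theta_zero, F.map_zero]
    rfl
  map_add' a b := by
    rw [theta_add, F.map_add]
    rfl

noncomputable instance : Module A (KK F) := Module.compHom (KK F) (ρ F)

lemma smul_def (a : A) (k : KK F) :
    a • k = (F.map (theta (M := ModuleCat.of A A) a)).hom k := rfl

instance : SMulCommClass A B (KK F) where
  smul_comm a b k := by
    rw [smul_def, smul_def]
    exact map_smul _ b k

/-- the comparison map as an additive map. -/
noncomputable def tM₀ (M : ModuleCat.{u} A) : KK F →+ M →+ F.obj M :=
  AddMonoidHom.mk' (fun k => AddMonoidHom.mk' (fun m => (F.map (theta m)).hom k)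
    (fun m m' => by
      rw [theta_add, F.map_add]
      rfl))
    (fun k k' => by
      ext m
      exact map_add (F.map (theta m)).hom k k')

lemma tM₀_apply (M : ModuleCat.{u} A) (k : KK F) (m : M) :
    tM₀ F M k m = (F.map (theta m)).hom k := rfl

/-- the comparison map as an additive map on the tensor product. -/
noncomputable def tMadd (M : ModuleCat.{u} A) : KK F ⊗[A] M →+ F.obj M :=
  TensorProduct.liftAddHom (tM₀ F M) (fun a k m => by
    rw [tM₀_apply, tM₀_apply, smul_def, theta_smul, F.map_comp]
    rfl)

lemma tMadd_tmul (M : ModuleCat.{u} A) (k : KK F) (m : M) :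
    tMadd F M (k ⊗ₜ m) = (F.map (theta m)).hom k := rfl

/-- the comparison map `F(A) ⊗_A M → F(M)`. -/
noncomputable def tM (M : ModuleCat.{u} A) : KK F ⊗[A] M →ₗ[B] F.obj M where
  toFun := tMadd F M
  map_add' := map_add _
  map_smul' b z := by
    induction z using TensorProduct.induction_on with
    | zero => simp
    | tmul k m =>
      rw [TensorProduct.smul_tmul', tMadd_tmul, tMadd_tmul]
      exact map_smul _ b k
    | add x y hx hy =>
      rw [smul_add, map_add, map_add, hx, hy, smul_add]

lemma tM_tmul (M : ModuleCat.{u} A) (k : KK F) (m : M) :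
    tM F M (k ⊗ₜ m) = (F.map (theta m)).hom k := rfl

lemma tM_naturality {M N : ModuleCat.{u} A} (g : M ⟶ N) (z : KK F ⊗[A] M) :
    tM F N (LinearMap.lTensor (KK F) g.hom z) = (F.map g).hom (tM F M z) := by
  induction z using TensorProduct.induction_on with
  | zero => simp
  | tmul k m =>
    rw [LinearMap.lTensor_tmul, tM_tmul, tM_tmul, ← theta_comp, F.map_comp]
    rfl
  | add x y hx hy =>
    rw [map_add, map_add, map_add, map_add, hx, hy]

section Self

lemma tM_self_eq (z : KK F ⊗[A] (ModuleCat.of A A)) :
    tM F (ModuleCat.of A A) z = TensorProduct.rid A (KK F) z := by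
  induction z using TensorProduct.induction_on with
  | zero =>
    rw [map_zero, map_zero]
    rfl
  | tmul k a =>
    rw [tM_tmul]
    exact (TensorProduct.rid_tmul (R := A) k a).symm
  | add x y hx hy =>
    rw [map_add, map_add, hx, hy]
    rfl

lemma tM_self_bijective : Function.Bijective (tM F (ModuleCat.of A A)) := by
  have h : ⇑(tM F (ModuleCat.of A A)) = ⇑(TensorProduct.rid A (KK F)) := funext (tM_self_eq F)
  rw [h]
  exact (TensorProduct.rid A (KK F)).bijective

end Self

section Free

variable [∀ J : Type u, PreservesColimitsOfShape (Discrete J) F]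

lemma tM_surjective_of_basis {J : Type u} {L : ModuleCat.{u} A} (b : Module.Basis J A L) :
    Function.Surjective (tM F L) := by
  have hc : IsColimit (F.mapCocone (basisCofan b)) :=
    isColimitOfPreserves F (basisCofanIsColimit b)
  set S : Submodule B (F.obj L) := LinearMap.range (tM F L) with hS
  have hq : ModuleCat.ofHom S.mkQ = 0 := by
    apply hc.hom_ext
    rintro ⟨j⟩
    ext y
    change S.mkQ ((F.map (theta (b j))).hom y) = 0
    rw [Submodule.mkQ_apply, Submodule.Quotient.mk_eq_zero]
    exact ⟨y ⊗ₜ b j, rfl⟩
  have h2 : S.mkQ = 0 := by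
    have := congrArg ModuleCat.Hom.hom hq
    exact this
  have h3 : S = ⊤ := by
    rw [← Submodule.ker_mkQ S, h2, LinearMap.ker_zero]
  exact LinearMap.range_eq_top.1 h3

lemma tM_injective_of_basis {J : Type u} {L : ModuleCat.{u} A} (b : Module.Basis J A L) :
    Function.Injective (tM F L) := by
  classical
  rw [injective_iff_map_eq_zero]
  intro z hz
  have h1 : ∀ j, LinearMap.lTensor (KK F) (b.coord j) z = 0 := by
    intro j
    apply (tM_self_bijective F).1
    have := tM_naturality F (ModuleCat.ofHom (b.coord j)) z
    rw [ModuleCat.hom_ofHom] at this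
    rw [this, hz, map_zero, map_zero]
  let E : KK F ⊗[A] L ≃ₗ[A] (J →₀ KK F) :=
    (LinearEquiv.lTensor (KK F) b.repr).trans (TensorProduct.finsuppScalarRight A A (KK F) J)
  have h2 : E z = 0 := by
    ext j
    change TensorProduct.finsuppScalarRight A A (KK F) J
      (LinearMap.lTensor (KK F) b.repr.toLinearMap z) j = 0
    rw [TensorProduct.finsuppScalarRight_apply, ← LinearMap.comp_apply, ← LinearMap.lTensor_comp]
    have : Finsupp.lapply j ∘ₗ b.repr.toLinearMap = b.coord j := rfl
    rw [this, h1 j, map_zero]
  exact E.map_eq_zero_iff.1 h2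

lemma tM_bijective_of_free (L : ModuleCat.{u} A) [Module.Free A L] :
    Function.Bijective (tM F L) :=
  ⟨tM_injective_of_basis F (Module.Free.chooseBasis A L),
    tM_surjective_of_basis F (Module.Free.chooseBasis A L)⟩

end Free

section General

variable [∀ J : Type u, PreservesColimitsOfShape (Discrete J) F] [PreservesFiniteColimits F]

theorem tM_bijective (M : ModuleCat.{u} A) : Function.Bijective (tM F M) := by
  have hex : ((presComplex M).map F).Exact :=
    (presComplex_exact M).map_of_epi_of_preservesCokernel F inferInstance inferInstance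
  rw [ShortComplex.ShortExact.moduleCat_exact_iff_function_exact] at hex
  have hex' : Function.Exact (F.map (presf M)).hom (F.map (presπ M)).hom := hex
  have hepi : Epi (F.map (presπ M)) := by
    haveI : Epi (presπ M) := (ModuleCat.epi_iff_surjective _).mpr (presπ_surjective M)
    infer_instance
  have hsurj : Function.Surjective (F.map (presπ M)).hom := (ModuleCat.epi_iff_surjective _).1 hepi
  have h0 := tM_bijective_of_free F (pres₀ M)
  have h1 := tM_bijective_of_free F (pres₁ M)
  have hT : Function.Surjective (LinearMap.lTensor (KK F) (presπ M).hom) :=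
    LinearMap.lTensor_surjective _ (presπ_surjective M)
  constructor
  · rw [injective_iff_map_eq_zero]
    intro z hz
    obtain ⟨z₀, rfl⟩ := hT z
    rw [tM_naturality] at hz
    obtain ⟨y₁, hy₁⟩ := (hex' _).1 hz
    obtain ⟨z₁, rfl⟩ := h1.2 y₁
    rw [← tM_naturality] at hy₁
    have := h0.1 hy₁
    rw [← this, ← LinearMap.comp_apply, ← LinearMap.lTensor_comp]
    have hz0 : (presπ M).hom ∘ₗ (presf M).hom = 0 := by
      have := (presComplex M).zero
      exact congrArg ModuleCat.Hom.hom this
    rw [hz0, LinearMap.lTensor_zero, LinearMap.zero_apply]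
  · intro y
    obtain ⟨y₀, rfl⟩ := hsurj y
    obtain ⟨z₀, rfl⟩ := h0.2 y₀
    exact ⟨_, tM_naturality F (presπ M) z₀⟩

/-- Eilenberg–Watts. -/
noncomputable def η (M : ModuleCat.{u} A) : (KK F ⊗[A] M) ≃ₗ[B] F.obj M :=
  LinearEquiv.ofBijective (tM F M) (tM_bijective F M)

lemma η_apply (M : ModuleCat.{u} A) (z : KK F ⊗[A] M) : η F M z = tM F M z := rfl

lemma η_naturality {M N : ModuleCat.{u} A} (g : M ⟶ N) (z : KK F ⊗[A] M) :
    η F N (LinearMap.lTensor (KK F) g.hom z) = (F.map g).hom (η F M z) :=
  tM_naturality F g z

end General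

end Groth.Agent.Lib.helper11.EWGen
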