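import Mathlib
import Groth.Agent.Lib.helper11.EWGen

/-!
# Natural transformations between right exact coproduct preserving functors `Mod A ⥤ Mod B`
-/

set_option autoImplicit false
universe u

namespace Groth.Agent.Lib.helper11.EWGen

open CategoryTheory CategoryTheory.Limits TensorProduct
open Groth.Agent.Lib.helper11.EW

variable {A B : Type u} [CommRing A] [CommRing B]
  (F F' : ModuleCat.{u} A ⥤ ModuleCat.{u} B) [F.Additive] [F'.Additive]

section Nat

variable {F F'}

lemma app_tM (t : F ⟶ F') (M : ModuleCat.{u} A) (k : KK F) (m : M) :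
    (t.app M).hom (tM F M (k ⊗ₜ m)) =
      (F'.map (theta m)).hom ((t.app (ModuleCat.of A A)).hom k) := by
  rw [tM_tmul]
  have := t.naturality (theta m)
  exact congrArg (fun f => f.hom k) this

variable [∀ J : Type u, PreservesColimitsOfShape (Discrete J) F] [PreservesFiniteColimits F]

lemma nat_ext (t t' : F ⟶ F')
    (h : t.app (ModuleCat.of A A) = t'.app (ModuleCat.of A A)) : t = t' := by
  ext M y
  obtain ⟨z, rfl⟩ := (tM_bijective F M).2 y
  induction z using TensorProduct.induction_on with
  | zero => simp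
  | tmul k m =>
    change (t.app M).hom (tM F M (k ⊗ₜ m)) = (t'.app M).hom (tM F M (k ⊗ₜ m))
    rw [app_tM, app_tM, h]
  | add x y hx hy =>
    rw [map_add, map_add, map_add, hx, hy]

end Nat

section Exists

variable {F F'}
variable (φ : F.obj (ModuleCat.of A A) ⟶ F'.obj (ModuleCat.of A A))
  (hφ : ∀ a : A, F.map (theta (M := ModuleCat.of A A) a) ≫ φ =
    φ ≫ F'.map (theta (M := ModuleCat.of A A) a))

/-- `φ` as an `A`-linear map. -/
noncomputable def φA : KK F →ₗ[A] KK F' where
  toFun k := φ.hom k
  map_add' := map_add φ.hom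
  map_smul' a k := by
    change φ.hom ((F.map (theta (M := ModuleCat.of A A) a)).hom k) =
      (F'.map (theta (M := ModuleCat.of A A) a)).hom (φ.hom k)
    exact congrArg (fun f => f.hom k) (hφ a)

lemma φA_apply (k : KK F) : φA φ hφ k = φ.hom k := rfl

/-- `K ⊗ M → F'(M)`. -/
noncomputable def sM (M : ModuleCat.{u} A) : KK F ⊗[A] M →ₗ[B] F'.obj M where
  toFun z := tM F' M (LinearMap.rTensor M (φA φ hφ) z)
  map_add' x y := by rw [map_add, map_add]
  map_smul' b z := by
    induction z using TensorProduct.induction_on with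
    | zero => simp
    | tmul k m =>
      rw [TensorProduct.smul_tmul', LinearMap.rTensor_tmul, LinearMap.rTensor_tmul, tM_tmul,
        tM_tmul, φA_apply, φA_apply]
      have h1 : φ.hom (b • (k : F.obj (ModuleCat.of A A))) = b • φ.hom k := map_smul φ.hom b k
      have h2 := map_smul (F'.map (theta m)).hom b (φ.hom k)
      exact (congrArg (F'.map (theta m)).hom h1).trans h2
    | add x y hx hy =>
      rw [smul_add, map_add, map_add, map_add, map_add] at *
      rw [hx, hy]
      simp

lemma sM_tmul (M : ModuleCat.{u} A) (k : KK F) (m : M) :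
    sM φ hφ M (k ⊗ₜ m) = (F'.map (theta m)).hom (φ.hom k) := rfl

lemma sM_naturality {M N : ModuleCat.{u} A} (g : M ⟶ N) (z : KK F ⊗[A] M) :
    sM φ hφ N (LinearMap.lTensor (KK F) g.hom z) = (F'.map g).hom (sM φ hφ M z) := by
  induction z using TensorProduct.induction_on with
  | zero => simp
  | tmul k m =>
    rw [LinearMap.lTensor_tmul, sM_tmul, sM_tmul, ← theta_comp, F'.map_comp]
    rfl
  | add x y hx hy =>
    rw [map_add, map_add, map_add, map_add, hx, hy]

variable [∀ J : Type u, PreservesColimitsOfShape (Discrete J) F] [PreservesFiniteColimits F]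

/-- the natural transformation extending `φ`. -/
noncomputable def natOf : F ⟶ F' where
  app M := ModuleCat.ofHom ((sM φ hφ M).comp (η F M).symm.toLinearMap)
  naturality M N g := by
    ext y
    obtain ⟨z, rfl⟩ := (η F M).surjective y
    change sM φ hφ N ((η F N).symm ((F.map g).hom (η F M z))) =
      (F'.map g).hom (sM φ hφ M ((η F M).symm (η F M z)))
    rw [← η_naturality, LinearEquiv.symm_apply_apply, LinearEquiv.symm_apply_apply,
      sM_naturality]

lemma natOf_app_self : (natOf φ hφ).app (ModuleCat.of A A) = φ := by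
  ext k
  have hk : η F (ModuleCat.of A A) ((k : KK F) ⊗ₜ (1 : A)) = k := by
    rw [η_apply, tM_tmul, theta_one, CategoryTheory.Functor.map_id]
    rfl
  change sM φ hφ _ ((η F (ModuleCat.of A A)).symm k) = φ.hom k
  rw [← hk, LinearEquiv.symm_apply_apply, sM_tmul, hk, theta_one,
    CategoryTheory.Functor.map_id]
  rfl

end Exists

section Iff

variable {F F'}
variable [∀ J : Type u, PreservesColimitsOfShape (Discrete J) F] [PreservesFiniteColimits F]

theorem exists_nat_iff (φ : F.obj (ModuleCat.of A A) ⟶ F'.obj (ModuleCat.of A A)) :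
    (∃ t : F ⟶ F', t.app (ModuleCat.of A A) = φ) ↔
      ∀ a : A, F.map (theta (M := ModuleCat.of A A) a) ≫ φ =
        φ ≫ F'.map (theta (M := ModuleCat.of A A) a) := by
  constructor
  · rintro ⟨t, rfl⟩ a
    exact t.naturality _
  · intro hφ
    exact ⟨natOf φ hφ, natOf_app_self φ hφ⟩

end Iff

end Groth.Agent.Lib.helper11.EWGen
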