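import Mathlib
import Groth.Agent.Lib.Helper21.EvalLoc

/-!
# Reflexive modules with `End = A` over one-dimensional rings (helper11)

Local theorem: `A` Noetherian local of Krull dimension `≤ 1`, `N` a f.g. reflexive module with
`A → End_A N` bijective.  Then `N ≅ A`.  (Trace ideal argument.)
-/

namespace Groth.Agent.Lib.helper11.EndRankOne

open Module

universe u

section Local

variable (A : Type u) [CommRing A]
variable (N : Type u) [AddCommGroup N] [Module A N]

/-- the trace ideal of `N`. -/
def T : Ideal A := Ideal.span {a | ∃ (f : Dual A N) (m : N), f m = a}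

variable {A N}

lemma apply_mem_T (f : Dual A N) (m : N) : f m ∈ T A N := Ideal.subset_span ⟨f, m, rfl⟩

lemma ann_T [Module.IsReflexive A N] (hinj : Function.Injective (algebraMap A (Module.End A N)))
    (a : A) (h : ∀ t ∈ T A N, a * t = 0) : a = 0 := by
  apply hinj
  rw [map_zero]
  ext m
  rw [Module.algebraMap_end_apply, LinearMap.zero_apply]
  apply (Module.bijective_dual_eval A N).1
  rw [map_zero]
  ext f
  rw [Dual.eval_apply, LinearMap.zero_apply, map_smul, smul_eq_mul]
  exact h _ (apply_mem_T f m)

lemma hom_T [Module.IsReflexive A N]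
    (hsurj : Function.Surjective (algebraMap A (Module.End A N)))
    (φ : T A N →ₗ[A] A) : ∃ a : A, ∀ t : T A N, φ t = a * t := by
  let ψ₀ : N →ₗ[A] Dual A (Dual A N) :=
    { toFun := fun m =>
        { toFun := fun f => φ ⟨f m, apply_mem_T f m⟩
          map_add' := fun f g => by
            rw [← map_add]; rfl
          map_smul' := fun c f => by
            rw [RingHom.id_apply, ← map_smul]; rfl }
      map_add' := fun m m' => by
        ext f
        change φ ⟨f (m + m'), _⟩ = φ ⟨f m, _⟩ + φ ⟨f m', _⟩
        rw [← map_add]
        congr 1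
        ext
        exact map_add f m m'
      map_smul' := fun c m => by
        ext f
        change φ ⟨f (c • m), _⟩ = c • φ ⟨f m, _⟩
        rw [← map_smul]
        congr 1
        ext
        exact map_smul f c m }
  let ψ : Module.End A N := (Module.evalEquiv A N).symm.toLinearMap ∘ₗ ψ₀
  obtain ⟨a, ha⟩ := hsurj ψ
  refine ⟨a, ?_⟩
  have key : ∀ (f : Dual A N) (m : N), φ ⟨f m, apply_mem_T f m⟩ = a * f m := by
    intro f m
    have h1 : Module.evalEquiv A N (ψ m) = ψ₀ m := by
      change Module.evalEquiv A N ((Module.evalEquiv A N).symm (ψ₀ m)) = ψ₀ m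
      exact (Module.evalEquiv A N).apply_symm_apply _
    have h2 : f (ψ m) = φ ⟨f m, apply_mem_T f m⟩ := by
      have : (Module.evalEquiv A N (ψ m)) f = (ψ₀ m) f := by rw [h1]
      exact this
    rw [← h2, ← ha, Module.algebraMap_end_apply, map_smul, smul_eq_mul]
  rintro ⟨t, ht⟩
  change φ ⟨t, ht⟩ = a * t
  induction ht using Submodule.span_induction with
  | mem x hx =>
    obtain ⟨f, m, rfl⟩ := hx
    exact key f m
  | zero =>
    rw [mul_zero]
    exact map_zero φ
  | add x y hx hy hx' hy' =>
    have : (⟨x + y, Submodule.add_mem _ hx hy⟩ : T A N) = ⟨x, hx⟩ + ⟨y, hy⟩ := rfl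
    rw [this, map_add, hx', hy', mul_add]
  | smul c x hx hx' =>
    have : (⟨c • x, Submodule.smul_mem _ c hx⟩ : T A N) = c • ⟨x, hx⟩ := rfl
    rw [this, map_smul, hx', smul_eq_mul, smul_eq_mul]
    ring

variable [IsLocalRing A]

/-- if the trace ideal is the unit ideal and `A = End N`, then `N ≅ A`. -/
lemma nonempty_equiv_of_T_eq_top (hb : Function.Bijective (algebraMap A (Module.End A N)))
    (hT : T A N = ⊤) : Nonempty (N ≃ₗ[A] A) := by
  obtain ⟨f, m, hu⟩ : ∃ (f : Dual A N) (m : N), IsUnit (f m) := by
    by_contra hcon
    push Not at hcon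
    have : T A N ≤ IsLocalRing.maximalIdeal A := by
      apply Ideal.span_le.2
      rintro _ ⟨f, m, rfl⟩
      exact hcon f m
    rw [hT] at this
    exact (IsLocalRing.maximalIdeal.isMaximal A).ne_top (top_le_iff.1 this)
  obtain ⟨u, hu⟩ := hu
  let m' : N := (↑u⁻¹ : A) • m
  have hfm' : f m' = 1 := by
    change f ((↑u⁻¹ : A) • m) = 1
    rw [map_smul, smul_eq_mul, ← hu, Units.inv_mul]
  let s : A →ₗ[A] N := LinearMap.toSpanSingleton A N m'
  have hfs : ∀ a, f (s a) = a := by
    intro a
    change f (a • m') = a
    rw [map_smul, hfm', smul_eq_mul, mul_one]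
  let e : Module.End A N := s ∘ₗ f
  obtain ⟨a, ha⟩ := hb.2 e
  have hee : e * e = e := by
    ext n
    change s (f (s (f n))) = s (f n)
    rw [hfs]
  have haa : a * a = a := by
    apply hb.1
    rw [map_mul, ha, hee]
  have h01 : a = 0 ∨ a = 1 := by
    rcases IsLocalRing.isUnit_or_isUnit_one_sub_self a with h | h
    · right
      have : a * a = a * 1 := by rw [haa, mul_one]
      exact h.mul_left_cancel this
    · left
      have : (1 - a) * a = (1 - a) * 0 := by rw [mul_zero, sub_mul, one_mul, haa, sub_self]
      exact h.mul_left_cancel this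
  rcases h01 with h0 | h1
  · exfalso
    have he0 : e = 0 := by rw [← ha, h0, map_zero]
    have : f m' = 0 := by
      have h2 : f (e m') = f m' := by
        change f (s (f m')) = f m'
        rw [hfs]
      rw [← h2, he0, LinearMap.zero_apply, map_zero]
    rw [hfm'] at this
    exact one_ne_zero this
  · have he1 : e = 1 := by rw [← ha, h1, map_one]
    have hinj : Function.Injective f := by
      intro x y hxy
      have hx : e x = x := by rw [he1]; rfl
      have hy : e y = y := by rw [he1]; rfl
      rw [← hx, ← hy]
      change s (f x) = s (f y)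
      rw [hxy]
    have hsurj : Function.Surjective f := fun a => ⟨s a, hfs a⟩
    exact ⟨LinearEquiv.ofBijective f ⟨hinj, hsurj⟩⟩

variable [IsNoetherianRing A]

/-- if `x ∈ 𝔪` is a nonzerodivisor and `dim A ≤ 1`, there is `y ∉ (x)` with `𝔪 y ⊆ (x)`. -/
lemma exists_socle (hdim : ringKrullDim A ≤ 1) (x : A) (hx : x ∈ nonZeroDivisors A)
    (hxm : x ∈ IsLocalRing.maximalIdeal A) :
    ∃ y : A, y ∉ Ideal.span {x} ∧ ∀ t ∈ IsLocalRing.maximalIdeal A, t * y ∈ Ideal.span {x} := by
  have hne : Ideal.span {x} ≠ ⊤ := by
    intro h
    have : Ideal.span {x} ≤ IsLocalRing.maximalIdeal A := (Ideal.span_singleton_le_iff_mem _).2 hxm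
    rw [h] at this
    exact (IsLocalRing.maximalIdeal.isMaximal A).ne_top (top_le_iff.1 this)
  haveI : Nontrivial (A ⧸ Ideal.span {x}) := Ideal.Quotient.nontrivial_iff.2 hne
  obtain ⟨P, hP⟩ := associatedPrimes.nonempty A (A ⧸ Ideal.span {x})
  obtain ⟨hPprime, ybar, hy⟩ := isAssociatedPrime_iff.1 hP
  obtain ⟨y, rfl⟩ := Ideal.Quotient.mk_surjective ybar
  have hxP : x ∈ P := by
    rw [hy, Submodule.mem_colon_singleton, Submodule.mem_bot]
    change Ideal.Quotient.mk (Ideal.span {x}) (x * y) = 0
    rw [Ideal.Quotient.eq_zero_iff_mem]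
    exact Ideal.mul_mem_right _ _ (Ideal.mem_span_singleton_self x)
  have hPm : P = IsLocalRing.maximalIdeal A := by
    by_contra hne'
    have hlt : P < IsLocalRing.maximalIdeal A :=
      lt_of_le_of_ne (IsLocalRing.le_maximalIdeal hPprime.ne_top) hne'
    have h1 : P.height < (IsLocalRing.maximalIdeal A).height :=
      Ideal.height_strict_mono_of_isPrime hlt
    have h2 : ((IsLocalRing.maximalIdeal A).height : WithBot ℕ∞) ≤ 1 :=
      le_trans (Ideal.height_le_ringKrullDim_of_ne_top
        (IsLocalRing.maximalIdeal.isMaximal A).ne_top) hdim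
    have h3 : (IsLocalRing.maximalIdeal A).height ≤ 1 := by exact_mod_cast h2
    have h4 : P.height = 0 := by
      have : P.height < 1 := lt_of_lt_of_le h1 h3
      exact ENat.lt_one_iff_eq_zero.1 this
    have h5 : P ∈ minimalPrimes A := by
      rw [← Ideal.height_eq_zero_iff] at *
      exact h4
    exact (Ideal.disjoint_nonZeroDivisors_of_mem_minimalPrimes h5).le_bot ⟨hxP, hx⟩
  refine ⟨y, ?_, ?_⟩
  · intro hymem
    apply hPprime.ne_top
    rw [hy]
    have : (Ideal.Quotient.mk (Ideal.span {x}) y) = 0 := Ideal.Quotient.eq_zero_iff_mem.2 hymem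
    rw [eq_top_iff]
    intro r _
    rw [Submodule.mem_colon_singleton, Submodule.mem_bot]
    change r • (Ideal.Quotient.mk _ y) = 0
    rw [this, smul_zero]
  · intro t ht
    rw [← hPm, hy, Submodule.mem_colon_singleton, Submodule.mem_bot] at ht
    change Ideal.Quotient.mk (Ideal.span {x}) (t * y) = 0 at ht
    rw [Ideal.Quotient.eq_zero_iff_mem] at ht
    exact ht

/-- **Local theorem**: over a Noetherian local ring of dimension `≤ 1`, a reflexive module
with `A = End N` is free of rank one. -/
theorem nonempty_equiv_of_bijective [Module.IsReflexive A N] (hdim : ringKrullDim A ≤ 1)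
    (hb : Function.Bijective (algebraMap A (Module.End A N))) : Nonempty (N ≃ₗ[A] A) := by
  by_cases hT : T A N = ⊤
  · exact nonempty_equiv_of_T_eq_top hb hT
  exfalso
  have hTm : T A N ≤ IsLocalRing.maximalIdeal A := IsLocalRing.le_maximalIdeal hT
  -- a nonzerodivisor in `T`
  obtain ⟨x, hxT, hx⟩ : ∃ x ∈ T A N, x ∈ nonZeroDivisors A := by
    by_contra hcon
    push Not at hcon
    have hdisj : Disjoint (T A N : Set A) (nonZeroDivisors A) := by
      rw [Set.disjoint_left]
      intro x hxT hx
      exact hcon x hxT hx
    have hlt := Ideal.bot_lt_annihilator_of_disjoint_nonZeroDivisors hdisj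
    obtain ⟨a, ha, ha0⟩ := SetLike.exists_of_lt hlt
    apply ha0
    rw [Submodule.mem_bot]
    apply ann_T hb.1 a
    intro t ht
    have := Module.mem_annihilator.1 ha ⟨t, ht⟩
    have h2 := congrArg Subtype.val this
    simpa using h2
  obtain ⟨y, hy, hmy⟩ := exists_socle hdim x hx (hTm hxT)
  have hex : ∀ t : T A N, ∃ b : A, (t : A) * y = x * b := by
    intro t
    have := hmy t (hTm t.2)
    rw [Ideal.mem_span_singleton'] at this
    obtain ⟨b, hb'⟩ := this
    exact ⟨b, by rw [← hb', mul_comm]⟩
  have hcancel : ∀ b b' : A, x * b = x * b' → b = b' := by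
    intro b b' h
    have : (b - b') * x = 0 := by
      rw [sub_mul, mul_comm b, mul_comm b', h, sub_self]
    have := (mem_nonZeroDivisors_iff_right.1 hx) _ this
    exact sub_eq_zero.1 this
  let φ : T A N →ₗ[A] A :=
    { toFun := fun t => Classical.choose (hex t)
      map_add' := fun t t' => by
        apply hcancel
        rw [mul_add, ← Classical.choose_spec (hex t), ← Classical.choose_spec (hex t'),
          ← Classical.choose_spec (hex (t + t'))]
        change ((t : A) + (t' : A)) * y = _
        ring
      map_smul' := fun c t => by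
        apply hcancel
        rw [RingHom.id_apply, smul_eq_mul, mul_left_comm, ← Classical.choose_spec (hex t),
          ← Classical.choose_spec (hex (c • t))]
        change (c * (t : A)) * y = _
        ring }
  have hφ : ∀ t : T A N, (t : A) * y = x * φ t := fun t => Classical.choose_spec (hex t)
  obtain ⟨a, ha⟩ := hom_T hb.2 φ
  apply hy
  have : y - x * a = 0 := by
    apply ann_T hb.1
    intro t ht
    have h1 := hφ ⟨t, ht⟩
    rw [ha] at h1
    change t * y = x * (a * t) at h1
    rw [sub_mul, mul_comm y t, h1]
    ring
  rw [sub_eq_zero] at this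
  rw [this]
  exact Ideal.mul_mem_right _ _ (Ideal.mem_span_singleton_self x)

end Local

section Global

variable {S : Type u} [CommRing S] [IsNoetherianRing S]
variable (M : Type u) [AddCommGroup M] [Module S M] [Module.Finite S M]
variable (P : Ideal S) [P.IsPrime]

/-- `End M → End (M_P)`. -/
noncomputable def E1 : Module.End S M →ₗ[S]
    Module.End (Localization.AtPrime P) (LocalizedModule P.primeCompl M) :=
  IsLocalizedModule.mapExtendScalars P.primeCompl (LocalizedModule.mkLinearMap P.primeCompl M)
    (LocalizedModule.mkLinearMap P.primeCompl M) (Localization.AtPrime P)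

instance : IsLocalizedModule P.primeCompl (E1 M P) := by
  haveI : Module.FinitePresentation S M := Module.finitePresentation_of_finite S M
  unfold E1
  infer_instance

theorem E1_apply (g : Module.End S M) (m : M) :
    E1 M P g (LocalizedModule.mkLinearMap P.primeCompl M m) =
      LocalizedModule.mkLinearMap P.primeCompl M (g m) := by
  unfold E1
  rw [IsLocalizedModule.mapExtendScalars_apply_apply, IsLocalizedModule.map_apply]

theorem E1_algebraMap (r : S) :
    E1 M P (algebraMap S (Module.End S M) r) =
      algebraMap (Localization.AtPrime P) (Module.End (Localization.AtPrime P)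
        (LocalizedModule P.primeCompl M)) (algebraMap S (Localization.AtPrime P) r) := by
  apply LinearMap.restrictScalars_injective S
  apply IsLocalizedModule.linearMap_ext P.primeCompl (LocalizedModule.mkLinearMap P.primeCompl M)
    (LocalizedModule.mkLinearMap P.primeCompl M)
  ext m
  simp only [LinearMap.coe_comp, LinearMap.coe_restrictScalars, Function.comp_apply]
  rw [E1_apply, Module.algebraMap_end_apply, Module.algebraMap_end_apply, map_smul,
    algebraMap_smul]

/-- bijectivity of `S → End M` localizes. -/
theorem bijective_localization (hb : Function.Bijective (algebraMap S (Module.End S M))) :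
    Function.Bijective (algebraMap (Localization.AtPrime P)
      (Module.End (Localization.AtPrime P) (LocalizedModule P.primeCompl M))) := by
  constructor
  · rw [injective_iff_map_eq_zero]
    intro c hc
    obtain ⟨r, s, rfl⟩ := IsLocalization.exists_mk'_eq P.primeCompl c
    have h1 : algebraMap (Localization.AtPrime P) (Module.End (Localization.AtPrime P)
        (LocalizedModule P.primeCompl M)) (algebraMap S (Localization.AtPrime P) r) = 0 := by
      rw [← IsLocalization.mk'_spec (Localization.AtPrime P) r s, map_mul, hc, zero_mul]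
    rw [← E1_algebraMap] at h1
    have h2 : E1 M P (algebraMap S (Module.End S M) r) = E1 M P 0 := by rw [h1, map_zero]
    obtain ⟨t, ht⟩ := IsLocalizedModule.exists_of_eq (S := P.primeCompl) h2
    rw [smul_zero] at ht
    have h3 : algebraMap S (Module.End S M) ((t : S) * r) = 0 := by
      rw [map_mul, ← ht]
      ext m
      simp [Submonoid.smul_def, smul_comm r (t : S) m]
    have h4 : (t : S) * r = 0 := hb.1 (by rw [h3, map_zero])
    rw [IsLocalization.mk'_eq_zero_iff]
    exact ⟨t, h4⟩
  · intro h
    obtain ⟨⟨g, s⟩, hgs⟩ := IsLocalizedModule.surj P.primeCompl (E1 M P) h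
    obtain ⟨r, rfl⟩ := hb.2 g
    rw [E1_algebraMap] at hgs
    refine ⟨IsLocalization.mk' (Localization.AtPrime P) r s, ?_⟩
    have hu : IsUnit (algebraMap S (Localization.AtPrime P) (s : S)) :=
      IsLocalization.map_units (Localization.AtPrime P) s
    ext n
    have h5 := congrArg (fun e => e n) hgs
    simp only [Module.algebraMap_end_apply] at h5
    rw [Module.algebraMap_end_apply]
    have h6 : (algebraMap S (Localization.AtPrime P) (s : S)) •
        (IsLocalization.mk' (Localization.AtPrime P) r s • n) =
        (algebraMap S (Localization.AtPrime P) (s : S)) • h n := by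
      rw [smul_smul, mul_comm, IsLocalization.mk'_spec, ← h5]
      rw [LinearMap.smul_apply, Submonoid.smul_def, algebraMap_smul]
    exact hu.smul_left_cancel.1 h6

/-- if `M_P ≅ S_P` then every endomorphism of `M_P` is a homothety. -/
theorem exists_eq_algebraMap_of_equiv
    (e : LocalizedModule P.primeCompl M ≃ₗ[Localization.AtPrime P] Localization.AtPrime P)
    (h : Module.End (Localization.AtPrime P) (LocalizedModule P.primeCompl M)) :
    ∃ c : Localization.AtPrime P, h = algebraMap (Localization.AtPrime P) _ c := by
  refine ⟨e (h (e.symm 1)), ?_⟩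
  ext n
  rw [Module.algebraMap_end_apply]
  have hn : n = (e n) • e.symm 1 := by
    rw [← map_smul, smul_eq_mul, mul_one, e.symm_apply_apply]
  apply e.injective
  conv_lhs => rw [hn, map_smul, map_smul]
  conv_rhs => rw [map_smul]
  rw [smul_eq_mul, smul_eq_mul, mul_comm]

theorem main [Module.IsReflexive S M] (hdim : ringKrullDim S ≤ 1) :
    (∀ (P : Ideal S) (_ : P.IsPrime),
        Nonempty (LocalizedModule P.primeCompl M ≃ₗ[Localization.AtPrime P]
          Localization.AtPrime P)) ↔
      Function.Bijective (algebraMap S (Module.End S M)) := by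
  constructor
  · intro h
    constructor
    · rw [injective_iff_map_eq_zero]
      intro r hr
      apply eq_zero_of_localization
      intro J hJ
      haveI : J.IsPrime := hJ.isPrime
      obtain ⟨e⟩ := h J hJ.isPrime
      have h1 := E1_algebraMap M J r
      rw [hr, map_zero] at h1
      have h2 := congrArg (fun φ => e (φ (e.symm 1))) h1
      simp only [LinearMap.zero_apply, map_zero, Module.algebraMap_end_apply, map_smul,
        LinearEquiv.apply_symm_apply, smul_eq_mul, mul_one] at h2
      exact h2.symm
    · intro g
      let I : Ideal S :=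
        (LinearMap.range (Algebra.linearMap S (Module.End S M))).comap
          (LinearMap.toSpanSingleton S (Module.End S M) g)
      have hI : ∀ r : S, r ∈ I ↔ ∃ a : S, algebraMap S (Module.End S M) a = r • g := by
        intro r
        change (LinearMap.toSpanSingleton S (Module.End S M) g) r ∈
          LinearMap.range (Algebra.linearMap S (Module.End S M)) ↔ _
        rw [LinearMap.mem_range]
        rfl
      suffices hI1 : I = ⊤ by
        have : (1 : S) ∈ I := by rw [hI1]; trivial
        obtain ⟨a, ha⟩ := (hI 1).1 this
        exact ⟨a, by rw [ha, one_smul]⟩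
      by_contra hne
      obtain ⟨J, hJ, hIJ⟩ := Ideal.exists_le_maximal I hne
      haveI : J.IsPrime := hJ.isPrime
      obtain ⟨e⟩ := h J hJ.isPrime
      obtain ⟨c, hc⟩ := exists_eq_algebraMap_of_equiv M J e (E1 M J g)
      obtain ⟨a, s, rfl⟩ := IsLocalization.exists_mk'_eq J.primeCompl c
      have h1 : E1 M J ((s : S) • g) = E1 M J (algebraMap S (Module.End S M) a) := by
        rw [map_smul, hc, E1_algebraMap, ← algebraMap_smul (Localization.AtPrime J) (s : S),
          ← IsLocalization.mk'_spec' (Localization.AtPrime J) a s, map_mul]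
        rfl
      obtain ⟨t, ht⟩ := IsLocalizedModule.exists_of_eq (S := J.primeCompl) h1
      have h2 : ((t : S) * (s : S)) ∈ I := by
        rw [hI]
        refine ⟨(t : S) * a, ?_⟩
        rw [mul_smul, map_mul]
        rw [Submonoid.smul_def, Submonoid.smul_def] at ht
        rw [ht]
        ext m
        simp [smul_comm a (t : S) m]
      have h3 := hIJ h2
      rcases Ideal.IsPrime.mem_or_mem inferInstance h3 with h4 | h4
      · exact t.2 h4
      · exact s.2 h4
  · intro hb P hP
    haveI := hP
    haveI := Groth.Agent.Lib.Helper21.EvalLoc.isReflexive_localization M P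
    refine nonempty_equiv_of_bijective ?_ (bijective_localization M P hb)
    rw [IsLocalization.AtPrime.ringKrullDim_eq_height P (Localization.AtPrime P)]
    exact le_trans (Ideal.height_le_ringKrullDim_of_ne_top hP.ne_top) hdim

end Global

end Groth.Agent.Lib.helper11.EndRankOne
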