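import Groth.Agent.Lib.helper11.TFunZero
import Groth.Agent.Lib.helper11.DRankBC
import Groth.Agent.Lib.helper11.DRank3

/-!
# Euler characteristic of a bounded cochain complex of finite projectives (helper11)
-/

set_option autoImplicit false
universe u

namespace Groth.Agent.Lib.helper11.EulerCochain

open CategoryTheory CategoryTheory.Limits CohIII TensorProduct
open Groth.Agent.Lib.helper11 Groth.Agent.Lib.helper11.FibDim Groth.Agent.Lib.helper11.DRank

attribute [-instance] CategoryTheory.ShortComplex.hasHomology_of_preserves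

variable {A : Type u} [CommRing A]

/-- cochain version of `euler_char_dRank`. -/
theorem euler_char_dRank_cochain (P : CochainComplex (ModuleCat.{u} A) ℤ)
    (hP : ∀ i, Module.Finite A (P.X i) ∧ Module.Projective A (P.X i))
    (s : Finset ℤ) (hs : ∀ i, i ∉ s → Limits.IsZero (P.X i)) (x : PrimeSpectrum A) :
    (s.sum fun i => ((i.negOnePow : ℤˣ) : ℤ) * (dRank P i x : ℤ)) =
      s.sum fun i => ((i.negOnePow : ℤˣ) : ℤ) * (Module.rankAtStalk (P.X i) x : ℤ) := by
  have hfin : ∀ i, Module.Finite A (P.X i) := fun i => (hP i).1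
  have hproj : ∀ i, Module.Projective A (P.X i) := fun i => (hP i).2
  have hprev : ∀ q : ℤ, (ComplexShape.up ℤ).prev q = q - 1 := fun q => by simp
  have hnext : ∀ q : ℤ, (ComplexShape.up ℤ).next q = q + 1 := fun q => by simp
  let r : ℤ → ℕ := fun j => fibRank (P.d j (j + 1)).hom x
  have hzero : ∀ i, i ∉ s → fibDim (P.X i) x = 0 := fun i hi => by
    have := ModuleCat.subsingleton_of_isZero (hs i hi)
    exact fibDim_eq_zero_of_subsingleton _ x
  have hr1 : ∀ j, j ∉ s → r j = 0 := fun j hj => by
    have h1 := fibRank_le_fibDim_src (P.d j (j + 1)).hom x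
    have h2 := hzero j hj
    change fibRank (P.d j (j + 1)).hom x = 0
    omega
  have hr2 : ∀ j, j + 1 ∉ s → r j = 0 := fun j hj => by
    have h1 := fibRank_le_fibDim (P.d j (j + 1)).hom x
    have h2 := hzero (j + 1) hj
    change fibRank (P.d j (j + 1)).hom x = 0
    omega
  have hd : ∀ i, (dRank P i x : ℤ) = (Module.rankAtStalk (P.X i) x : ℤ) - r (i - 1) - r i := by
    intro i
    have h1 := dRank_add' P i (i - 1) (i + 1) (hprev i) (hnext i) x
    have h2 : fibDim (P.X i) x = Module.rankAtStalk (P.X i) x := fibDim_eq_rankAtStalk x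
    have h3 : r (i - 1) = fibRank (P.d (i - 1) i).hom x := by
      change fibRank (P.d (i - 1) (i - 1 + 1)).hom x = _
      rw [sub_add_cancel]
    have h4 : r i = fibRank (P.d i (i + 1)).hom x := rfl
    omega
  let R : ℤ → ℤ := fun j => ((j.negOnePow : ℤˣ) : ℤ) * (r j : ℤ)
  have hR1 : ∀ j, j ∉ s → R j = 0 := fun j hj => by
    change ((j.negOnePow : ℤˣ) : ℤ) * (r j : ℤ) = 0
    rw [hr1 j hj]
    simp
  have hR2 : ∀ j, j + 1 ∉ s → R j = 0 := fun j hj => by
    change ((j.negOnePow : ℤˣ) : ℤ) * (r j : ℤ) = 0
    rw [hr2 j hj]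
    simp
  have hterm : ∀ i, ((i.negOnePow : ℤˣ) : ℤ) * (dRank P i x : ℤ) =
      ((i.negOnePow : ℤˣ) : ℤ) * (Module.rankAtStalk (P.X i) x : ℤ) + R (i - 1) - R i := by
    intro i
    rw [hd i]
    change _ = _ + (((i - 1).negOnePow : ℤˣ) : ℤ) * (r (i - 1) : ℤ) -
      ((i.negOnePow : ℤˣ) : ℤ) * (r i : ℤ)
    rw [Int.negOnePow_sub, Int.negOnePow_one]
    push_cast
    ring
  have hshift : (s.sum fun i => R (i - 1)) = s.sum fun i => R i := by
    classical
    let s' : Finset ℤ := s.image (fun i => i - 1)
    have hs' : ∀ j, j ∈ s' ↔ j + 1 ∈ s := by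
      intro j
      simp only [s', Finset.mem_image]
      constructor
      · rintro ⟨i, hi, rfl⟩
        simpa using hi
      · intro h
        exact ⟨j + 1, h, by ring⟩
    have e1 : (s.sum fun i => R (i - 1)) = s'.sum R := by
      rw [Finset.sum_image]
      intro a _ b _ hab
      exact sub_left_injective hab
    have e2 : (s ∩ s').sum R = s'.sum R :=
      Finset.sum_subset Finset.inter_subset_right (fun j _ hj => by
        apply hR1
        intro hjs
        exact hj (Finset.mem_inter.mpr ⟨hjs, ‹_›⟩))
    have e3 : (s ∩ s').sum R = s.sum R :=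
      Finset.sum_subset Finset.inter_subset_left (fun j hjs hj => by
        apply hR2
        intro hjs'
        exact hj (Finset.mem_inter.mpr ⟨hjs, (hs' j).mpr hjs'⟩))
    rw [e1, ← e2, e3]
  simp_rw [hterm]
  rw [Finset.sum_sub_distrib, Finset.sum_add_distrib, hshift]
  ring


section Loc

variable {ι : Type} {c : ComplexShape ι}

/-- vanishing of the base change for an explicit algebra instance. -/
def SubsBC {B : Type u} [CommRing B] (alg : Algebra A B) (M : Type u) [AddCommGroup M]
    [Module A M] : Prop :=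
  letI := alg
  Subsingleton (B ⊗[A] M)

set_option backward.isDefEq.respectTransparency false in
lemma subsingleton_extendScalars_obj_iff {B : Type u} [CommRing B] (φ : A →+* B)
    (M : ModuleCat.{u} A) :
    Subsingleton ((ModuleCat.extendScalars φ).obj M) ↔
      SubsBC ((algebraMap B B).comp φ).toAlgebra M := Iff.rfl

theorem isZero_homology_bcCx_atPrime (P : HomologicalComplex (ModuleCat.{u} A) c) (q : Ideal A)
    [q.IsPrime] (i : ι) (h : Subsingleton (LocalizedModule q.primeCompl (P.homology i))) :
    IsZero ((bcCx (algebraMap A (Localization.AtPrime q)) P).homology i) := by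
  have hflat : (algebraMap A (Localization.AtPrime q)).Flat :=
    RingHom.flat_algebraMap_iff.mpr inferInstance
  haveI : PreservesFiniteLimits
      (ModuleCat.extendScalars.{u, u, u} (algebraMap A (Localization.AtPrime q))) :=
    ModuleCat.preservesFiniteLimits_extendScalars_of_flat hflat
  have e : (bcCx (algebraMap A (Localization.AtPrime q)) P).homology i ≅
      (ModuleCat.extendScalars (algebraMap A (Localization.AtPrime q))).obj (P.homology i) :=
    (P.sc i).mapHomologyIso (ModuleCat.extendScalars (algebraMap A (Localization.AtPrime q)))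
  refine IsZero.of_iso ?_ e
  have : Subsingleton ((ModuleCat.extendScalars
      (algebraMap A (Localization.AtPrime q))).obj (P.homology i)) := by
    rw [subsingleton_extendScalars_obj_iff, TFunBC.weird_eq]
    exact (LocalizedModule.equivTensorProduct q.primeCompl (P.homology i)).symm.toEquiv.subsingleton
  exact ModuleCat.isZero_of_subsingleton _

end Loc

/-- the fibre homology vanishes at a prime where a bounded above flat complex is exact. -/
theorem dRank_eq_zero_of_exact_at (P : CochainComplex (ModuleCat.{u} A) ℤ) (s : Finset ℤ)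
    (hP : ∀ i, Module.Flat A (P.X i)) (hs : ∀ i, i ∉ s → IsZero (P.X i))
    (q : PrimeSpectrum A)
    (hq : ∀ i, Subsingleton (LocalizedModule q.asIdeal.primeCompl (P.homology i))) (p : ℤ) :
    dRank P p q = 0 := by
  set φ := algebraMap A (Localization.AtPrime q.asIdeal) with hφ
  set Q := bcCx φ P with hQ
  have hQflat : ∀ i, Module.Flat (Localization.AtPrime q.asIdeal) (Q.X i) :=
    TFunBC.flat_bcCx φ P hP
  have hQzero : ∀ i, i ∉ s → IsZero (Q.X i) := fun i hi =>
    Functor.map_isZero (ModuleCat.extendScalars φ) (hs i hi)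
  have hQhom : ∀ i, IsZero (Q.homology i) := fun i =>
    isZero_homology_bcCx_atPrime P q.asIdeal i (hq i)
  obtain ⟨N, hN⟩ := s.exists_le
  have hT : ∀ (n : ℕ) (M : ModuleCat.{u} (Localization.AtPrime q.asIdeal)),
      IsZero ((TFun Q (N + 1 - (n : ℤ))).obj M) := by
    intro n
    induction n with
    | zero =>
      intro M
      simp only [Nat.cast_zero, sub_zero]
      apply DRankFlat.isZero_TFun_obj Q (N + 1) (hQzero _ ?_) M
      intro h
      have := hN _ h
      omega
    | succ n ih =>
      intro M
      have hrel : (ComplexShape.up ℤ).Rel (N + 1 - ((n + 1 : ℕ) : ℤ)) (N + 1 - (n : ℤ)) := by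
        change N + 1 - ((n + 1 : ℕ) : ℤ) + 1 = N + 1 - (n : ℤ)
        push_cast
        ring
      exact TFunZero.isZero_TFun_obj_of_rel Q hQflat _ _ hrel ih (hQhom _) M
  have hT' : ∀ (p : ℤ) (M : ModuleCat.{u} (Localization.AtPrime q.asIdeal)),
      IsZero ((TFun Q p).obj M) := by
    intro p M
    by_cases hp : p ≤ N + 1
    · have h1 : p = N + 1 - ((N + 1 - p).toNat : ℤ) := by
        rw [Int.toNat_of_nonneg (by omega)]
        ring
      rw [h1]
      exact hT _ M
    · apply DRankFlat.isZero_TFun_obj Q p (hQzero _ ?_) M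
      intro h
      have := hN _ h
      omega
  have he : (TFun Q p).PreservesEpimorphisms := (TFunZero.exact_of_forall_isZero Q p (hT' p)).2
  have hrel : (ComplexShape.up ℤ).Rel p (p + 1) := rfl
  have h1 := DRankFlat.dRank_eq_fibDim_homology Q hQflat p (p + 1) hrel he
    (IsLocalRing.closedPoint (Localization.AtPrime q.asIdeal))
  have h2 : Subsingleton (Q.homology p) := ModuleCat.subsingleton_of_isZero (hQhom p)
  rw [fibDim_eq_zero_of_subsingleton] at h1
  have h3 := DRankBC.dRank_bcCx φ P p (IsLocalRing.closedPoint (Localization.AtPrime q.asIdeal))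
  have h4 : PrimeSpectrum.comap φ (IsLocalRing.closedPoint (Localization.AtPrime q.asIdeal)) = q :=
    PrimeSpectrum.ext Localization.AtPrime.under_maximalIdeal
  rw [h4] at h3
  rw [← h3]
  exact h1

/-- S14000 -/
theorem euler_char_eq_zero (P : CochainComplex (ModuleCat.{u} A) ℤ) (s : Finset ℤ)
    (hP : ∀ i : ℤ, Module.Finite A (P.X i) ∧ Module.Projective A (P.X i))
    (hs : ∀ i : ℤ, i ∉ s → IsZero (P.X i))
    (hsupp : ∀ q : PrimeSpectrum A, q.asIdeal ∈ minimalPrimes A →
      ∀ i : ℤ, Subsingleton (LocalizedModule q.asIdeal.primeCompl (P.homology i)))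
    (x : PrimeSpectrum A) :
    (s.sum fun i => ((i.negOnePow : ℤˣ) : ℤ) * (Module.rankAtStalk (R := A) (P.X i) x : ℤ)) = 0 := by
  obtain ⟨q, hqmin, hqx⟩ := Ideal.exists_minimalPrimes_le (bot_le : (⊥ : Ideal A) ≤ x.asIdeal)
  have hqprime : q.IsPrime := hqmin.1.1
  let q' : PrimeSpectrum A := ⟨q, hqprime⟩
  have hspec : q' ⤳ x := (PrimeSpectrum.le_iff_specializes q' x).mp hqx
  have hrank : ∀ i, Module.rankAtStalk (R := A) (P.X i) x = Module.rankAtStalk (R := A) (P.X i) q' := by
    intro i
    have := (hP i).1
    have := (hP i).2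
    have : Module.FinitePresentation A (P.X i) := Module.finitePresentation_of_projective A (P.X i)
    have hlc := Module.isLocallyConstant_rankAtStalk (R := A) (M := P.X i)
    have hopen := hlc.isOpen_fiber (Module.rankAtStalk (R := A) (P.X i) x)
    exact (hspec.mem_open hopen rfl).symm
  simp_rw [hrank]
  rw [← euler_char_dRank_cochain P hP s hs q']
  have hflat : ∀ i, Module.Flat A (P.X i) := fun i => by
    have := (hP i).2
    infer_instance
  apply Finset.sum_eq_zero
  intro i _
  rw [dRank_eq_zero_of_exact_at P s hflat hs q' (hsupp q' hqmin) i]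
  simp

end Groth.Agent.Lib.helper11.EulerCochain
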