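import Mathlib
import Groth.Agent.Lib.helper11.MulEtale
import Groth.Agent.Lib.helper11.RigidOver3

/-!
# Points of exact order `N` on an abelian scheme (helper11)

For `N` invertible on the base, the functor of points of exact order `N` of an abelian scheme is
represented by an open and closed subscheme of the kernel of multiplication by `N`.
-/

set_option autoImplicit false
universe u

open CategoryTheory Limits MonoidalCategory CartesianMonoidalCategory MonObj GrpObj AlgebraicGeometry

namespace Groth.Agent.Lib.helper11.ExactOrder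

variable {S : Scheme.{u}} (E : Over S) [GrpObj E]

/-- the kernel of the `m`-th power map -/
noncomputable def ker (m : ℕ) : Over S :=
  Over.mk (pullback.snd ((𝟙 E : E ⟶ E) ^ m).left η[E].left)

theorem unit_w : η[E].left ≫ E.hom = 𝟙 S := Over.w η[E]

/-- the inclusion of the kernel -/
noncomputable def kerι (m : ℕ) : ker E m ⟶ E :=
  Over.homMk (pullback.fst ((𝟙 E : E ⟶ E) ^ m).left η[E].left) (by
    have h := pullback.condition (f := ((𝟙 E : E ⟶ E) ^ m).left) (g := η[E].left)
    have h2 := congrArg (· ≫ E.hom) h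
    simp only [Category.assoc, Over.w, unit_w, Category.comp_id] at h2
    exact h2)

theorem kerι_pow (m : ℕ) : (kerι E m) ^ m = 1 := by
  have e : (kerι E m) ^ m = kerι E m ≫ (𝟙 E : E ⟶ E) ^ m := by
    rw [MonObj.comp_pow, Category.comp_id]
  rw [e, Hom.one_def]
  ext1
  simp only [Over.comp_left]
  exact pullback.condition

variable {E}

/-- the universal property of the kernel -/
noncomputable def kerLift {m : ℕ} {T : Over S} (Q : T ⟶ E) (hQ : Q ^ m = 1) : T ⟶ ker E m :=
  Over.homMk (pullback.lift Q.left T.hom (by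
    have e : Q ^ m = Q ≫ (𝟙 E : E ⟶ E) ^ m := by
      rw [MonObj.comp_pow, Category.comp_id]
    rw [e, Hom.one_def] at hQ
    have := congrArg (fun f => f.left) hQ
    simpa using this)) (by
    change pullback.lift _ _ _ ≫ pullback.snd _ _ = T.hom
    exact pullback.lift_snd _ _ _)

theorem kerLift_ι {m : ℕ} {T : Over S} (Q : T ⟶ E) (hQ : Q ^ m = 1) :
    kerLift Q hQ ≫ kerι E m = Q := by
  ext1
  simp only [Over.comp_left]
  exact pullback.lift_fst _ _ _

instance mono_kerι_left (m : ℕ) : Mono (kerι E m).left := by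
  haveI : Mono η[E].left := by
    haveI : Mono (η[E].left ≫ E.hom) := by
      rw [unit_w]; exact inferInstanceAs (Mono (𝟙 (S : Scheme.{u})))
    exact mono_of_mono η[E].left E.hom
  exact inferInstanceAs (Mono (pullback.fst ((𝟙 E : E ⟶ E) ^ m).left η[E].left))

instance mono_kerι (m : ℕ) : Mono (kerι E m) := Over.mono_of_mono_left _

/-- the inclusion of kernels for `d ∣ N` -/
noncomputable def kerIncl {d N : ℕ} (h : d ∣ N) : ker E d ⟶ ker E N :=
  kerLift (kerι E d) (by
    obtain ⟨c, rfl⟩ := h
    rw [pow_mul, kerι_pow, one_pow])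

theorem kerIncl_ι {d N : ℕ} (h : d ∣ N) : kerIncl (E := E) h ≫ kerι E N = kerι E d :=
  kerLift_ι _ _

section abelian

variable [IsProper E.hom] [Smooth E.hom] [GeometricallyConnected E.hom]

theorem finite_etale_ker (m : ℕ) (hm : IsUnit ((m : ℕ) : Γ(S, ⊤))) :
    IsFinite (ker E m).hom ∧ Etale (ker E m).hom := by
  haveI : GeometricallyReduced E.hom := RigidOver.geometricallyReduced_of_smooth E.hom
  have hm' : IsUnit (((m : ℤ) : ℤ) : Γ(S, ⊤)) := by
    rw [Int.cast_natCast]; exact hm
  obtain ⟨h1, h2⟩ := MulEtale.main E (m : ℤ) hm'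
  rw [zpow_natCast] at h1 h2
  exact ⟨MorphismProperty.pullback_snd (P := @IsFinite) _ _ h1,
    MorphismProperty.pullback_snd (P := @Etale) _ _ h2⟩

theorem isUnit_of_dvd {d N : ℕ} (h : d ∣ N) (hN : IsUnit ((N : ℕ) : Γ(S, ⊤))) :
    IsUnit ((d : ℕ) : Γ(S, ⊤)) := by
  obtain ⟨c, rfl⟩ := h
  rw [Nat.cast_mul] at hN
  exact isUnit_of_mul_isUnit_left hN

theorem kerIncl_props {d N : ℕ} (h : d ∣ N) (hN : IsUnit ((N : ℕ) : Γ(S, ⊤))) :
    IsOpenImmersion (kerIncl (E := E) h).left ∧ IsClosed (Set.range (kerIncl (E := E) h).left.base) := by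
  obtain ⟨hf1, he1⟩ := finite_etale_ker (E := E) d (isUnit_of_dvd h hN)
  obtain ⟨hf2, he2⟩ := finite_etale_ker (E := E) N hN
  have hw : (kerIncl (E := E) h).left ≫ (ker E N).hom = (ker E d).hom := Over.w _
  haveI : Etale ((kerIncl (E := E) h).left ≫ (ker E N).hom) := by rw [hw]; exact he1
  haveI := he2
  haveI : Etale (kerIncl (E := E) h).left := Etale.of_comp (f := (kerIncl (E := E) h).left) (ker E N).hom
  haveI : Mono (kerIncl (E := E) h).left := by
    haveI : Mono ((kerIncl (E := E) h).left ≫ (kerι E N).left) := by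
      rw [← Over.comp_left, kerIncl_ι]; infer_instance
    exact mono_of_mono _ (kerι E N).left
  refine ⟨IsOpenImmersion.of_flat_of_mono _, ?_⟩
  haveI : IsProper ((kerIncl (E := E) h).left ≫ (ker E N).hom) := by
    rw [hw]; haveI := hf1; infer_instance
  haveI := hf2
  haveI : IsProper (kerIncl (E := E) h).left := IsProper.of_comp _ (ker E N).hom
  exact (kerIncl (E := E) h).left.isClosedMap.isClosed_range

end abelian

end Groth.Agent.Lib.helper11.ExactOrder
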