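import Mathlib
import Groth.Agent.Lib.helper11.ExactOrder

/-!
# Points of exact order `N` on an abelian scheme: representability (helper11)
-/

set_option autoImplicit false
universe u

open CategoryTheory Limits MonoidalCategory CartesianMonoidalCategory MonObj GrpObj AlgebraicGeometry

namespace Groth.Agent.Lib.helper11.ExactOrder

variable {S : Scheme.{u}} {E : Over S} [GrpObj E]

/-- a geometric point of `T`, as a morphism over `S` -/
noncomputable abbrev gpt {T : Over S} {Ω : Type u} [Field Ω] (t : Spec (CommRingCat.of Ω) ⟶ T.left) :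
    Over.mk (t ≫ T.hom) ⟶ T := Over.homMk t rfl

theorem mem_range_of_pow {N m : ℕ} (hm : m ∣ N) {T : Over S} (v₀ : T ⟶ ker E N)
    {Ω : Type u} [Field Ω] (t : Spec (CommRingCat.of Ω) ⟶ T.left)
    (hx : (gpt t ≫ v₀ ≫ kerι E N) ^ m = 1) (pt : Spec (CommRingCat.of Ω)) :
    v₀.left.base (t.base pt) ∈ Set.range (kerIncl (E := E) hm).left.base := by
  let l := kerLift (gpt t ≫ v₀ ≫ kerι E N) hx
  have h1 : l ≫ kerIncl (E := E) hm = gpt t ≫ v₀ := by
    rw [← cancel_mono (kerι E N), Category.assoc, kerIncl_ι, kerLift_ι, Category.assoc]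
  have h2 := congrArg (fun f => f.left) h1
  simp only [Over.comp_left] at h2
  refine ⟨l.left.base pt, ?_⟩
  rw [← Scheme.Hom.comp_apply, h2]
  rfl

theorem pow_of_mem_range {N d : ℕ} (hd : d ∣ N)
    (hoi : IsOpenImmersion (kerIncl (E := E) hd).left) {T : Over S} (v₀ : T ⟶ ker E N)
    {Ω : Type u} [Field Ω] (t : Spec (CommRingCat.of Ω) ⟶ T.left)
    (pt : Spec (CommRingCat.of Ω))
    (hmem : v₀.left.base (t.base pt) ∈ Set.range (kerIncl (E := E) hd).left.base) :
    (gpt t ≫ v₀ ≫ kerι E N) ^ d = 1 := by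
  have hr : Set.range (t ≫ v₀.left).base ⊆ Set.range (kerIncl (E := E) hd).left.base := by
    rintro _ ⟨q, rfl⟩
    have : q = pt := Subsingleton.elim (α := PrimeSpectrum Ω) _ _
    rw [this]
    exact hmem
  let w := IsOpenImmersion.lift (kerIncl (E := E) hd).left (t ≫ v₀.left) hr
  have hw : w ≫ (kerIncl (E := E) hd).left = t ≫ v₀.left := IsOpenImmersion.lift_fac _ _ _
  let w' : Over.mk (t ≫ T.hom) ⟶ ker E d := Over.homMk w (by
    have h1 : (kerIncl (E := E) hd).left ≫ (ker E N).hom = (ker E d).hom := Over.w _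
    change w ≫ (ker E d).hom = t ≫ T.hom
    rw [← h1, ← Category.assoc, hw, Category.assoc, Over.w])
  have h2 : gpt t ≫ v₀ = w' ≫ kerIncl (E := E) hd := by
    ext1
    simp only [Over.comp_left]
    exact hw.symm
  rw [← Category.assoc, h2, Category.assoc, kerIncl_ι, ← MonObj.comp_pow, kerι_pow, MonObj.comp_one]

variable [IsProper E.hom] [Smooth E.hom] [GeometricallyConnected E.hom]

theorem main (N : ℕ) (hN : 1 ≤ N) (hNu : IsUnit ((N : ℕ) : Γ(S, ⊤))) :
    ∃ (Z : Over S) (P : Z ⟶ E), IsFinite Z.hom ∧ Etale Z.hom ∧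
      (P ^ N = 1 ∧ ∀ (Ω : Type u) [Field Ω] [IsAlgClosed Ω] (t : Spec (CommRingCat.of Ω) ⟶ Z.left),
        orderOf ((Over.homMk t rfl : Over.mk (t ≫ Z.hom) ⟶ Z) ≫ P) = N) ∧
      ∀ (T : Over S) (Q : T ⟶ E), Q ^ N = 1 →
        (∀ (Ω : Type u) [Field Ω] [IsAlgClosed Ω] (t : Spec (CommRingCat.of Ω) ⟶ T.left),
          orderOf ((Over.homMk t rfl : Over.mk (t ≫ T.hom) ⟶ T) ≫ Q) = N) →
        ∃! v : T ⟶ Z, v ≫ P = Q := by
  have hdvd : ∀ d : {d // d ∈ N.properDivisors}, d.1 ∣ N := fun d =>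
    (Nat.mem_properDivisors.1 d.2).1
  have hlt : ∀ d : {d // d ∈ N.properDivisors}, d.1 < N := fun d =>
    (Nat.mem_properDivisors.1 d.2).2
  have hprops := fun d : {d // d ∈ N.properDivisors} => kerIncl_props (E := E) (hdvd d) hNu
  obtain ⟨hfin, het⟩ := finite_etale_ker (E := E) N hNu
  let U : Set (ker E N).left := ⋃ d : {d // d ∈ N.properDivisors},
    Set.range (kerIncl (E := E) (hdvd d)).left.base
  have hUo : IsOpen U := isOpen_iUnion fun d => by
    haveI := (hprops d).1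
    exact (kerIncl (E := E) (hdvd d)).left.isOpenEmbedding.isOpen_range
  have hUc : IsClosed U := isClosed_iUnion_of_finite fun d => (hprops d).2
  let Zo : (ker E N).left.Opens := ⟨Uᶜ, hUc.isOpen_compl⟩
  haveI hci : IsClosedImmersion Zo.ι := by
    apply IsClosedImmersion.of_isPreimmersion
    rw [Scheme.Opens.range_ι]
    exact hUo.isClosed_compl
  let Z : Over S := Over.mk (Zo.ι ≫ (ker E N).hom)
  let zι : Z ⟶ ker E N := Over.homMk Zo.ι rfl
  haveI : Mono zι := by
    haveI : Mono zι.left := inferInstanceAs (Mono Zo.ι)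
    exact Over.mono_of_mono_left _
  let P : Z ⟶ E := zι ≫ kerι E N
  have hPN : P ^ N = 1 := by
    rw [← MonObj.comp_pow, kerι_pow, MonObj.comp_one]
  -- order of a point in terms of the position of its image
  have hord : ∀ {T : Over S} (v₀ : T ⟶ ker E N) (Ω : Type u) [Field Ω]
      (t : Spec (CommRingCat.of Ω) ⟶ T.left) (pt : Spec (CommRingCat.of Ω)),
      v₀.left.base (t.base pt) ∈ Uᶜ ↔ orderOf (gpt t ≫ v₀ ≫ kerι E N) = N := by
    intro T v₀ Ω _ t pt
    have hxN : (gpt t ≫ v₀ ≫ kerι E N) ^ N = 1 := by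
      rw [← Category.assoc, ← MonObj.comp_pow, kerι_pow, MonObj.comp_one]
    have hdv : orderOf (gpt t ≫ v₀ ≫ kerι E N) ∣ N := orderOf_dvd_of_pow_eq_one hxN
    constructor
    · intro hmem
      by_contra hne
      have hpos : 0 < orderOf (gpt t ≫ v₀ ≫ kerι E N) :=
        orderOf_pos_iff.2 (isOfFinOrder_iff_pow_eq_one.2 ⟨N, hN, hxN⟩)
      have hm : orderOf (gpt t ≫ v₀ ≫ kerι E N) ∈ N.properDivisors :=
        Nat.mem_properDivisors.2 ⟨hdv, lt_of_le_of_ne (Nat.le_of_dvd hN hdv) hne⟩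
      apply hmem
      exact Set.mem_iUnion.2 ⟨⟨_, hm⟩, mem_range_of_pow hdv v₀ t (pow_orderOf_eq_one _) pt⟩
    · intro ho hmem
      obtain ⟨d, hd⟩ := Set.mem_iUnion.1 hmem
      have h1 := pow_of_mem_range (hdvd d) (hprops d).1 v₀ t pt hd
      have h2 : N ∣ d.1 := by
        have := orderOf_dvd_of_pow_eq_one h1
        rwa [ho] at this
      have h3 : 0 < d.1 := Nat.pos_of_mem_properDivisors d.2
      exact absurd (Nat.le_of_dvd h3 h2) (not_le.2 (hlt d))
  refine ⟨Z, P, ?_, ?_, ⟨hPN, ?_⟩, ?_⟩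
  · haveI := hfin
    exact inferInstanceAs (IsFinite (Zo.ι ≫ (ker E N).hom))
  · haveI := het
    exact inferInstanceAs (Etale (Zo.ι ≫ (ker E N).hom))
  · intro Ω _ _ t
    have := (hord zι Ω t (IsLocalRing.closedPoint Ω)).1 (by
      change (Zo.ι.base (t.base _)) ∈ Uᶜ
      exact (t.base _).2)
    exact this
  · intro T Q hQ hQo
    let v₀ := kerLift Q hQ
    have hv₀ : v₀ ≫ kerι E N = Q := kerLift_ι Q hQ
    have hrange : Set.range v₀.left.base ⊆ Set.range Zo.ι.base := by
      rintro _ ⟨t₀, rfl⟩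
      rw [Scheme.Opens.range_ι]
      let Ω := AlgebraicClosure (T.left.residueField t₀)
      let t : Spec (CommRingCat.of Ω) ⟶ T.left :=
        Spec.map (CommRingCat.ofHom (algebraMap (T.left.residueField t₀) Ω)) ≫
          T.left.fromSpecResidueField t₀
      have ht : ∀ pt, t.base pt = t₀ := by
        intro pt
        change (Spec.map _ ≫ T.left.fromSpecResidueField t₀).base pt = t₀
        rw [Scheme.Hom.comp_apply, Scheme.fromSpecResidueField_apply]
      have h1 := (hord v₀ Ω t (IsLocalRing.closedPoint Ω)).2 (by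
        rw [hv₀]; exact hQo Ω t)
      rw [ht] at h1
      exact h1
    let vl : T.left ⟶ Z.left := IsOpenImmersion.lift Zo.ι v₀.left hrange
    have hvl : vl ≫ Zo.ι = v₀.left := IsOpenImmersion.lift_fac _ _ _
    let v : T ⟶ Z := Over.homMk vl (by
      change vl ≫ Zo.ι ≫ (ker E N).hom = T.hom
      rw [← Category.assoc, hvl, Over.w])
    have hvz : v ≫ zι = v₀ := by
      ext1
      exact hvl
    refine ⟨v, ?_, ?_⟩
    · change v ≫ zι ≫ kerι E N = Q
      rw [← Category.assoc, hvz, hv₀]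
    · intro v' hv'
      change v' ≫ zι ≫ kerι E N = Q at hv'
      rw [← cancel_mono zι, ← cancel_mono (kerι E N), Category.assoc, hv', hvz, hv₀]

end Groth.Agent.Lib.helper11.ExactOrder
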