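import Mathlib
import Groth.Agent.Lib.helper11.ExtShift

/-!
# `Ext^1(A/(b), A/(a))` for `ab = 0`, `(0 : b) ⊆ (a)` (helper11)
-/

set_option autoImplicit false

namespace Groth.Agent.Lib.helper11.ExtExactPair

open CategoryTheory Abelian

universe u

variable {A : Type u} [CommRing A] (a b : A) (hab : a * b = 0)
  (hann : ∀ s : A, s * b = 0 → s ∈ Ideal.span {a})

/-- `A/(a) → (b)`, `s ↦ s b`. -/
noncomputable def toK : (A ⧸ Ideal.span {a}) →ₗ[A] ↥(Ideal.span {b}) :=
  Submodule.liftQ (Ideal.span {a})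
    ((LinearMap.toSpanSingleton A A b).codRestrict (Ideal.span {b}) (fun s => by
      rw [LinearMap.toSpanSingleton_apply, smul_eq_mul]
      exact Ideal.mul_mem_left _ _ (Ideal.mem_span_singleton_self b))) (by
    intro s hs
    obtain ⟨r, rfl⟩ := Ideal.mem_span_singleton'.mp hs
    rw [LinearMap.mem_ker]
    apply Subtype.ext
    rw [LinearMap.codRestrict_apply, LinearMap.toSpanSingleton_apply, smul_eq_mul,
      Submodule.coe_zero, mul_assoc, hab, mul_zero])

theorem toK_mk (s : A) : ((toK a b hab (Submodule.Quotient.mk s) : ↥(Ideal.span {b})) : A) = s * b :=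
  rfl

include hann in
theorem toK_bijective : Function.Bijective (toK a b hab) := by
  constructor
  · rw [injective_iff_map_eq_zero]
    intro x hx
    obtain ⟨s, rfl⟩ := Submodule.Quotient.mk_surjective _ x
    have h1 := congrArg Subtype.val hx
    rw [toK_mk, Submodule.coe_zero] at h1
    exact (Submodule.Quotient.mk_eq_zero _).2 (hann s h1)
  · rintro ⟨κ, hκ⟩
    obtain ⟨s, rfl⟩ := Ideal.mem_span_singleton'.mp hκ
    exact ⟨Submodule.Quotient.mk s, Subtype.ext (toK_mk a b hab s)⟩

/-- `A/(a) ≃ (b)`. -/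
noncomputable def eK : (A ⧸ Ideal.span {a}) ≃ₗ[A] ↥(Ideal.span {b}) :=
  LinearEquiv.ofBijective (toK a b hab) (toK_bijective a b hab hann)

theorem exact_subtype_mkQ :
    Function.Exact (Ideal.span {b} : Submodule A A).subtype (Submodule.mkQ (Ideal.span {b})) := by
  rw [LinearMap.exact_iff, Submodule.ker_mkQ, Submodule.range_subtype]

/-- the connecting map. -/
noncomputable def δ : (↥(Ideal.span {b}) →ₗ[A] (A ⧸ Ideal.span {a})) →ₗ[A]
    Ext (ModuleCat.of A (A ⧸ Ideal.span {b})) (ModuleCat.of A (A ⧸ Ideal.span {a})) 1 :=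
  ExtShift.deltaLin (Ideal.span {b} : Submodule A A).subtype (Submodule.mkQ (Ideal.span {b}))
    (exact_subtype_mkQ b) (A ⧸ Ideal.span {a}) (Submodule.subtype_injective _)
    (Submodule.mkQ_surjective _)

/-- `A → Ext^1(A/(b), A/(a))`. -/
noncomputable def Φ : A →ₗ[A]
    Ext (ModuleCat.of A (A ⧸ Ideal.span {b})) (ModuleCat.of A (A ⧸ Ideal.span {a})) 1 :=
  (δ a b).comp (LinearMap.toSpanSingleton A _ (eK a b hab hann).symm.toLinearMap)

theorem Φ_surjective : Function.Surjective (Φ a b hab hann) := by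
  intro x
  obtain ⟨φ, rfl⟩ := ExtShift.deltaLin_surjective (Ideal.span {b} : Submodule A A).subtype
    (Submodule.mkQ (Ideal.span {b})) (Submodule.subtype_injective _)
    (Submodule.mkQ_surjective _) (exact_subtype_mkQ b) (A ⧸ Ideal.span {a}) x
  obtain ⟨t, ht⟩ := Submodule.Quotient.mk_surjective _ (φ (eK a b hab hann (Submodule.Quotient.mk 1)))
  refine ⟨t, ?_⟩
  unfold Φ δ
  rw [LinearMap.comp_apply, LinearMap.toSpanSingleton_apply]
  congr 1
  apply LinearMap.ext
  intro κ
  obtain ⟨q, rfl⟩ := (eK a b hab hann).surjective κ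
  obtain ⟨s, rfl⟩ := Submodule.Quotient.mk_surjective _ q
  rw [LinearMap.smul_apply, LinearEquiv.coe_coe, LinearEquiv.symm_apply_apply]
  have h1 : (Submodule.Quotient.mk s : A ⧸ Ideal.span {a}) = s • Submodule.Quotient.mk 1 := by
    rw [← Submodule.Quotient.mk_smul, smul_eq_mul, mul_one]
  rw [h1, map_smul, map_smul, ← ht, ← Submodule.Quotient.mk_smul, ← Submodule.Quotient.mk_smul,
    ← Submodule.Quotient.mk_smul, smul_eq_mul, smul_eq_mul, smul_eq_mul, mul_one, mul_comm]

theorem ker_Φ : LinearMap.ker (Φ a b hab hann) = Ideal.span {a} ⊔ Ideal.span {b} := by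
  ext t
  rw [LinearMap.mem_ker]
  unfold Φ δ
  rw [LinearMap.comp_apply, ExtShift.deltaLin_eq_zero_iff, LinearMap.toSpanSingleton_apply]
  have hb1 : (eK a b hab hann (Submodule.Quotient.mk 1) : A) = b := by
    change ((toK a b hab (Submodule.Quotient.mk 1) : ↥(Ideal.span {b})) : A) = b
    rw [toK_mk, one_mul]
  constructor
  · rintro ⟨ψ, hψ⟩
    have h1 := congrArg (fun f => f (eK a b hab hann (Submodule.Quotient.mk 1))) hψ
    simp only [LinearMap.comp_apply, LinearMap.smul_apply, LinearEquiv.coe_coe,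
      LinearEquiv.symm_apply_apply, Submodule.subtype_apply] at h1
    rw [hb1] at h1
    obtain ⟨r, hr⟩ := Submodule.Quotient.mk_surjective _ (ψ 1)
    have h2 : ψ b = b • ψ 1 := by
      rw [← map_smul, smul_eq_mul, mul_one]
    rw [h2, ← hr, ← Submodule.Quotient.mk_smul, ← Submodule.Quotient.mk_smul,
      Submodule.Quotient.eq, smul_eq_mul, smul_eq_mul, mul_one] at h1
    have : t = -(b * r - t) + b * r := by ring
    rw [this]
    exact Ideal.add_mem _ (Ideal.mem_sup_left (Ideal.neg_mem_iff _ |>.2 h1))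
      (Ideal.mem_sup_right (Ideal.mem_span_singleton'.mpr ⟨r, mul_comm r b⟩))
  · intro ht
    obtain ⟨z, hz, w, hw, rfl⟩ := Submodule.mem_sup.mp ht
    obtain ⟨u, rfl⟩ := Ideal.mem_span_singleton'.mp hz
    obtain ⟨r, rfl⟩ := Ideal.mem_span_singleton'.mp hw
    refine ⟨LinearMap.toSpanSingleton A _ (Submodule.Quotient.mk r), ?_⟩
    apply LinearMap.ext
    intro κ
    obtain ⟨q, rfl⟩ := (eK a b hab hann).surjective κ
    obtain ⟨s, rfl⟩ := Submodule.Quotient.mk_surjective _ q
    rw [LinearMap.comp_apply, Submodule.subtype_apply, LinearMap.smul_apply, LinearEquiv.coe_coe,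
      LinearEquiv.symm_apply_apply, LinearMap.toSpanSingleton_apply]
    change (toK a b hab (Submodule.Quotient.mk s) : A) • _ = _
    rw [toK_mk, ← Submodule.Quotient.mk_smul, ← Submodule.Quotient.mk_smul, Submodule.Quotient.eq,
      smul_eq_mul, smul_eq_mul]
    have : s * b * r - (u * a + r * b) * s = a * (-(u * s)) := by ring
    rw [this]
    exact Ideal.mul_mem_right _ _ (Ideal.mem_span_singleton_self a)

end Groth.Agent.Lib.helper11.ExtExactPair
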