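import Mathlib
import Groth.Agent.Lib.helper11.EWFin

/-!
# `Ext^n(M, -)` as a linear endofunctor of `ModuleCat R`; right exactness in top degree (helper11)
-/

set_option autoImplicit false

namespace Groth.Agent.Lib.helper11.ExtFun

open CategoryTheory Limits Abelian
open Groth.Agent.Lib.helper11.EW

universe u

variable {R : Type u} [CommRing R] (M : ModuleCat.{u} R) (n : ℕ)

/-- `N ↦ Ext^n(M, N)`. -/
noncomputable def extF : ModuleCat.{u} R ⥤ ModuleCat.{u} R where
  obj N := ModuleCat.of R (Ext M N n)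
  map g := ModuleCat.ofHom ((Ext.mk₀ g).postcompOfLinear R M (add_zero n))
  map_id N := by
    ext x
    exact Ext.comp_mk₀_id x
  map_comp f g := by
    ext x
    change x.comp (Ext.mk₀ (f ≫ g)) (add_zero n) =
      (x.comp (Ext.mk₀ f) (add_zero n)).comp (Ext.mk₀ g) (add_zero n)
    rw [← Ext.mk₀_comp_mk₀, Ext.comp_assoc_of_third_deg_zero]

theorem extF_map_apply {N N' : ModuleCat.{u} R} (g : N ⟶ N') (x : Ext M N n) :
    ((extF M n).map g).hom x = x.comp (Ext.mk₀ g) (add_zero n) := rfl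

instance : (extF M n).Additive where
  map_add {N N' f g} := by
    ext x
    change x.comp (Ext.mk₀ (f + g)) (add_zero n) = _
    rw [Ext.mk₀_add, Ext.comp_add]
    rfl

instance : (extF M n).Linear R where
  map_smul {N N'} f r := by
    ext x
    change x.comp (Ext.mk₀ (r • f)) (add_zero n) = _
    rw [Ext.mk₀_smul, Ext.comp_smul]
    rfl

/-- `Ext^n(M, -)` is right exact when `Ext^{n+1}(M, -)` vanishes. -/
theorem rightExactOnFinite (h : HasProjectiveDimensionLT M (n + 1)) :
    RightExactOnFinite (extF M n) := by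
  intro S hS _ _ _
  constructor
  · intro x₂ hx₂
    obtain ⟨x₁, hx₁⟩ := Ext.covariant_sequence_exact₂ M hS x₂ hx₂
    exact ⟨x₁, hx₁⟩
  · intro x₃
    obtain ⟨x₂, hx₂⟩ := Ext.covariant_sequence_exact₃ M hS x₃ (n₁ := n + 1) rfl
      (Ext.eq_zero_of_hasProjectiveDimensionLT _ (n + 1) le_rfl)
    exact ⟨x₂, hx₂⟩

/-- Eilenberg–Watts for the top `Ext`: `Ext^n(M, R) ⊗ N ≃ Ext^n(M, N)` for finite `N`. -/
theorem nonempty_tensor_equiv [IsNoetherianRing R] (h : HasProjectiveDimensionLT M (n + 1))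
    (N : ModuleCat.{u} R) [Module.Finite R N] :
    Nonempty (TensorProduct R (Ext M (ModuleCat.of R R) n) N ≃ₗ[R] Ext M N n) :=
  ⟨LinearEquiv.ofBijective (tM (extF M n) N)
    (tM_bijective_of_finite (extF M n) (rightExactOnFinite M n h) N)⟩

end Groth.Agent.Lib.helper11.ExtFun
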