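import Mathlib
import Groth.Prelude.Def_CAlgX
import Groth.Agent.Lib.Helper26.QRegFlat
import Groth.Agent.Lib.Helper21.TorClass

/-!
# `Tor` of the powers of an ideal generated by a quasi-regular sequence (helper11)

If `f` is quasi-regular, `J = (f)`, and `Tor_j(A/J, M) = 0` for all `j ≥ 1`, then
`Tor_j(J^n/J^{n+1}, M)`, `Tor_j(A/J^n, M)` and `Tor_j(J^n, M)` vanish for all `j ≥ 1`.
-/

set_option autoImplicit false
set_option linter.unusedSectionVars false
universe u

open CategoryTheory CategoryTheory.Limits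

namespace Groth.Agent.Lib.helper11.QRTor

open Groth.Agent.Lib.Helper21.TorLES Groth.Agent.Lib.Helper21.TorClass
  Groth.Agent.Lib.Helper21.TorShift Groth.Agent.Lib.Helper26.QRegBC

variable {A : Type u} [CommRing A]

/-- transport of `Tor`-vanishing along a linear equivalence in the first variable -/
lemma isZero_tor_of_equiv {X Y : Type u} [AddCommGroup X] [Module A X] [AddCommGroup Y]
    [Module A Y] (e : X ≃ₗ[A] Y) (N : ModuleCat.{u} A) (j : ℕ)
    (h : IsZero (((Tor (ModuleCat.{u} A) j).obj (ModuleCat.of A X)).obj N)) :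
    IsZero (((Tor (ModuleCat.{u} A) j).obj (ModuleCat.of A Y)).obj N) :=
  IsZero.of_iso h (((Tor (ModuleCat.{u} A) j).mapIso e.toModuleIso.symm).app N)

/-- two surjections with the same kernel have isomorphic targets -/
noncomputable def equivOfKerEq {X Y Z : Type u} [AddCommGroup X] [Module A X] [AddCommGroup Y]
    [Module A Y] [AddCommGroup Z] [Module A Z] (p : X →ₗ[A] Y) (p' : X →ₗ[A] Z)
    (hp : Function.Surjective p) (hp' : Function.Surjective p')
    (hk : LinearMap.ker p = LinearMap.ker p') : Y ≃ₗ[A] Z :=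
  (p.quotKerEquivOfSurjective hp).symm ≪≫ₗ Submodule.quotEquivOfEq _ _ hk ≪≫ₗ
    p'.quotKerEquivOfSurjective hp'

section Ses

variable (L L2 : Ideal A) (h : L ≤ L2)

/-- `L2/L → A/L` -/
noncomputable def grIncl : (↥L2 ⧸ Submodule.comap L2.subtype L) →ₗ[A] (A ⧸ L) :=
  Submodule.mapQ _ _ L2.subtype le_rfl

/-- `A/L → A/L2` -/
noncomputable def quotProj : (A ⧸ L) →ₗ[A] (A ⧸ L2) :=
  Submodule.mapQ L L2 LinearMap.id (by simpa using h)

lemma grIncl_mk (b : ↥L2) :
    grIncl L L2 (Submodule.Quotient.mk b) = Submodule.Quotient.mk (b : A) := rfl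

lemma quotProj_mk (b : A) :
    quotProj L L2 h (Submodule.Quotient.mk b) = Submodule.Quotient.mk b := rfl

lemma grIncl_injective : Function.Injective (grIncl L L2) := by
  rw [injective_iff_map_eq_zero]
  intro x hx
  obtain ⟨b, rfl⟩ := Submodule.Quotient.mk_surjective _ x
  rw [grIncl_mk, Submodule.Quotient.mk_eq_zero] at hx
  rw [Submodule.Quotient.mk_eq_zero]
  exact hx

lemma quotProj_surjective : Function.Surjective (quotProj L L2 h) := by
  intro y
  obtain ⟨b, rfl⟩ := Submodule.Quotient.mk_surjective _ y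
  exact ⟨Submodule.Quotient.mk b, rfl⟩

lemma exact_grIncl_quotProj : Function.Exact (grIncl L L2) (quotProj L L2 h) := by
  intro y
  constructor
  · intro hy
    obtain ⟨b, rfl⟩ := Submodule.Quotient.mk_surjective _ y
    rw [quotProj_mk, Submodule.Quotient.mk_eq_zero] at hy
    exact ⟨Submodule.Quotient.mk ⟨b, hy⟩, rfl⟩
  · rintro ⟨x, rfl⟩
    obtain ⟨b, rfl⟩ := Submodule.Quotient.mk_surjective _ x
    rw [grIncl_mk, quotProj_mk, Submodule.Quotient.mk_eq_zero]
    exact b.2

end Ses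

section Gr

variable {ι : Type} [Fintype ι] (m : ι → A) (L L2 J : Ideal A)
  (hL2 : L ⊔ Ideal.span (Set.range m) = L2)
  (hi : ∀ c : ι → A, ∑ d, c d * m d ∈ L ↔ ∀ d, c d ∈ J)

/-- reduction of coefficients mod `J` -/
noncomputable def Pq : (ι → A) →ₗ[A] (ι → A ⧸ J) := (Submodule.mkQ J).compLeft ι

lemma Pq_surjective : Function.Surjective (Pq (ι := ι) J) := by
  intro y
  choose c hc using fun d => Submodule.Quotient.mk_surjective J (y d)
  exact ⟨c, funext hc⟩

lemma mem_ker_Pq (c : ι → A) : c ∈ LinearMap.ker (Pq (ι := ι) J) ↔ ∀ d, c d ∈ J := by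
  rw [LinearMap.mem_ker]
  constructor
  · intro h d
    have := congrFun h d
    exact (Submodule.Quotient.mk_eq_zero J).1 this
  · intro h
    funext d
    exact (Submodule.Quotient.mk_eq_zero J).2 (h d)

include hL2 in
lemma comb_mem (c : ι → A) : Fintype.linearCombination A m c ∈ L2 := by
  rw [← hL2, Fintype.linearCombination_apply]
  refine Ideal.mem_sup_right (Ideal.sum_mem _ fun d _ => ?_)
  exact Ideal.mul_mem_left _ _ (Ideal.subset_span (Set.mem_range_self d))

/-- `c ↦ [Σ c_d m_d] ∈ L2/L` -/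
noncomputable def Phi : (ι → A) →ₗ[A] (↥L2 ⧸ Submodule.comap L2.subtype L) :=
  (Submodule.mkQ _) ∘ₗ
    (LinearMap.codRestrict L2 (Fintype.linearCombination A m) (comb_mem m L L2 hL2))

include hi in
lemma mem_ker_Phi (c : ι → A) :
    c ∈ LinearMap.ker (Phi m L L2 hL2) ↔ ∀ d, c d ∈ J := by
  rw [LinearMap.mem_ker, ← hi]
  change Submodule.Quotient.mk _ = 0 ↔ _
  rw [Submodule.Quotient.mk_eq_zero, Submodule.mem_comap]
  change Fintype.linearCombination A m c ∈ L ↔ _
  rw [Fintype.linearCombination_apply]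
  simp only [smul_eq_mul]

lemma Phi_surjective : Function.Surjective (Phi m L L2 hL2) := by
  intro y
  obtain ⟨⟨b, hb⟩, rfl⟩ := Submodule.Quotient.mk_surjective _ y
  have hb' := hb
  rw [← hL2, Submodule.mem_sup] at hb'
  obtain ⟨l, hl, s, hs, hls⟩ := hb'
  rw [Ideal.mem_span_range_iff_exists_fun] at hs
  obtain ⟨c, hc⟩ := hs
  refine ⟨c, ?_⟩
  change Submodule.Quotient.mk _ = Submodule.Quotient.mk _
  rw [Submodule.Quotient.eq, Submodule.mem_comap]
  change Fintype.linearCombination A m c - b ∈ L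
  rw [Fintype.linearCombination_apply]
  simp only [smul_eq_mul]
  rw [hc, ← hls]
  have : s - (l + s) = -l := by ring
  rw [this]
  exact L.neg_mem hl

/-- `L2/L ≅ (A/J)^ι` -/
noncomputable def grEquiv : (ι → A ⧸ J) ≃ₗ[A] (↥L2 ⧸ Submodule.comap L2.subtype L) :=
  equivOfKerEq (Pq J) (Phi m L L2 hL2) (Pq_surjective J) (Phi_surjective m L L2 hL2) (by
    ext c
    rw [mem_ker_Pq, mem_ker_Phi m L L2 J hL2 hi])

end Gr

section Tor

variable (M : Type u) [AddCommGroup M] [Module A M]

/-- `Tor_j((A/J)^ι, M) = 0` -/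
lemma isZero_tor_pi (J : Ideal A)
    (H : ∀ j, 1 ≤ j →
      IsZero (((Tor (ModuleCat.{u} A) j).obj (ModuleCat.of A (A ⧸ J))).obj (ModuleCat.of A M)))
    (ι : Type) [Fintype ι] (j : ℕ) (hj : 1 ≤ j) :
    IsZero (((Tor (ModuleCat.{u} A) j).obj (ModuleCat.of A (ι → A ⧸ J))).obj
      (ModuleCat.of A M)) := by
  have h1 := isZero_tor_fin_pi (A := A) (A ⧸ J) M j (fun i hi _ => H i hi) (Fintype.card ι) j hj
    le_rfl
  exact isZero_tor_of_equiv (LinearEquiv.funCongrLeft A (A ⧸ J) (Fintype.equivFin ι)) _ j h1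

variable {r : ℕ} (f : Fin r → A) (hq : CAlgX.IsQuasiRegular f)
  (H : ∀ j, 1 ≤ j → IsZero (((Tor (ModuleCat.{u} A) j).obj
    (ModuleCat.of A (A ⧸ Ideal.span (Set.range f)))).obj (ModuleCat.of A M)))

include hq H in
/-- `Tor_j(J^n/J^{n+1}, M) = 0` -/
theorem isZero_tor_gr (n j : ℕ) (hj : 1 ≤ j) :
    IsZero (((Tor (ModuleCat.{u} A) j).obj (ModuleCat.of A
      (↥(Ideal.span (Set.range f) ^ n) ⧸ Submodule.comap (Ideal.span (Set.range f) ^ n).subtype
        (Ideal.span (Set.range f) ^ (n + 1))))).obj (ModuleCat.of A M)) := by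
  classical
  have hi : ∀ c : ↥(Mn r n) → A, ∑ d, c d * mfam f n d ∈ Ideal.span (Set.range f) ^ (n + 1) ↔
      ∀ d, c d ∈ Ideal.span (Set.range f) := by
    intro c
    have := hi_iff A A r f hq n c
    rwa [psi_apply] at this
  exact isZero_tor_of_equiv (grEquiv (mfam f n) _ _ _ (sup_span_mfam f n) hi) _ j
    (isZero_tor_pi M _ H _ j hj)

include hq H in
/-- `Tor_j(A/J^n, M) = 0` -/
theorem isZero_tor_quot_pow (n : ℕ) : ∀ j, 1 ≤ j →
    IsZero (((Tor (ModuleCat.{u} A) j).obj (ModuleCat.of A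
      (A ⧸ Ideal.span (Set.range f) ^ n))).obj (ModuleCat.of A M)) := by
  induction n with
  | zero =>
    intro j hj
    haveI : Subsingleton (A ⧸ Ideal.span (Set.range f) ^ 0) := by
      rw [pow_zero, Ideal.one_eq_top]
      exact Ideal.Quotient.subsingleton_iff.mpr rfl
    haveI : Module.Flat A (ModuleCat.of A (A ⧸ Ideal.span (Set.range f) ^ 0)) :=
      inferInstanceAs (Module.Flat A (A ⧸ Ideal.span (Set.range f) ^ 0))
    exact isZero_tor_of_flat_left _ _ j hj
  | succ n ih =>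
    intro j hj
    have hle : Ideal.span (Set.range f) ^ (n + 1) ≤ Ideal.span (Set.range f) ^ n :=
      Ideal.pow_le_pow_right (Nat.le_succ n)
    exact isZero_tor_mid _ _ _
      (shortExact_of _ _ (grIncl_injective _ _) (exact_grIncl_quotProj _ _ hle)
        (quotProj_surjective _ _ hle)) _ j (isZero_tor_gr M f hq H n j hj) (ih j hj)

include hq H in
/-- `Tor_j(J^n, M) = 0` -/
theorem isZero_tor_pow (n j : ℕ) (hj : 1 ≤ j) :
    IsZero (((Tor (ModuleCat.{u} A) j).obj (ModuleCat.of A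
      ↥(Ideal.span (Set.range f) ^ n))).obj (ModuleCat.of A M)) := by
  obtain ⟨k, rfl⟩ : ∃ k, j = k + 1 := ⟨j - 1, by omega⟩
  set I := Ideal.span (Set.range f) ^ n with hI
  have hS := shortExact_of (Submodule.subtype I) (Submodule.mkQ I) Subtype.val_injective
    (LinearMap.exact_subtype_mkQ I) (Submodule.mkQ_surjective I)
  haveI : Module.Flat A (ModuleCat.of A A) := inferInstanceAs (Module.Flat A A)
  exact IsZero.of_iso (isZero_tor_quot_pow M f hq H n (k + 2) (by omega))
    (torFirstShiftIso _ _ _ hS (ModuleCat.of A M) k).symm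

end Tor

end Groth.Agent.Lib.helper11.QRTor
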