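import Mathlib
import Groth.Agent.Lib.helper11.QRTor

/-!
# Exterior powers over `A` of a free module over a quotient `A ⧸ K` (helper11)

For `i ≥ 1` and `M` free over `A ⧸ K` with basis indexed by `I`, `⋀[A]^i M ≃ₗ[A] (A ⧸ K)^(I choose i)`.
-/

set_option autoImplicit false
set_option linter.unusedSectionVars false
universe u

namespace Groth.Agent.Lib.helper11.ExtPowQuot

open exteriorPower Set.powersetCard Module
open Groth.Agent.Lib.helper11.QRTor

section MapEquiv

variable {R : Type*} [CommRing R] {M N : Type*} [AddCommGroup M] [Module R M]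
  [AddCommGroup N] [Module R N]

/-- functoriality of exterior powers for linear equivalences -/
noncomputable def mapEquiv (n : ℕ) (e : M ≃ₗ[R] N) : ⋀[R]^n M ≃ₗ[R] ⋀[R]^n N :=
  LinearEquiv.ofLinear (exteriorPower.map n e.toLinearMap) (exteriorPower.map n e.symm.toLinearMap)
    (by rw [← exteriorPower.map_comp, LinearEquiv.comp_symm, exteriorPower.map_id])
    (by rw [← exteriorPower.map_comp, LinearEquiv.symm_comp, exteriorPower.map_id])

end MapEquiv

variable {A : Type u} [CommRing A] (K : Ideal A) {I : Type} [LinearOrder I] [Fintype I]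
  {M : Type u} [AddCommGroup M] [Module A M] [Module (A ⧸ K) M] [IsScalarTower A (A ⧸ K) M]
  (b : Basis I (A ⧸ K) M) (i : ℕ)

/-- comparison `⋀[A]^i M → ⋀[A ⧸ K]^i M` -/
noncomputable def altRestrict : M [⋀^Fin i]→ₗ[A] ⋀[A ⧸ K]^i M :=
  { (ιMulti (A ⧸ K) i (M := M)).toMultilinearMap.restrictScalars A with
    map_eq_zero_of_eq' := fun v j k h hjk => (ιMulti (A ⧸ K) i).map_eq_zero_of_eq v h hjk }

noncomputable def Psi : ⋀[A]^i M →ₗ[A] ⋀[A ⧸ K]^i M :=
  alternatingMapLinearEquiv (altRestrict K i (M := M))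

lemma Psi_ιMulti (v : Fin i → M) : Psi K i (ιMulti A i v) = ιMulti (A ⧸ K) i v := by
  rw [Psi, alternatingMapLinearEquiv_apply_ιMulti]
  rfl

/-- detection functionals -/
noncomputable def Det (s : Set.powersetCard I i) : ⋀[A]^i M →ₗ[A] (A ⧸ K) :=
  ((ιMultiDual (A ⧸ K) i b s).restrictScalars A) ∘ₗ Psi K i

lemma Det_family (s t : Set.powersetCard I i) :
    Det K b i s (ιMulti_family A i b t) = if s = t then 1 else 0 := by
  have h1 : Psi K i (ιMulti_family A i (⇑b) t) = ιMulti_family (A ⧸ K) i (⇑b) t := by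
    rw [ιMulti_family, Psi_ιMulti]
    rfl
  change ιMultiDual (A ⧸ K) i b s (Psi K i (ιMulti_family A i (⇑b) t)) = _
  rw [h1]
  split_ifs with h
  · subst h
    exact ιMultiDual_apply_diag (A ⧸ K) i b s
  · exact ιMultiDual_apply_nondiag (A ⧸ K) i b s t h

/-- `a ↦ Σ a_s • b_s` -/
noncomputable def Phi : (Set.powersetCard I i → A) →ₗ[A] ⋀[A]^i M :=
  Fintype.linearCombination A (ιMulti_family A i (⇑b))

lemma span_basis : Submodule.span A (Set.range b) = ⊤ := by
  rw [eq_top_iff]
  intro m _
  rw [← b.sum_repr m]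
  refine Submodule.sum_mem _ fun k _ => ?_
  obtain ⟨a, ha⟩ := Ideal.Quotient.mk_surjective (b.repr m k)
  have : b.repr m k • b k = a • b k := by
    rw [← ha]
    exact algebraMap_smul (A ⧸ K) a (b k)
  rw [this]
  exact Submodule.smul_mem _ _ (Submodule.subset_span (Set.mem_range_self k))

lemma Phi_surjective : Function.Surjective (Phi K b i) := by
  rw [← LinearMap.range_eq_top, Phi, Fintype.range_linearCombination]
  exact ιMulti_family_span_of_span A (span_basis K b)

lemma smul_family_eq_zero (hi : 1 ≤ i) (a : A) (ha : a ∈ K) (s : Set.powersetCard I i) :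
    a • ιMulti_family A i (⇑b) s = 0 := by
  rw [ιMulti_family]
  set v : Fin i → M := ⇑b ∘ (ofFinEmbEquiv.symm s) with hv
  let j0 : Fin i := ⟨0, hi⟩
  have h1 : ιMulti A i v = ιMulti A i (Function.update v j0 (v j0)) := by
    rw [Function.update_eq_self]
  rw [h1, ← AlternatingMap.map_update_smul]
  have h2 : a • v j0 = 0 := by
    have : a • v j0 = (Ideal.Quotient.mk K a) • v j0 := (algebraMap_smul (A ⧸ K) a (v j0)).symm
    rw [this, Ideal.Quotient.eq_zero_iff_mem.2 ha, zero_smul]
  rw [h2]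
  exact AlternatingMap.map_coord_zero _ j0 (Function.update_self _ _ _)

lemma mem_ker_Phi (hi : 1 ≤ i) (a : Set.powersetCard I i → A) :
    a ∈ LinearMap.ker (Phi K b i) ↔ ∀ s, a s ∈ K := by
  rw [LinearMap.mem_ker, Phi, Fintype.linearCombination_apply]
  constructor
  · intro h s
    have h1 := congrArg (Det K b i s) h
    rw [map_zero, map_sum] at h1
    simp only [map_smul, Det_family] at h1
    rw [Finset.sum_eq_single s] at h1
    · rw [if_pos rfl] at h1
      have h2 : a s • (1 : A ⧸ K) = Ideal.Quotient.mk K (a s) := by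
        rw [Algebra.smul_def, mul_one]; rfl
      rw [h2] at h1
      exact Ideal.Quotient.eq_zero_iff_mem.1 h1
    · intro t _ hts
      rw [if_neg (Ne.symm hts), smul_zero]
    · intro h; exact absurd (Finset.mem_univ s) h
  · intro h
    exact Finset.sum_eq_zero fun s _ => smul_family_eq_zero K b i hi (a s) (h s) s

/-- `⋀[A]^i M ≃ (A ⧸ K)^(I choose i)` for `i ≥ 1` -/
noncomputable def extPowEquiv (hi : 1 ≤ i) :
    ⋀[A]^i M ≃ₗ[A] (Set.powersetCard I i → A ⧸ K) :=
  (equivOfKerEq (Pq K) (Phi K b i) (Pq_surjective K) (Phi_surjective K b i) (by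
    ext a
    rw [mem_ker_Pq, mem_ker_Phi K b i hi])).symm

end Groth.Agent.Lib.helper11.ExtPowQuot
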