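import Mathlib
import Groth.Agent.Lib.Helper8.TorBal4
import Groth.Agent.Lib.Helper21.TorLES

/-!
# First-variable long exact sequence of `Tor`, natural in the second variable (helper11)

Built on helper8's bifunctor model `B R n M N = H_n(M ⊗ Res N)` (`Res N` the functorial free
resolution).  For a short exact sequence `0 → M₁ → M₂ → M₃ → 0` we get the connecting maps
`δ : B (i+1) M₃ N → B i M₁ N`, natural in `N`, with the usual exactness, stated elementwise.
-/

set_option autoImplicit false

namespace Groth.Agent.Lib.helper11.TorNat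

open CategoryTheory Limits MonoidalCategory
open Groth.Agent.Lib.Helper8.TorBal1 Groth.Agent.Lib.Helper8.TorBal2

universe u

variable {R : Type u} [CommRing R]

section LES

variable {M₁ M₂ M₃ : ModuleCat.{u} R} (f : M₁ ⟶ M₂) (g : M₂ ⟶ M₃) (w : f ≫ g = 0)
  (hS : (ShortComplex.mk f g w).ShortExact)

/-- the short complex of complexes `M₁ ⊗ Res N → M₂ ⊗ Res N → M₃ ⊗ Res N`. -/
noncomputable def SC (N : ModuleCat.{u} R) : ShortComplex (ChainComplex (ModuleCat.{u} R) ℕ) :=
  ShortComplex.mk ((TCmap R f).app N) ((TCmap R g).app N) (by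
    rw [← NatTrans.comp_app, ← TCmap_comp, w]
    ext n : 1
    simp [TCmap]
    rfl)

include hS in
theorem SC_shortExact (N : ModuleCat.{u} R) : (SC f g w N).ShortExact := by
  apply HomologicalComplex.shortExact_of_degreewise_shortExact
  intro n
  haveI : Projective (((Res R).obj N).X n) := (res R N).projective n
  exact Groth.Agent.Lib.Helper21.TorLES.shortExact_app f g w hS (((Res R).obj N).X n)

/-- functoriality of `SC` in `N`. -/
noncomputable def SCmap {N N' : ModuleCat.{u} R} (π : N ⟶ N') : SC f g w N ⟶ SC f g w N' where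
  τ₁ := (TC R M₁).map π
  τ₂ := (TC R M₂).map π
  τ₃ := (TC R M₃).map π
  comm₁₂ := ((TCmap R f).naturality π)
  comm₂₃ := ((TCmap R g).naturality π)

/-- the connecting map. -/
noncomputable def δ (N : ModuleCat.{u} R) (i : ℕ) :
    ((B R (i + 1)).obj M₃).obj N ⟶ ((B R i).obj M₁).obj N :=
  (SC_shortExact f g w hS N).δ (i + 1) i (by simp)

theorem δ_natural {N N' : ModuleCat.{u} R} (π : N ⟶ N') (i : ℕ) :
    δ f g w hS N i ≫ ((B R i).obj M₁).map π = ((B R (i + 1)).obj M₃).map π ≫ δ f g w hS N' i :=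
  HomologicalComplex.HomologySequence.δ_naturality (SCmap f g w π) (SC_shortExact f g w hS N)
    (SC_shortExact f g w hS N') (i + 1) i (by simp)

theorem δ_natural_apply {N N' : ModuleCat.{u} R} (π : N ⟶ N') (i : ℕ)
    (x : ((B R (i + 1)).obj M₃).obj N) :
    (((B R i).obj M₁).map π).hom ((δ f g w hS N i).hom x) =
      (δ f g w hS N' i).hom ((((B R (i + 1)).obj M₃).map π).hom x) := by
  have := congrArg (fun φ => φ.hom x) (δ_natural f g w hS π i)
  simpa using this

/-- exactness at `B (i+1) M₃ N`. -/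
theorem exists_of_δ_eq_zero (N : ModuleCat.{u} R) (i : ℕ) (x : ((B R (i + 1)).obj M₃).obj N)
    (hx : (δ f g w hS N i).hom x = 0) :
    ∃ y : ((B R (i + 1)).obj M₂).obj N, (((B R (i + 1)).map g).app N).hom y = x := by
  have hex := (SC_shortExact f g w hS N).homology_exact₃ (i + 1) i (by simp)
  rw [ShortComplex.moduleCat_exact_iff] at hex
  exact hex x hx

/-- exactness at `B i M₁ N`. -/
theorem map_δ_apply (N : ModuleCat.{u} R) (i : ℕ) (x : ((B R (i + 1)).obj M₃).obj N) :
    (((B R i).map f).app N).hom ((δ f g w hS N i).hom x) = 0 := by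
  have := (SC_shortExact f g w hS N).δ_comp (i + 1) i (by simp)
  exact congrArg (fun φ => φ.hom x) this

/-- naturality of `B n g` in the second variable, elementwise. -/
theorem map_map_apply (n : ℕ) {N N' : ModuleCat.{u} R} (π : N ⟶ N')
    (y : ((B R n).obj M₂).obj N) :
    (((B R n).obj M₃).map π).hom ((((B R n).map g).app N).hom y) =
      (((B R n).map g).app N').hom ((((B R n).obj M₂).map π).hom y) := by
  have := congrArg (fun φ => φ.hom y) (((B R n).map g).naturality π)
  exact this.symm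

open Groth.Agent.Lib.Helper8.TorBal4 in
/-- `h0 (δ x)` is killed by `f ⊗ N`. -/
theorem whiskerRight_h0_δ (N : ModuleCat.{u} R) (x : ((B R 1).obj M₃).obj N) :
    (f ▷ N).hom ((h0 R M₁ N).hom.hom ((δ f g w hS N 0).hom x)) = 0 := by
  have h1 := congrArg (fun φ => φ.hom ((δ f g w hS N 0).hom x)) (h0_natural_left R f N)
  have h2 := map_δ_apply f g w hS N 0 x
  simp only [ModuleCat.hom_comp, LinearMap.comp_apply] at h1
  rw [← h1, h2, map_zero]

include hS in
open Groth.Agent.Lib.Helper8.TorBal4 in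
/-- base step: an Artin–Rees type condition kills `B 1 M₃ π` when `M₂` is flat. -/
theorem van_one_of_AR [Module.Flat R M₂] {N N' : ModuleCat.{u} R} (π : N ⟶ N')
    (hAR : ∀ ℓ : (M₁ ⊗ N : ModuleCat.{u} R), (f ▷ N).hom ℓ = 0 → (M₁ ◁ π).hom ℓ = 0) :
    ((B R 1).obj M₃).map π = 0 := by
  ext x
  rw [ModuleCat.hom_zero, LinearMap.zero_apply]
  have hz : IsZero (((B R 1).obj M₂).obj N') :=
    Groth.Agent.Lib.Helper21.TorLES.isZero_H_succ_of_flat M₂ (res R N') 0
  have hδ : (δ f g w hS N' 0).hom ((((B R 1).obj M₃).map π).hom x) = 0 := by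
    rw [← δ_natural_apply]
    have h1 := hAR _ (whiskerRight_h0_δ f g w hS N x)
    have h2 := congrArg (fun φ => φ.hom ((δ f g w hS N 0).hom x)) (h0_natural_right R M₁ π)
    simp only [ModuleCat.hom_comp, LinearMap.comp_apply] at h2
    rw [← h2] at h1
    have hinj : Function.Injective (h0 R M₁ N').hom.hom :=
      (ModuleCat.mono_iff_injective _).mp inferInstance
    exact hinj (h1.trans (map_zero _).symm)
  obtain ⟨y, hy⟩ := exists_of_δ_eq_zero f g w hS N' 0 _ hδ
  have : y = 0 := by
    have := congrArg (fun φ => φ.hom y) (hz.eq_of_src (𝟙 _) 0)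
    simpa using this
  rw [← hy, this, map_zero]

include hS in
/-- induction step: when `M₂` is flat. -/
theorem van_succ [Module.Flat R M₂] {N N' : ModuleCat.{u} R} (π : N ⟶ N') (i : ℕ)
    (h : ((B R (i + 1)).obj M₁).map π = 0) : ((B R (i + 2)).obj M₃).map π = 0 := by
  ext x
  rw [ModuleCat.hom_zero, LinearMap.zero_apply]
  have hz : IsZero (((B R (i + 2)).obj M₂).obj N') :=
    Groth.Agent.Lib.Helper21.TorLES.isZero_H_succ_of_flat M₂ (res R N') (i + 1)
  have hδ : (δ f g w hS N' (i + 1)).hom ((((B R (i + 2)).obj M₃).map π).hom x) = 0 := by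
    rw [← δ_natural_apply, h, ModuleCat.hom_zero, LinearMap.zero_apply]
  obtain ⟨y, hy⟩ := exists_of_δ_eq_zero f g w hS N' (i + 1) _ hδ
  have : y = 0 := by
    have := congrArg (fun φ => φ.hom y) (hz.eq_of_src (𝟙 _) 0)
    simpa using this
  rw [← hy, this, map_zero]

include hS in
/-- general step through the middle term. -/
theorem van_of_mid {N N' N'' : ModuleCat.{u} R} (π₁ : N ⟶ N') (π₂ : N' ⟶ N'') (i : ℕ)
    (h1 : ((B R i).obj M₁).map π₁ = 0) (h2 : ((B R (i + 1)).obj M₂).map π₂ = 0) :
    ((B R (i + 1)).obj M₃).map (π₁ ≫ π₂) = 0 := by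
  ext x
  rw [ModuleCat.hom_zero, LinearMap.zero_apply, Functor.map_comp, ModuleCat.hom_comp,
    LinearMap.comp_apply]
  have hδ : (δ f g w hS N' i).hom ((((B R (i + 1)).obj M₃).map π₁).hom x) = 0 := by
    rw [← δ_natural_apply, h1, ModuleCat.hom_zero, LinearMap.zero_apply]
  obtain ⟨y, hy⟩ := exists_of_δ_eq_zero f g w hS N' i _ hδ
  rw [← hy, map_map_apply, h2, ModuleCat.hom_zero, LinearMap.zero_apply, map_zero]

include hS in
open Groth.Agent.Lib.Helper8.TorBal4 in
/-- degree one through the middle term, when `f ⊗ N` is injective. -/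
theorem van_one_of_inj {N N' : ModuleCat.{u} R} (π : N ⟶ N')
    (hinj : Function.Injective (f ▷ N).hom) (h2 : ((B R 1).obj M₂).map π = 0) :
    ((B R 1).obj M₃).map π = 0 := by
  ext x
  rw [ModuleCat.hom_zero, LinearMap.zero_apply]
  have hδ : (δ f g w hS N 0).hom x = 0 := by
    have h1 := whiskerRight_h0_δ f g w hS N x
    have h3 := hinj (h1.trans (map_zero _).symm)
    have hinj' : Function.Injective (h0 R M₁ N).hom.hom :=
      (ModuleCat.mono_iff_injective _).mp inferInstance
    exact hinj' (h3.trans (map_zero _).symm)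
  obtain ⟨y, hy⟩ := exists_of_δ_eq_zero f g w hS N 0 _ hδ
  rw [← hy, map_map_apply, h2, ModuleCat.hom_zero, LinearMap.zero_apply, map_zero]

end LES

end Groth.Agent.Lib.helper11.TorNat
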