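import Mathlib
import Groth.Agent.Lib.helper11.TorNat

/-!
# More on the first-variable LES of `Tor` (helper11)

Naturality of `TorNat.δ` with respect to morphisms of short exact sequences, exactness at
`B i M₁ N`, and the dimension-shifting equivalence
"`B (i+2) α = 0` for all `N` iff `B (i+1) β = 0` for all `N`" for a morphism `(β, γ, α)` of
short exact sequences with flat middle terms.
-/

set_option autoImplicit false

namespace Groth.Agent.Lib.helper11.TorNat

open CategoryTheory Limits MonoidalCategory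
open Groth.Agent.Lib.Helper8.TorBal1 Groth.Agent.Lib.Helper8.TorBal2

universe u

variable {R : Type u} [CommRing R]

section Exact₁

variable {M₁ M₂ M₃ : ModuleCat.{u} R} (f : M₁ ⟶ M₂) (g : M₂ ⟶ M₃) (w : f ≫ g = 0)
  (hS : (ShortComplex.mk f g w).ShortExact)

/-- exactness at `B i M₁ N`. -/
theorem exists_δ_of_map_eq_zero (N : ModuleCat.{u} R) (i : ℕ) (y : ((B R i).obj M₁).obj N)
    (hy : (((B R i).map f).app N).hom y = 0) :
    ∃ x : ((B R (i + 1)).obj M₃).obj N, (δ f g w hS N i).hom x = y := by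
  have hex := (SC_shortExact f g w hS N).homology_exact₁ (i + 1) i (by simp)
  rw [ShortComplex.moduleCat_exact_iff] at hex
  exact hex y hy

end Exact₁

section Left

variable {S S' : ShortComplex (ModuleCat.{u} R)} (hS : S.ShortExact) (hS' : S'.ShortExact)
  (φ : S ⟶ S')

/-- functoriality of `SC` in the short exact sequence. -/
noncomputable def SCmapL (N : ModuleCat.{u} R) :
    SC S.f S.g S.zero N ⟶ SC S'.f S'.g S'.zero N where
  τ₁ := (TCmap R φ.τ₁).app N
  τ₂ := (TCmap R φ.τ₂).app N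
  τ₃ := (TCmap R φ.τ₃).app N
  comm₁₂ := by
    change (TCmap R φ.τ₁).app N ≫ (TCmap R S'.f).app N =
      (TCmap R S.f).app N ≫ (TCmap R φ.τ₂).app N
    rw [← NatTrans.comp_app, ← NatTrans.comp_app, ← TCmap_comp, ← TCmap_comp, φ.comm₁₂]
  comm₂₃ := by
    change (TCmap R φ.τ₂).app N ≫ (TCmap R S'.g).app N =
      (TCmap R S.g).app N ≫ (TCmap R φ.τ₃).app N
    rw [← NatTrans.comp_app, ← NatTrans.comp_app, ← TCmap_comp, ← TCmap_comp, φ.comm₂₃]

theorem δ_natural_left (N : ModuleCat.{u} R) (i : ℕ) :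
    δ S.f S.g S.zero hS N i ≫ ((B R i).map φ.τ₁).app N =
      ((B R (i + 1)).map φ.τ₃).app N ≫ δ S'.f S'.g S'.zero hS' N i :=
  HomologicalComplex.HomologySequence.δ_naturality (SCmapL φ N)
    (SC_shortExact S.f S.g S.zero hS N) (SC_shortExact S'.f S'.g S'.zero hS' N) (i + 1) i (by simp)

theorem δ_natural_left_apply (N : ModuleCat.{u} R) (i : ℕ) (x : ((B R (i + 1)).obj S.X₃).obj N) :
    (((B R i).map φ.τ₁).app N).hom ((δ S.f S.g S.zero hS N i).hom x) =
      (δ S'.f S'.g S'.zero hS' N i).hom ((((B R (i + 1)).map φ.τ₃).app N).hom x) := by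
  have := congrArg (fun ψ => ψ.hom x) (δ_natural_left hS hS' φ N i)
  exact this

include hS hS' in
/-- dimension shifting for the vanishing of the map induced on `Tor`. -/
theorem map_eq_zero_iff_shift [Module.Flat R S.X₂] [Module.Flat R S'.X₂] (N : ModuleCat.{u} R)
    (i : ℕ) :
    ((B R (i + 2)).map φ.τ₃).app N = 0 ↔ ((B R (i + 1)).map φ.τ₁).app N = 0 := by
  have hz : IsZero (((B R (i + 1)).obj S.X₂).obj N) :=
    Groth.Agent.Lib.Helper21.TorLES.isZero_H_succ_of_flat S.X₂ (res R N) i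
  have hz' : IsZero (((B R (i + 2)).obj S'.X₂).obj N) :=
    Groth.Agent.Lib.Helper21.TorLES.isZero_H_succ_of_flat S'.X₂ (res R N) (i + 1)
  constructor
  · intro h
    ext y
    rw [ModuleCat.hom_zero, LinearMap.zero_apply]
    have hy : (((B R (i + 1)).map S.f).app N).hom y = 0 := by
      have := congrArg (fun ψ => ψ.hom ((((B R (i + 1)).map S.f).app N).hom y))
        (hz.eq_of_src (𝟙 _) 0)
      simpa using this
    obtain ⟨x, rfl⟩ := exists_δ_of_map_eq_zero S.f S.g S.zero hS N (i + 1) y hy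
    rw [δ_natural_left_apply hS hS' φ N (i + 1) x, h, ModuleCat.hom_zero, LinearMap.zero_apply,
      map_zero]
  · intro h
    ext x
    rw [ModuleCat.hom_zero, LinearMap.zero_apply]
    have hδ : (δ S'.f S'.g S'.zero hS' N (i + 1)).hom ((((B R (i + 2)).map φ.τ₃).app N).hom x) = 0 := by
      rw [← δ_natural_left_apply hS hS' φ N (i + 1) x, h, ModuleCat.hom_zero, LinearMap.zero_apply]
    obtain ⟨y, hy⟩ := exists_of_δ_eq_zero S'.f S'.g S'.zero hS' N (i + 1) _ hδ
    have : y = 0 := by
      have := congrArg (fun ψ => ψ.hom y) (hz'.eq_of_src (𝟙 _) 0)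
      simpa using this
    rw [← hy, this, map_zero]

end Left

end Groth.Agent.Lib.helper11.TorNat
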