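import Mathlib
import Groth.Agent.Lib.helper11.TorNat2
import Groth.Agent.Lib.helper11.ExtShift
import Groth.Agent.Lib.lead.TorFactorFree

/-!
# `α^* = 0` on `Ext^{e+1}` iff `α_* = 0` on `Tor_{e+1}` (helper11)

`R` Noetherian, `α : M → M'`, `M` finite.  Both conditions shift along syzygies
(`ext_shift`, `TorNat.map_eq_zero_iff_shift`), and for `e = 0` both say that `α` factors through a
free module (Ext side: lift along a free cover of `M'`; Tor side: lead's `TorFactorFree.main`).
-/

set_option autoImplicit false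

namespace Groth.Agent.Lib.helper11.ExtTorZero

open CategoryTheory Limits Abelian
open Groth.Agent.Lib.Helper8.TorBal1 Groth.Agent.Lib.Helper8.TorBal2

universe u

variable {R : Type u} [CommRing R]

section ExtSide

variable {S S' : ShortComplex (ModuleCat.{u} R)} (hS : S.ShortExact) (hS' : S'.ShortExact)
  (φ : S ⟶ S')

include hS hS' in
/-- dimension shifting for the vanishing of `α^*` on `Ext`. -/
theorem ext_shift [Projective S.X₂] [Projective S'.X₂] (N : ModuleCat.{u} R) (e : ℕ) :
    (∀ x : Ext S'.X₃ N (e + 2), (Ext.mk₀ φ.τ₃).comp x (zero_add _) = 0) ↔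
      (∀ x₁ : Ext S'.X₁ N (e + 1), (Ext.mk₀ φ.τ₁).comp x₁ (zero_add _) = 0) := by
  have hnat := ShortComplex.ShortExact.extClass_naturality hS hS' φ
  constructor
  · intro h x₁
    have h1 := h (hS'.extClass.comp x₁ (by omega : 1 + (e + 1) = e + 2))
    rw [← Ext.comp_assoc (Ext.mk₀ φ.τ₃) hS'.extClass x₁ (zero_add 1) (by omega) (by omega),
      ← hnat, Ext.comp_assoc hS.extClass (Ext.mk₀ φ.τ₁) x₁ (add_zero 1) (zero_add _) (by omega)]
      at h1
    obtain ⟨x₂, hx₂⟩ := Ext.contravariant_sequence_exact₁ hS N _ (by omega) h1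
    rw [← hx₂, Ext.eq_zero_of_projective x₂, Ext.comp_zero]
  · intro h x
    have h0 : (Ext.mk₀ S'.g).comp x (zero_add _) = 0 := Ext.eq_zero_of_projective _
    obtain ⟨x₁, rfl⟩ := Ext.contravariant_sequence_exact₃ hS' N x h0
      (by omega : 1 + (e + 1) = e + 2)
    rw [← Ext.comp_assoc (Ext.mk₀ φ.τ₃) hS'.extClass x₁ (zero_add 1) (by omega) (by omega),
      ← hnat, Ext.comp_assoc hS.extClass (Ext.mk₀ φ.τ₁) x₁ (add_zero 1) (zero_add _) (by omega),
      h x₁, Ext.comp_zero]

include hS' in
/-- if `α^*` kills the class of `S'` then `α` lifts to the middle term. -/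
theorem exists_lift_of_comp_extClass_eq_zero {M : ModuleCat.{u} R} (α : M ⟶ S'.X₃)
    (h : (Ext.mk₀ α).comp hS'.extClass (zero_add 1) = 0) : ∃ g : M ⟶ S'.X₂, g ≫ S'.g = α := by
  obtain ⟨x₂, hx₂⟩ := Ext.covariant_sequence_exact₃ M hS' (Ext.mk₀ α) (zero_add 1) h
  obtain ⟨g, rfl⟩ := (Ext.mk₀_bijective M S'.X₂).2 x₂
  rw [Ext.mk₀_comp_mk₀] at hx₂
  exact ⟨g, (Ext.mk₀_bijective M S'.X₃).1 hx₂⟩

/-- a map through a projective object kills positive `Ext`. -/
theorem comp_eq_zero_of_factor {M M' P N : ModuleCat.{u} R} [Projective P] (g : M ⟶ P)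
    (h : P ⟶ M') (e : ℕ) (x : Ext M' N (e + 1)) :
    (Ext.mk₀ (g ≫ h)).comp x (zero_add _) = 0 := by
  rw [← Ext.mk₀_comp_mk₀_assoc, Ext.eq_zero_of_projective ((Ext.mk₀ h).comp x (zero_add _)),
    Ext.comp_zero]

end ExtSide

section Main

/-- `α^*` kills `Ext^{e+1}(M', -)`. -/
def EA (e : ℕ) {M M' : Type u} [AddCommGroup M] [Module R M] [AddCommGroup M'] [Module R M']
    (α : M →ₗ[R] M') : Prop :=
  ∀ (N : ModuleCat.{u} R) (x : Ext (ModuleCat.of R M') N (e + 1)),
    (Ext.mk₀ (ModuleCat.ofHom α)).comp x (zero_add _) = 0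

/-- `α_*` kills `Tor_{e+1}(-, N)` (in helper8's model). -/
def TB (e : ℕ) {M M' : Type u} [AddCommGroup M] [Module R M] [AddCommGroup M'] [Module R M']
    (α : M →ₗ[R] M') : Prop :=
  ∀ N : ModuleCat.{u} R, ((B R (e + 1)).map (ModuleCat.ofHom α)).app N = 0

variable {M M' : Type u} [AddCommGroup M] [Module R M] [AddCommGroup M'] [Module R M']
  (α : M →ₗ[R] M')

/-- the free cover of `M'`. -/
noncomputable abbrev cov (M' : Type u) [AddCommGroup M'] [Module R M'] : (M' →₀ R) →ₗ[R] M' :=
  Finsupp.linearCombination R id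

theorem cov_surjective : Function.Surjective (cov (R := R) M') := fun x =>
  ⟨Finsupp.single x 1, by simp [cov]⟩

theorem EA_of_factor {P : Type u} [AddCommGroup P] [Module R P] [Module.Projective R P]
    (g : M →ₗ[R] P) (h : P →ₗ[R] M') (hα : α = h ∘ₗ g) (e : ℕ) : EA e α := by
  intro N x
  haveI : Projective (ModuleCat.of R P) :=
    (IsProjective.iff_projective (R := R) (P := P)).mp inferInstance
  have : ModuleCat.ofHom α = ModuleCat.ofHom g ≫ ModuleCat.ofHom h := by
    rw [hα]; rfl
  rw [this]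
  exact comp_eq_zero_of_factor _ _ e x

theorem TB_of_factor {P : Type u} [AddCommGroup P] [Module R P] [Module.Flat R P]
    (g : M →ₗ[R] P) (h : P →ₗ[R] M') (hα : α = h ∘ₗ g) (e : ℕ) : TB e α := by
  intro N
  have : ModuleCat.ofHom α = ModuleCat.ofHom g ≫ ModuleCat.ofHom h := by
    rw [hα]; rfl
  rw [this, Functor.map_comp, NatTrans.comp_app]
  haveI : Module.Flat R (ModuleCat.of R P) := (inferInstance : Module.Flat R P)
  have hz : IsZero (((B R (e + 1)).obj (ModuleCat.of R P)).obj N) :=
    Groth.Agent.Lib.Helper21.TorLES.isZero_H_succ_of_flat (ModuleCat.of R P) (res R N) e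
  rw [hz.eq_of_tgt (((B R (e + 1)).map (ModuleCat.ofHom g)).app N) 0, zero_comp]

/-- `EA 0 α` makes `α` factor through the free cover of `M'`. -/
theorem exists_factor_of_EA (h : EA 0 α) : ∃ g : M →ₗ[R] (M' →₀ R), α = cov M' ∘ₗ g := by
  have hS' := ExtShift.sc_shortExact (Λ := R) (K := LinearMap.ker (cov (R := R) M'))
      (F := M' →₀ R) (M := M') (LinearMap.ker (cov (R := R) M')).subtype (cov M')
    (Submodule.subtype_injective _) cov_surjective (LinearMap.exact_subtype_ker_map _)
  obtain ⟨g, hg⟩ := exists_lift_of_comp_extClass_eq_zero hS' (ModuleCat.ofHom α)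
    (h _ hS'.extClass)
  refine ⟨g.hom, ?_⟩
  have := congrArg ModuleCat.Hom.hom hg
  exact this.symm

theorem tor_map_eq_zero_iff (e : ℕ) (N : ModuleCat.{u} R) :
    ((Tor (ModuleCat.{u} R) (e + 1)).map (ModuleCat.ofHom α)).app N = 0 ↔
      ((B R (e + 1)).map (ModuleCat.ofHom α)).app N = 0 := by
  have h1 := torIsoObj_natural_left R (e + 1) (ModuleCat.ofHom α) N
  constructor
  · intro h
    rw [h, zero_comp] at h1
    exact (cancel_epi (torIsoObj R (e + 1) _ N).hom).mp (by rw [← h1, comp_zero])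
  · intro h
    rw [h, comp_zero] at h1
    exact (cancel_mono (torIsoObj R (e + 1) _ N).hom).mp (by rw [h1, zero_comp])

variable [IsNoetherianRing R]

theorem EA_iff_TB_zero [Module.Finite R M] : EA 0 α ↔ TB 0 α := by
  constructor
  · intro h
    obtain ⟨g, hg⟩ := exists_factor_of_EA α h
    exact TB_of_factor α g (cov M') hg 0
  · intro h
    haveI : Module.FinitePresentation R M := Module.finitePresentation_of_finite R M
    obtain ⟨ι, g, h', hα⟩ := Groth.Agent.Lib.lead.TorFactorFree.main R M M' α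
      (fun N _ _ => (tor_map_eq_zero_iff α 0 (ModuleCat.of R N)).mpr (h _))
    exact EA_of_factor α g h' hα 0

omit [IsNoetherianRing R] in
/-- one syzygy step, for both conditions. -/
theorem shift_step {F F' : Type u} [AddCommGroup F] [Module R F] [AddCommGroup F'] [Module R F']
    [Module.Projective R F] [Module.Projective R F']
    (p : F →ₗ[R] M) (hp : Function.Surjective p) (p' : F' →ₗ[R] M') (hp' : Function.Surjective p')
    (γ : F →ₗ[R] F') (hγ : p' ∘ₗ γ = α ∘ₗ p)
    (β : LinearMap.ker p →ₗ[R] LinearMap.ker p') (hβ : ∀ x, (β x : F') = γ x) (e : ℕ) :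
    (EA (e + 1) α ↔ EA e β) ∧ (TB (e + 1) α ↔ TB e β) := by
  let S : ShortComplex (ModuleCat.{u} R) :=
    ExtShift.sc (Λ := R) (LinearMap.ker p).subtype p (LinearMap.exact_subtype_ker_map p)
  let S' : ShortComplex (ModuleCat.{u} R) :=
    ExtShift.sc (Λ := R) (LinearMap.ker p').subtype p' (LinearMap.exact_subtype_ker_map p')
  have hS : S.ShortExact := ExtShift.sc_shortExact (Λ := R) (LinearMap.ker p).subtype p
    (Submodule.subtype_injective _) hp (LinearMap.exact_subtype_ker_map _)
  have hS' : S'.ShortExact := ExtShift.sc_shortExact (Λ := R) (LinearMap.ker p').subtype p'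
    (Submodule.subtype_injective _) hp' (LinearMap.exact_subtype_ker_map _)
  let φ : S ⟶ S' :=
    { τ₁ := ModuleCat.ofHom β
      τ₂ := ModuleCat.ofHom γ
      τ₃ := ModuleCat.ofHom α
      comm₁₂ := by
        apply ModuleCat.hom_ext
        apply LinearMap.ext
        intro x
        exact hβ x
      comm₂₃ := by
        apply ModuleCat.hom_ext
        exact hγ }
  haveI i1 : Projective S.X₂ :=
    (IsProjective.iff_projective (R := R) (P := F)).mp inferInstance
  haveI i2 : Projective S'.X₂ :=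
    (IsProjective.iff_projective (R := R) (P := F')).mp inferInstance
  haveI i3 : Module.Flat R S.X₂ := (inferInstance : Module.Flat R F)
  haveI i4 : Module.Flat R S'.X₂ := (inferInstance : Module.Flat R F')
  refine ⟨⟨fun h N => ?_, fun h N => ?_⟩, ⟨fun h N => ?_, fun h N => ?_⟩⟩
  · exact (ext_shift hS hS' φ N e).mp (h N)
  · exact (ext_shift hS hS' φ N e).mpr (h N)
  · exact (TorNat.map_eq_zero_iff_shift hS hS' φ N e).mp (h N)
  · exact (TorNat.map_eq_zero_iff_shift hS hS' φ N e).mpr (h N)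

omit [AddCommGroup M] [Module R M] [AddCommGroup M'] [Module R M'] in
theorem EA_iff_TB (e : ℕ) : ∀ (M M' : Type u) [AddCommGroup M] [Module R M] [AddCommGroup M']
    [Module R M'] [Module.Finite R M] (α : M →ₗ[R] M'), EA e α ↔ TB e α := by
  induction e with
  | zero => intro M M' _ _ _ _ _ α; exact EA_iff_TB_zero α
  | succ e ih =>
    intro M M' _ _ _ _ _ α
    obtain ⟨k, p, hp⟩ := Module.Finite.exists_fin' R M
    obtain ⟨γ, hγ⟩ := Module.projective_lifting_property (cov (R := R) M') (α ∘ₗ p) cov_surjective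
    have hK : ∀ x ∈ LinearMap.ker p, γ x ∈ LinearMap.ker (cov (R := R) M') := by
      intro x hx
      rw [LinearMap.mem_ker] at hx ⊢
      have := LinearMap.congr_fun hγ x
      rw [LinearMap.comp_apply, LinearMap.comp_apply, hx, map_zero] at this
      exact this
    obtain ⟨h1, h2⟩ := shift_step α p hp (cov M') cov_surjective γ hγ (γ.restrict hK)
      (fun _ => rfl) e
    haveI : Module.Finite R (LinearMap.ker p) := Module.IsNoetherian.finite R _
    have h3 := ih (LinearMap.ker p) (LinearMap.ker (cov (R := R) M')) (γ.restrict hK)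
    exact h1.trans (h3.trans h2.symm)

end Main

end Groth.Agent.Lib.helper11.ExtTorZero
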