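import Mathlib
import Groth.Agent.Lib.helper11.SteinBC
import Groth.Agent.Lib.Helper12.MilnM
import Groth.Prelude.Def_MoreMor

/-!
# Number of geometric connected components and Stein factorization (helper11, S7838)
-/

set_option autoImplicit false
set_option linter.style.haveILetI false
universe u
open CategoryTheory CategoryTheory.Limits AlgebraicGeometry Opposite TopologicalSpace

namespace Groth.Agent.Lib.helper11.SteinCount

/-- the geometric point over `s` used by `MoreMor.geomFiber` -/
noncomputable def geomPt (S : Scheme.{u}) (s : S) :
    Spec (CommRingCat.of (SeparableClosure (S.residueField s))) ⟶ S :=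
  Spec.map (CommRingCat.ofHom
    (algebraMap (S.residueField s) (SeparableClosure (S.residueField s)))) ≫
    S.fromSpecResidueField s

/-- the projection of the geometric fibre to the total space -/
noncomputable def pr {Y S : Scheme.{u}} (h : Y ⟶ S) (s : S) : MoreMor.geomFiber h s ⟶ Y :=
  pullback.fst (h.fiberToSpecResidueField s) _ ≫ h.fiberι s

/-- the structure map of the geometric fibre -/
noncomputable def str {Y S : Scheme.{u}} (h : Y ⟶ S) (s : S) :
    MoreMor.geomFiber h s ⟶ Spec (CommRingCat.of (SeparableClosure (S.residueField s))) :=
  pullback.snd (h.fiberToSpecResidueField s) _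

theorem isPullback_geomFiber {Y S : Scheme.{u}} (h : Y ⟶ S) (s : S) :
    IsPullback (pr h s) (str h s) h (geomPt S s) := by
  have h1 : IsPullback (pullback.fst (h.fiberToSpecResidueField s)
      (Spec.map (CommRingCat.ofHom
        (algebraMap (S.residueField s) (SeparableClosure (S.residueField s))))))
      (str h s) (h.fiberToSpecResidueField s) _ := IsPullback.of_hasPullback _ _
  have h2 : IsPullback (h.fiberι s) (h.fiberToSpecResidueField s) h (S.fromSpecResidueField s) :=
    IsPullback.of_hasPullback h (S.fromSpecResidueField s)
  exact h1.paste_horiz h2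

/-- closed continuous surjection with connected fibres: bijection on `π₀` -/
theorem connectedComponents_equiv {A B : Type*} [TopologicalSpace A] [TopologicalSpace B]
    (m : A → B) (hc : Continuous m) (hcl : IsClosedMap m) (hs : Function.Surjective m)
    (hfib : ∀ b, _root_.IsConnected (m ⁻¹' {b})) :
    Nonempty (_root_.ConnectedComponents A ≃ _root_.ConnectedComponents B) :=
  ⟨((hcl.isQuotientMap hc hs).isCoinducing.connectedComponentsHomeomorph hfib).toEquiv⟩

theorem finite_connectedComponents_geomFiber {Y S : Scheme.{u}} (h : Y ⟶ S) [IsProper h] (s : S) :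
    Finite (_root_.ConnectedComponents ↥(MoreMor.geomFiber h s)) := by
  haveI : IsProper (str h s) :=
    MorphismProperty.of_isPullback (P := @IsProper) (isPullback_geomFiber h s) inferInstance
  haveI : IsLocallyNoetherian (MoreMor.geomFiber h s) :=
    LocallyOfFiniteType.isLocallyNoetherian (str h s)
  haveI : CompactSpace ↥(MoreMor.geomFiber h s) :=
    QuasiCompact.compactSpace_of_compactSpace (str h s)
  haveI : IsNoetherian (MoreMor.geomFiber h s) := ⟨⟩
  exact Groth.Agent.Lib.Helper12.Miln.finite_connectedComponents_of_noetherianSpace _

/-- **S7838** -/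
theorem main {X S : Scheme.{u}} (f : X ⟶ S) [IsProper f] (s : S) :
    MoreMor.nGeomConnComp f s < ⊤ ∧
      MoreMor.nGeomConnComp f s = MoreMor.nGeomConnComp f.fromNormalization s := by
  have P₁ := isPullback_geomFiber f s
  have P₂ := isPullback_geomFiber f.fromNormalization s
  have hcomm : (pr f s ≫ f.toNormalization) ≫ f.fromNormalization = str f s ≫ geomPt S s := by
    rw [Category.assoc, Scheme.Hom.toNormalization_fromNormalization]
    exact P₁.w
  let m : MoreMor.geomFiber f s ⟶ MoreMor.geomFiber f.fromNormalization s :=
    P₂.lift (pr f s ≫ f.toNormalization) (str f s) hcomm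
  have hm1 : m ≫ pr f.fromNormalization s = pr f s ≫ f.toNormalization := P₂.lift_fst _ _ _
  have hm2 : m ≫ str f.fromNormalization s = str f s := P₂.lift_snd _ _ _
  have big : IsPullback (pr f s) (m ≫ str f.fromNormalization s)
      (f.toNormalization ≫ f.fromNormalization) (geomPt S s) := by
    rw [hm2, Scheme.Hom.toNormalization_fromNormalization]
    exact P₁
  have hpb : IsPullback (pr f s) m f.toNormalization (pr f.fromNormalization s) :=
    IsPullback.of_bot big hm1.symm P₂
  haveI : GeometricallyConnected m :=
    MorphismProperty.of_isPullback (P := @GeometricallyConnected) hpb inferInstance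
  haveI : IsProper m :=
    MorphismProperty.of_isPullback (P := @IsProper) hpb inferInstance
  obtain ⟨e⟩ := connectedComponents_equiv m m.continuous m.isClosedMap m.surjective
    m.isConnected_preimage_singleton
  haveI := finite_connectedComponents_geomFiber f s
  refine ⟨?_, ?_⟩
  · unfold MoreMor.nGeomConnComp
    rw [ENat.card_lt_top]
    infer_instance
  · unfold MoreMor.nGeomConnComp
    exact ENat.card_congr e

end Groth.Agent.Lib.helper11.SteinCount
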