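import Mathlib
import Groth.Agent.Lib.helper11.FEStein
import Groth.Agent.Lib.helper11.SteinCount
import Groth.Agent.Lib.lead.EtCount

/-!
# Local constancy of the number of geometric connected components (helper11)
-/

set_option autoImplicit false
set_option linter.style.haveILetI false
universe u
open CategoryTheory CategoryTheory.Limits AlgebraicGeometry Opposite TopologicalSpace

namespace Groth.Agent.Lib.helper11.FE

/-- for a finite étale morphism the geometric point count is locally constant -/
theorem isLocallyConstant_nGeomConnComp_of_finite_etale {X S : Scheme.{u}} (π : X ⟶ S)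
    [IsFinite π] [Etale π] : IsLocallyConstant (fun s : ↑S => MoreMor.nGeomConnComp π s) := by
  rw [IsLocallyConstant.iff_eventually_eq]
  intro y
  have h : ∃ U : S.Opens, y ∈ U ∧ IsFinite (π ∣_ U) :=
    ⟨⊤, trivial, IsZariskiLocalAtTarget.restrict ‹IsFinite π› ⊤⟩
  obtain ⟨V, hV, hVc⟩ := (Groth.Agent.Lib.lead.EtCount.finite_restrict_iff_const π y).mpr h
  exact Filter.mem_of_superset hV hVc

theorem isLocallyConstant_nGeomConnComp {X S : Scheme.{u}} (f : X ⟶ S) [IsProper f] [Flat f]
    [LocallyOfFinitePresentation f] (hred : GRed f) :
    IsLocallyConstant (fun s : ↑S => MoreMor.nGeomConnComp f s) := by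
  obtain ⟨hfin, het⟩ := isFinite_etale_fromNormalization f hred
  haveI := hfin
  haveI := het
  have h : (fun s : ↑S => MoreMor.nGeomConnComp f s) =
      fun s : ↑S => MoreMor.nGeomConnComp f.fromNormalization s :=
    funext fun s => (Groth.Agent.Lib.helper11.SteinCount.main f s).2
  rw [h]
  exact isLocallyConstant_nGeomConnComp_of_finite_etale f.fromNormalization

end Groth.Agent.Lib.helper11.FE
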