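import Mathlib
import Groth.Agent.Lib.helper11.FEStein
import Groth.Agent.Lib.helper11.SteinBC
import Groth.Agent.Lib.Helper4.SmoothRed
import Groth.Agent.Lib.lead.HensSectA
import Groth.Agent.Lib.Helper13.NormSmoothBC
import Groth.Agent.Lib.Helper22.NormalConnIrr

/-!
# Proper smooth morphisms with a section and connected total space (helper11)
-/

set_option autoImplicit false
set_option linter.style.haveILetI false
universe u
open CategoryTheory CategoryTheory.Limits AlgebraicGeometry Opposite TopologicalSpace

namespace Groth.Agent.Lib.helper11.FE

/-- the local rings of the spectrum of a field are integrally closed -/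
theorem isIntegrallyClosed_stalk_spec_field (K : Type u) [Field K]
    (x : Spec (CommRingCat.of K)) :
    IsIntegrallyClosed ((Spec (CommRingCat.of K)).presheaf.stalk x) := by
  letI k : Algebra K ↑((Spec (CommRingCat.of K)).presheaf.stalk x) :=
    StructureSheaf.stalkAlgebra K x
  haveI : IsLocalization.AtPrime ((Spec (CommRingCat.of K)).presheaf.stalk x) x.asIdeal :=
    StructureSheaf.IsLocalization.to_stalk K x
  exact isIntegrallyClosed_of_isLocalization (R := K)
    ((Spec (CommRingCat.of K)).presheaf.stalk x) x.asIdeal.primeCompl
    x.asIdeal.primeCompl_le_nonZeroDivisors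

/-- smooth geometrically connected proper morphisms are geometrically integral -/
theorem geometricallyIntegral_of_smooth_of_geometricallyConnected {X S : Scheme.{u}} (f : X ⟶ S)
    [Smooth f] [QuasiCompact f] [GeometricallyConnected f] : GeometricallyIntegral f := by
  refine ⟨fun K _ y Z fst snd h => ?_⟩
  haveI : Smooth snd := MorphismProperty.of_isPullback (P := @Smooth) h inferInstance
  haveI : QuasiCompact snd := MorphismProperty.of_isPullback (P := @QuasiCompact) h inferInstance
  haveI : ConnectedSpace Z := GeometricallyConnected.geometrically_connectedSpace y fst snd h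
  haveI : IsReduced Z := Groth.Agent.Lib.Helper4.SmoothRed.isReduced_of_smooth_to_field snd
  haveI : IsLocallyNoetherian Z := LocallyOfFiniteType.isLocallyNoetherian snd
  haveI : CompactSpace Z := QuasiCompact.compactSpace_of_compactSpace snd
  haveI : IsNoetherian Z := {}
  haveI : TopologicalSpace.NoetherianSpace Z := inferInstance
  have hdom : ∀ z : Z, IsDomain (Z.presheaf.stalk z) := fun z =>
    (Groth.Agent.Lib.Helper13.NormSmoothBC.normal_stalk_of_smooth snd
      (isIntegrallyClosed_stalk_spec_field K) z).1
  haveI : IrreducibleSpace Z :=
    Groth.Agent.Lib.Helper22.NormalConnIrr.irreducibleSpace_of_connected_of_isDomain_stalk Z hdom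
  exact isIntegral_of_irreducibleSpace_of_isReduced Z

/-- **proper smooth with a section, connected total space and base ⇒ geometrically integral** -/
theorem geometricallyIntegral_of_section {X S : Scheme.{u}} (f : X ⟶ S) [Smooth f] [IsProper f]
    [ConnectedSpace X] [ConnectedSpace S] (σ : S ⟶ X) (hσ : σ ≫ f = 𝟙 S) :
    GeometricallyIntegral f := by
  haveI : GeometricallyReduced f := ⟨fun K _ y Z fst snd h => by
    haveI : Smooth snd := MorphismProperty.of_isPullback (P := @Smooth) h inferInstance
    exact Groth.Agent.Lib.Helper4.SmoothRed.isReduced_of_smooth_to_field snd⟩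
  obtain ⟨hfin, het⟩ := isFinite_etale_fromNormalization f (GRed.of_geometricallyReduced f)
  haveI := hfin
  haveI := het
  let s' : S ⟶ f.normalization := σ ≫ f.toNormalization
  have hs' : s' ≫ f.fromNormalization = 𝟙 S := by
    rw [Category.assoc, Scheme.Hom.toNormalization_fromNormalization, hσ]
  haveI : IsOpenImmersion s' :=
    Groth.Agent.Lib.lead.HensSect.isOpenImmersion_of_section f.fromNormalization s' hs'
  haveI : IsClosedImmersion s' :=
    Groth.Agent.Lib.lead.HensSect.isClosedImmersion_of_section f.fromNormalization s' hs'
  haveI : Surjective f.toNormalization :=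
    Groth.Agent.Lib.Helper21.SteinUH.surjective_toNormalization f
  haveI : ConnectedSpace f.normalization :=
    f.toNormalization.surjective.connectedSpace f.toNormalization.continuous
  have hclopen : IsClopen (Set.range s') := ⟨s'.isClosedEmbedding.isClosed_range,
    s'.isOpenEmbedding.isOpen_range⟩
  have huniv : Set.range s' = Set.univ := by
    obtain ⟨x⟩ := (inferInstance : Nonempty S)
    exact hclopen.eq_univ ⟨s' x, x, rfl⟩
  haveI : Surjective s' := ⟨Set.range_eq_univ.mp huniv⟩
  haveI : IsIso s' := (isIso_iff_isOpenImmersion_and_surjective s').mpr ⟨inferInstance, inferInstance⟩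
  haveI : IsIso (s' ≫ f.fromNormalization) := by rw [hs']; infer_instance
  haveI : IsIso f.fromNormalization := IsIso.of_isIso_comp_left s' f.fromNormalization
  have sq : IsPullback (𝟙 X) f f.toNormalization (inv f.fromNormalization) := by
    refine IsPullback.of_horiz_isIso ⟨?_⟩
    rw [Category.id_comp, eq_comm, IsIso.comp_inv_eq, Scheme.Hom.toNormalization_fromNormalization]
  haveI : GeometricallyConnected f :=
    MorphismProperty.of_isPullback (P := @GeometricallyConnected) sq inferInstance
  exact geometricallyIntegral_of_smooth_of_geometricallyConnected f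

end Groth.Agent.Lib.helper11.FE
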