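import Mathlib
import Groth.Agent.Lib.helper11.FFGal

/-!
# The kernel of an isogeny acts faithfully on the function field (helper11)
-/

set_option autoImplicit false
universe u

open CategoryTheory Limits MonoidalCategory CartesianMonoidalCategory MonObj GrpObj AlgebraicGeometry

namespace Groth.Agent.Lib.helper11.FFGal

open Groth.Agent.Lib.Helper24.Tangent

variable {k : Type u} [Field k] {E E' : Over (Spec (CommRingCat.of k))} [GrpObj E] [GrpObj E']
  [IsIntegral E.left] [IsIntegral E'.left]

theorem trans_generic (P : 𝟙_ (Over (Spec (CommRingCat.of k))) ⟶ E) :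
    (trans P).left (genericPoint E.left) = genericPoint E.left := by
  haveI : IsIso (trans P).left := inferInstanceAs (IsIso ((Over.forget _).map (trans P)))
  exact genericPoint_eq_of_isOpenImmersion (trans P).left

/-- the automorphism of the function field induced by a translation -/
noncomputable def sigma (P : 𝟙_ (Over (Spec (CommRingCat.of k))) ⟶ E) :
    E.left.functionField ⟶ E.left.functionField :=
  ffMap (trans P).left (trans_generic P)

theorem sigma_spec (P : 𝟙_ (Over (Spec (CommRingCat.of k))) ⟶ E) :
    Spec.map (sigma P) ≫ E.left.fromSpecStalk (genericPoint E.left) =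
      E.left.fromSpecStalk (genericPoint E.left) ≫ (trans P).left :=
  ffMap_spec _ _

theorem comp_sigma (φ : E ⟶ E') [IsMonHom φ]
    (e : φ.left (genericPoint E.left) = genericPoint E'.left)
    (P : 𝟙_ (Over (Spec (CommRingCat.of k))) ⟶ E) (hP : P ≫ φ = η[E']) :
    ffMap φ.left e ≫ sigma P = ffMap φ.left e := by
  apply germ_unique (genericPoint E'.left)
  rw [Spec.map_comp, Category.assoc, ffMap_spec, ← Category.assoc, sigma_spec, Category.assoc,
    ← Over.comp_left, trans_comp_hom φ P hP]

theorem sigma_injective [IsSeparated E.hom] (P Q : 𝟙_ (Over (Spec (CommRingCat.of k))) ⟶ E)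
    (h : sigma P = sigma Q) : P = Q := by
  have h1 : E.left.fromSpecStalk (genericPoint E.left) ≫ (trans P).left =
      E.left.fromSpecStalk (genericPoint E.left) ≫ (trans Q).left := by
    rw [← sigma_spec, ← sigma_spec, h]
  have h2 : (trans P).left = (trans Q).left :=
    ext_of_generic _ _ E.hom (by rw [Over.w, Over.w]) h1
  have h3 : trans P = trans Q := Over.OverMorphism.ext h2
  rw [← unit_comp_trans P, ← unit_comp_trans Q, h3]

/-- the faithful action of the kernel points on the function field -/
theorem exists_injection [IsSeparated E.hom] (φ : E ⟶ E') [IsMonHom φ]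
    (e : φ.left (genericPoint E.left) = genericPoint E'.left) :
    letI := (ffMap φ.left e).hom.toAlgebra
    ∃ F : {P : 𝟙_ (Over (Spec (CommRingCat.of k))) ⟶ E // P ≫ φ = η[E']} →
      (E.left.functionField →ₐ[E'.left.functionField] E.left.functionField),
      Function.Injective F := by
  letI := (ffMap φ.left e).hom.toAlgebra
  refine ⟨fun P => { (sigma P.1).hom with
    commutes' := fun c => by
      have := congrArg (fun q => q.hom c) (comp_sigma φ e P.1 P.2)
      exact this }, ?_⟩
  intro P Q h
  apply Subtype.ext
  apply sigma_injective
  have h1 := congrArg (fun q : E.left.functionField →ₐ[E'.left.functionField] E.left.functionField =>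
    q.toRingHom) h
  exact CommRingCat.hom_ext h1

end Groth.Agent.Lib.helper11.FFGal
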