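import Mathlib

/-!
# Algebra for function fields of étale isogenies (helper11)
-/

set_option autoImplicit false
universe u

open TensorProduct

namespace Groth.Agent.Lib.helper11.FFGalAlg

/-- over an algebraically closed field, a finite étale algebra has as many points as its
dimension -/
theorem card_algHom_eq_finrank (k B : Type u) [Field k] [IsAlgClosed k] [CommRing B] [Algebra k B]
    [Algebra.Etale k B] : Nat.card (B →ₐ[k] k) = Module.finrank k B := by
  classical
  obtain ⟨I, hI, Ai, hF, hA, e, H⟩ := (Algebra.Etale.iff_exists_algEquiv_prod k B).1 inferInstance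
  haveI : Fintype I := Fintype.ofFinite I
  haveI : ∀ i, Module.Finite k (Ai i) := fun i => (H i).1
  have hb : ∀ i, Function.Bijective (algebraMap k (Ai i)) := fun i =>
    IsAlgClosed.algebraMap_bijective_of_isIntegral (k := k) (K := Ai i)
  have hfr : ∀ i, Module.finrank k (Ai i) = 1 := fun i => by
    have e1 : k ≃ₗ[k] Ai i := LinearEquiv.ofBijective (Algebra.linearMap k (Ai i)) (hb i)
    rw [← e1.finrank_eq, Module.finrank_self]
  have hfin : Module.finrank k B = Nat.card I := by
    rw [e.toLinearEquiv.finrank_eq, Module.finrank_pi_fintype]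
    simp [hfr]
  haveI : Module.Finite k B := Module.Finite.of_surjective e.symm.toLinearMap e.symm.surjective
  refine le_antisymm (card_algHom_le_finrank k B k) ?_
  rw [hfin]
  let ψ : ∀ i, Ai i →ₐ[k] k := fun i => (AlgEquiv.ofBijective (Algebra.ofId k (Ai i)) (hb i)).symm
  let F : I → (B →ₐ[k] k) := fun i => ((ψ i).comp (Pi.evalAlgHom k Ai i)).comp e.toAlgHom
  haveI : Finite (B →ₐ[k] k) := inferInstance
  apply Nat.card_le_card_of_injective F
  intro i j hij
  by_contra hne
  have h1 := congrArg (fun f => f (e.symm (Pi.single i 1))) hij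
  simp only [F, AlgHom.comp_apply, AlgEquiv.toAlgHom_eq_coe, AlgHom.coe_coe,
    Pi.evalAlgHom_apply] at h1
  have hee : (e : B →ₐ[k] (∀ i, Ai i)) (e.symm (Pi.single i 1)) = Pi.single i 1 :=
    e.apply_symm_apply _
  rw [hee, Pi.single_eq_same] at h1
  rw [Pi.single_eq_of_ne (Ne.symm hne), map_one, map_zero] at h1
  exact one_ne_zero h1

/-- the function field of a finite domain extension is spanned by the extension over the
function field of the base -/
theorem finrank_le_tensor {R' R K' K : Type u} [CommRing R'] [CommRing R] [IsDomain R]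
    [Field K'] [Field K] [Algebra R' R] [Algebra R' K'] [Algebra R K] [Algebra K' K] [Algebra R' K]
    [IsScalarTower R' K' K] [IsScalarTower R' R K] [IsFractionRing R K] [Module.Finite R' R]
    (hinj : Function.Injective (algebraMap R' K)) :
    FiniteDimensional K' K ∧ Module.finrank K' K ≤ Module.finrank K' (K' ⊗[R'] R) := by
  haveI : Nontrivial R' := by
    refine ⟨⟨0, 1, fun h => ?_⟩⟩
    have := congrArg (algebraMap R' K) h
    rw [map_zero, map_one] at this
    exact zero_ne_one this
  haveI : Algebra.IsIntegral R' R := Algebra.IsIntegral.of_finite R' R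
  let f : K' ⊗[R'] R →ₐ[K'] K :=
    Algebra.TensorProduct.lift (Algebra.ofId K' K) (IsScalarTower.toAlgHom R' R K)
      (fun _ _ => mul_comm _ _)
  have hf : ∀ (c : K') (r : R), f (c ⊗ₜ r) = algebraMap K' K c * algebraMap R K r := by
    intro c r
    simp [f, Algebra.ofId_apply]
  have hinjRK : Function.Injective (algebraMap R K) := IsFractionRing.injective R K
  have hsurj : Function.Surjective f := by
    intro x
    obtain ⟨r₁, r₂, hr₂, rfl⟩ := IsFractionRing.div_surjective (A := R) x
    have hr₂0 : r₂ ≠ 0 := nonZeroDivisors.ne_zero hr₂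
    have hne : (Ideal.span {r₂}).comap (algebraMap R' R) ≠ ⊥ :=
      Ideal.comap_ne_bot_of_integral_mem hr₂0 (Ideal.mem_span_singleton_self r₂)
        (Algebra.IsIntegral.isIntegral r₂)
    obtain ⟨c, hc, hc0⟩ := Submodule.exists_mem_ne_zero_of_ne_bot hne
    obtain ⟨s, hs⟩ := Ideal.mem_span_singleton.1 (Ideal.mem_comap.1 hc)
    have hcK : algebraMap R' K c ≠ 0 := fun h => hc0 (hinj (h.trans (map_zero _).symm))
    have hcK' : algebraMap R' K' c ≠ 0 := by
      intro h
      apply hcK
      rw [IsScalarTower.algebraMap_apply R' K' K, h, map_zero]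
    refine ⟨(algebraMap R' K' c)⁻¹ ⊗ₜ (r₁ * s), ?_⟩
    rw [hf, map_inv₀, ← IsScalarTower.algebraMap_apply R' K' K,
      IsScalarTower.algebraMap_apply R' R K, hs, map_mul, map_mul]
    have h2 : algebraMap R K r₂ ≠ 0 := fun h => hr₂0 (hinjRK (h.trans (map_zero _).symm))
    have h3 : algebraMap R K s ≠ 0 := by
      intro h
      apply hcK
      rw [IsScalarTower.algebraMap_apply R' R K, hs, map_mul, h, mul_zero]
    field_simp
  haveI : Module.Finite K' (K' ⊗[R'] R) := inferInstance
  haveI : FiniteDimensional K' K := Module.Finite.of_surjective f.toLinearMap hsurj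
  exact ⟨inferInstance, LinearMap.finrank_le_finrank_of_surjective (f := f.toLinearMap) hsurj⟩

/-- the rank of the base change of a finite flat module over a domain to a field is independent
of the field -/
theorem finrank_tensor_eq {R' R : Type u} [CommRing R'] [IsDomain R'] [AddCommGroup R]
    [Module R' R] [Module.Finite R' R] [Module.Flat R' R]
    (F₁ F₂ : Type u) [Field F₁] [Field F₂] [Algebra R' F₁] [Algebra R' F₂] :
    Module.finrank F₁ (F₁ ⊗[R'] R) = Module.finrank F₂ (F₂ ⊗[R'] R) := by
  have key : ∀ (F : Type u) [Field F] [Algebra R' F],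
      Module.finrank F (F ⊗[R'] R) = Module.rankAtStalk R (⊥ : PrimeSpectrum R') := by
    intro F _ _
    have h1 := congrFun (Module.rankAtStalk_eq_finrank_of_free (R := F) (M := F ⊗[R'] R))
      (⊥ : PrimeSpectrum F)
    have h2 := Module.rankAtStalk_baseChange (R := R') (M := R) (S := F) (⊥ : PrimeSpectrum F)
    rw [Pi.natCast_apply, Nat.cast_id] at h1
    rw [← h1, h2]
    exact (Module.rankAtStalk_eq_of_le_of_finite_of_flat R bot_le).symm
  rw [key F₁, key F₂]

theorem main (k : Type u) [Field k] [IsAlgClosed k] {R' R K' K : Type u} [CommRing R']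
    [IsDomain R'] [CommRing R] [IsDomain R] [Field K'] [Field K] [Algebra R' R] [Algebra R' K']
    [Algebra R K] [Algebra K' K] [Algebra R' K] [IsScalarTower R' K' K] [IsScalarTower R' R K]
    [IsFractionRing R K] [Module.Finite R' R] [Module.Flat R' R] [Algebra.Etale R' R]
    (hinj : Function.Injective (algebraMap R' K)) [Algebra R' k] :
    FiniteDimensional K' K ∧ Module.finrank K' K ≤ Nat.card (R →ₐ[R'] k) := by
  obtain ⟨h1, h2⟩ := finrank_le_tensor (R' := R') (R := R) (K' := K') (K := K) hinj
  refine ⟨h1, h2.trans ?_⟩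
  rw [finrank_tensor_eq (R' := R') (R := R) K' k, ← card_algHom_eq_finrank k (k ⊗[R'] R)]
  exact le_of_eq (Nat.card_congr (AlgHom.liftEquiv R' k R k)).symm

end Groth.Agent.Lib.helper11.FFGalAlg
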