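import Mathlib
import Groth.Agent.Lib.Helper24.Tangent.Cotan

/-!
# Local algebra for sums of isogenies of elliptic curves (helper11)

* `dvr_crit`: a local homomorphism of discrete valuation rings sending some element of the
  maximal ideal outside the square of the maximal ideal is flat and unramified.
* `mem_sq_of_tangent`: an element of the maximal ideal killed by all tangent vectors lies in the
  square of the maximal ideal.
-/

set_option autoImplicit false

open IsLocalRing

namespace Groth.Agent.Lib.helper11.SumIsogAlg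

open Groth.Agent.Lib.Helper24.Tangent

theorem irreducible_notMem_sq {C : Type*} [CommRing C] [IsDomain C] [IsDiscreteValuationRing C]
    {ϖ : C} (hϖ : Irreducible ϖ) : ϖ ∉ maximalIdeal C ^ 2 := by
  intro h
  rw [hϖ.maximalIdeal_eq, Ideal.span_singleton_pow, Ideal.mem_span_singleton] at h
  obtain ⟨c, hc⟩ := h
  have h1 : ϖ * 1 = ϖ * (ϖ * c) := by rw [mul_one, ← mul_assoc, ← pow_two]; exact hc
  have h2 := mul_left_cancel₀ hϖ.ne_zero h1
  exact hϖ.not_isUnit (IsUnit.of_mul_eq_one _ h2.symm)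

theorem dvr_crit {B C : Type*} [CommRing B] [CommRing C] [IsDomain B] [IsDomain C]
    [IsDiscreteValuationRing B] [IsDiscreteValuationRing C] (f : B →+* C) [IsLocalHom f]
    (b : B) (hb : b ∈ maximalIdeal B) (hfb : f b ∉ maximalIdeal C ^ 2) :
    f.Flat ∧ (maximalIdeal B).map f = maximalIdeal C := by
  have hfb0 : f b ≠ 0 := fun h => hfb (h ▸ Ideal.zero_mem _)
  have hfbm : f b ∈ maximalIdeal C := by
    rw [mem_maximalIdeal, mem_nonunits_iff]
    intro hu
    exact (mem_nonunits_iff.1 ((mem_maximalIdeal b).1 hb)) (isUnit_of_map_unit f b hu)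
  obtain ⟨ϖ, hϖ⟩ := IsDiscreteValuationRing.exists_irreducible C
  obtain ⟨n, u, hu⟩ := IsDiscreteValuationRing.eq_unit_mul_pow_irreducible hfb0 hϖ
  have hn1 : n = 1 := by
    rcases Nat.lt_trichotomy n 1 with h | h | h
    · exfalso
      have : n = 0 := by omega
      rw [this, pow_zero, mul_one] at hu
      exact ((mem_maximalIdeal _).1 hfbm) (hu ▸ u.isUnit)
    · exact h
    · exfalso
      apply hfb
      rw [hu, hϖ.maximalIdeal_eq, Ideal.span_singleton_pow, Ideal.mem_span_singleton]
      obtain ⟨m, rfl⟩ : ∃ m, n = 2 + m := ⟨n - 2, by omega⟩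
      exact ⟨↑u * ϖ ^ m, by ring⟩
  rw [hn1, pow_one] at hu
  have hmap : (maximalIdeal B).map f = maximalIdeal C := by
    apply le_antisymm
    · exact ((local_hom_TFAE f).out 0 2 rfl rfl).mp ‹_›
    · rw [hϖ.maximalIdeal_eq, Ideal.span_singleton_le_iff_mem]
      have : ϖ = ↑u⁻¹ * f b := by rw [hu, ← mul_assoc, Units.inv_mul, one_mul]
      rw [this]
      exact Ideal.mul_mem_left _ _ (Ideal.mem_map_of_mem f hb)
  refine ⟨?_, hmap⟩
  -- injectivity
  obtain ⟨ϖB, hϖB⟩ := IsDiscreteValuationRing.exists_irreducible B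
  have hb0 : b ≠ 0 := fun h => hfb0 (h ▸ map_zero f)
  obtain ⟨m, v, hv⟩ := IsDiscreteValuationRing.eq_unit_mul_pow_irreducible hb0 hϖB
  have hfϖ : f ϖB ≠ 0 := by
    intro h0
    rcases Nat.eq_zero_or_pos m with hm | hm
    · rw [hm, pow_zero, mul_one] at hv
      exact ((mem_maximalIdeal _).1 hb) (hv ▸ v.isUnit)
    · apply hfb0
      rw [hv, map_mul, map_pow, h0, zero_pow hm.ne', mul_zero]
  have hinj : Function.Injective f := by
    rw [injective_iff_map_eq_zero]
    intro x hx
    by_contra hx0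
    obtain ⟨j, w, hw⟩ := IsDiscreteValuationRing.eq_unit_mul_pow_irreducible hx0 hϖB
    rw [hw, map_mul, map_pow] at hx
    rcases mul_eq_zero.1 hx with h | h
    · exact (w.isUnit.map f).ne_zero h
    · exact hfϖ (pow_eq_zero_iff'.1 h).1
  algebraize [f]
  change Module.Flat B C
  haveI : Module.IsTorsionFree B C := by
    refine ⟨fun r hr x y hxy => ?_⟩
    have hr0 : r ≠ 0 := hr.ne_zero
    have : algebraMap B C r ≠ 0 := fun h => hr0 (hinj (h.trans (map_zero _).symm))
    change r • x = r • y at hxy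
    rw [Algebra.smul_def, Algebra.smul_def] at hxy
    exact mul_left_cancel₀ this hxy
  infer_instance

variable {A : Type*} [CommRing A] [IsLocalRing A] {k : Type*} [Field k]
  (i : k →+* A) (ρ : A →+* k) (hρi : ρ.comp i = RingHom.id k)

include hρi in
theorem snd_eq_zero_of_mem_sq (θ : A →+* TrivSqZeroExt k k)
    (hθ : (TrivSqZeroExt.fstHom k k k).toRingHom.comp θ = ρ) (y : A)
    (hy : y ∈ maximalIdeal A ^ 2) : TrivSqZeroExt.snd (θ y) = 0 := by
  have hm := mem_maximalIdeal_iff i ρ hρi
  have hfst : ∀ a, TrivSqZeroExt.fst (θ a) = ρ a := fun a => by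
    have := congrArg (fun f => f a) hθ
    simpa using this
  rw [pow_two] at hy
  refine Submodule.mul_induction_on hy (fun a ha b hb => ?_) (fun a b ha hb => ?_)
  · rw [map_mul, TrivSqZeroExt.snd_mul, hfst, hfst, (hm a).1 ha, (hm b).1 hb]
    simp
  · rw [map_add, TrivSqZeroExt.snd_add, ha, hb, add_zero]

include hρi in
theorem mem_sq_of_tangent (y : A) (hym : ρ y = 0)
    (H : ∀ θ : A →+* TrivSqZeroExt k k,
      (TrivSqZeroExt.fstHom k k k).toRingHom.comp θ = ρ → θ.comp i = algebraMap k _ →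
        TrivSqZeroExt.snd (θ y) = 0) : y ∈ maximalIdeal A ^ 2 := by
  have hm := mem_maximalIdeal_iff i ρ hρi
  have hρi' : ∀ c, ρ (i c) = c := fun c => by
    have := congrArg (fun f => f c) hρi
    simpa using this
  by_contra hy
  letI : Algebra k A := i.toAlgebra
  let N : Submodule k A :=
    (maximalIdeal A ^ 2).restrictScalars k ⊔ LinearMap.range (Algebra.linearMap k A)
  have hyN : y ∉ N := by
    intro hmem
    obtain ⟨z, hz, w, ⟨c, rfl⟩, hzw⟩ := Submodule.mem_sup.1 hmem
    have hz' : z ∈ maximalIdeal A ^ 2 := hz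
    have hzm : ρ z = 0 := (hm z).1 (Ideal.pow_le_self two_ne_zero hz')
    have hc : c = 0 := by
      have := congrArg ρ hzw
      rw [map_add, hzm, zero_add, hym] at this
      change ρ (i c) = 0 at this
      rwa [hρi'] at this
    rw [hc, map_zero, add_zero] at hzw
    exact hy (hzw ▸ hz')
  obtain ⟨d, hdy, hdN⟩ := Submodule.exists_dual_map_eq_bot_of_notMem hyN inferInstance
  have hd0 : ∀ z ∈ N, d z = 0 := by
    intro z hz
    have : d z ∈ N.map d := Submodule.mem_map_of_mem hz
    rw [hdN] at this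
    exact this
  have hdi : ∀ c, d (i c) = 0 := fun c =>
    hd0 _ (Submodule.mem_sup_right ⟨c, rfl⟩)
  have hdsq : ∀ z ∈ maximalIdeal A ^ 2, d z = 0 := fun z hz =>
    hd0 _ (Submodule.mem_sup_left hz)
  have hdsmul : ∀ (c : k) (a : A), d (i c * a) = c * d a := by
    intro c a
    have : i c * a = c • a := (Algebra.smul_def c a).symm
    rw [this, map_smul, smul_eq_mul]
  have hdec : ∀ a, a - i (ρ a) ∈ maximalIdeal A := fun a => by
    rw [hm, map_sub, hρi', sub_self]
  have hd_sub : ∀ a, d (a - i (ρ a)) = d a := fun a => by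
    rw [map_sub, hdi, sub_zero]
  have hmul : ∀ a b, d (a * b) = ρ a * d b + ρ b * d a := by
    intro a b
    have e : a * b = i (ρ a * ρ b) + i (ρ a) * (b - i (ρ b)) + i (ρ b) * (a - i (ρ a)) +
        (a - i (ρ a)) * (b - i (ρ b)) := by
      rw [map_mul]; ring
    have hsq : (a - i (ρ a)) * (b - i (ρ b)) ∈ maximalIdeal A ^ 2 := by
      rw [pow_two]
      exact Ideal.mul_mem_mul (hdec a) (hdec b)
    rw [e, map_add, map_add, map_add, hdi, hdsmul, hdsmul, hdsq _ hsq, hd_sub, hd_sub]
    ring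
  have hd1 : d 1 = 0 := by
    have := hdi 1
    rwa [map_one] at this
  let θ := tangentHom ρ d.toAddMonoidHom hd1 hmul
  have hθ1 : (TrivSqZeroExt.fstHom k k k).toRingHom.comp θ = ρ := by
    ext a
    simp [θ, tangentHom]
  have hθ2 : θ.comp i = algebraMap k _ := by
    ext c
    · simp [θ, tangentHom, hρi', TrivSqZeroExt.algebraMap_eq_inl]
    · simp [θ, tangentHom, hdi, TrivSqZeroExt.algebraMap_eq_inl]
  have key := H θ hθ1 hθ2
  have hsnd : ∀ a, TrivSqZeroExt.snd (θ a) = d a := by
    intro a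
    simp [θ, tangentHom]
  rw [hsnd] at key
  exact hdy key

end Groth.Agent.Lib.helper11.SumIsogAlg
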