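import Mathlib
import Groth.Agent.Lib.helper11.SumIsogAlg
import Groth.Agent.Lib.Helper24.Tangent.Main4112
import Groth.Agent.Lib.Helper24.RegUnit.Dim
import Groth.Agent.Lib.helper11.RigidOver3
import Groth.Agent.Lib.helper11.ConnProd
import Groth.Agent.Lib.helper11.MulEtale

/-!
# Sum of a separable isogeny and a non-étale homomorphism of elliptic curves (helper11)
-/

set_option autoImplicit false

universe u

open CategoryTheory AlgebraicGeometry IsLocalRing MonoidalCategory CartesianMonoidalCategory MonObj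

namespace Groth.Agent.Lib.helper11.SumIsog

open Groth.Agent.Lib.Helper24 Groth.Agent.Lib.Helper24.Tangent Groth.Agent.Lib.helper11

variable {k : Type u} [Field k]

section germs

variable (G : Over (Spec (CommRingCat.of k))) [GrpObj G]

/-- augmentation and coefficient field of the local ring at the unit -/
structure Aug where
  ρ : G.left.presheaf.stalk (pt0 G η[G]) ⟶ CommRingCat.of k
  i : CommRingCat.of k ⟶ G.left.presheaf.stalk (pt0 G η[G])
  hρ : Spec.map ρ ≫ G.left.fromSpecStalk (pt0 G η[G]) = η[G].left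
  hi : Spec.map i = G.left.fromSpecStalk (pt0 G η[G]) ≫ G.hom
  hρi : i ≫ ρ = 𝟙 _

theorem nonempty_aug : Nonempty (Aug G) := by
  obtain ⟨ρ', hρ'⟩ := exists_germ (R := CommRingCat.of k) η[G].left (pt0 G η[G]) rfl
  let i' : CommRingCat.of k ⟶ G.left.presheaf.stalk (pt0 G η[G]) :=
    Spec.preimage (G.left.fromSpecStalk (pt0 G η[G]) ≫ G.hom)
  have hi : Spec.map i' = G.left.fromSpecStalk (pt0 G η[G]) ≫ G.hom := Spec.map_preimage _
  refine ⟨⟨ρ', i', hρ', hi, ?_⟩⟩
  apply Spec.map_injective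
  rw [Spec.map_comp, hi, ← Category.assoc, hρ', Spec.map_id]
  exact Over.w η[G]

variable {G}

theorem Aug.hρi' (a : Aug G) : a.ρ.hom.comp a.i.hom = RingHom.id k :=
  congrArg CommRingCat.Hom.hom a.hρi

/-- the tangent vector attached to a ring homomorphism to the dual numbers -/
theorem exists_tangent (a : Aug G) (θ : (G.left.presheaf.stalk (pt0 G η[G])) →+* R1 k)
    (hθ1 : (TrivSqZeroExt.fstHom k k k).toRingHom.comp θ = a.ρ.hom)
    (hθ2 : θ.comp a.i.hom = algebraMap k _) :
    ∃ t : D k (R1 k) ⟶ G, IsGerm G η[G] t θ ∧ c₁ k ≫ t = η[G] := by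
  let t : D k (R1 k) ⟶ G :=
    Over.homMk (Spec.map (CommRingCat.ofHom θ) ≫ G.left.fromSpecStalk (pt0 G η[G]))
      (by
        change (Spec.map (CommRingCat.ofHom θ) ≫ G.left.fromSpecStalk (pt0 G η[G])) ≫ G.hom =
          Spec.map (CommRingCat.ofHom (algebraMap k (R1 k)))
        rw [Category.assoc, ← a.hi, ← Spec.map_comp]
        congr 1
        ext1
        exact hθ2)
  refine ⟨t, rfl, ?_⟩
  ext1
  change Spec.map (CommRingCat.ofHom (TrivSqZeroExt.fstHom k k k).toRingHom) ≫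
    Spec.map (CommRingCat.ofHom θ) ≫ G.left.fromSpecStalk (pt0 G η[G]) = η[G].left
  rw [← Category.assoc, ← Spec.map_comp, ← a.hρ]
  congr 2
  ext1
  exact hθ1

end germs

section homs

variable {G H : Over (Spec (CommRingCat.of k))} [GrpObj G] [GrpObj H]

theorem map_pt0 (f : G ⟶ H) (hf : η[G] ≫ f = η[H]) :
    f.left.base (pt0 G η[G]) = pt0 H η[H] := by
  have h2 := congrArg (fun t => t.left) hf
  simp only [Over.comp_left] at h2
  rw [pt0, pt0, ← Scheme.Hom.comp_apply, h2]

/-- the germ of a pointed morphism at the unit -/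
structure HomGerm (f : G ⟶ H) where
  φ : H.left.presheaf.stalk (pt0 H η[H]) ⟶ G.left.presheaf.stalk (pt0 G η[G])
  hφ : Spec.map φ ≫ H.left.fromSpecStalk (pt0 H η[H]) =
    G.left.fromSpecStalk (pt0 G η[G]) ≫ f.left

theorem nonempty_homGerm (f : G ⟶ H) (hf : η[G] ≫ f = η[H]) : Nonempty (HomGerm f) := by
  obtain ⟨φ', hφ'⟩ := exists_germ (R := G.left.presheaf.stalk (pt0 G η[G]))
    (G.left.fromSpecStalk (pt0 G η[G]) ≫ f.left) (pt0 H η[H])
    (by rw [Scheme.Hom.comp_apply, Scheme.fromSpecStalk_closedPoint, map_pt0 f hf])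
  exact ⟨⟨φ', hφ'⟩⟩

variable {f : G ⟶ H}

theorem HomGerm.comp_ρ (g : HomGerm f) (hf : η[G] ≫ f = η[H]) (a : Aug G) (b : Aug H) :
    g.φ ≫ a.ρ = b.ρ := by
  apply germ_unique (pt0 H η[H])
  rw [Spec.map_comp, Category.assoc, g.hφ, ← Category.assoc, a.hρ, b.hρ]
  exact congrArg (fun t => t.left) hf

theorem HomGerm.i_comp (g : HomGerm f) (a : Aug G) (b : Aug H) :
    b.i ≫ g.φ = a.i := by
  apply Spec.map_injective
  rw [Spec.map_comp, b.hi, ← Category.assoc, g.hφ, Category.assoc, Over.w f, a.hi]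

theorem HomGerm.isGerm (g : HomGerm f) {t : D k (R1 k) ⟶ G}
    {θ : (G.left.presheaf.stalk (pt0 G η[G])) →+* R1 k} (h : IsGerm G η[G] t θ) :
    IsGerm H η[H] (t ≫ f) (θ.comp g.φ.hom) := by
  change Spec.map (g.φ ≫ CommRingCat.ofHom θ) ≫ _ = t.left ≫ f.left
  rw [Spec.map_comp, Category.assoc, g.hφ, ← Category.assoc]
  exact congrArg (· ≫ f.left) h

/-- **additivity** of the germs on tangent vectors -/
theorem snd_mul {f f' : G ⟶ H} (hf : η[G] ≫ f = η[H]) (hf' : η[G] ≫ f' = η[H])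
    (g : HomGerm f) (g' : HomGerm f') (g'' : HomGerm (f * f')) (a : Aug G)
    (θ : (G.left.presheaf.stalk (pt0 G η[G])) →+* R1 k)
    (hθ1 : (TrivSqZeroExt.fstHom k k k).toRingHom.comp θ = a.ρ.hom)
    (hθ2 : θ.comp a.i.hom = algebraMap k _) (x : H.left.presheaf.stalk (pt0 H η[H])) :
    TrivSqZeroExt.snd (θ (g''.φ.hom x)) =
      TrivSqZeroExt.snd (θ (g.φ.hom x)) + TrivSqZeroExt.snd (θ (g'.φ.hom x)) := by
  obtain ⟨t, ht, htc⟩ := exists_tangent a θ hθ1 hθ2
  have h1 := g.isGerm ht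
  have h2 := g'.isGerm ht
  have h3 := g''.isGerm ht
  have c1 : c₁ k ≫ t ≫ f = η[H] := by rw [← Category.assoc, htc, hf]
  have c2 : c₁ k ≫ t ≫ f' = η[H] := by rw [← Category.assoc, htc, hf']
  obtain ⟨θ'', hθ'', hsnd⟩ := isGerm_mul h1 h2 c1 c2
  rw [MonObj.comp_mul] at h3
  have := hθ''.unique h3
  have key := hsnd x
  rw [this] at key
  exact key

end homs

section etale

variable {G H : Over (Spec (CommRingCat.of k))} [GrpObj G] [GrpObj H]
  [LocallyOfFiniteType G.hom] [LocallyOfFiniteType H.hom]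

/-- a homomorphism whose germ at the unit is flat and unramified is étale -/
theorem etale_of_germ (f : G ⟶ H) [IsMonHom f] (g : HomGerm f) (a : Aug G) (b : Aug H)
    (hflat : g.φ.hom.Flat)
    (hmap : (maximalIdeal (H.left.presheaf.stalk (pt0 H η[H]))).map g.φ.hom =
      maximalIdeal (G.left.presheaf.stalk (pt0 G η[G]))) : Etale f.left := by
  have hf : η[G] ≫ f = η[H] := IsMonHom.one_hom f
  set e₀ := pt0 G η[G] with he₀
  haveI : IsLocallyNoetherian G.left := LocallyOfFiniteType.isLocallyNoetherian G.hom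
  haveI : LocallyOfFiniteType f.left := by
    have : LocallyOfFiniteType (f.left ≫ H.hom) := by rw [Over.w f]; infer_instance
    exact locallyOfFiniteType_of_comp f.left H.hom
  haveI : LocallyOfFinitePresentation G.hom :=
    LocallyOfFinitePresentation.iff_locallyOfFiniteType.2 inferInstance
  haveI : LocallyOfFinitePresentation f.left := by
    apply Groth.Agent.Lib.Helper4.CentralizerClosed.lfp_of_comp f.left H.hom
    · rw [Over.w f]; infer_instance
    · infer_instance
  obtain ⟨σ, hσ⟩ := stalkMap_of_germ f.left e₀ (pt0 H η[H]) (map_pt0 f hf) g.φ g.hφ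
  have hσ' : ∀ c, (f.left.stalkMap e₀).hom (σ.hom.hom c) = g.φ.hom c := by
    intro c
    rw [hσ]
    rfl
  have hst : (f.left.stalkMap e₀).hom = g.φ.hom.comp σ.inv.hom := by
    ext c
    have := hσ' (σ.inv.hom c)
    rw [RingHom.comp_apply, ← this]
    congr 1
    change c = (σ.inv ≫ σ.hom).hom c
    rw [Iso.inv_hom_id]
    rfl
  have hflat' : (f.left.stalkMap e₀).hom.Flat := by
    rw [hst]
    refine RingHom.Flat.comp (RingHom.Flat.of_bijective ?_) hflat
    exact (ConcreteCategory.bijective_of_isIso σ.inv)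
  have hσm : (maximalIdeal (H.left.presheaf.stalk (f.left.base e₀))).map σ.inv.hom =
      maximalIdeal (H.left.presheaf.stalk (pt0 H η[H])) :=
    IsLocalRing.map_maximalIdeal_of_surjective σ.inv.hom
      (ConcreteCategory.bijective_of_isIso σ.inv).2
  have hmap' : (maximalIdeal (H.left.presheaf.stalk (f.left e₀))).map (f.left.stalkMap e₀).hom =
      maximalIdeal (G.left.presheaf.stalk e₀) := by
    rw [hst, ← Ideal.map_map]
    erw [hσm]
    exact hmap
  have hm := mem_maximalIdeal_iff a.i.hom a.ρ.hom a.hρi'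
  have hres : ∀ c : G.left.presheaf.stalk e₀, ∃ b' : H.left.presheaf.stalk (f.left e₀),
      (f.left.stalkMap e₀).hom b' - c ∈ maximalIdeal (G.left.presheaf.stalk e₀) := by
    intro c
    refine ⟨σ.hom.hom (b.i.hom (a.ρ.hom c)), ?_⟩
    rw [hσ']
    have h1 : g.φ.hom (b.i.hom (a.ρ.hom c)) = a.i.hom (a.ρ.hom c) := by
      have := congrArg (fun q => q.hom (a.ρ.hom c)) (g.i_comp a b)
      exact this
    rw [h1, hm, map_sub]
    have h2 : a.ρ.hom (a.i.hom (a.ρ.hom c)) = a.ρ.hom c := by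
      have := congrArg (fun q => q (a.ρ.hom c)) a.hρi'
      exact this
    rw [h2, sub_self]
  have hunr := formallyUnramified_stalkMap f.left e₀ hmap' hres
  obtain ⟨V₁, h1, hV₁⟩ := FibHom.exists_flat_open f.left e₀ hflat'
  obtain ⟨V₂, h2, hV₂⟩ := exists_unramified_open f.left e₀ hunr
  have e1 : (V₁ ⊓ V₂).ι ≫ f.left =
      G.left.homOfLE (inf_le_left : V₁ ⊓ V₂ ≤ V₁) ≫ (V₁.ι ≫ f.left) := by
    rw [← Category.assoc, Scheme.homOfLE_ι]
  have e2 : (V₁ ⊓ V₂).ι ≫ f.left =
      G.left.homOfLE (inf_le_right : V₁ ⊓ V₂ ≤ V₂) ≫ (V₂.ι ≫ f.left) := by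
    rw [← Category.assoc, Scheme.homOfLE_ι]
  haveI : Flat ((V₁ ⊓ V₂).ι ≫ f.left) := by
    rw [e1]
    infer_instance
  haveI : FormallyUnramified ((V₁ ⊓ V₂).ι ≫ f.left) := by
    rw [e2]
    exact MorphismProperty.comp_mem _ _ _ inferInstance hV₂
  have hE : Etale ((V₁ ⊓ V₂).ι ≫ f.left) := Etale.of_formallyUnramified_of_flat _
  exact FibHom.hom_of_open_field @Etale G H f (V₁ ⊓ V₂) ⟨e₀, ⟨h1, h2⟩⟩ hE

/-- the germ of an étale pointed morphism is unramified -/
theorem map_maximalIdeal_of_etale (f : G ⟶ H) (hf : η[G] ≫ f = η[H]) [Etale f.left]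
    (g : HomGerm f) :
    (maximalIdeal (H.left.presheaf.stalk (pt0 H η[H]))).map g.φ.hom =
      maximalIdeal (G.left.presheaf.stalk (pt0 G η[G])) := by
  set e₀ := pt0 G η[G] with he₀
  haveI : LocallyOfFiniteType f.left := by
    have : LocallyOfFiniteType (f.left ≫ H.hom) := by rw [Over.w f]; infer_instance
    exact locallyOfFiniteType_of_comp f.left H.hom
  obtain ⟨σ, hσ⟩ := stalkMap_of_germ f.left e₀ (pt0 H η[H]) (map_pt0 f hf) g.φ g.hφ
  have hφ : g.φ.hom = (f.left.stalkMap e₀).hom.comp σ.hom.hom := by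
    rw [hσ]; rfl
  have hσm : (maximalIdeal (H.left.presheaf.stalk (pt0 H η[H]))).map σ.hom.hom =
      maximalIdeal (H.left.presheaf.stalk (f.left.base e₀)) :=
    IsLocalRing.map_maximalIdeal_of_surjective σ.hom.hom
      (ConcreteCategory.bijective_of_isIso σ.hom).2
  rw [hφ, ← Ideal.map_map]
  erw [hσm]
  have hunr := AlgebraicGeometry.FormallyUnramified.stalkMap f.left e₀
  algebraize [(f.left.stalkMap e₀).hom]
  have : IsLocalHom (algebraMap (H.left.presheaf.stalk (f.left e₀)) (G.left.presheaf.stalk e₀)) :=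
    inferInstanceAs <| IsLocalHom (f.left.stalkMap e₀).hom
  have : Algebra.EssFiniteType (H.left.presheaf.stalk (f.left e₀)) (G.left.presheaf.stalk e₀) := by
    rw [← RingHom.essFiniteType_algebraMap, RingHom.algebraMap_toAlgebra]
    exact LocallyOfFiniteType.stalkMap f.left e₀
  have : Algebra.FormallyUnramified (H.left.presheaf.stalk (f.left e₀))
      (G.left.presheaf.stalk e₀) := by
    rw [← RingHom.formallyUnramified_algebraMap, RingHom.algebraMap_toAlgebra]
    exact hunr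
  exact Algebra.FormallyUnramified.map_maximalIdeal

end etale

end Groth.Agent.Lib.helper11.SumIsog
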