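import Mathlib
import Groth.Agent.Lib.helper11.FFGal2
import Groth.Agent.Lib.helper11.FFGalAlg
import Groth.Agent.Lib.helper11.SumIsog

/-!
# The degree of the function field extension of an étale isogeny (helper11)
-/

set_option autoImplicit false
universe u

open CategoryTheory Limits MonoidalCategory CartesianMonoidalCategory MonObj GrpObj AlgebraicGeometry

namespace Groth.Agent.Lib.helper11.FFGal

open Groth.Agent.Lib.Helper24.Tangent

variable {k : Type u} [Field k] [IsAlgClosed k] {E E' : Over (Spec (CommRingCat.of k))}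
  [GrpObj E] [GrpObj E'] [IsIntegral E.left] [IsIntegral E'.left]

theorem ffMap_germ {X Y : Scheme.{u}} [IsIntegral X] [IsIntegral Y] (g : X ⟶ Y)
    (hg : g (genericPoint X) = genericPoint Y) (U : Y.Opens) [Nonempty U]
    [Nonempty (g ⁻¹ᵁ U)] :
    Y.germToFunctionField U ≫ ffMap g hg = g.app U ≫ X.germToFunctionField (g ⁻¹ᵁ U) := by
  rw [ffMap, Scheme.germToFunctionField, TopCat.Presheaf.germ_stalkSpecializes_assoc,
    Scheme.Hom.germ_stalkMap]

theorem finrank_le_card (φ : E ⟶ E') [IsMonHom φ] [IsFinite φ.left] [Etale φ.left]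
    (e : φ.left (genericPoint E.left) = genericPoint E'.left) :
    letI := (ffMap φ.left e).hom.toAlgebra
    FiniteDimensional E'.left.functionField E.left.functionField ∧
      ∃ (T : Type u) (G : T → {P : 𝟙_ (Over (Spec (CommRingCat.of k))) ⟶ E // P ≫ φ = η[E']}),
        Function.Injective G ∧
          Module.finrank E'.left.functionField E.left.functionField ≤ Nat.card T := by
  letI aK : Algebra E'.left.functionField E.left.functionField := (ffMap φ.left e).hom.toAlgebra
  have hone : η[E] ≫ φ = η[E'] := IsMonHom.one_hom φ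
  obtain ⟨U', hU', hy₀, -⟩ :=
    exists_isAffineOpen_mem_and_subset (x := pt0 E' η[E']) (U := ⊤) trivial
  have hV : IsAffineOpen (φ.left ⁻¹ᵁ U') := hU'.preimage φ.left
  haveI : Nonempty U' := ⟨⟨_, hy₀⟩⟩
  haveI : Nonempty (φ.left ⁻¹ᵁ U') := ⟨⟨pt0 E η[E], by
    change φ.left.base (pt0 E η[E]) ∈ U'
    rw [SumIsog.map_pt0 φ hone]; exact hy₀⟩⟩
  letI aR : Algebra Γ(E'.left, U') Γ(E.left, φ.left ⁻¹ᵁ U') := (φ.left.app U').hom.toAlgebra
  letI aRK : Algebra Γ(E'.left, U') E.left.functionField :=
    ((algebraMap E'.left.functionField E.left.functionField).comp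
      (algebraMap Γ(E'.left, U') E'.left.functionField)).toAlgebra
  haveI : IsScalarTower Γ(E'.left, U') E'.left.functionField E.left.functionField :=
    IsScalarTower.of_algebraMap_eq fun _ => rfl
  haveI : IsScalarTower Γ(E'.left, U') Γ(E.left, φ.left ⁻¹ᵁ U') E.left.functionField := by
    refine IsScalarTower.of_algebraMap_eq fun r => ?_
    have := congrArg (fun q => q.hom r) (ffMap_germ φ.left e U')
    exact this
  haveI : IsFractionRing Γ(E.left, φ.left ⁻¹ᵁ U') E.left.functionField :=
    functionField_isFractionRing_of_isAffineOpen _ _ hV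
  haveI : IsFractionRing Γ(E'.left, U') E'.left.functionField :=
    functionField_isFractionRing_of_isAffineOpen _ _ hU'
  haveI : Module.Finite Γ(E'.left, U') Γ(E.left, φ.left ⁻¹ᵁ U') := φ.left.finite_app U' hU'
  have happ : φ.left.app U' = φ.left.appLE U' (φ.left ⁻¹ᵁ U') le_rfl := Scheme.Hom.app_eq_appLE _
  haveI : Module.Flat Γ(E'.left, U') Γ(E.left, φ.left ⁻¹ᵁ U') := by
    have h := φ.left.flat_appLE hU' hV le_rfl
    rw [← happ] at h
    exact h
  haveI : Algebra.Etale Γ(E'.left, U') Γ(E.left, φ.left ⁻¹ᵁ U') := by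
    have h := φ.left.etale_appLE hU' hV le_rfl
    rw [← happ] at h
    exact h
  have hinj : Function.Injective (algebraMap Γ(E'.left, U') E.left.functionField) :=
    (algebraMap E'.left.functionField E.left.functionField).injective.comp
      (IsFractionRing.injective Γ(E'.left, U') E'.left.functionField)
  -- the augmentation of the base chart
  have hrange : Set.range η[E'].left.base ⊆ Set.range hU'.fromSpec.base := by
    rintro _ ⟨q, rfl⟩
    rw [hU'.range_fromSpec]
    have : q = (show ↥(Spec (CommRingCat.of k)) from IsLocalRing.closedPoint k) :=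
      Subsingleton.elim (α := PrimeSpectrum k) _ _
    rw [this]
    exact hy₀
  let l := IsOpenImmersion.lift hU'.fromSpec η[E'].left hrange
  have hl : l ≫ hU'.fromSpec = η[E'].left := IsOpenImmersion.lift_fac _ _ _
  let ε' : Γ(E'.left, U') ⟶ CommRingCat.of k := Spec.preimage l
  have hε' : Spec.map ε' ≫ hU'.fromSpec = η[E'].left := by
    rw [Spec.map_preimage]; exact hl
  letI aRk : Algebra Γ(E'.left, U') k := ε'.hom.toAlgebra
  obtain ⟨hfd, hle⟩ := FFGalAlg.main k (R' := Γ(E'.left, U')) (R := Γ(E.left, φ.left ⁻¹ᵁ U'))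
    (K' := E'.left.functionField) (K := E.left.functionField) hinj
  refine ⟨hfd, (Γ(E.left, φ.left ⁻¹ᵁ U') →ₐ[Γ(E'.left, U')] k), ?_, ?_, hle⟩
  · intro ψ
    have hψ : φ.left.app U' ≫ CommRingCat.ofHom ψ.toRingHom = ε' := by
      ext r
      exact ψ.commutes r
    have h2 : (Spec.map (CommRingCat.ofHom ψ.toRingHom) ≫ hV.fromSpec) ≫ φ.left = η[E'].left := by
      rw [Category.assoc, ← IsAffineOpen.SpecMap_appLE_fromSpec φ.left hU' hV le_rfl, ← happ,
        ← Category.assoc, ← Spec.map_comp, hψ, hε']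
    refine ⟨Over.homMk (Spec.map (CommRingCat.ofHom ψ.toRingHom) ≫ hV.fromSpec) ?_, ?_⟩
    · change (Spec.map (CommRingCat.ofHom ψ.toRingHom) ≫ hV.fromSpec) ≫ E.hom = 𝟙 _
      rw [← Over.w φ, ← Category.assoc, h2]
      exact Over.w η[E']
    · ext1
      exact h2
  · intro ψ ψ' h
    have h1 := congrArg (fun P => P.1.left) h
    simp only [Over.homMk_left] at h1
    have h2 : Spec.map (CommRingCat.ofHom ψ.toRingHom) = Spec.map (CommRingCat.ofHom ψ'.toRingHom) :=
      (cancel_mono hV.fromSpec).1 h1
    have h3 := congrArg CommRingCat.Hom.hom (Spec.map_injective h2)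
    exact AlgHom.coe_ringHom_injective h3

end Groth.Agent.Lib.helper11.FFGal
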