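import Mathlib
import Groth.Agent.Lib.helper11.FFGal3

/-!
# The function field extension of an étale isogeny of elliptic curves is Galois (helper11)
-/

set_option autoImplicit false
universe u

open CategoryTheory Limits MonoidalCategory CartesianMonoidalCategory MonObj GrpObj AlgebraicGeometry

namespace Groth.Agent.Lib.helper11.FFGal

variable {k : Type u} [Field k] [IsAlgClosed k] {E E' : Over (Spec (CommRingCat.of k))}
  [GrpObj E] [GrpObj E'] [IsIntegral E.left] [IsIntegral E'.left]

theorem main [IsSeparated E.hom] (φ : E ⟶ E') [IsMonHom φ] [IsFinite φ.left] [Etale φ.left]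
    (e : φ.left (genericPoint E.left) = genericPoint E'.left) :
    letI := (ffMap φ.left e).hom.toAlgebra
    IsGalois E'.left.functionField E.left.functionField ∧
      Nat.card (E.left.functionField ≃ₐ[E'.left.functionField] E.left.functionField) =
        Nat.card {P : 𝟙_ (Over (Spec (CommRingCat.of k))) ⟶ E // P ≫ φ = η[E']} := by
  letI := (ffMap φ.left e).hom.toAlgebra
  obtain ⟨hfd, T, G, hG, hle⟩ := finrank_le_card φ e
  obtain ⟨F, hF⟩ := exists_injection φ e
  haveI := hfd
  have c1 : Nat.card (E.left.functionField ≃ₐ[E'.left.functionField] E.left.functionField) =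
      Nat.card (E.left.functionField →ₐ[E'.left.functionField] E.left.functionField) :=
    Nat.card_congr (algEquivEquivAlgHom E'.left.functionField E.left.functionField).toEquiv
  haveI : Finite (E.left.functionField →ₐ[E'.left.functionField] E.left.functionField) :=
    inferInstance
  haveI : Finite {P : 𝟙_ (Over (Spec (CommRingCat.of k))) ⟶ E // P ≫ φ = η[E']} :=
    Finite.of_injective F hF
  haveI : Finite T := Finite.of_injective G hG
  have c2 := Nat.card_le_card_of_injective F hF
  have c3 := card_algHom_le_finrank E'.left.functionField E.left.functionField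
    E.left.functionField
  have c4 := Nat.card_le_card_of_injective G hG
  have h1 : Nat.card (E.left.functionField ≃ₐ[E'.left.functionField] E.left.functionField) =
      Module.finrank E'.left.functionField E.left.functionField := by
    rw [c1]; omega
  refine ⟨IsGalois.of_card_aut_eq_finrank _ _ h1, ?_⟩
  rw [c1]; omega

end Groth.Agent.Lib.helper11.FFGal
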