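import Mathlib
import Groth.Prelude.Def_FEt
import Groth.Agent.Lib.helper11.FFCrit
import Groth.Agent.Lib.helper11.FFField
import Groth.Agent.Lib.lead.HensClopenC

/-!
# Finite étale covers of proper schemes over henselian pairs: full faithfulness (helper11)

* `clopenBij_of_henselian`, `full_faithful_closedFibre`: for `f : X ⟶ Spec R` proper over a
  Noetherian henselian pair `(R, K)` and a closed immersion `j : X₀ ⟶ X` with range `f⁻¹ V(K)`,
  restriction of finite étale covers from `X` to `X₀` is full and faithful.
* `full_faithful_of_square`: 2-out-of-3 for a commutative square of restriction functors.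
* `full_faithful_of_henselianLocal`: `X` proper over a Noetherian henselian local ring with
  geometrically connected closed fibre: `FEt (Spec A) ⥤ FEt X` is full and faithful.
-/

set_option autoImplicit false
set_option backward.isDefEq.respectTransparency.types false
set_option linter.style.haveILetI false
universe u
open CategoryTheory CategoryTheory.Limits AlgebraicGeometry Opposite TopologicalSpace

namespace Groth.Agent.Lib.helper11.FFHens

open Groth.Agent.Lib.lead

theorem clopenBij_of_henselian (R : Type u) [CommRing R] [IsNoetherianRing R] (K : Ideal R)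
    [HenselianRing R K] {X X₀ : Scheme.{u}} (f : X ⟶ Spec (CommRingCat.of R)) [IsProper f]
    (j : X₀ ⟶ X) [IsClosedImmersion j]
    (hj : Set.range j = f ⁻¹' (PrimeSpectrum.zeroLocus (K : Set R))) : FFCrit.ClopenBij j := by
  have key : ∀ {Z : Scheme.{u}} (p : Z ⟶ X) [IsFinite p] (V : Set ↥(pullback p j)), IsClopen V →
      ∃! U : Set Z, IsClopen U ∧ (pullback.fst p j) ⁻¹' U = V := by
    intro Z p _ V hV
    haveI : IsClosedImmersion (pullback.fst p j) := inferInstance
    have hrange : Set.range (pullback.fst p j) =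
        (p ≫ f) ⁻¹' (PrimeSpectrum.zeroLocus (K : Set R)) := by
      rw [Scheme.Pullback.range_fst, hj]; rfl
    exact HensClopen.existsUnique_of_isClosedEmbedding (fun y => pullback.fst p j y)
      (pullback.fst p j).isClosedEmbedding _ hrange
      (fun V' h1 h2 h3 => HensClopen.main R K (p ≫ f) V' h1 h2 h3) V hV
  constructor
  · intro Z p _ _ C' hC'
    obtain ⟨U, ⟨hU, hUeq⟩, -⟩ := key p C' hC'
    exact ⟨U, hU, hUeq⟩
  · intro Z p _ _ D hD hDu
    obtain ⟨U, -, huniq⟩ := key p Set.univ isClopen_univ
    rw [huniq D ⟨hD, hDu⟩, ← huniq Set.univ ⟨isClopen_univ, rfl⟩]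

/-- **Full faithfulness of restriction to the closed fibre** over a Noetherian henselian pair. -/
theorem full_faithful_closedFibre (R : Type u) [CommRing R] [IsNoetherianRing R] (K : Ideal R)
    [HenselianRing R K] {X X₀ : Scheme.{u}} (f : X ⟶ Spec (CommRingCat.of R)) [IsProper f]
    (j : X₀ ⟶ X) [IsClosedImmersion j]
    (hj : Set.range j = f ⁻¹' (PrimeSpectrum.zeroLocus (K : Set R))) :
    (FEt.restrict j).Full ∧ (FEt.restrict j).Faithful :=
  FFCrit.full_faithful_of_clopenBij j (clopenBij_of_henselian R K f j hj)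

theorem full_faithful_of_square {X₀ X S S₀ : Scheme.{u}} (f : X ⟶ S) (i : X₀ ⟶ X)
    (f₀ : X₀ ⟶ S₀) (c : S₀ ⟶ S) (w : i ≫ f = f₀ ≫ c)
    (hi : (FEt.restrict i).Faithful)
    (hc : (FEt.restrict c).Full ∧ (FEt.restrict c).Faithful)
    (hf₀ : (FEt.restrict f₀).Full ∧ (FEt.restrict f₀).Faithful) :
    (FEt.restrict f).Full ∧ (FEt.restrict f).Faithful := by
  obtain ⟨hc1, hc2⟩ := hc
  obtain ⟨h1, h2⟩ := hf₀
  let e1 : FEt.restrict (i ≫ f) ≅ FEt.restrict f ⋙ FEt.restrict i :=
    MorphismProperty.Over.pullbackComp i f
  let e2 : FEt.restrict (i ≫ f) ≅ FEt.restrict c ⋙ FEt.restrict f₀ :=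
    MorphismProperty.Over.pullbackComp f₀ c (i ≫ f) w
  haveI : (FEt.restrict c ⋙ FEt.restrict f₀).Full := inferInstance
  haveI : (FEt.restrict c ⋙ FEt.restrict f₀).Faithful := inferInstance
  haveI : (FEt.restrict f ⋙ FEt.restrict i).Full := Functor.Full.of_iso (e2.symm ≪≫ e1)
  haveI : (FEt.restrict f ⋙ FEt.restrict i).Faithful := Functor.Faithful.of_iso (e2.symm ≪≫ e1)
  exact ⟨Functor.Full.of_comp_faithful (FEt.restrict f) (FEt.restrict i),
    Functor.Faithful.of_comp (FEt.restrict f) (FEt.restrict i)⟩

/-- **Surjectivity of `π₁(X) → π₁(Spec A)`** for `X` proper over a Noetherian henselian local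
ring with geometrically connected closed fibre, in functor form. -/
theorem full_faithful_of_henselianLocal (A : Type u) [CommRing A] [IsNoetherianRing A]
    [IsLocalRing A] [HenselianRing A (IsLocalRing.maximalIdeal A)]
    (Ω : Type u) [Field Ω] [IsAlgClosed Ω] [Algebra (IsLocalRing.ResidueField A) Ω]
    {X : Scheme.{u}} (f : X ⟶ Spec (CommRingCat.of A)) [IsProper f]
    [ConnectedSpace ↥(pullback f (Spec.map (CommRingCat.ofHom
      ((algebraMap (IsLocalRing.ResidueField A) Ω).comp (IsLocalRing.residue A)))))] :
    (FEt.restrict f).Full ∧ (FEt.restrict f).Faithful := by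
  set m := IsLocalRing.maximalIdeal A with hm
  let c : Spec (CommRingCat.of (IsLocalRing.ResidueField A)) ⟶ Spec (CommRingCat.of A) :=
    Spec.map (CommRingCat.ofHom (IsLocalRing.residue A))
  haveI : IsClosedImmersion c :=
    IsClosedImmersion.spec_of_surjective _ Ideal.Quotient.mk_surjective
  have hcrange : Set.range c = PrimeSpectrum.zeroLocus (m : Set A) :=
    HensClopen.range_SpecMap_quotient A m
  let a : Spec (CommRingCat.of Ω) ⟶ Spec (CommRingCat.of (IsLocalRing.ResidueField A)) :=
    Spec.map (CommRingCat.ofHom (algebraMap (IsLocalRing.ResidueField A) Ω))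
  have hac : Spec.map (CommRingCat.ofHom
      ((algebraMap (IsLocalRing.ResidueField A) Ω).comp (IsLocalRing.residue A))) = a ≫ c := by
    simp only [a, c, ← Spec.map_comp]; rfl
  -- the closed fibre
  let i := pullback.fst f c
  let f₀ := pullback.snd f c
  haveI : IsClosedImmersion i := inferInstance
  have hirange : Set.range i = f ⁻¹' (PrimeSpectrum.zeroLocus (m : Set A)) := by
    rw [Scheme.Pullback.range_fst, hcrange]
  have hi := (full_faithful_closedFibre A m f i hirange).2
  have hc := full_faithful_closedFibre A m (𝟙 (Spec (CommRingCat.of A))) c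
    (by rw [hcrange]; rfl)
  haveI : ConnectedSpace ↥(pullback f₀ a) := by
    have e := pullbackLeftPullbackSndIso f c a
    haveI : ConnectedSpace ↥(pullback f (a ≫ c)) := by rw [← hac]; infer_instance
    exact e.inv.homeomorph.surjective.connectedSpace e.inv.homeomorph.continuous
  have hf₀ := FFField.full_faithful (IsLocalRing.ResidueField A) Ω f₀
  exact full_faithful_of_square f i f₀ c pullback.condition hi hc hf₀

end Groth.Agent.Lib.helper11.FFHens
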