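import Mathlib
import Groth.Prelude.Def_FEt
import Groth.Agent.Lib.helper11.FFCrit
import Groth.Agent.Lib.helper11.HomotopyExact
import Groth.Agent.Lib.helper19.HensSec1

/-!
# Specialization of finite étale covers over a strictly henselian base (helper11)

For `f : X ⟶ Spec A` proper, flat, of finite presentation with geometrically reduced fibres over a
strictly henselian local ring `A` and a geometric point `t` of `Spec A`, restriction of finite
étale covers from `X` to the geometric fibre `X_t` is full and faithful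
(`full_faithful_geomFibre`).
-/

set_option autoImplicit false
set_option backward.isDefEq.respectTransparency.types false
set_option linter.style.haveILetI false
universe u
open CategoryTheory CategoryTheory.Limits AlgebraicGeometry Opposite TopologicalSpace

namespace Groth.Agent.Lib.helper11.FFStrict

/-- over a local ring, a nonempty subset whose image is open and closed maps onto the spectrum -/
theorem image_eq_univ (A : Type u) [CommRing A] [IsLocalRing A] {Z : Scheme.{u}}
    (h : Z ⟶ Spec (CommRingCat.of A)) (hcl : IsClosedMap h) (hop : IsOpenMap h) (D : Set Z)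
    (hD : IsClopen D) (hne : D.Nonempty) : h '' D = Set.univ := by
  have h1 : IsClosed (h '' D) := hcl _ hD.1
  have h2 : IsOpen (h '' D) := hop _ hD.2
  obtain ⟨d, hd⟩ := hne
  have h3 : IsLocalRing.closedPoint A ∈ h '' D :=
    (IsLocalRing.specializes_closedPoint (h d)).mem_closed h1 ⟨d, hd, rfl⟩
  have := (IsLocalRing.closedPoint_mem_iff (⟨h '' D, h2⟩ : Opens (PrimeSpectrum A))).mp h3
  exact congrArg (fun U : Opens (PrimeSpectrum A) => (U : Set (PrimeSpectrum A))) this

variable (A : Type u) [CommRing A] [HenselianLocalRing A]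
  [IsSepClosed (IsLocalRing.ResidueField A)]

/-- every point of a finite étale cover of a strictly henselian local scheme lies on a section -/
theorem exists_section_mem {T : Scheme.{u}} (τ : T ⟶ Spec (CommRingCat.of A)) [IsFinite τ]
    [Etale τ] (x : T) :
    ∃ u : Spec (CommRingCat.of A) ⟶ T, u ≫ τ = 𝟙 _ ∧ x ∈ Set.range u := by
  have hcl : IsClosed (τ '' closure {x}) := τ.isClosedMap _ isClosed_closure
  have h3 : IsLocalRing.closedPoint A ∈ τ '' closure {x} :=
    (IsLocalRing.specializes_closedPoint (τ x)).mem_closed hcl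
      ⟨x, subset_closure rfl, rfl⟩
  obtain ⟨x₀, hx₀, hx₀τ⟩ := h3
  obtain ⟨u, hu, hux⟩ := Groth.Agent.Lib.Helper19.HensSec1.exists_section_through A τ x₀ hx₀τ
  refine ⟨u, hu, ?_⟩
  have hopen : IsOpen (Set.range u) := (FFCrit.isClopen_range_section τ u hu).2
  have hspec : x ⤳ x₀ := specializes_iff_mem_closure.mpr hx₀
  exact hspec.mem_open hopen ⟨_, hux⟩

omit [HenselianLocalRing A] [IsSepClosed (IsLocalRing.ResidueField A)] in
theorem range_fst_of_isPullback {P X Y Z : Scheme.{u}} {fst : P ⟶ X} {snd : P ⟶ Y} {f : X ⟶ Z}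
    {g : Y ⟶ Z} (sq : IsPullback fst snd f g) : Set.range fst = f ⁻¹' Set.range g := by
  rw [← Scheme.Pullback.range_fst, ← sq.isoPullback_hom_fst]
  ext x
  constructor
  · rintro ⟨y, rfl⟩
    exact ⟨sq.isoPullback.hom y, rfl⟩
  · rintro ⟨y, rfl⟩
    refine ⟨sq.isoPullback.inv y, ?_⟩
    rw [← Scheme.Hom.comp_apply, Iso.inv_hom_id_assoc]

open Groth.Agent.Lib.helper11 in
/-- **Clopen subsets of a geometric fibre** of a proper flat finitely presented morphism with
geometrically reduced fibres over a strictly henselian local ring come from the total space. -/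
theorem clopen_geomFibre {Z : Scheme.{u}} (h : Z ⟶ Spec (CommRingCat.of A)) [IsProper h] [Flat h]
    [LocallyOfFinitePresentation h] (hred : FE.GRed h)
    (Ω : Type u) [Field Ω] (t : Spec (CommRingCat.of Ω) ⟶ Spec (CommRingCat.of A)) :
    (∀ C' : Set ↥(pullback h t), IsClopen C' →
      ∃ C : Set Z, IsClopen C ∧ (pullback.fst h t) ⁻¹' C = C') ∧
    (∀ D : Set Z, IsClopen D → (pullback.fst h t) ⁻¹' D = Set.univ → D = Set.univ) := by
  set pr := pullback.fst h t with hpr
  have hcl : IsClosedMap h := h.isClosedMap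
  have hop : IsOpenMap h := h.isOpenMap
  have hlift : ∀ z : Z, h z = t (IsLocalRing.closedPoint Ω) → ∃ y : ↥(pullback h t), pr y = z := by
    intro z hz
    obtain ⟨y, hy, -⟩ := Scheme.Pullback.exists_preimage_pullback (f := h) (g := t) z
      (IsLocalRing.closedPoint Ω) hz
    exact ⟨y, hy⟩
  have hmeet : ∀ E : Set Z, IsClopen E → E.Nonempty → ∃ y, pr y ∈ E := by
    intro E hE hne
    have himg := image_eq_univ A h hcl hop E hE hne
    have ht₀ : t (IsLocalRing.closedPoint Ω) ∈ h '' E := by rw [himg]; trivial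
    obtain ⟨e, he, het⟩ := ht₀
    obtain ⟨y, hy⟩ := hlift e het
    exact ⟨y, hy ▸ he⟩
  constructor
  swap
  · intro D hD hDu
    by_contra hne
    have hne' : (Dᶜ).Nonempty := Set.nonempty_compl.mpr hne
    obtain ⟨y, hy⟩ := hmeet _ hD.compl hne'
    have : y ∈ pr ⁻¹' D := by rw [hDu]; trivial
    exact hy this
  · obtain ⟨hfin, het⟩ := FE.isFinite_etale_fromNormalization h hred
    set τ := h.fromNormalization with hτ
    set h' := h.toNormalization with hh'
    have hfac : h' ≫ τ = h := h.toNormalization_fromNormalization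
    -- the preimage of a section is connected
    have hW : ∀ (u : Spec (CommRingCat.of A) ⟶ h.normalization), u ≫ τ = 𝟙 _ →
        _root_.IsConnected ((pr ≫ h') ⁻¹' (Set.range u)) := by
      intro u hu
      have hsndP : pullback.fst h' u ≫ h = pullback.snd h' u := by
        have h1 : pullback.fst h' u ≫ h' ≫ τ = pullback.snd h' u := by
          rw [← Category.assoc, pullback.condition, Category.assoc, hu, Category.comp_id]
        exact (congrArg (pullback.fst h' u ≫ ·) hfac).symm.trans h1
      haveI : GeometricallyConnected (pullback.snd h' u) := inferInstance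
      let m : pullback (pullback.snd h' u) t ⟶ pullback h t :=
        pullback.lift (pullback.fst _ t ≫ pullback.fst h' u) (pullback.snd _ t)
          (by rw [Category.assoc, hsndP, pullback.condition])
      have hm_fst : m ≫ pr = pullback.fst _ t ≫ pullback.fst h' u := pullback.lift_fst _ _ _
      have hm_snd : m ≫ pullback.snd h t = pullback.snd _ t := pullback.lift_snd _ _ _
      have sq : IsPullback m (pullback.fst (pullback.snd h' u) t) pr (pullback.fst h' u) := by
        have big : IsPullback (m ≫ pullback.snd h t) (pullback.fst (pullback.snd h' u) t) t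
            (pullback.fst h' u ≫ h) := by
          rw [hm_snd, hsndP]; exact (IsPullback.of_hasPullback (pullback.snd h' u) t).flip
        exact IsPullback.of_right big hm_fst (IsPullback.of_hasPullback h t).flip
      haveI : ConnectedSpace ↥(pullback (pullback.snd h' u) t) :=
        GeometricallyConnected.geometrically_connectedSpace t _ _
          (IsPullback.of_hasPullback _ t)
      have hrange : Set.range m = (pr ≫ h') ⁻¹' (Set.range u) := by
        rw [range_fst_of_isPullback sq, Scheme.Pullback.range_fst]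
        rfl
      rw [← hrange]
      exact isConnected_range m.continuous
    intro C' hC'
    -- the two families of sections
    let I₁ : Set (Spec (CommRingCat.of A) ⟶ h.normalization) :=
      {u | u ≫ τ = 𝟙 _ ∧ (pr ≫ h') ⁻¹' (Set.range u) ⊆ C'}
    let I₂ : Set (Spec (CommRingCat.of A) ⟶ h.normalization) :=
      {u | u ≫ τ = 𝟙 _ ∧ (pr ≫ h') ⁻¹' (Set.range u) ⊆ C'ᶜ}
    let C₁ : Set Z := ⋃ u ∈ I₁, h' ⁻¹' (Set.range u)
    let C₂ : Set Z := ⋃ u ∈ I₂, h' ⁻¹' (Set.range u)
    have hopen : ∀ (u : Spec (CommRingCat.of A) ⟶ h.normalization), u ≫ τ = 𝟙 _ →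
        IsClopen (h' ⁻¹' (Set.range u)) := fun u hu =>
      (FFCrit.isClopen_range_section τ u hu).preimage h'.continuous
    have hC₁o : IsOpen C₁ := isOpen_biUnion fun u hu => (hopen u hu.1).2
    have hC₂o : IsOpen C₂ := isOpen_biUnion fun u hu => (hopen u hu.1).2
    have hcover : C₁ ∪ C₂ = Set.univ := by
      ext z
      simp only [Set.mem_union, Set.mem_univ, iff_true]
      obtain ⟨u, hu, hzu⟩ := exists_section_mem A τ (h' z)
      by_cases hne : ((pr ≫ h') ⁻¹' (Set.range u) ∩ C').Nonempty
      · have hsub := (hW u hu).isPreconnected.subset_isClopen hC' hne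
        exact Or.inl (Set.mem_biUnion (show u ∈ I₁ from ⟨hu, hsub⟩) hzu)
      · have hsub : (pr ≫ h') ⁻¹' (Set.range u) ⊆ C'ᶜ := fun y hy hyC => hne ⟨y, hy, hyC⟩
        exact Or.inr (Set.mem_biUnion (show u ∈ I₂ from ⟨hu, hsub⟩) hzu)
    have hdisj : Disjoint C₁ C₂ := by
      rw [Set.disjoint_left]
      intro z hz1 hz2
      obtain ⟨u₁, hu₁, hz1⟩ := Set.mem_iUnion₂.mp hz1
      obtain ⟨u₂, hu₂, hz2⟩ := Set.mem_iUnion₂.mp hz2
      obtain ⟨y, hy⟩ := hmeet _ ((hopen u₁ hu₁.1).inter (hopen u₂ hu₂.1)) ⟨z, hz1, hz2⟩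
      have h1 : y ∈ C' := hu₁.2 hy.1
      have h2 : y ∈ C'ᶜ := hu₂.2 hy.2
      exact h2 h1
    have hC₁c : IsClosed C₁ := by
      have : C₁ = C₂ᶜ := by
        ext z
        constructor
        · intro hz1 hz2; exact Set.disjoint_left.mp hdisj hz1 hz2
        · intro hz2
          have : z ∈ C₁ ∪ C₂ := by rw [hcover]; trivial
          exact this.resolve_right hz2
      rw [this]; exact hC₂o.isClosed_compl
    refine ⟨C₁, ⟨hC₁c, hC₁o⟩, ?_⟩
    ext y
    constructor
    · intro hy
      obtain ⟨u, hu, hyu⟩ := Set.mem_iUnion₂.mp hy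
      exact hu.2 hyu
    · intro hy
      obtain ⟨u, hu, hzu⟩ := exists_section_mem A τ (h' (pr y))
      have hyW : y ∈ (pr ≫ h') ⁻¹' (Set.range u) := hzu
      have hsub : (pr ≫ h') ⁻¹' (Set.range u) ⊆ C' :=
        (hW u hu).isPreconnected.subset_isClopen hC' ⟨y, hyW, hy⟩
      exact Set.mem_biUnion (show u ∈ I₁ from ⟨hu, hsub⟩) hzu

open Groth.Agent.Lib.helper11 in
theorem clopenBij_geomFibre {X : Scheme.{u}} (f : X ⟶ Spec (CommRingCat.of A)) [IsProper f]
    [Flat f] [LocallyOfFinitePresentation f] (hred : FE.GRed f)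
    (Ω : Type u) [Field Ω] (t : Spec (CommRingCat.of Ω) ⟶ Spec (CommRingCat.of A)) :
    FFCrit.ClopenBij (pullback.fst f t) := by
  have key : ∀ {Z : Scheme.{u}} (p : Z ⟶ X) [IsFinite p] [Etale p],
      (∀ C' : Set ↥(pullback p (pullback.fst f t)), IsClopen C' →
        ∃ C : Set Z, IsClopen C ∧ (pullback.fst p (pullback.fst f t)) ⁻¹' C = C') ∧
      (∀ D : Set Z, IsClopen D → (pullback.fst p (pullback.fst f t)) ⁻¹' D = Set.univ →
        D = Set.univ) := by
    intro Z p _ _
    haveI : IsProper (p ≫ f) := inferInstance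
    haveI : Flat (p ≫ f) := inferInstance
    haveI : LocallyOfFinitePresentation (p ≫ f) := inferInstance
    obtain ⟨hs, hi⟩ := clopen_geomFibre A (p ≫ f) (HomotopyExact.gred_comp_etale p f hred) Ω t
    let e := pullbackRightPullbackFstIso f t p
    have he : e.hom ≫ pullback.fst (p ≫ f) t = pullback.fst p (pullback.fst f t) :=
      pullbackRightPullbackFstIso_hom_fst f t p
    have hpt : ∀ y, pullback.fst p (pullback.fst f t) y = pullback.fst (p ≫ f) t (e.hom y) := by
      intro y; rw [← he, Scheme.Hom.comp_apply]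
    have hinv : ∀ y, e.hom (e.inv y) = y := by
      intro y; rw [← Scheme.Hom.comp_apply, Iso.inv_hom_id]; rfl
    have hinv' : ∀ y, e.inv (e.hom y) = y := by
      intro y; rw [← Scheme.Hom.comp_apply, Iso.hom_inv_id]; rfl
    constructor
    · intro C' hC'
      obtain ⟨C, hC, hCeq⟩ := hs (e.inv ⁻¹' C') (hC'.preimage e.inv.continuous)
      refine ⟨C, hC, ?_⟩
      ext y
      rw [Set.mem_preimage, hpt]
      have : e.hom y ∈ (pullback.fst (p ≫ f) t) ⁻¹' C ↔ e.hom y ∈ e.inv ⁻¹' C' := by rw [hCeq]
      rw [Set.mem_preimage, Set.mem_preimage, hinv'] at this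
      exact this
    · intro D hD hDu
      apply hi D hD
      ext y
      simp only [Set.mem_preimage, Set.mem_univ, iff_true]
      have : e.inv y ∈ (pullback.fst p (pullback.fst f t)) ⁻¹' D := by rw [hDu]; trivial
      rw [Set.mem_preimage, hpt, hinv] at this
      exact this
  exact ⟨fun p _ _ => (key p).1, fun p _ _ => (key p).2⟩

open Groth.Agent.Lib.helper11 in
/-- **Specialization of the fundamental group is surjective**, functor form: over a strictly
henselian local ring, restriction of finite étale covers of a proper flat finitely presented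
scheme with geometrically reduced fibres to any geometric fibre is full and faithful. -/
theorem full_faithful_geomFibre {X : Scheme.{u}} (f : X ⟶ Spec (CommRingCat.of A)) [IsProper f]
    [Flat f] [LocallyOfFinitePresentation f] (hred : FE.GRed f)
    (Ω : Type u) [Field Ω] (t : Spec (CommRingCat.of Ω) ⟶ Spec (CommRingCat.of A)) :
    (FEt.restrict (pullback.fst f t)).Full ∧ (FEt.restrict (pullback.fst f t)).Faithful :=
  FFCrit.full_faithful_of_clopenBij _ (clopenBij_geomFibre A f hred Ω t)

end Groth.Agent.Lib.helper11.FFStrict
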