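import Mathlib

/-!
# Fibre dimensions and fibre ranks over the prime spectrum (helper11)

* `fibDim M x = dim_{κ(x)} κ(x) ⊗ M` is upper semicontinuous for finite `M`;
* `fibRank φ x = dim_{κ(x)} range (κ(x) ⊗ φ)` is lower semicontinuous when the target is finite
  projective.
-/

set_option autoImplicit false

namespace Groth.Agent.Lib.helper11.FibDim

open TensorProduct

section Generic

variable {R : Type*} [CommRing R] {M C : Type*} [AddCommGroup M] [Module R M]
  [AddCommGroup C] [Module R C]

/-- `K ⊗ g` is surjective iff `K ⊗ coker g = 0`. -/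
lemma baseChange_surjective_iff (K : Type*) [CommRing K] [Algebra R K] (g : M →ₗ[R] C) :
    Function.Surjective (g.baseChange K) ↔
      Subsingleton (K ⊗[R] (C ⧸ LinearMap.range g)) := by
  have hexact : Function.Exact g (LinearMap.range g).mkQ := by
    rw [LinearMap.exact_iff, Submodule.ker_mkQ]
  have hsurj : Function.Surjective (LinearMap.range g).mkQ := Submodule.mkQ_surjective _
  have hq : Function.Surjective ((LinearMap.range g).mkQ.lTensor K) :=
    LinearMap.lTensor_surjective K hsurj
  constructor
  · intro h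
    refine ⟨fun a b => ?_⟩
    have key : ∀ w : K ⊗[R] (C ⧸ LinearMap.range g), w = 0 := by
      intro w
      obtain ⟨z, rfl⟩ := hq w
      obtain ⟨u, rfl⟩ := h z
      rw [LinearMap.baseChange_eq_ltensor, ← LinearMap.comp_apply, ← LinearMap.lTensor_comp]
      have : (LinearMap.range g).mkQ ∘ₗ g = 0 := by
        ext m
        simp
      rw [this, LinearMap.lTensor_zero, LinearMap.zero_apply]
    rw [key a, key b]
  · intro h z
    have hex := lTensor_exact K hexact hsurj
    have hz : ((LinearMap.range g).mkQ.lTensor K) z = 0 := Subsingleton.elim _ _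
    obtain ⟨u, hu⟩ := (hex z).mp hz
    exact ⟨u, by rw [LinearMap.baseChange_eq_ltensor]; exact hu⟩

end Generic

section Spec

variable {R : Type*} [CommRing R]

/-- The fibre dimension `dim_{κ(x)} κ(x) ⊗ M`. -/
noncomputable def fibDim (M : Type*) [AddCommGroup M] [Module R M] (x : PrimeSpectrum R) : ℕ :=
  Module.finrank x.asIdeal.ResidueField (x.asIdeal.ResidueField ⊗[R] M)

/-- The fibre rank `dim_{κ(x)} range (κ(x) ⊗ φ)`. -/
noncomputable def fibRank {M N : Type*} [AddCommGroup M] [Module R M] [AddCommGroup N]
    [Module R N] (φ : M →ₗ[R] N) (x : PrimeSpectrum R) : ℕ :=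
  Module.finrank x.asIdeal.ResidueField
    (LinearMap.range (φ.baseChange x.asIdeal.ResidueField))

variable (C : Type*) [AddCommGroup C] [Module R C]

/-- Upper semicontinuity of the fibre dimension of a finite module (local form). -/
theorem exists_open_fibDim_le [Module.Finite R C] (x : PrimeSpectrum R) :
    ∃ U : Set (PrimeSpectrum R), IsOpen U ∧ x ∈ U ∧ ∀ y ∈ U, fibDim C y ≤ fibDim C x := by
  classical
  set κ := x.asIdeal.ResidueField with hκ
  set s : Set (κ ⊗[R] C) := Set.range (TensorProduct.mk R κ C 1) with hs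
  have hspan : Submodule.span κ s = ⊤ := by
    have h1 := Submodule.baseChange_top (R := R) (M := C) κ
    rw [Submodule.baseChange_eq_span, Submodule.map_top] at h1
    rw [← h1, hs]
    rfl
  obtain ⟨f, hfs, hfspan, -⟩ := Submodule.exists_fun_fin_finrank_span_eq κ s
  have hn : Module.finrank κ (Submodule.span κ s) = fibDim C x := by
    rw [hspan, finrank_top]
    rfl
  have hfspan' : Submodule.span κ (Set.range f) = ⊤ := hfspan.trans hspan
  choose c hc using hfs
  let g : (Fin (Module.finrank κ (Submodule.span κ s)) → R) →ₗ[R] C := Fintype.linearCombination R c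
  have hgx : Function.Surjective (g.baseChange κ) := by
    rw [← LinearMap.range_eq_top, eq_top_iff, ← hfspan', Submodule.span_le]
    rintro _ ⟨i, rfl⟩
    refine ⟨(1 : κ) ⊗ₜ[R] (Pi.single i 1), ?_⟩
    rw [LinearMap.baseChange_tmul, ← hc i]
    simp [g]
  have hx : x ∉ Module.support R (C ⧸ LinearMap.range g) := by
    rw [Module.mem_support_iff_nontrivial_residueField_tensorProduct, not_nontrivial_iff_subsingleton]
    exact (baseChange_surjective_iff κ g).mp hgx
  refine ⟨(Module.support R (C ⧸ LinearMap.range g))ᶜ, Module.isClosed_support.isOpen_compl, hx, ?_⟩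
  intro y hy
  rw [Set.mem_compl_iff, Module.mem_support_iff_nontrivial_residueField_tensorProduct,
    not_nontrivial_iff_subsingleton] at hy
  have hgy := (baseChange_surjective_iff y.asIdeal.ResidueField g).mpr hy
  have : Nontrivial R := PrimeSpectrum.nonempty_iff_nontrivial.mp ⟨y⟩
  have h1 : Module.finrank y.asIdeal.ResidueField (y.asIdeal.ResidueField ⊗[R] C) ≤
      Module.finrank y.asIdeal.ResidueField (y.asIdeal.ResidueField ⊗[R]
        (Fin (Module.finrank κ (Submodule.span κ s)) → R)) :=
    LinearMap.finrank_le_finrank_of_surjective hgy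
  have h2 : Module.finrank y.asIdeal.ResidueField (y.asIdeal.ResidueField ⊗[R]
        (Fin (Module.finrank κ (Submodule.span κ s)) → R)) = fibDim C x := by
    rw [Module.finrank_baseChange, Module.finrank_fin_fun, hn]
  rw [h2] at h1
  exact h1

section Rank

variable {M N : Type*} [AddCommGroup M] [Module R M] [AddCommGroup N] [Module R N]
  (φ : M →ₗ[R] N)

lemma exact_baseChange (K : Type*) [CommRing K] [Algebra R K] :
    Function.Exact (φ.baseChange K) ((LinearMap.range φ).mkQ.baseChange K) := by
  have hexact : Function.Exact φ (LinearMap.range φ).mkQ := by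
    rw [LinearMap.exact_iff, Submodule.ker_mkQ]
  have hsurj : Function.Surjective (LinearMap.range φ).mkQ := Submodule.mkQ_surjective _
  have := lTensor_exact K hexact hsurj
  intro z
  rw [LinearMap.baseChange_eq_ltensor, LinearMap.baseChange_eq_ltensor]
  exact this z

/-- rank + dim coker = dim target, fibrewise. -/
theorem fibRank_add_fibDim_coker [Module.Finite R N] (x : PrimeSpectrum R) :
    fibRank φ x + fibDim (N ⧸ LinearMap.range φ) x = fibDim N x := by
  have hex := exact_baseChange φ x.asIdeal.ResidueField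
  have hker : LinearMap.ker ((LinearMap.range φ).mkQ.baseChange x.asIdeal.ResidueField) =
      LinearMap.range (φ.baseChange x.asIdeal.ResidueField) := LinearMap.exact_iff.mp hex
  have hrange : LinearMap.range ((LinearMap.range φ).mkQ.baseChange x.asIdeal.ResidueField) =
      ⊤ := by
    rw [LinearMap.range_eq_top, LinearMap.baseChange_eq_ltensor]
    exact LinearMap.lTensor_surjective _ (Submodule.mkQ_surjective _)
  have h := LinearMap.finrank_range_add_finrank_ker
    ((LinearMap.range φ).mkQ.baseChange x.asIdeal.ResidueField)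
  rw [hker, hrange, finrank_top] at h
  unfold fibRank fibDim
  omega

/-- rank-nullity, fibrewise. -/
theorem finrank_ker_add_fibRank [Module.Finite R M] (x : PrimeSpectrum R) :
    Module.finrank x.asIdeal.ResidueField (LinearMap.ker (φ.baseChange x.asIdeal.ResidueField)) +
      fibRank φ x = fibDim M x := by
  have h := LinearMap.finrank_range_add_finrank_ker (φ.baseChange x.asIdeal.ResidueField)
  unfold fibRank fibDim
  omega

theorem fibRank_le_fibDim [Module.Finite R N] (x : PrimeSpectrum R) :
    fibRank φ x ≤ fibDim N x := by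
  have := fibRank_add_fibDim_coker φ x
  omega

theorem fibDim_eq_rankAtStalk [Module.Finite R N] [Module.Flat R N] (x : PrimeSpectrum R) :
    fibDim N x = Module.rankAtStalk N x :=
  (Module.rankAtStalk_eq x).symm

/-- The fibre dimension of a finitely presented flat module is locally constant (local form). -/
theorem exists_open_fibDim_eq [Module.FinitePresentation R N] [Module.Flat R N]
    (x : PrimeSpectrum R) :
    ∃ U : Set (PrimeSpectrum R), IsOpen U ∧ x ∈ U ∧ ∀ y ∈ U, fibDim N y = fibDim N x := by
  have hlc := Module.isLocallyConstant_rankAtStalk (R := R) (M := N)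
  refine ⟨{y | Module.rankAtStalk N y = Module.rankAtStalk N x}, hlc.isOpen_fiber _, rfl, ?_⟩
  intro y hy
  rw [fibDim_eq_rankAtStalk, fibDim_eq_rankAtStalk]
  exact hy

/-- Lower semicontinuity of the fibre rank (local form). -/
theorem exists_open_fibRank_ge [Module.FinitePresentation R N] [Module.Flat R N]
    (x : PrimeSpectrum R) :
    ∃ U : Set (PrimeSpectrum R), IsOpen U ∧ x ∈ U ∧ ∀ y ∈ U, fibRank φ x ≤ fibRank φ y := by
  obtain ⟨U₁, hU₁, hx₁, h₁⟩ := exists_open_fibDim_eq (N := N) x
  obtain ⟨U₂, hU₂, hx₂, h₂⟩ := exists_open_fibDim_le (N ⧸ LinearMap.range φ) x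
  refine ⟨U₁ ∩ U₂, hU₁.inter hU₂, ⟨hx₁, hx₂⟩, ?_⟩
  rintro y ⟨hy₁, hy₂⟩
  have e1 := fibRank_add_fibDim_coker φ x
  have e2 := fibRank_add_fibDim_coker φ y
  have e3 := h₁ y hy₁
  have e4 := h₂ y hy₂
  omega

end Rank

end Spec

section Semicont

variable {X : Type*} [TopologicalSpace X] {α : Type*} [Preorder α]

lemma lowerSemicontinuous_of_local (f : X → α)
    (h : ∀ x, ∃ U : Set X, IsOpen U ∧ x ∈ U ∧ ∀ y ∈ U, f x ≤ f y) : LowerSemicontinuous f := by
  intro x n hn
  obtain ⟨U, hU, hx, hle⟩ := h x
  exact Filter.eventually_of_mem (hU.mem_nhds hx) (fun y hy => lt_of_lt_of_le hn (hle y hy))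

lemma upperSemicontinuous_of_local (f : X → α)
    (h : ∀ x, ∃ U : Set X, IsOpen U ∧ x ∈ U ∧ ∀ y ∈ U, f y ≤ f x) : UpperSemicontinuous f := by
  intro x n hn
  obtain ⟨U, hU, hx, hle⟩ := h x
  exact Filter.eventually_of_mem (hU.mem_nhds hx) (fun y hy => lt_of_le_of_lt (hle y hy) hn)

end Semicont

end Groth.Agent.Lib.helper11.FibDim
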