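import Mathlib
import Groth.Agent.Lib.helper11.FFField
import Groth.Agent.Lib.Helper3.ReducedSmooth

/-!
# Field-valued points of finite étale schemes over an algebraically closed field (helper11)

Every morphism `Spec Ω ⟶ N` (`Ω` a field) to a finite étale `k`-scheme, `k` algebraically closed,
factors through a `k`-point of `N`.
-/

set_option autoImplicit false
set_option linter.style.haveILetI false
universe u
open CategoryTheory CategoryTheory.Limits AlgebraicGeometry

namespace Groth.Agent.Lib.helper11.FinEtPts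

variable (k : Type u) [Field k] [IsAlgClosed k]

theorem geomPt_factors {N : Scheme.{u}} (p : N ⟶ Spec (CommRingCat.of k)) [IsFinite p] [Etale p]
    (Ω : Type u) [Field Ω] (d : Spec (CommRingCat.of Ω) ⟶ N) :
    ∃ a : Spec (CommRingCat.of k) ⟶ N, a ≫ p = 𝟙 _ ∧ d = (d ≫ p) ≫ a := by
  haveI : DiscreteTopology N := FFField.discreteTopology_of_locallyQuasiFinite k p
  let z : N := d (IsLocalRing.closedPoint Ω)
  let U : N.Opens := ⟨{z}, isOpen_discrete _⟩
  have hrange : Set.range d ⊆ Set.range U.ι := by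
    rintro _ ⟨w, rfl⟩
    rw [Scheme.Opens.range_ι]
    have : w = IsLocalRing.closedPoint Ω := Subsingleton.elim (α := PrimeSpectrum Ω) _ _
    rw [this]
    rfl
  let d₀ : Spec (CommRingCat.of Ω) ⟶ (U : Scheme.{u}) := IsOpenImmersion.lift U.ι d hrange
  have hd₀ : d₀ ≫ U.ι = d := IsOpenImmersion.lift_fac _ _ _
  let q : (U : Scheme.{u}) ⟶ Spec (CommRingCat.of k) := U.ι ≫ p
  haveI : Subsingleton ↥(U : Scheme.{u}) := by
    refine ⟨fun x y => ?_⟩
    apply Subtype.ext
    have hx : x.1 ∈ ({z} : Set N) := x.2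
    have hy : y.1 ∈ ({z} : Set N) := y.2
    rw [Set.mem_singleton_iff] at hx hy
    rw [hx, hy]
  let z' : ↥(U : Scheme.{u}) := ⟨z, rfl⟩
  have hz' : IsClosed ({z'} : Set ↥(U : Scheme.{u})) := by
    have : ({z'} : Set ↥(U : Scheme.{u})) = Set.univ := by
      ext w; simp [Subsingleton.elim w z']
    rw [this]; exact isClosed_univ
  haveI : LocallyOfFiniteType q := inferInstance
  let σ : Spec (CommRingCat.of k) ⟶ (U : Scheme.{u}) := pointOfClosedPoint q z' hz'
  have hσ : σ ≫ q = 𝟙 _ := pointOfClosedPoint_comp q z' hz'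
  haveI : Subsingleton ↥(Spec (CommRingCat.of k)) :=
    inferInstanceAs (Subsingleton (PrimeSpectrum k))
  haveI : IsClosedImmersion σ := isClosedImmersion_of_comp_eq_id q σ hσ
  haveI : Surjective σ := ⟨fun w => ⟨IsLocalRing.closedPoint k, Subsingleton.elim _ _⟩⟩
  haveI : Smooth p := inferInstance
  haveI : IsReduced N := Groth.Agent.Lib.Helper3.isReduced_of_smooth_scheme p
  haveI : IsReduced (U : Scheme.{u}) := inferInstance
  haveI : IsIso σ := isIso_of_isClosedImmersion_of_surjective σ
  have hqσ : q ≫ σ = 𝟙 _ := by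
    rw [← cancel_epi σ, ← Category.assoc, hσ, Category.id_comp, Category.comp_id]
  refine ⟨σ ≫ U.ι, by rw [Category.assoc]; exact hσ, ?_⟩
  rw [← hd₀]
  simp only [Category.assoc]
  rw [← Category.assoc U.ι p, show U.ι ≫ p = q from rfl, ← Category.assoc q σ, hqσ,
    Category.id_comp]

end Groth.Agent.Lib.helper11.FinEtPts
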