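import Mathlib

/-!
# Flatness of the cokernel of a flat presentation, tested on quotients (helper11)
-/

set_option autoImplicit false

namespace Groth.Agent.Lib.helper11.FlatRes

open TensorProduct Function

variable {R : Type*} [CommRing R] {P₃ P₂ P₁ M : Type*}
  [AddCommGroup P₃] [Module R P₃] [AddCommGroup P₂] [Module R P₂]
  [AddCommGroup P₁] [Module R P₁] [AddCommGroup M] [Module R M]

/-- If `P₃ → P₂ → P₁ → M → 0` is a complex, exact at `P₁` and `M`, with `P₁` flat, and exact at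
`P₂` after tensoring with every `R ⧸ I`, then `M` is flat. -/
theorem flat_of_exact_lTensor (d₃ : P₃ →ₗ[R] P₂) (d₂ : P₂ →ₗ[R] P₁) (d₁ : P₁ →ₗ[R] M)
    (h32 : d₂ ∘ₗ d₃ = 0) (hex : Exact d₂ d₁) (hsurj : Surjective d₁) [Module.Flat R P₁]
    (hI : ∀ I : Ideal R, Exact (d₃.lTensor (R ⧸ I)) (d₂.lTensor (R ⧸ I))) :
    Module.Flat R M := by
  rw [Module.Flat.iff_lTensor_injective']
  intro I
  refine lTensor_injective_of_exact_of_exact_of_rTensor_injective
    (f₁ := (LinearMap.ker d₁).subtype) (f₂ := d₁) (g₁ := I.subtype) (g₂ := I.mkQ)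
    (LinearMap.exact_subtype_ker_map d₁) hsurj (LinearMap.exact_subtype_mkQ I)
    (Submodule.mkQ_surjective I) ?_
    (Module.Flat.lTensor_preserves_injective_linearMap _ (Submodule.subtype_injective I))
  rw [← LinearMap.lTensor_inj_iff_rTensor_inj]
  have hmem : ∀ x, d₂ x ∈ LinearMap.ker d₁ := fun x => (hex (d₂ x)).mpr ⟨x, rfl⟩
  let d₂' : P₂ →ₗ[R] LinearMap.ker d₁ := d₂.codRestrict (LinearMap.ker d₁) hmem
  have hd₂' : Surjective d₂' := by
    rintro ⟨y, hy⟩
    obtain ⟨x, hx⟩ := (hex y).mp hy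
    exact ⟨x, Subtype.ext hx⟩
  have hcomp : (LinearMap.ker d₁).subtype ∘ₗ d₂' = d₂ := rfl
  have hzero : d₂' ∘ₗ d₃ = 0 := by
    ext x
    exact congrArg (fun t => t x) h32
  rw [injective_iff_map_eq_zero]
  intro x hx
  obtain ⟨y, rfl⟩ := LinearMap.lTensor_surjective (R ⧸ I) hd₂' x
  have h1 : d₂.lTensor (R ⧸ I) y = 0 := by
    rw [← hcomp, LinearMap.lTensor_comp]
    exact hx
  obtain ⟨z, rfl⟩ := (hI I y).mp h1
  rw [← LinearMap.comp_apply, ← LinearMap.lTensor_comp, hzero, LinearMap.lTensor_zero,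
    LinearMap.zero_apply]

end Groth.Agent.Lib.helper11.FlatRes
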