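import Mathlib
import Groth.Agent.Lib.Helper21.TorLES

/-!
# Tor via flat resolutions (S17773)
-/

set_option autoImplicit false
universe u v

open CategoryTheory CategoryTheory.Limits HomologicalComplex ChainComplex

namespace Groth.Agent.Lib.helper11.FlatResTor

section Abstract

variable {C : Type u} [Category.{v} C] [Abelian C]
variable (F : ChainComplex C ℕ) {Z : C} (φ : F ⟶ (ChainComplex.single₀ C).obj Z) [QuasiIso φ]

include φ in
lemma exactAt_succ (n : ℕ) : F.ExactAt (n + 1) := by
  rw [← quasiIsoAt_iff_exactAt' φ (n + 1) (exactAt_succ_single_obj _ _)]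
  infer_instance

include φ in
lemma exact_succ (n : ℕ) :
    (ShortComplex.mk _ _ (F.d_comp_d (n + 2) (n + 1) n)).Exact :=
  ((HomologicalComplex.exactAt_iff' _ (n + 2) (n + 1) n) (by simp only [ChainComplex.prev]; rfl)
    (by simp)).1 (exactAt_succ F φ n)

lemma d_comp_f_zero : F.d 1 0 ≫ φ.f 0 = 0 := by
  rw [← φ.comm 1 0, single_obj_d, comp_zero]

set_option backward.isDefEq.respectTransparency.types false in
set_option backward.defeqAttrib.useBackward true in
/-- `Z` is the cokernel of `F₁ ⟶ F₀`. -/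
noncomputable def isColimitCokernelCofork :
    IsColimit (CokernelCofork.ofπ (φ.f 0) (d_comp_f_zero F φ)) := by
  refine IsColimit.ofIsoColimit (F.opcyclesIsCokernel 1 0 (by simp)) ?_
  refine Cofork.ext (F.isoHomologyι₀.symm ≪≫ isoOfQuasiIsoAt φ 0 ≪≫
    singleObjHomologySelfIso _ _ _) ?_
  rw [← cancel_mono (singleObjHomologySelfIso (ComplexShape.down ℕ) 0 _).inv,
    ← cancel_mono (isoHomologyι₀ _).hom]
  dsimp
  simp only [isoHomologyι₀_inv_naturality_assoc, p_opcyclesMap_assoc, single₀_obj_zero,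
    Category.assoc, Iso.hom_inv_id, Category.comp_id, isoHomologyι_inv_hom_id,
    singleObjHomologySelfIso_inv_homologyι, singleObjOpcyclesSelfIso_hom, single₀ObjXSelf,
    Iso.refl_inv, Category.id_comp]

lemma epi_f_zero : Epi (φ.f 0) := epi_of_isColimit_cofork (isColimitCokernelCofork F φ)

lemma exact_zero : (ShortComplex.mk (F.d 1 0) (φ.f 0) (d_comp_f_zero F φ)).Exact :=
  ShortComplex.exact_of_g_is_cokernel _ (isColimitCokernelCofork F φ)

end Abstract


section LA

variable {R : Type u} [CommRing R]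

/-- homology of a short complex of modules computed through a quotient of the middle term. -/
lemma homology_iso_ker (S : ShortComplex (ModuleCat.{u} R)) {Z : Type u} [AddCommGroup Z]
    [Module R Z] (p : S.X₂ →ₗ[R] Z) (hp : Function.Surjective p)
    (hker : LinearMap.ker p = LinearMap.range S.f.hom) (j : Z →ₗ[R] S.X₃)
    (hj : j ∘ₗ p = S.g.hom) : Nonempty (S.homology ≅ ModuleCat.of R (LinearMap.ker j)) := by
  have e2 : S.homology ≃ₗ[R] (LinearMap.ker S.g.hom ⧸ LinearMap.range S.moduleCatToCycles) :=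
    S.moduleCatHomologyIso.toLinearEquiv
  have hjp : ∀ b, S.g.hom b = j (p b) := fun b => (LinearMap.congr_fun hj b).symm
  let θ : LinearMap.ker S.g.hom →ₗ[R] LinearMap.ker j :=
    (p ∘ₗ (LinearMap.ker S.g.hom).subtype).codRestrict _ (fun x => by
      rw [LinearMap.mem_ker]
      have h1 : S.g.hom x.1 = 0 := x.2
      rw [hjp] at h1
      exact h1)
  have hθs : Function.Surjective θ := by
    rintro ⟨z, hz⟩
    obtain ⟨b, rfl⟩ := hp z
    have hb : b ∈ LinearMap.ker S.g.hom := by
      rw [LinearMap.mem_ker, hjp]; exact hz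
    exact ⟨⟨b, hb⟩, rfl⟩
  have hθk : LinearMap.ker θ = LinearMap.range S.moduleCatToCycles := by
    ext x
    rw [LinearMap.mem_ker]
    constructor
    · intro hx
      have hx' : p x.1 = 0 := congrArg Subtype.val hx
      have : x.1 ∈ LinearMap.range S.f.hom := by rw [← hker]; exact hx'
      obtain ⟨a, ha⟩ := this
      exact ⟨a, Subtype.ext ha⟩
    · rintro ⟨a, rfl⟩
      apply Subtype.ext
      change p (S.f.hom a) = 0
      have : S.f.hom a ∈ LinearMap.ker p := by rw [hker]; exact ⟨a, rfl⟩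
      exact this
  exact ⟨(e2 ≪≫ₗ Submodule.quotEquivOfEq _ _ hθk.symm ≪≫ₗ
    LinearMap.quotKerEquivOfSurjective θ hθs).toModuleIso⟩

end LA


section Mod

open MonoidalCategory Groth.Agent.Lib.Helper21.TorLES

variable {R : Type u} [CommRing R] (F : ChainComplex (ModuleCat.{u} R) ℕ) {M : ModuleCat.{u} R}
  (φ : F ⟶ (ChainComplex.single₀ (ModuleCat.{u} R)).obj M) [QuasiIso φ]

/-- augmentation. -/
noncomputable def ε : F.X 0 →ₗ[R] M := (φ.f 0).hom

/-- the cycle submodules (with `Z 0 = ker ε`). -/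
noncomputable def Z : (n : ℕ) → Submodule R (F.X n)
  | 0 => LinearMap.ker (ε F φ)
  | n + 1 => LinearMap.ker (F.d (n + 1) n).hom

lemma ε_surjective : Function.Surjective (ε F φ) := by
  have := epi_f_zero F φ
  exact (ModuleCat.epi_iff_surjective _).1 this

lemma range_d (n : ℕ) : LinearMap.range (F.d (n + 1) n).hom = Z F φ n := by
  cases n with
  | zero =>
    have h := exact_zero F φ
    rw [ShortComplex.moduleCat_exact_iff_range_eq_ker] at h
    exact h
  | succ n =>
    have h := exact_succ F φ n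
    rw [ShortComplex.moduleCat_exact_iff_range_eq_ker] at h
    exact h

/-- `F (n+1) → Z n`. -/
noncomputable def δ (n : ℕ) : F.X (n + 1) →ₗ[R] ↥(Z F φ n) :=
  (F.d (n + 1) n).hom.codRestrict _ (fun x => by rw [← range_d]; exact ⟨x, rfl⟩)

lemma δ_surjective (n : ℕ) : Function.Surjective (δ F φ n) := by
  rintro ⟨z, hz⟩
  rw [← range_d] at hz
  obtain ⟨x, rfl⟩ := hz
  exact ⟨x, rfl⟩

lemma subtype_comp_δ (n : ℕ) : (Z F φ n).subtype ∘ₗ δ F φ n = (F.d (n + 1) n).hom := rfl

lemma exact_δ (n : ℕ) : Function.Exact (Z F φ (n + 1)).subtype (δ F φ n) := by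
  intro x
  constructor
  · intro hx
    have : x ∈ Z F φ (n + 1) := by
      change x ∈ LinearMap.ker (F.d (n + 1) n).hom
      rw [LinearMap.mem_ker]
      exact congrArg Subtype.val hx
    exact ⟨⟨x, this⟩, rfl⟩
  · rintro ⟨y, rfl⟩
    apply Subtype.ext
    exact y.2

lemma exact_ε : Function.Exact (Z F φ 0).subtype (ε F φ) := by
  intro x
  constructor
  · intro hx
    exact ⟨⟨x, hx⟩, rfl⟩
  · rintro ⟨y, rfl⟩
    exact y.2

lemma exact_d_δ (n : ℕ) : Function.Exact (F.d (n + 2) (n + 1)).hom (δ F φ n) := by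
  intro x
  change _ ↔ x ∈ LinearMap.range (F.d (n + 2) (n + 1)).hom
  rw [range_d F φ (n + 1)]
  constructor
  · intro hx
    change x ∈ LinearMap.ker (F.d (n + 1) n).hom
    rw [LinearMap.mem_ker]
    exact congrArg Subtype.val hx
  · intro hx
    apply Subtype.ext
    exact hx

lemma exact_d_ε : Function.Exact (F.d 1 0).hom (ε F φ) := by
  intro x
  change _ ↔ x ∈ LinearMap.range (F.d 1 0).hom
  rw [range_d F φ 0]
  rfl

end Mod

section TorSES

open MonoidalCategory Groth.Agent.Lib.Helper21.TorLES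

variable {R : Type u} [CommRing R]
variable {A B C : Type u} [AddCommGroup A] [Module R A] [AddCommGroup B] [Module R B]
  [AddCommGroup C] [Module R C] [Module.Flat R B]
  (i : A →ₗ[R] B) (q : B →ₗ[R] C) (hi : Function.Injective i) (hq : Function.Surjective q)
  (hex : Function.Exact i q) (N : ModuleCat.{u} R)

include hex in
lemma ofHom_comp_zero : ModuleCat.ofHom i ≫ ModuleCat.ofHom q = 0 := by
  ext x
  exact hex.apply_apply_eq_zero x

include hi hq hex in
lemma ses_shortExact :
    (ShortComplex.mk (ModuleCat.ofHom i) (ModuleCat.ofHom q) (ofHom_comp_zero i q hex)).ShortExact :=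
  ModuleCat.shortComplex_shortExact _ hex hi hq

include hi hq hex in
lemma tor_one_iso_ker :
    Nonempty (((Tor (ModuleCat.{u} R) 1).obj (ModuleCat.of R C)).obj N ≅
      ModuleCat.of R (LinearMap.ker (LinearMap.rTensor N i))) := by
  haveI : Module.Flat R (ModuleCat.of R B) := ‹Module.Flat R B›
  have e1 := torFirstOneIsoKernel (ModuleCat.ofHom i) (ModuleCat.ofHom q)
    (ofHom_comp_zero i q hex) (ses_shortExact i q hi hq hex) N
  exact ⟨e1 ≪≫ ModuleCat.kernelIsoKer _⟩

include hi hq hex in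
lemma tor_shift (n : ℕ) :
    Nonempty (((Tor (ModuleCat.{u} R) (n + 2)).obj (ModuleCat.of R C)).obj N ≅
      ((Tor (ModuleCat.{u} R) (n + 1)).obj (ModuleCat.of R A)).obj N) := by
  haveI : Module.Flat R (ModuleCat.of R B) := ‹Module.Flat R B›
  exact ⟨torFirstShiftIso (ModuleCat.ofHom i) (ModuleCat.ofHom q)
    (ofHom_comp_zero i q hex) (ses_shortExact i q hi hq hex) N n⟩

end TorSES

section Chain

open MonoidalCategory

variable {R : Type u} [CommRing R] (F : ChainComplex (ModuleCat.{u} R) ℕ) {M : ModuleCat.{u} R}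
  (φ : F ⟶ (ChainComplex.single₀ (ModuleCat.{u} R)).obj M) [QuasiIso φ]
  (hF : ∀ i : ℕ, Module.Flat R (F.X i)) (N : ModuleCat.{u} R)

include hF in
lemma tor_Z_iso_ker (k : ℕ) : ∀ n m : ℕ, m = n + k + 1 →
    Nonempty (((Tor (ModuleCat.{u} R) (k + 1)).obj (ModuleCat.of R (Z F φ n))).obj N ≅
      ModuleCat.of R (LinearMap.ker (LinearMap.rTensor N (Z F φ m).subtype))) := by
  induction k with
  | zero =>
    intro n m hm
    obtain rfl : m = n + 1 := by omega
    haveI := hF (n + 1)
    exact tor_one_iso_ker (Z F φ (n + 1)).subtype (δ F φ n) (Submodule.injective_subtype _)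
      (δ_surjective F φ n) (exact_δ F φ n) N
  | succ k ih =>
    intro n m hm
    haveI := hF (n + 1)
    obtain ⟨e1⟩ := tor_shift (Z F φ (n + 1)).subtype (δ F φ n) (Submodule.injective_subtype _)
      (δ_surjective F φ n) (exact_δ F φ n) N k
    obtain ⟨e2⟩ := ih (n + 1) m (by omega)
    exact ⟨e1 ≪≫ e2⟩

include hF in
lemma tor_M_iso_ker (i : ℕ) :
    Nonempty (((Tor (ModuleCat.{u} R) (i + 1)).obj M).obj N ≅
      ModuleCat.of R (LinearMap.ker (LinearMap.rTensor N (Z F φ i).subtype))) := by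
  haveI := hF 0
  cases i with
  | zero =>
    exact tor_one_iso_ker (Z F φ 0).subtype (ε F φ) (Submodule.injective_subtype _)
      (ε_surjective F φ) (exact_ε F φ) N
  | succ i =>
    obtain ⟨e1⟩ := tor_shift (Z F φ 0).subtype (ε F φ) (Submodule.injective_subtype _)
      (ε_surjective F φ) (exact_ε F φ) N i
    obtain ⟨e2⟩ := tor_Z_iso_ker F φ hF N i 0 (i + 1) (by omega)
    exact ⟨e1 ≪≫ e2⟩

end Chain

section Homology

open MonoidalCategory

variable {R : Type u} [CommRing R] (F : ChainComplex (ModuleCat.{u} R) ℕ) {M : ModuleCat.{u} R}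
  (φ : F ⟶ (ChainComplex.single₀ (ModuleCat.{u} R)).obj M) [QuasiIso φ]
  (N : ModuleCat.{u} R)

/-- `F ⊗ N`. -/
noncomputable abbrev G : ChainComplex (ModuleCat.{u} R) ℕ :=
  ((tensorRight N).mapHomologicalComplex (ComplexShape.down ℕ)).obj F

lemma homology_succ_iso_ker (i : ℕ) :
    Nonempty ((G F N).homology (i + 1) ≅
      ModuleCat.of R (LinearMap.ker (LinearMap.rTensor N (Z F φ i).subtype))) := by
  have e1 := (G F N).homologyIsoSc' (i + 2) (i + 1) i (by simp) (by simp)
  obtain ⟨e2⟩ := homology_iso_ker ((G F N).sc' (i + 2) (i + 1) i)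
    (LinearMap.rTensor N (δ F φ i)) (LinearMap.rTensor_surjective N (δ_surjective F φ i))
    (LinearMap.exact_iff.1 (rTensor_exact N (exact_d_δ F φ i) (δ_surjective F φ i)))
    (LinearMap.rTensor N (Z F φ i).subtype)
    (by
      change LinearMap.rTensor N (Z F φ i).subtype ∘ₗ LinearMap.rTensor N (δ F φ i) =
        LinearMap.rTensor N (F.d (i + 1) i).hom
      rw [← LinearMap.rTensor_comp, subtype_comp_δ])
  exact ⟨e1 ≪≫ e2⟩

include φ in
lemma homology_zero_iso :
    Nonempty ((G F N).homology 0 ≅ ModuleCat.of R (TensorProduct R M N)) := by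
  have e1 := (G F N).homologyIsoSc' 1 0 0 (by simp) (by simp)
  obtain ⟨e2⟩ := homology_iso_ker ((G F N).sc' 1 0 0)
    (LinearMap.rTensor N (ε F φ)) (LinearMap.rTensor_surjective N (ε_surjective F φ))
    (LinearMap.exact_iff.1 (rTensor_exact N (exact_d_ε F φ) (ε_surjective F φ)))
    0
    (by
      rw [LinearMap.zero_comp]
      have : ((G F N).sc' 1 0 0).g = 0 := (G F N).shape 0 0 (by simp)
      rw [this]
      rfl)
  exact ⟨e1 ≪≫ e2 ≪≫
    ((LinearEquiv.ofEq _ ⊤ (LinearMap.ker_zero)).trans Submodule.topEquiv).toModuleIso⟩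

end Homology

section Main

open MonoidalCategory Groth.Agent.Lib.Helper21.TorLES

variable {R : Type u} [CommRing R] (F : ChainComplex (ModuleCat.{u} R) ℕ) {M : ModuleCat.{u} R}
  (φ : F ⟶ (ChainComplex.single₀ (ModuleCat.{u} R)).obj M) [QuasiIso φ]
  (hF : ∀ i : ℕ, Module.Flat R (F.X i)) (N : ModuleCat.{u} R)

include hF φ in
/-- `Tor` can be computed from any flat resolution of the first variable. -/
theorem main (i : ℕ) :
    Nonempty ((G F N).homology i ≅ ((Tor' (ModuleCat.{u} R) i).obj M).obj N) := by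
  let P := ProjectiveResolution.of M
  have hP : ∀ i, Module.Flat R (P.complex.X i) := fun i => by
    haveI := P.projective i
    infer_instance
  have e3 : ((Tor' (ModuleCat.{u} R) i).obj M).obj N ≅ (G P.complex N).homology i :=
    P.isoLeftDerivedObj (tensorRight N) i
  cases i with
  | zero =>
    obtain ⟨e1⟩ := homology_zero_iso F φ N
    obtain ⟨e2⟩ := homology_zero_iso P.complex P.π N
    exact ⟨e1 ≪≫ e2.symm ≪≫ e3.symm⟩
  | succ i =>
    obtain ⟨e1⟩ := homology_succ_iso_ker F φ N i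
    obtain ⟨e1'⟩ := tor_M_iso_ker F φ hF N i
    obtain ⟨e2⟩ := homology_succ_iso_ker P.complex P.π N i
    obtain ⟨e2'⟩ := tor_M_iso_ker P.complex P.π hP N i
    exact ⟨e1 ≪≫ e1'.symm ≪≫ e2' ≪≫ e2.symm ≪≫ e3.symm⟩

end Main

end Groth.Agent.Lib.helper11.FlatResTor
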