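import Mathlib
import Groth.Agent.Lib.Helper24.FibHom.SurjFlat
import Groth.Agent.Lib.Helper24.FibHom.Props
import Groth.Agent.Lib.helper11.RigidOver3

/-!
# Homomorphisms of abelian schemes: flat iff surjective (helper11)
-/

set_option autoImplicit false
set_option linter.style.haveILetI false
universe u
open CategoryTheory CategoryTheory.Limits MonoidalCategory CartesianMonoidalCategory MonObj GrpObj
  AlgebraicGeometry

namespace Groth.Agent.Lib.helper11.FlatSurj

open Groth.Agent.Lib.helper11 Groth.Agent.Lib.Helper24

/-- **S19659** -/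
theorem flat_iff_surjective {S : Scheme.{u}} (A B : Over S) [GrpObj A] [IsProper A.hom]
    [Smooth A.hom] [GrpObj B] [IsProper B.hom] [Smooth B.hom]
    [GeometricallyConnected B.hom] (f : A ⟶ B) [IsMonHom f] :
    Flat f.left ↔ Surjective f.left := by
  constructor
  · intro hflat
    haveI : LocallyOfFinitePresentation f.left := FibHom.lfp_hom f
    haveI : IsProper (f.left ≫ B.hom) := by rw [Over.w f]; infer_instance
    haveI : IsProper f.left := IsProper.of_comp f.left B.hom
    have hopen : IsOpen (Set.range f.left) := f.left.isOpenMap.isOpen_range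
    have hclosed : IsClosed (Set.range f.left) := f.left.isClosedMap.isClosed_range
    have hW : IsClopen (Set.range f.left) := ⟨hclosed, hopen⟩
    refine ⟨fun b => ?_⟩
    have hσ : η[B].left ≫ B.hom = 𝟙 S := Over.w η[B]
    have hηf : η[A].left ≫ f.left = η[B].left := by
      rw [← Over.comp_left, IsMonHom.one_hom]
    have hconn : _root_.IsConnected (B.hom ⁻¹' {B.hom b}) := by
      rw [← B.hom.range_fiberι, ← Set.image_univ]
      exact isConnected_univ.image _ (B.hom.fiberι _).continuous.continuousOn
    have h1 : η[B].left (B.hom b) ∈ B.hom ⁻¹' {B.hom b} := by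
      show B.hom (η[B].left (B.hom b)) = B.hom b
      rw [← Scheme.Hom.comp_apply, hσ]
      rfl
    have h2 : η[B].left (B.hom b) ∈ Set.range f.left := by
      refine ⟨η[A].left (B.hom b), ?_⟩
      rw [← Scheme.Hom.comp_apply, hηf]
    exact hconn.isPreconnected.subset_isClopen hW ⟨_, h1, h2⟩
      (show b ∈ B.hom ⁻¹' {B.hom b} from rfl)
  · intro hs
    haveI := RigidOver.geometricallyReduced_of_smooth B.hom
    exact (FibHom.flat_of_surjective f).1

end Groth.Agent.Lib.helper11.FlatSurj
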