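import Groth.Agent.Lib.helper11.DRankFlat2
import Groth.Agent.Lib.helper11.DRankFlat3
import Groth.Agent.Lib.helper11.DVRFlatCx

/-!
# Exactness of `T_n` up to degree `N` from flatness of homology (helper11)
-/

set_option autoImplicit false
universe u

namespace Groth.Agent.Lib.helper11.FlatUpTo

open CategoryTheory CategoryTheory.Limits CohIII TensorProduct
open Groth.Agent.Lib.helper11 Groth.Agent.Lib.helper11.TFunBC

attribute [-instance] CategoryTheory.ShortComplex.hasHomology_of_preserves

variable {A : Type u} [CommRing A]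

/-- If `Q` vanishes below `i₀` and `H_n(Q)` is flat for `n ≤ N`, then `T_n` is exact for
`n ≤ N`. -/
theorem exact_upTo (Q : ChainComplex (ModuleCat.{u} A) ℤ) (hQ : ∀ i, Module.Flat A (Q.X i))
    (i₀ N : ℤ) (hb : ∀ i < i₀, IsZero (Q.X i))
    (hH : ∀ n ≤ N, Module.Flat A (Q.homology n)) :
    ∀ n ≤ N, (TFun Q n).PreservesMonomorphisms ∧ (TFun Q n).PreservesEpimorphisms := by
  have key : ∀ (k : ℕ) (n : ℤ), n < i₀ + k → n ≤ N →
      (TFun Q n).PreservesMonomorphisms ∧ (TFun Q n).PreservesEpimorphisms := by
    intro k
    induction k with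
    | zero =>
      intro n hn _
      exact DRankFlat.exact_of_isZero Q n (hb n (by simpa using hn))
    | succ k ih =>
      intro n hn hnN
      by_cases h : n < i₀ + k
      · exact ih n h hnN
      · have hn' : n - 1 < i₀ + k := by push_cast at hn; omega
        have hprev := ih (n - 1) hn' (by omega)
        have hrel : (ComplexShape.down ℤ).Rel n (n - 1) := by
          change n - 1 + 1 = n
          ring
        have he : (TFun Q n).PreservesEpimorphisms :=
          (TFunBasic.preservesEpi_iff_preservesMono Q hQ n (n - 1) hrel).mpr hprev.1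
        exact ⟨DRankFlat.preservesMono_of_flat_homology Q hQ n he (hH n hnN), he⟩
  intro n hn
  have h1 : n < i₀ + ((n - i₀ + 1).toNat : ℤ) := by
    by_cases h : 0 ≤ n - i₀ + 1
    · rw [Int.toNat_of_nonneg h]; omega
    · have : (n - i₀ + 1).toNat = 0 := by omega
      rw [this]; push_cast; omega
  exact key _ n h1 hn

section BC

variable {B : Type u} [CommRing B] {ι : Type} {c : ComplexShape ι}

/-- flat base change of homology. -/
noncomputable def homologyBCIso (φ : A →+* B) (hφ : φ.Flat)
    (P : HomologicalComplex (ModuleCat.{u} A) c) (i : ι) :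
    (bcCx φ P).homology i ≅ (ModuleCat.extendScalars φ).obj (P.homology i) :=
  haveI : PreservesFiniteLimits (ModuleCat.extendScalars.{u, u, u} φ) :=
    ModuleCat.preservesFiniteLimits_extendScalars_of_flat hφ
  (P.sc i).mapHomologyIso (ModuleCat.extendScalars φ)

/-- flatness of the homology of the base change along a flat map. -/
theorem flat_homology_bcCx (φ : A →+* B) (hφ : φ.Flat)
    (P : HomologicalComplex (ModuleCat.{u} A) c) (i : ι)
    (h : DVRFlatCx.FlatBC ((algebraMap B B).comp φ).toAlgebra (P.homology i)) :
    Module.Flat B ((bcCx φ P).homology i) := by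
  have h' : Module.Flat B ((ModuleCat.extendScalars φ).obj (P.homology i)) :=
    (DVRFlatCx.flat_extendScalars_obj_iff φ (P.homology i)).mpr h
  exact Module.Flat.of_linearEquiv (homologyBCIso φ hφ P i).toLinearEquiv

end BC

end Groth.Agent.Lib.helper11.FlatUpTo
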