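import Mathlib

/-!
# Connectedness along generizing maps with connected fibres (helper11)
-/

set_option autoImplicit false
universe u

namespace Groth.Agent.Lib.helper11.GenConn

open TopologicalSpace

variable {A B : Type*} [TopologicalSpace A] [TopologicalSpace B]

/-- a set stable under generization and specialization in a quasi-sober space with finitely many
irreducible components is closed -/
theorem isClosed_of_stable [QuasiSober B] (hfin : (irreducibleComponents B).Finite) (S : Set B)
    (hgen : StableUnderGeneralization S) (hspec : StableUnderSpecialization S) : IsClosed S := by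
  have hS : S = ⋃ C ∈ {C ∈ irreducibleComponents B | C ⊆ S}, C := by
    ext b
    simp only [Set.mem_setOf_eq, Set.mem_iUnion, exists_prop]
    constructor
    · intro hb
      refine ⟨irreducibleComponent b, ⟨irreducibleComponent_mem_irreducibleComponents b, ?_⟩,
        mem_irreducibleComponent⟩
      obtain ⟨η, hη⟩ := QuasiSober.sober (isIrreducible_irreducibleComponent (x := b))
        isClosed_irreducibleComponent
      have hηb : η ⤳ b := hη.specializes mem_irreducibleComponent
      have hηS : η ∈ S := hgen hηb hb
      intro c hc
      exact hspec (hη.specializes hc) hηS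
    · rintro ⟨C, ⟨-, hCS⟩, hbC⟩
      exact hCS hbC
  rw [hS]
  refine Set.Finite.isClosed_biUnion (hfin.subset (fun C hC => hC.1)) ?_
  intro C hC
  exact isClosed_of_mem_irreducibleComponents C hC.1

/-- **Key lemma**: a surjective generizing continuous map with preconnected fibres onto a
preconnected quasi-sober space with finitely many irreducible components has preconnected source. -/
theorem preconnectedSpace_of_generalizing [QuasiSober B] [PreconnectedSpace B]
    (hfin : (irreducibleComponents B).Finite) (p : A → B) (hp : Continuous p)
    (hsurj : Function.Surjective p) (hgen : GeneralizingMap p)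
    (hfib : ∀ b, IsPreconnected (p ⁻¹' {b})) : PreconnectedSpace A := by
  rw [preconnectedSpace_iff_clopen]
  intro U hU
  -- `U` is a union of fibres
  have hsat : ∀ W : Set A, IsClopen W → p ⁻¹' (p '' W) = W := by
    intro W hW
    refine Set.Subset.antisymm ?_ (Set.subset_preimage_image p W)
    rintro a ⟨u, huW, hua⟩
    have hsub : p ⁻¹' {p a} ⊆ W :=
      (hfib (p a)).subset_isClopen hW ⟨u, hua, huW⟩
    exact hsub rfl
  have hgenIm : ∀ W : Set A, IsOpen W → StableUnderGeneralization (p '' W) := by
    rintro W hW b b' hb'b ⟨u, huW, rfl⟩
    obtain ⟨u', hu'u, rfl⟩ := hgen hb'b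
    exact ⟨u', hW.stableUnderGeneralization hu'u huW, rfl⟩
  have hcompl : (p '' U)ᶜ = p '' Uᶜ := by
    ext b
    constructor
    · intro hb
      obtain ⟨a, rfl⟩ := hsurj b
      refine ⟨a, ?_, rfl⟩
      intro haU
      exact hb ⟨a, haU, rfl⟩
    · rintro ⟨a, haU, rfl⟩ ⟨u, huU, hua⟩
      have : a ∈ p ⁻¹' (p '' U) := ⟨u, huU, hua⟩
      rw [hsat U hU] at this
      exact haU this
  have h1 : StableUnderGeneralization (p '' U) := hgenIm U hU.isOpen
  have h2 : StableUnderGeneralization (p '' U)ᶜ := by
    rw [hcompl]
    exact hgenIm Uᶜ hU.compl.isOpen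
  have h1' : StableUnderSpecialization (p '' U) := by
    have := h2.compl
    rwa [compl_compl] at this
  have h2' : StableUnderSpecialization (p '' U)ᶜ := h1.compl
  have hcl1 : IsClosed (p '' U) := isClosed_of_stable hfin _ h1 h1'
  have hcl2 : IsClosed (p '' U)ᶜ := isClosed_of_stable hfin _ h2 h2'
  have hclopen : IsClopen (p '' U) := ⟨hcl1, isClosed_compl_iff.mp hcl2⟩
  rcases isClopen_iff.mp hclopen with h | h
  · left
    rw [← hsat U hU, h, Set.preimage_empty]
  · right
    rw [← hsat U hU, h, Set.preimage_univ]

end Groth.Agent.Lib.helper11.GenConn
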