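import Mathlib
import Groth.Agent.Lib.helper11.GenConn

/-!
# Connectedness of pullbacks of finite étale covers along flat geometrically irreducible maps
-/

set_option autoImplicit false
universe u

namespace Groth.Agent.Lib.helper11.GenConn2

open AlgebraicGeometry CategoryTheory CategoryTheory.Limits TopologicalSpace

/-- finitely many irreducible components for the source of a generalizing map with finite generic
fibre into an irreducible sober space. -/
theorem finite_irreducibleComponents {A B : Type*} [TopologicalSpace A] [TopologicalSpace B]
    [QuasiSober A] [T0Space B] [QuasiSober B] [IrreducibleSpace B] (f : A → B) (hf : Continuous f)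
    (hgen : GeneralizingMap f) (hfin : (f ⁻¹' {genericPoint B}).Finite) :
    (irreducibleComponents A).Finite := by
  refine (hfin.image (fun z => closure {z})).subset ?_
  intro C hC
  have hCirr : IsIrreducible C := hC.1
  have hCcl : IsClosed C := isClosed_of_mem_irreducibleComponents C hC
  obtain ⟨η, hη⟩ := QuasiSober.sober hCirr hCcl
  refine ⟨η, ?_, hη.def⟩
  -- `f η` is the generic point
  have hξ : genericPoint B ⤳ f η := (genericPoint_spec B).specializes (Set.mem_univ _)
  obtain ⟨η', hη'η, hη'⟩ := hgen hξ
  -- `closure {η'}` is irreducible containing `C`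
  have hsub : C ⊆ closure {η'} := by
    rw [← hη.def]
    exact closure_minimal (Set.singleton_subset_iff.mpr hη'η.mem_closure) isClosed_closure
  have hle : closure {η'} ⊆ C := hC.2 isIrreducible_singleton.closure hsub
  have hη'C : η' ∈ C := hle (subset_closure rfl)
  have hηη' : η ⤳ η' := hη.specializes hη'C
  have : f η ⤳ f η' := hηη'.map hf
  rw [hη'] at this
  exact (this.antisymm hξ).eq

theorem connectedSpace_pullback {X W Z : Scheme.{u}} [IrreducibleSpace X] (π : W ⟶ X) [Flat π]
    [GeometricallyIrreducible π] (f : Z ⟶ X) [IsFinite f] [Etale f] [ConnectedSpace Z] :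
    ConnectedSpace ↥(pullback f π) := by
  have hfin : (irreducibleComponents Z).Finite := by
    refine finite_irreducibleComponents f f.continuous (Flat.generalizingMap f) ?_
    exact f.finite_preimage_singleton (genericPoint X)
  let p := pullback.fst f π
  have hsurj : Function.Surjective p := p.surjective
  have hfib : ∀ z, _root_.IsPreconnected (p ⁻¹' {z}) := by
    intro z
    rw [← p.range_fiberι z]
    exact (isPreconnected_range (p.fiberι z).continuous)
  haveI : PreconnectedSpace ↥(pullback f π) :=
    GenConn.preconnectedSpace_of_generalizing hfin p p.continuous hsurj (Flat.generalizingMap p)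
      hfib
  obtain ⟨z⟩ := (inferInstance : Nonempty Z)
  obtain ⟨a, -⟩ := hsurj z
  exact { toNonempty := ⟨a⟩ }

end Groth.Agent.Lib.helper11.GenConn2
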