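import Groth.Agent.Lib.helper11.GenFlatOneVar

/-!
# Generic flatness of `N / L` for `L` a finite module over a smaller ring (helper11)

`R` noetherian domain, `R → A → B` of finite type, `N` a finite `B`-module, `L ⊆ N` a finitely
generated `A`-submodule.  Then `N / L` is generically flat over `R`.
-/

set_option autoImplicit false
set_option linter.dupNamespace false
set_option linter.style.haveILetI false
universe u

namespace Groth.Agent.Lib.helper11.GenFlat

open Function Polynomial Groth.Agent.Lib.helper11.GenFree Groth.Agent.Lib.helper11.GenFreeTools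

variable {R : Type u} [CommRing R] [IsDomain R] [IsNoetherianRing R]

theorem genFlat_quotient_aux (n : ℕ) : ∀ (A : Type u) [CommRing A] [Algebra R A]
    [Algebra.FiniteType R A] (B : Type u) [CommRing B] [Algebra A B] (N : Type u)
    [AddCommGroup N] [Module A N] [Module B N] [Module R N] [IsScalarTower A B N]
    [IsScalarTower R A N] [Module.Finite B N] (b : Fin n → B)
    (_ : Algebra.adjoin A (Set.range b) = ⊤) (L : Submodule A N) (_ : L.FG),
    GenFlat R (N ⧸ L) := by
  induction n with
  | zero =>
    intro A _ _ _ B _ _ N _ _ _ _ _ _ _ b hb L _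
    have hsurj : Surjective (algebraMap A B) := by
      rw [Algebra.surjective_algebraMap_iff, ← hb, Set.range_eq_empty, Algebra.adjoin_empty]
    haveI : Module.Finite A B := Module.Finite.of_surjective (Algebra.linearMap A B) hsurj
    haveI : Module.Finite A N := Module.Finite.trans B N
    exact GenFlat.of_genFree (genFree_of_finiteType A (N ⧸ L))
  | succ n ih =>
    intro A _ _ _ B _ _ N _ _ _ _ _ _ _ b hb L hL
    letI : Algebra A[X] B := (aeval (b 0) : A[X] →ₐ[A] B).toRingHom.toAlgebra
    letI : Module A[X] N := Module.compHom N (algebraMap A[X] B)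
    have hsm : ∀ (p : A[X]) (y : N), p • y = aeval (b 0) p • y := fun _ _ => rfl
    have halg : ∀ p : A[X], algebraMap A[X] B p = aeval (b 0) p := fun _ => rfl
    haveI : IsScalarTower A[X] B N := ⟨fun p b' y => by
      rw [hsm, Algebra.smul_def, halg, mul_smul]⟩
    haveI : IsScalarTower A A[X] N := ⟨fun a p y => by
      rw [hsm, hsm, map_smul, smul_assoc]⟩
    haveI : IsScalarTower R A[X] N := ⟨fun r p y => by
      rw [← algebraMap_smul A r p, smul_assoc, algebraMap_smul]⟩
    have hb' : Algebra.adjoin A[X] (Set.range fun i : Fin n => b i.succ) = ⊤ := by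
      rw [eq_top_iff]
      intro y hy0
      clear hy0
      have hy : y ∈ Algebra.adjoin A (Set.range b) := by
        rw [hb]
        trivial
      induction hy using Algebra.adjoin_induction with
      | mem z hz =>
        obtain ⟨i, rfl⟩ := hz
        refine Fin.cases ?_ (fun j => ?_) i
        · have : b 0 = algebraMap A[X] B X := by rw [halg, aeval_X]
          rw [this]
          exact Subalgebra.algebraMap_mem _ _
        · exact Algebra.subset_adjoin ⟨j, rfl⟩
      | algebraMap a =>
        have : algebraMap A B a = algebraMap A[X] B (C a) := by rw [halg, aeval_C]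
        rw [this]
        exact Subalgebra.algebraMap_mem _ _
      | add z w _ _ hz hw => exact Subalgebra.add_mem _ hz hw
      | mul z w _ _ hz hw => exact Subalgebra.mul_mem _ hz hw
    let L' : Submodule A[X] N := Submodule.span A[X] (L : Set N)
    have hL' : L'.FG := by
      obtain ⟨G, hG⟩ := hL
      refine ⟨G, ?_⟩
      change _ = Submodule.span A[X] (L : Set N)
      rw [← hG, Submodule.span_span_of_tower]
    have hflat' : GenFlat R (N ⧸ L') := ih A[X] B N (fun i => b i.succ) hb' L' hL'
    let x : N →ₗ[A] N :=
      { toFun := fun y => b 0 • y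
        map_add' := smul_add _
        map_smul' := fun a y => smul_comm _ _ _ }
    have hx : ∀ (k : ℕ) (y : N), (x ^ k) y = (b 0) ^ k • y := by
      intro k
      induction k with
      | zero => intro y; rw [pow_zero, pow_zero, one_smul]; rfl
      | succ k ihk =>
        intro y
        rw [pow_succ', pow_succ', mul_smul, ← ihk]
        rfl
    have hflat₁ : GenFlat R ↥((⨆ k, Lk x L k).map L.mkQ) := genFlat_oneVar x L hL
    -- the `A[X]`-span of `L` is the union of the `Lk`
    have hstab : ∀ (k : ℕ) (y : N), y ∈ (⨆ k, Lk x L k) → (x ^ k) y ∈ (⨆ k, Lk x L k) := by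
      intro k
      induction k with
      | zero => intro y hy; rw [pow_zero]; exact hy
      | succ k ihk =>
        intro y hy
        rw [pow_succ']
        exact map_iSup_Lk_le x L (Submodule.mem_map_of_mem (ihk y hy))
    have hcar : ∀ y : N, y ∈ (⨆ k, Lk x L k) ↔ y ∈ L' := by
      intro y
      constructor
      · intro hy
        have hle : (⨆ k, Lk x L k) ≤ L'.restrictScalars A := by
          refine iSup_le fun k => ?_
          induction k with
          | zero => exact fun z hz => Submodule.subset_span hz
          | succ k ihk =>
            rw [Lk_succ]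
            refine sup_le ihk ?_
            rintro _ ⟨l, hl, rfl⟩
            change (x ^ (k + 1)) l ∈ L'
            rw [hx]
            have : (b 0) ^ (k + 1) • l = (X ^ (k + 1) : A[X]) • l := by
              rw [hsm, aeval_X_pow]
            rw [this]
            exact Submodule.smul_mem _ _ (Submodule.subset_span hl)
        exact hle hy
      · intro hy
        induction hy using Submodule.span_induction with
        | mem z hz => exact (le_Lk x L 0).trans (le_iSup (Lk x L) 0) hz
        | zero => exact Submodule.zero_mem _
        | add z w _ _ hz hw => exact Submodule.add_mem _ hz hw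
        | smul p z _ hz =>
          induction p using Polynomial.induction_on' with
          | add p q hp hq =>
            rw [add_smul]
            exact Submodule.add_mem _ hp hq
          | monomial m a =>
            rw [hsm, aeval_monomial, mul_smul, algebraMap_smul, ← hx]
            exact Submodule.smul_mem _ _ (hstab m z hz)
    -- the short exact sequence
    let f₁ : ↥((⨆ k, Lk x L k).map L.mkQ) →ₗ[R] N ⧸ L :=
      (Submodule.subtype _).restrictScalars R
    have hLle : L ≤ LinearMap.ker (L'.mkQ.restrictScalars A) := by
      intro l hl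
      rw [LinearMap.mem_ker]
      change L'.mkQ l = 0
      rw [Submodule.mkQ_apply, Submodule.Quotient.mk_eq_zero]
      exact Submodule.subset_span hl
    let g₁ : N ⧸ L →ₗ[R] N ⧸ L' := (L.liftQ (L'.mkQ.restrictScalars A) hLle).restrictScalars R
    have hg₁ : ∀ y : N, g₁ (L.mkQ y) = L'.mkQ y := fun y => rfl
    refine GenFlat.of_exact f₁ g₁ (Submodule.injective_subtype _) ?_ ?_ hflat₁ hflat'
    · intro z
      obtain ⟨y, rfl⟩ := L'.mkQ_surjective z
      exact ⟨L.mkQ y, hg₁ y⟩
    · intro z
      obtain ⟨y, rfl⟩ := L.mkQ_surjective z
      rw [hg₁, Submodule.mkQ_apply, Submodule.Quotient.mk_eq_zero, ← hcar]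
      constructor
      · intro hy
        exact ⟨⟨L.mkQ y, Submodule.mem_map_of_mem hy⟩, rfl⟩
      · rintro ⟨⟨w, hw⟩, hw'⟩
        have hw2 : w = L.mkQ y := hw'
        rw [hw2, ← Submodule.mem_comap, Submodule.comap_map_mkQ,
          sup_eq_right.mpr ((le_Lk x L 0).trans (le_iSup (Lk x L) 0))] at hw
        exact hw

/-- **Generic flatness of a cokernel.** -/
theorem genFlat_quotient (A : Type u) [CommRing A] [Algebra R A]
    [Algebra.FiniteType R A] (B : Type u) [CommRing B] [Algebra A B] [Algebra.FiniteType A B]
    (N : Type u) [AddCommGroup N] [Module A N] [Module B N] [Module R N] [IsScalarTower A B N]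
    [IsScalarTower R A N] [Module.Finite B N] (L : Submodule A N) (hL : L.FG) :
    GenFlat R (N ⧸ L) := by
  obtain ⟨s, hs⟩ := (Algebra.FiniteType.out : (⊤ : Subalgebra A B).FG)
  refine genFlat_quotient_aux s.card A B N (fun i => (s.equivFin.symm i : B)) ?_ L hL
  rw [← hs]
  congr 1
  ext y
  constructor
  · rintro ⟨i, rfl⟩
    exact (s.equivFin.symm i).2
  · intro hy
    exact ⟨s.equivFin ⟨y, hy⟩, by simp⟩

end Groth.Agent.Lib.helper11.GenFlat
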