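import Groth.Agent.Lib.helper11.GenFlatBasic
import Groth.Agent.Lib.helper11.GenFreeTools

/-!
# Generic flatness: adjoining one variable (helper11)

`N` a module over a finite type algebra `C` over a noetherian domain `R`, `x` a `C`-linear
endomorphism of `N`, `L` a finitely generated `C`-submodule.  Then `(∑ₖ xᵏ L) / L` is generically
flat over `R`.
-/

set_option autoImplicit false
set_option linter.dupNamespace false
set_option linter.style.haveILetI false
universe u

namespace Groth.Agent.Lib.helper11.GenFlat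

open Function Groth.Agent.Lib.helper11.GenFree Groth.Agent.Lib.helper11.GenFreeTools

section Lk

variable {C : Type u} [CommRing C] {N : Type u} [AddCommGroup N] [Module C N]

/-- The filtration `L ⊆ L + xL ⊆ L + xL + x²L ⊆ …`. -/
def Lk (x : N →ₗ[C] N) (L : Submodule C N) : ℕ → Submodule C N
  | 0 => L
  | k + 1 => Lk x L k ⊔ L.map (x ^ (k + 1))

variable (x : N →ₗ[C] N) (L : Submodule C N)

theorem Lk_zero : Lk x L 0 = L := rfl

theorem Lk_succ (k : ℕ) : Lk x L (k + 1) = Lk x L k ⊔ L.map (x ^ (k + 1)) := rfl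

theorem Lk_mono : Monotone (Lk x L) := monotone_nat_of_le_succ fun _ => le_sup_left

theorem le_Lk (k : ℕ) : L ≤ Lk x L k := Lk_mono x L (Nat.zero_le k)

theorem map_Lk_le (k : ℕ) : (Lk x L k).map x ≤ Lk x L (k + 1) := by
  induction k with
  | zero =>
    rw [Lk_succ, Lk_zero, zero_add, pow_one]
    exact le_sup_right
  | succ k ih =>
    rw [Lk_succ x L (k + 1), Lk_succ x L k, Submodule.map_sup]
    refine sup_le_sup (by rw [← Lk_succ]; exact ih) (le_of_eq ?_)
    rw [← Submodule.map_comp, pow_succ' x (k + 1)]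
    rfl

theorem map_iSup_Lk_le : (⨆ k, Lk x L k).map x ≤ ⨆ k, Lk x L k := by
  rw [Submodule.map_iSup]
  exact iSup_le fun k => (map_Lk_le x L k).trans (le_iSup (Lk x L) (k + 1))

end Lk

variable {R : Type u} [CommRing R] [IsDomain R] [IsNoetherianRing R]
  {C : Type u} [CommRing C] [Algebra R C] [Algebra.FiniteType R C]
  {N : Type u} [AddCommGroup N] [Module C N] [Module R N] [IsScalarTower R C N]

theorem genFlat_oneVar (x : N →ₗ[C] N) (L : Submodule C N) (hL : L.FG) :
    GenFlat R ↥((⨆ k, Lk x L k).map L.mkQ) := by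
  haveI : IsNoetherianRing C := Algebra.FiniteType.isNoetherianRing R C
  haveI : IsNoetherian C ↥L := isNoetherian_of_fg_of_noetherian L hL
  set T : ℕ → Submodule C (N ⧸ L) := fun k => (Lk x L k).map L.mkQ with hT
  have hTmono : Monotone T := fun a b hab => Submodule.map_mono (Lk_mono x L hab)
  have hT0 : T 0 = ⊥ := by
    change (Lk x L 0).map L.mkQ = ⊥
    rw [Lk_zero, Submodule.mkQ_map_self]
  let φ : ∀ k, ↥L →ₗ[C] (N ⧸ L) ⧸ T k := fun k =>
    (T k).mkQ ∘ₗ L.mkQ ∘ₗ (x ^ (k + 1)) ∘ₗ L.subtype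
  have hker : ∀ k (l : ↥L), l ∈ LinearMap.ker (φ k) ↔ (x ^ (k + 1)) (l : N) ∈ Lk x L k := by
    intro k l
    rw [LinearMap.mem_ker]
    change (T k).mkQ (L.mkQ ((x ^ (k + 1)) (l : N))) = 0 ↔ _
    rw [Submodule.mkQ_apply, Submodule.Quotient.mk_eq_zero, ← Submodule.mem_comap]
    change _ ∈ Submodule.comap L.mkQ (Submodule.map L.mkQ (Lk x L k)) ↔ _
    rw [Submodule.comap_map_mkQ, sup_eq_right.mpr (le_Lk x L k)]
  have hJmono : Monotone fun k => LinearMap.ker (φ k) := by
    refine monotone_nat_of_le_succ fun k l hl => ?_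
    rw [hker] at hl ⊢
    rw [pow_succ' x (k + 1)]
    exact map_Lk_le x L k (Submodule.mem_map_of_mem hl)
  obtain ⟨n₀, hn₀⟩ := monotone_stabilizes_iff_noetherian.mpr (inferInstance : IsNoetherian C ↥L)
    ⟨fun k => LinearMap.ker (φ k), hJmono⟩
  haveI : Module.Finite C ↥L := Module.Finite.iff_fg.mpr hL
  have hfree : ∀ k, GenFree R (↥L ⧸ LinearMap.ker (φ k)) := fun k =>
    genFree_of_finiteType C _
  have hcommon : ∀ n, ∃ f : R, f ≠ 0 ∧ ∀ k ≤ n, ∀ h : R, f ∣ h → h ≠ 0 →
      Module.Free (Localization.Away h)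
        (LocalizedModule (Submonoid.powers h) (↥L ⧸ LinearMap.ker (φ k))) := by
    intro n
    induction n with
    | zero =>
      obtain ⟨f, hf, H⟩ := hfree 0
      refine ⟨f, hf, fun k hk => ?_⟩
      obtain rfl := Nat.le_zero.mp hk
      exact H
    | succ n ih =>
      obtain ⟨f, hf, H⟩ := ih
      obtain ⟨g, hg, G⟩ := hfree (n + 1)
      refine ⟨f * g, mul_ne_zero hf hg, fun k hk h hd hh => ?_⟩
      rcases Nat.lt_or_ge k (n + 1) with hlt | hge
      · exact H k (Nat.lt_succ_iff.mp hlt) h (dvd_of_mul_right_dvd hd) hh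
      · obtain rfl := le_antisymm hk hge
        exact G h (dvd_of_mul_left_dvd hd) hh
  obtain ⟨f, hf, H⟩ := hcommon n₀
  have Hall : ∀ (k : ℕ) (h : R), f ∣ h → h ≠ 0 → Module.Free (Localization.Away h)
      (LocalizedModule (Submonoid.powers h) (↥L ⧸ LinearMap.ker (φ k))) := by
    intro k h hd hh
    rcases le_total k n₀ with hk | hk
    · exact H k hk h hd hh
    · have hst : LinearMap.ker (φ n₀) = LinearMap.ker (φ k) := hn₀ k hk
      rw [← hst]
      exact H n₀ le_rfl h hd hh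
  have hrange : ∀ k, LinearMap.range (φ k) = (T (k + 1)).map (T k).mkQ := by
    intro k
    have h1 : T (k + 1) = T k ⊔ (L.map (x ^ (k + 1))).map L.mkQ := by
      change (Lk x L k ⊔ L.map (x ^ (k + 1))).map L.mkQ = _
      rw [Submodule.map_sup]
    rw [h1, Submodule.map_sup, Submodule.mkQ_map_self, bot_sup_eq]
    change LinearMap.range ((T k).mkQ ∘ₗ L.mkQ ∘ₗ (x ^ (k + 1)) ∘ₗ L.subtype) = _
    rw [LinearMap.range_comp, LinearMap.range_comp, LinearMap.range_comp,
      Submodule.range_subtype]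
  have hsup : (⨆ k, Lk x L k).map L.mkQ = ⨆ k, T k := Submodule.map_iSup _ _
  refine ⟨f, hf, fun h hd hh => ?_⟩
  have key : FlatAt h ↥(⨆ k, T k) := by
    refine FlatAt.iSup_of_chain (R := R) h T hTmono hT0 (fun k => ?_)
    haveI := Hall k h hd hh
    have e1 : (↥L ⧸ LinearMap.ker (φ k)) ≃ₗ[C] ↥(LinearMap.range (φ k)) :=
      (φ k).quotKerEquivRange
    have e2 : ↥(LinearMap.range (φ k)) ≃ₗ[C] ↥((T (k + 1)).map (T k).mkQ) :=
      LinearEquiv.ofEq _ _ (hrange k)
    exact (FlatAt.of_free h).of_linearEquiv h ((e1.trans e2).restrictScalars R)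
  rw [hsup]
  exact key

end Groth.Agent.Lib.helper11.GenFlat
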