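import Groth.Agent.Lib.helper11.GenFreeFP
import Mathlib.RingTheory.FiniteStability

/-!
# Generic finite presentation of finite type algebras over a domain (helper11)
-/

set_option autoImplicit false
universe u

namespace Groth.Agent.Lib.helper11.GenFreeFP2

open TensorProduct

/-- finite presentation of the base change of a finite type algebra to a localization `A = R_f`,
given generators of the kernel up to powers of `f`. -/
theorem fp_algebra {R S : Type u} [CommRing R] [CommRing S] [Algebra R S] (n : ℕ)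
    (π : MvPolynomial (Fin n) R →ₐ[R] S) (hπ : Function.Surjective π) (f : R)
    (A : Type u) [CommRing A] [Algebra R A] [IsLocalization.Away f A]
    (κ : Finset (MvPolynomial (Fin n) R)) (hκ : ∀ k ∈ κ, π k = 0)
    (hpow : ∀ p : MvPolynomial (Fin n) R, π p = 0 → ∃ m : ℕ,
      f ^ m • p ∈ Ideal.span (κ : Set (MvPolynomial (Fin n) R))) :
    Algebra.FinitePresentation A (A ⊗[R] S) := by
  classical
  let g : A ⊗[R] MvPolynomial (Fin n) R →ₐ[A] A ⊗[R] S :=
    Algebra.TensorProduct.map (AlgHom.id A A) π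
  have hgsurj : Function.Surjective g := Algebra.FiniteType.baseChangeAux_surj A hπ
  have hker_eq : RingHom.ker g = Ideal.map Algebra.TensorProduct.includeRight (RingHom.ker π) :=
    Algebra.TensorProduct.lTensor_ker π hπ
  have hspan : Ideal.map (Algebra.TensorProduct.includeRight :
      MvPolynomial (Fin n) R →ₐ[R] A ⊗[R] MvPolynomial (Fin n) R) (RingHom.ker π) =
      Ideal.span ((Algebra.TensorProduct.includeRight :
        MvPolynomial (Fin n) R →ₐ[R] A ⊗[R] MvPolynomial (Fin n) R) '' (κ : Set _)) := by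
    apply le_antisymm
    · rw [Ideal.map_le_iff_le_comap]
      intro p hp
      rw [Ideal.mem_comap]
      obtain ⟨m, hm⟩ := hpow p hp
      have h1 : (Algebra.TensorProduct.includeRight :
          MvPolynomial (Fin n) R →ₐ[R] A ⊗[R] MvPolynomial (Fin n) R) (f ^ m • p) ∈
          Ideal.span ((Algebra.TensorProduct.includeRight :
            MvPolynomial (Fin n) R →ₐ[R] A ⊗[R] MvPolynomial (Fin n) R) '' (κ : Set _)) := by
        rw [← Ideal.map_span]
        exact Ideal.mem_map_of_mem _ hm
      rw [map_smul, Algebra.smul_def] at h1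
      have hu : IsUnit (algebraMap R (A ⊗[R] MvPolynomial (Fin n) R) (f ^ m)) := by
        rw [IsScalarTower.algebraMap_apply R A (A ⊗[R] MvPolynomial (Fin n) R), map_pow]
        exact ((IsLocalization.Away.algebraMap_isUnit f).pow m).map _
      exact (Ideal.unit_mul_mem_iff_mem _ hu).mp h1
    · rw [Ideal.span_le]
      rintro _ ⟨k, hk, rfl⟩
      exact Ideal.mem_map_of_mem _ (hκ k hk)
  have hfgg : Ideal.FG (RingHom.ker g) := by
    rw [hker_eq, hspan, ← Finset.coe_image]
    exact ⟨_, rfl⟩
  let g' : MvPolynomial (Fin n) A →ₐ[A] A ⊗[R] S :=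
    AlgHom.comp g (MvPolynomial.algebraTensorAlgEquiv R A).symm.toAlgHom
  refine ⟨n, g', ?_, Ideal.fg_ker_comp _ _ ?_ hfgg ?_⟩
  · simp_all [g, g']
  · change Ideal.FG (RingHom.ker (AlgEquiv.symm (MvPolynomial.algebraTensorAlgEquiv R A)))
    simp only [RingHom.ker_equiv]
    exact Submodule.fg_bot
  · simpa using EquivLike.surjective _

/-- Generic finite presentation: a finite type algebra over a domain becomes finitely presented
after inverting a nonzero element (or any multiple of it). -/
theorem exists_fp_algebra {R S : Type u} [CommRing R] [IsDomain R] [CommRing S] [Algebra R S]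
    [Algebra.FiniteType R S] :
    ∃ f : R, f ≠ 0 ∧ ∀ h : R, f ∣ h → ∀ (A : Type u) [CommRing A] [Algebra R A]
      [IsLocalization.Away h A], Algebra.FinitePresentation A (A ⊗[R] S) := by
  classical
  have hft : Algebra.FiniteType R S := inferInstance
  obtain ⟨n, π, hπ⟩ := Algebra.FiniteType.iff_quotient_mvPolynomial''.mp hft
  let K₃ : Submodule (MvPolynomial (Fin n) R) (Fin 1 → MvPolynomial (Fin n) R) :=
    Submodule.comap (LinearMap.proj 0 : (Fin 1 → MvPolynomial (Fin n) R) →ₗ[MvPolynomial (Fin n) R]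
      MvPolynomial (Fin n) R) (RingHom.ker π)
  obtain ⟨f₃, hf₃, κ₃, hκ₃, hpow₃⟩ := GenFreeFP.exists_finset_pow n 1 K₃
  refine ⟨f₃, hf₃, fun h hd A _ _ _ => ?_⟩
  refine fp_algebra n π hπ h A (κ₃.image fun v => v 0) ?_ ?_
  · intro k hk
    obtain ⟨v, hv, rfl⟩ := Finset.mem_image.mp hk
    exact hκ₃ v hv
  · intro p hp
    have hpK : (fun _ => p : Fin 1 → MvPolynomial (Fin n) R) ∈ K₃ := hp
    obtain ⟨m, hm⟩ := hpow₃ h hd _ hpK
    refine ⟨m, ?_⟩
    have h1 := Submodule.mem_map_of_mem (f := (LinearMap.proj 0 :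
      (Fin 1 → MvPolynomial (Fin n) R) →ₗ[MvPolynomial (Fin n) R] MvPolynomial (Fin n) R)) hm
    rw [Submodule.map_span, ← Finset.coe_image] at h1
    exact h1

end Groth.Agent.Lib.helper11.GenFreeFP2
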