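import Mathlib
import Groth.Agent.Lib.helper11.AlmostCI
import Groth.Agent.Lib.helper11.ExtShift
import Groth.Agent.Lib.helper11.GorDualLoc
import Groth.Agent.S0318

/-!
# Sum of geometrically linked ideals in a Gorenstein local ring (helper11)

`A` Gorenstein local, `a₁ ∩ a₂ = 0`, `(0 : a₁) = a₂`, `(0 : a₂) = a₁`, `A/a₁`, `A/a₂`
Cohen–Macaulay: then `A/(a₁ + a₂)` is Gorenstein of dimension `dim A - 1`.
-/

set_option autoImplicit false

namespace Groth.Agent.Lib.helper11.GeomLink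

open CategoryTheory Abelian IsLocalRing
open Groth.Agent.Lib.Helper21.DepthKit

universe u

section SES

variable {A : Type u} [CommRing A] (a₁ a₂ : Ideal A)

/-- the diagonal map `A → A/a₁ × A/a₂`. -/
noncomputable def diag : A →ₗ[A] (A ⧸ a₁) × (A ⧸ a₂) :=
  LinearMap.prod (Submodule.mkQ a₁) (Submodule.mkQ a₂)

/-- the difference map `A/a₁ × A/a₂ → A/(a₁ + a₂)`. -/
noncomputable def diff : (A ⧸ a₁) × (A ⧸ a₂) →ₗ[A] A ⧸ (a₁ ⊔ a₂) :=
  (Submodule.mapQ a₁ (a₁ ⊔ a₂) LinearMap.id (fun _ hx => Ideal.mem_sup_left hx)).coprod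
    (-(Submodule.mapQ a₂ (a₁ ⊔ a₂) LinearMap.id (fun _ hx => Ideal.mem_sup_right hx)))

theorem diag_apply (x : A) :
    diag a₁ a₂ x = (Submodule.Quotient.mk x, Submodule.Quotient.mk x) := rfl

theorem diff_apply (x y : A) :
    diff a₁ a₂ (Submodule.Quotient.mk x, Submodule.Quotient.mk y) =
      Submodule.Quotient.mk (x - y) := by
  unfold diff
  rw [LinearMap.coprod_apply, LinearMap.neg_apply, ← sub_eq_add_neg]
  rfl

theorem diag_injective (hinf : a₁ ⊓ a₂ = ⊥) : Function.Injective (diag a₁ a₂) := by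
  rw [← LinearMap.ker_eq_bot, LinearMap.ker_eq_bot']
  intro x hx
  rw [diag_apply, Prod.mk_eq_zero, Submodule.Quotient.mk_eq_zero,
    Submodule.Quotient.mk_eq_zero] at hx
  have : x ∈ a₁ ⊓ a₂ := hx
  rw [hinf] at this
  exact this

theorem diff_surjective : Function.Surjective (diff a₁ a₂) := by
  intro y
  obtain ⟨a, rfl⟩ := Submodule.Quotient.mk_surjective _ y
  exact ⟨(Submodule.Quotient.mk a, Submodule.Quotient.mk 0), by rw [diff_apply, sub_zero]⟩

theorem exact_diag_diff : Function.Exact (diag a₁ a₂) (diff a₁ a₂) := by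
  rintro ⟨u, v⟩
  obtain ⟨a, rfl⟩ := Submodule.Quotient.mk_surjective _ u
  obtain ⟨b, rfl⟩ := Submodule.Quotient.mk_surjective _ v
  rw [diff_apply, Submodule.Quotient.mk_eq_zero]
  constructor
  · intro hab
    obtain ⟨i, hi, z, hz, hiz⟩ := Submodule.mem_sup.mp hab
    refine ⟨a - i, ?_⟩
    rw [diag_apply, Prod.mk.injEq, Submodule.Quotient.eq, Submodule.Quotient.eq]
    refine ⟨?_, ?_⟩
    · have : a - i - a = -i := by ring
      rw [this]; exact a₁.neg_mem hi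
    · have : a - i - b = z := by linear_combination -hiz
      rw [this]; exact hz
  · rintro ⟨c, hc⟩
    rw [diag_apply, Prod.mk.injEq, Submodule.Quotient.eq, Submodule.Quotient.eq] at hc
    have : a - b = -(c - a) + (c - b) := by ring
    rw [this]
    exact Ideal.add_mem _ (Ideal.mem_sup_left (a₁.neg_mem hc.1)) (Ideal.mem_sup_right hc.2)

end SES

section Conn

variable {C : Type*} [Category C] [Abelian C] [HasExt C] (R : Type*) [CommRing R]
  [Linear R C]
variable {S : ShortComplex C} (hS : S.ShortExact) (Y : C)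

/-- The connecting map `Hom(X₁, Y) → Ext^1(X₃, Y)` (no projectivity assumption). -/
noncomputable def conn₀ : (S.X₁ ⟶ Y) →ₗ[R] Ext S.X₃ Y 1 :=
  (Ext.precompOfLinear hS.extClass R Y (show 1 + 0 = 1 by rfl)).comp
    (Ext.linearEquiv₀ (R := R)).symm.toLinearMap

theorem conn₀_apply (φ : S.X₁ ⟶ Y) :
    conn₀ R hS Y φ = hS.extClass.comp (Ext.mk₀ φ) (show 1 + 0 = 1 by rfl) := rfl

theorem conn₀_eq_zero_iff (φ : S.X₁ ⟶ Y) :
    conn₀ R hS Y φ = 0 ↔ ∃ ψ : S.X₂ ⟶ Y, S.f ≫ ψ = φ := by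
  rw [conn₀_apply]
  constructor
  · intro h
    obtain ⟨x₂, hx₂⟩ := Ext.contravariant_sequence_exact₁ hS Y (Ext.mk₀ φ) (by rfl) h
    refine ⟨Ext.linearEquiv₀ (R := R) x₂, ?_⟩
    apply (Ext.mk₀_bijective _ _).1
    rw [← Ext.mk₀_comp_mk₀, Ext.mk₀_linearEquiv₀_apply]
    exact hx₂
  · rintro ⟨ψ, rfl⟩
    rw [← Ext.mk₀_comp_mk₀, ← Ext.comp_assoc (h₁₂ := show 1 + 0 = 1 by rfl)
      (h₂₃ := show 0 + 0 = 0 by rfl) (h := show 1 + 0 + 0 = 1 by rfl),
      hS.extClass_comp, Ext.zero_comp]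

end Conn

section ConnLin

variable {Λ : Type u} [CommRing Λ] {K F M : Type u} [AddCommGroup K] [Module Λ K]
  [AddCommGroup F] [Module Λ F] [AddCommGroup M] [Module Λ M]
  (i : K →ₗ[Λ] F) (π : F →ₗ[Λ] M) (hi : Function.Injective i) (hπ : Function.Surjective π)
  (hex : Function.Exact i π) (Y : Type u) [AddCommGroup Y] [Module Λ Y]

/-- The connecting map on linear maps (no projectivity assumption). -/
noncomputable def connLin (hex : Function.Exact i π) (Y : Type u) [AddCommGroup Y] [Module Λ Y]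
    (hi : Function.Injective i) (hπ : Function.Surjective π) :
    (K →ₗ[Λ] Y) →ₗ[Λ] Ext (ModuleCat.of Λ M) (ModuleCat.of Λ Y) 1 :=
  (conn₀ Λ (ExtShift.sc_shortExact i π hi hπ hex) (ModuleCat.of Λ Y)).comp
    (ModuleCat.homLinearEquiv (M := ModuleCat.of Λ K) (N := ModuleCat.of Λ Y)
      (S := Λ)).symm.toLinearMap

theorem connLin_eq_zero_iff (φ : K →ₗ[Λ] Y) :
    connLin i π hex Y hi hπ φ = 0 ↔ ∃ ψ : F →ₗ[Λ] Y, ψ ∘ₗ i = φ := by
  change conn₀ Λ (ExtShift.sc_shortExact i π hi hπ hex) (ModuleCat.of Λ Y)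
    (ModuleCat.ofHom φ) = 0 ↔ _
  rw [conn₀_eq_zero_iff]
  constructor
  · rintro ⟨ψ, hψ⟩
    refine ⟨ψ.hom, ?_⟩
    have := congrArg ModuleCat.Hom.hom hψ
    exact this
  · rintro ⟨ψ, rfl⟩
    exact ⟨ModuleCat.ofHom ψ, rfl⟩

end ConnLin

section Local

variable {A : Type u} [CommRing A] [hA : LocCoh.IsGorensteinLocalRing A] (a₁ a₂ : Ideal A)
  (hinf : a₁ ⊓ a₂ = ⊥) (h12 : (Submodule.annihilator a₁ : Ideal A) = a₂)
  (h21 : (Submodule.annihilator a₂ : Ideal A) = a₁)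
  [hCM₁ : LocCoh.IsCohenMacaulayLocalRing (A ⧸ a₁)]
  [hCM₂ : LocCoh.IsCohenMacaulayLocalRing (A ⧸ a₂)] (hne : a₁ ⊔ a₂ ≠ ⊤)

include h21 hne in
theorem dim_quot₁ : ringKrullDim (A ⧸ a₁) = ringKrullDim A := by
  have h1 : (Submodule.annihilator a₂ : Ideal A) ≠ ⊤ := by
    rw [h21]
    intro h
    apply hne
    rw [h, top_sup_eq]
  have := LinkCM.ringKrullDim_quotient_annihilator a₂ h1
  rwa [h21] at this

include h12 hne in
theorem dim_quot₂ : ringKrullDim (A ⧸ a₂) = ringKrullDim A := by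
  have h1 : (Submodule.annihilator a₁ : Ideal A) ≠ ⊤ := by
    rw [h12]
    intro h
    apply hne
    rw [h, sup_top_eq]
  have := LinkCM.ringKrullDim_quotient_annihilator a₁ h1
  rwa [h12] at this

include h12 h21 hne in
/-- `Ext^i(A/a₁ × A/a₂, A) = 0` for `i ≥ 1`. -/
theorem subsingleton_ext_prod (i : ℕ) (hi : 1 ≤ i) :
    Subsingleton (Ext (ModuleCat.of A ((A ⧸ a₁) × (A ⧸ a₂))) (ModuleCat.of A A) i) := by
  have hd₁ := dim_quot₁ a₁ a₂ h21 hne
  have hd₂ := dim_quot₂ a₁ a₂ h12 hne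
  have hex : Function.Exact (LinearMap.inl A (A ⧸ a₁) (A ⧸ a₂))
      (LinearMap.snd A (A ⧸ a₁) (A ⧸ a₂)) := by
    rw [LinearMap.exact_iff, LinearMap.range_inl]
  have hS := ExtShift.sc_shortExact (LinearMap.inl A (A ⧸ a₁) (A ⧸ a₂))
    (LinearMap.snd A (A ⧸ a₁) (A ⧸ a₂)) LinearMap.inl_injective LinearMap.snd_surjective hex
  haveI := GorColon.subsingleton_ext_quotient a₁ hd₁ i hi
  haveI := GorColon.subsingleton_ext_quotient a₂ hd₂ i hi
  have key : ∀ x₂ : Ext (ModuleCat.of A ((A ⧸ a₁) × (A ⧸ a₂))) (ModuleCat.of A A) i, x₂ = 0 := by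
    intro x₂
    obtain ⟨x₃, hx₃⟩ := Ext.contravariant_sequence_exact₂ hS (ModuleCat.of A A) x₂
      (Subsingleton.elim _ _)
    rw [← hx₃, Subsingleton.elim x₃ 0, Ext.comp_zero]
  exact ⟨fun x y => by rw [key x, key y]⟩

/-- the short exact sequence `0 → A → A/a₁ × A/a₂ → A/(a₁+a₂) → 0`. -/
theorem shortExact (hinf : a₁ ⊓ a₂ = ⊥) :
    (ExtShift.sc (diag a₁ a₂) (diff a₁ a₂) (exact_diag_diff a₁ a₂)).ShortExact :=
  ExtShift.sc_shortExact (diag a₁ a₂) (diff a₁ a₂) (diag_injective a₁ a₂ hinf)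
    (diff_surjective a₁ a₂) (exact_diag_diff a₁ a₂)

include hinf h12 h21 hne in
/-- `Ext^j(A/(a₁+a₂), A) = 0` for `j ≥ 2`. -/
theorem subsingleton_ext_sup (j : ℕ) (hj : 2 ≤ j) :
    Subsingleton (Ext (ModuleCat.of A (A ⧸ (a₁ ⊔ a₂))) (ModuleCat.of A A) j) := by
  obtain ⟨i, rfl⟩ : ∃ i, j = 1 + i := ⟨j - 1, by omega⟩
  have hS := shortExact a₁ a₂ hinf
  haveI := subsingleton_ext_prod a₁ a₂ h12 h21 hne (1 + i) (by omega)
  have key : ∀ x₃ : Ext (ModuleCat.of A (A ⧸ (a₁ ⊔ a₂))) (ModuleCat.of A A) (1 + i), x₃ = 0 := by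
    intro x₃
    obtain ⟨x₁, hx₁⟩ := Ext.contravariant_sequence_exact₃ hS (ModuleCat.of A A) x₃
      (Subsingleton.elim _ _) (rfl : 1 + i = 1 + i)
    haveI : Projective (ModuleCat.of A A) :=
      (IsProjective.iff_projective (R := A) (P := A)).mp inferInstance
    have hx0 : x₁ = 0 := by
      obtain ⟨i', rfl⟩ : ∃ i', i = i' + 1 := ⟨i - 1, by omega⟩
      exact Ext.eq_zero_of_projective x₁
    rw [← hx₁, hx0, Ext.comp_zero]
  exact ⟨fun x y => by rw [key x, key y]⟩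

include hinf h12 h21 in
/-- `Hom(A/(a₁+a₂), A) = 0`. -/
theorem subsingleton_hom_sup : Subsingleton ((A ⧸ (a₁ ⊔ a₂)) →ₗ[A] A) := by
  refine ⟨fun φ ψ => ?_⟩
  have key : ∀ φ : (A ⧸ (a₁ ⊔ a₂)) →ₗ[A] A, φ = 0 := by
    intro φ
    have hz : φ (Submodule.Quotient.mk 1) = 0 := by
      set z := φ (Submodule.Quotient.mk 1) with hzdef
      have hmem : ∀ r ∈ a₁ ⊔ a₂, r * z = 0 := by
        intro r hr
        have : r • (Submodule.Quotient.mk (1 : A) : A ⧸ (a₁ ⊔ a₂)) = 0 := by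
          rw [← Submodule.Quotient.mk_smul, smul_eq_mul, mul_one, Submodule.Quotient.mk_eq_zero]
          exact hr
        rw [hzdef, ← smul_eq_mul, ← map_smul, this, map_zero]
      have h1 : z ∈ (Submodule.annihilator a₁ : Ideal A) := by
        rw [Submodule.mem_annihilator]
        intro r hr
        rw [smul_eq_mul, mul_comm]
        exact hmem r (Ideal.mem_sup_left hr)
      have h2 : z ∈ (Submodule.annihilator a₂ : Ideal A) := by
        rw [Submodule.mem_annihilator]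
        intro r hr
        rw [smul_eq_mul, mul_comm]
        exact hmem r (Ideal.mem_sup_right hr)
      rw [h12] at h1
      rw [h21] at h2
      have : z ∈ a₁ ⊓ a₂ := ⟨h2, h1⟩
      rw [hinf] at this
      exact this
    apply LinearMap.ext
    intro x
    obtain ⟨a, rfl⟩ := Submodule.Quotient.mk_surjective _ x
    have : (Submodule.Quotient.mk a : A ⧸ (a₁ ⊔ a₂)) = a • Submodule.Quotient.mk 1 := by
      rw [← Submodule.Quotient.mk_smul, smul_eq_mul, mul_one]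
    rw [this, map_smul, hz, smul_zero, LinearMap.zero_apply]
  rw [key φ, key ψ]

/-- the connecting map `A → Ext^1(A/(a₁+a₂), A)`. -/
noncomputable def delta (hinf : a₁ ⊓ a₂ = ⊥) :
    A →ₗ[A] Ext (ModuleCat.of A (A ⧸ (a₁ ⊔ a₂))) (ModuleCat.of A A) 1 :=
  (connLin (diag a₁ a₂) (diff a₁ a₂) (exact_diag_diff a₁ a₂) A
    (diag_injective a₁ a₂ hinf) (diff_surjective a₁ a₂)).comp
    (LinearMap.ringLmapEquivSelf A A A).symm.toLinearMap

include h12 h21 hne in
theorem delta_surjective : Function.Surjective (delta a₁ a₂ hinf) := by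
  intro x₃
  have hS := shortExact a₁ a₂ hinf
  haveI := subsingleton_ext_prod a₁ a₂ h12 h21 hne 1 le_rfl
  obtain ⟨x₁, hx₁⟩ := Ext.contravariant_sequence_exact₃ hS (ModuleCat.of A A) x₃
    (Subsingleton.elim _ _) (show 1 + 0 = 1 by rfl)
  refine ⟨LinearMap.ringLmapEquivSelf A A A
    (ModuleCat.homLinearEquiv (S := A) (Ext.linearEquiv₀ (R := A) x₁)), ?_⟩
  unfold delta
  rw [LinearMap.comp_apply, LinearEquiv.coe_coe, LinearEquiv.symm_apply_apply]
  unfold connLin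
  rw [LinearMap.comp_apply, LinearEquiv.coe_coe, LinearEquiv.symm_apply_apply,
    conn₀_apply, Ext.mk₀_linearEquiv₀_apply]
  exact hx₁

include h12 h21 in
theorem ker_delta : LinearMap.ker (delta a₁ a₂ hinf) = a₁ ⊔ a₂ := by
  ext x
  rw [LinearMap.mem_ker]
  unfold delta
  rw [LinearMap.comp_apply, connLin_eq_zero_iff]
  constructor
  · rintro ⟨ψ, hψ⟩
    have hx : x = ψ (Submodule.Quotient.mk 1, 0) + ψ (0, Submodule.Quotient.mk 1) := by
      have h1 := congrArg (fun f : A →ₗ[A] A => f 1) hψ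
      simp only [LinearMap.comp_apply, LinearEquiv.coe_coe] at h1
      have h2 : ((LinearMap.ringLmapEquivSelf A A A).symm x) 1 = x :=
        (LinearMap.ringLmapEquivSelf A A A).apply_symm_apply x
      rw [h2, diag_apply] at h1
      rw [← h1, ← map_add, Prod.mk_add_mk, add_zero, zero_add]
    have hu : ψ (Submodule.Quotient.mk 1, 0) ∈ (Submodule.annihilator a₁ : Ideal A) := by
      rw [Submodule.mem_annihilator]
      intro r hr
      rw [smul_eq_mul, mul_comm, ← smul_eq_mul, ← map_smul, Prod.smul_mk, smul_zero,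
        ← Submodule.Quotient.mk_smul, smul_eq_mul, mul_one,
        (Submodule.Quotient.mk_eq_zero a₁).mpr hr]
      exact map_zero ψ
    have hv : ψ (0, Submodule.Quotient.mk 1) ∈ (Submodule.annihilator a₂ : Ideal A) := by
      rw [Submodule.mem_annihilator]
      intro r hr
      rw [smul_eq_mul, mul_comm, ← smul_eq_mul, ← map_smul, Prod.smul_mk, smul_zero,
        ← Submodule.Quotient.mk_smul, smul_eq_mul, mul_one,
        (Submodule.Quotient.mk_eq_zero a₂).mpr hr]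
      exact map_zero ψ
    rw [h12] at hu
    rw [h21] at hv
    rw [hx]
    exact Ideal.add_mem _ (Ideal.mem_sup_right hu) (Ideal.mem_sup_left hv)
  · intro hx
    obtain ⟨v, hv, u, hu, rfl⟩ := Submodule.mem_sup.mp hx
    -- `v ∈ a₁ = Ann a₂`, `u ∈ a₂ = Ann a₁`
    have hu' : a₁ ≤ LinearMap.ker (LinearMap.toSpanSingleton A A u) := by
      intro r hr
      rw [LinearMap.mem_ker, LinearMap.toSpanSingleton_apply, smul_eq_mul]
      rw [← h12] at hu
      rw [mul_comm]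
      exact (Submodule.mem_annihilator.mp hu) r hr
    have hv' : a₂ ≤ LinearMap.ker (LinearMap.toSpanSingleton A A v) := by
      intro r hr
      rw [LinearMap.mem_ker, LinearMap.toSpanSingleton_apply, smul_eq_mul]
      rw [← h21] at hv
      rw [mul_comm]
      exact (Submodule.mem_annihilator.mp hv) r hr
    refine ⟨(Submodule.liftQ a₁ (LinearMap.toSpanSingleton A A u) hu').coprod
      (Submodule.liftQ a₂ (LinearMap.toSpanSingleton A A v) hv'), ?_⟩
    apply LinearMap.ext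
    intro r
    have h2 : ((LinearMap.ringLmapEquivSelf A A A).symm (v + u)) r = r * (v + u) := by
      have h3 : ((LinearMap.ringLmapEquivSelf A A A).symm (v + u)) 1 = v + u :=
        (LinearMap.ringLmapEquivSelf A A A).apply_symm_apply (v + u)
      have : r = r • (1 : A) := by rw [smul_eq_mul, mul_one]
      conv_lhs => rw [this, map_smul, h3, smul_eq_mul]
    rw [LinearMap.comp_apply, diag_apply, LinearMap.coprod_apply, LinearEquiv.coe_coe, h2]
    show (Submodule.liftQ a₁ _ hu') (Submodule.Quotient.mk r) +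
      (Submodule.liftQ a₂ _ hv') (Submodule.Quotient.mk r) = _
    rw [Submodule.liftQ_apply, Submodule.liftQ_apply, LinearMap.toSpanSingleton_apply,
      LinearMap.toSpanSingleton_apply, smul_eq_mul, smul_eq_mul]
    ring

include hinf h12 h21 hne in
/-- `A/(a₁+a₂) ≅ Ext^1(A/(a₁+a₂), A)`. -/
theorem nonempty_equiv_ext_one :
    Nonempty ((A ⧸ (a₁ ⊔ a₂)) ≃ₗ[A]
      Ext (ModuleCat.of A (A ⧸ (a₁ ⊔ a₂))) (ModuleCat.of A A) 1) :=
  ⟨(Submodule.quotEquivOfEq _ _ (ker_delta a₁ a₂ hinf h12 h21).symm).trans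
    ((delta a₁ a₂ hinf).quotKerEquivOfSurjective (delta_surjective a₁ a₂ hinf h12 h21 hne))⟩

include hinf h12 h21 hne in
/-- **Local form**: the sum of two geometrically linked ideals in a Gorenstein local ring has a
Gorenstein quotient of dimension one less. -/
theorem main_local :
    LocCoh.IsGorensteinLocalRing (A ⧸ (a₁ ⊔ a₂)) ∧
      ringKrullDim (A ⧸ (a₁ ⊔ a₂)) + 1 = ringKrullDim A := by
  haveI : Nontrivial (A ⧸ (a₁ ⊔ a₂)) := Ideal.Quotient.nontrivial_iff.2 hne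
  haveI : IsLocalRing (A ⧸ (a₁ ⊔ a₂)) :=
    IsLocalRing.of_surjective' (Ideal.Quotient.mk _) Ideal.Quotient.mk_surjective
  have hs : Function.Surjective (algebraMap A (A ⧸ (a₁ ⊔ a₂))) := Ideal.Quotient.mk_surjective
  obtain ⟨d, hd⟩ := GorDual.exists_dim A
  obtain ⟨e, he⟩ := GorDual.exists_dim (A ⧸ (a₁ ⊔ a₂))
  -- (a) `dim B + 1 ≤ d`
  haveI hsub := subsingleton_hom_sup a₁ a₂ hinf h12 h21
  obtain ⟨r, hrann, hrreg⟩ := (IsSMulRegular.subsingleton_linearMap_iff (R := A) (M := A)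
    (N := A ⧸ (a₁ ⊔ a₂))).mp hsub
  have hrK : r ∈ a₁ ⊔ a₂ := by
    rw [Ideal.annihilator_quotient] at hrann
    exact hrann
  have hr0 : r ∈ nonZeroDivisors A := by
    rw [mem_nonZeroDivisors_iff_right]
    intro x hx
    apply hrreg
    show r • x = r • 0
    rw [smul_eq_mul, mul_comm, hx, smul_zero]
  have hdimle : e + 1 ≤ d := by
    have := ringKrullDim_succ_le_of_surjective (Ideal.Quotient.mk (a₁ ⊔ a₂))
      Ideal.Quotient.mk_surjective hr0 (Ideal.Quotient.eq_zero_iff_mem.2 hrK)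
    rw [hd, he] at this
    exact_mod_cast this
  -- (b) the depth `t` of `B`
  obtain ⟨t, ht⟩ := exists_nat_depth (A := A) (M := A ⧸ (a₁ ⊔ a₂))
  have hIM : maximalIdeal A • (⊤ : Submodule A (A ⧸ (a₁ ⊔ a₂))) ≠ ⊤ :=
    maximalIdeal_smul_top_ne_top
  have hH := (Groth.Agent.S0318.result A (maximalIdeal A) (A ⧸ (a₁ ⊔ a₂)) hIM t).mp ht
  have hte : t ≤ e := by
    have h1 := depth_le_supportDim (A := A) (M := A ⧸ (a₁ ⊔ a₂))
    rw [Module.supportDim_quotient_eq_ringKrullDim, he, ht] at h1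
    exact_mod_cast h1
  -- (c) `d - t = 1`
  have hdt : d - t = 1 := by
    by_contra hcon
    have h2 : 2 ≤ d - t := by omega
    haveI := subsingleton_ext_sup a₁ a₂ hinf h12 h21 hne (d - t) h2
    have hsubH := (GorDual.subsingleton_H_iff' d hd (A ⧸ (a₁ ⊔ a₂)) t (by omega)).mpr inferInstance
    haveI := hH.2
    exact not_subsingleton _ hsubH
  have hte' : t = d - 1 := by omega
  have hed : e = d - 1 := by omega
  have hd1 : d - (d - 1) = 1 := by omega
  have hdepB : LocCoh.depth (A ⧸ (a₁ ⊔ a₂)) (A ⧸ (a₁ ⊔ a₂)) = ((d - 1 : ℕ) : ℕ∞) := by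
    rw [← depth_eq_of_surjective (R := A) _ hs, ht, hte']
  have hnB : ringKrullDim (A ⧸ (a₁ ⊔ a₂)) = ((d - 1 : ℕ) : WithBot ℕ∞) := by
    rw [he, hed]
  have hdimB : Module.supportDim (A ⧸ (a₁ ⊔ a₂)) (A ⧸ (a₁ ⊔ a₂)) =
      ((d - 1 : ℕ) : WithBot ℕ∞) := by
    rw [Module.supportDim_self_eq_ringKrullDim]
    exact hnB
  haveI hCMB : LocCoh.IsCohenMacaulayLocalRing (A ⧸ (a₁ ⊔ a₂)) :=
    { supportDim_eq_depth := by rw [hdimB, hdepB]; rfl }
  obtain ⟨E, _, _, f, hf⟩ := Groth.Agent.S0299.result (A ⧸ (a₁ ⊔ a₂))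
    (ResidueField (A ⧸ (a₁ ⊔ a₂)))
  obtain ⟨ι⟩ := nonempty_equiv_ext_one a₁ a₂ hinf h12 h21 hne
  obtain ⟨eK⟩ := CanonExplicit.nonempty_dual_equiv_of_equiv_ext
    (R := A ⧸ (a₁ ⊔ a₂)) (R' := A) hs
    hA.exists_hasInjectiveDimensionLT (d - 1) hnB d hd E f hf
    (A ⧸ (a₁ ⊔ a₂)) (by rw [hd1]; exact ι)
  refine ⟨(Groth.Agent.S7701.result _ (d - 1) hnB E f hf _ eK).2 ⟨LinearEquiv.refl _ _⟩, ?_⟩
  rw [hd, he, hed]
  have : d - 1 + 1 = d := by omega
  exact_mod_cast this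

end Local

end Groth.Agent.Lib.helper11.GeomLink
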