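import Mathlib
import Groth.Agent.Lib.helper11.GeomLink
import Groth.Agent.Lib.helper11.AlmostCIGlobal

/-!
# Sum of geometrically linked ideals in a Gorenstein ring (helper11)

`C` Gorenstein ring, `b₁ ∩ b₂ = 0`, `(0 : b₁) = b₂`, `(0 : b₂) = b₁`, `C/b₁`, `C/b₂`
Cohen–Macaulay rings: then `C/(b₁ + b₂)` is a Gorenstein ring and every prime of it has height
one less than its preimage in `C`.
-/

set_option autoImplicit false

namespace Groth.Agent.Lib.helper11.GeomLinkGlobal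

open IsLocalRing
open Groth.Agent.Lib.Helper21.DepthKit

universe u

variable {C : Type u} [CommRing C]

theorem aux [hC : LocCoh.IsGorensteinRing C] (b₁ b₂ : Ideal C)
    [hCM₁ : LocCoh.IsCohenMacaulayRing (C ⧸ b₁)] [hCM₂ : LocCoh.IsCohenMacaulayRing (C ⧸ b₂)]
    (hinf : b₁ ⊓ b₂ = ⊥) (h12 : (Submodule.annihilator b₁ : Ideal C) = b₂)
    (h21 : (Submodule.annihilator b₂ : Ideal C) = b₁)
    (J : Ideal C) (hJ : J = b₁ ⊔ b₂) (Q : Ideal (C ⧸ J)) [hQ : Q.IsPrime] :
    LocCoh.IsGorensteinLocalRing (Localization.AtPrime Q) ∧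
      (Q.comap (Ideal.Quotient.mk J)).height = Q.height + 1 := by
  set q := Q.comap (Ideal.Quotient.mk J) with hq
  haveI : q.IsPrime := Ideal.comap_isPrime _ _
  haveI hG : LocCoh.IsGorensteinLocalRing (Localization.AtPrime q) :=
    hC.isGorensteinLocalRing_localization q
  have hJq : J ≤ q := by
    intro x hx
    rw [hq, Ideal.mem_comap, Ideal.Quotient.eq_zero_iff_mem.2 hx]
    exact Q.zero_mem
  have hb₁q : b₁ ≤ q := (hJ ▸ le_sup_left : b₁ ≤ J).trans hJq
  have hb₂q : b₂ ≤ q := (hJ ▸ le_sup_right : b₂ ≤ J).trans hJq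
  set A := Localization.AtPrime q
  set a₁ := b₁.map (algebraMap C A) with ha₁
  set a₂ := b₂.map (algebraMap C A) with ha₂
  have hinf' : a₁ ⊓ a₂ = ⊥ := by
    rw [ha₁, ha₂, ← IsLocalization.map_inf q.primeCompl A, hinf, Ideal.map_bot]
  have h12' : (Submodule.annihilator a₁ : Ideal A) = a₂ := by
    rw [ha₁, Groth.Agent.Lib.Helper7.FlatAnn.annihilator_map b₁ (IsNoetherian.noetherian _), h12]
  have h21' : (Submodule.annihilator a₂ : Ideal A) = a₁ := by
    rw [ha₂, Groth.Agent.Lib.Helper7.FlatAnn.annihilator_map b₂ (IsNoetherian.noetherian _), h21]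
  haveI hCM₁' : LocCoh.IsCohenMacaulayLocalRing (A ⧸ a₁) :=
    AlmostCIGlobal.isCM_quotient_localization b₁ q hb₁q
  haveI hCM₂' : LocCoh.IsCohenMacaulayLocalRing (A ⧸ a₂) :=
    AlmostCIGlobal.isCM_quotient_localization b₂ q hb₂q
  have hJmap : J.map (algebraMap C A) = a₁ ⊔ a₂ := by
    rw [hJ, Ideal.map_sup]
  have hne : a₁ ⊔ a₂ ≠ ⊤ := by
    rw [← hJmap]
    intro h
    have h1 : J.map (algebraMap C A) ≤ maximalIdeal A := by
      rw [Ideal.map_le_iff_le_comap]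
      intro x hx
      rw [Ideal.mem_comap]
      exact (IsLocalization.AtPrime.to_map_mem_maximal_iff _ q x).2 (hJq hx)
    rw [h] at h1
    exact (Ideal.IsPrime.ne_top inferInstance) (top_le_iff.1 h1)
  obtain ⟨hGor, hdim⟩ := GeomLink.main_local a₁ a₂ hinf' h12' h21' hne
  have e := (CIGor.locQuotRingEquiv J Q).trans (Ideal.quotEquivOfEq hJmap)
  refine ⟨Groth.Agent.Lib.Helper5.GorIso.isGorensteinLocalRing_of_ringEquiv e.symm, ?_⟩
  rw [← ringKrullDim_eq_of_ringEquiv e, IsLocalization.AtPrime.ringKrullDim_eq_height Q,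
    IsLocalization.AtPrime.ringKrullDim_eq_height q] at hdim
  exact_mod_cast hdim.symm

/-- **Global form**. -/
theorem isGorensteinRing_quotient_sup [hC : LocCoh.IsGorensteinRing C] (b₁ b₂ : Ideal C)
    [hCM₁ : LocCoh.IsCohenMacaulayRing (C ⧸ b₁)] [hCM₂ : LocCoh.IsCohenMacaulayRing (C ⧸ b₂)]
    (hinf : b₁ ⊓ b₂ = ⊥) (h12 : (Submodule.annihilator b₁ : Ideal C) = b₂)
    (h21 : (Submodule.annihilator b₂ : Ideal C) = b₁) :
    LocCoh.IsGorensteinRing (C ⧸ (b₁ ⊔ b₂)) :=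
  { isGorensteinLocalRing_localization := fun Q _ => (aux b₁ b₂ hinf h12 h21 _ rfl Q).1 }

end Groth.Agent.Lib.helper11.GeomLinkGlobal
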