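import Mathlib
import Groth.Agent.Lib.helper11.GeomLinkGlobal
import Groth.Agent.Lib.helper11.AlmostCIFinal
import Groth.Agent.Lib.Helper7.StdGrUnmixed
import Groth.Agent.Lib.Helper7.CMRegularQuot

/-!
# Geometric linkage: the intersection of two geometrically linked aCM schemes is aG (helper11)
-/

set_option autoImplicit false

namespace Groth.Agent.Lib.helper11.GeomLinkFinal

open IsLocalRing
open Groth.Agent.Lib.Helper21.DepthKit

universe u

/-- associated primes of a Cohen–Macaulay ring have height zero. -/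
theorem height_eq_zero_of_mem_associatedPrimes_of_isCM {C : Type u} [CommRing C]
    [hC : LocCoh.IsCohenMacaulayRing C] (P : Ideal C) (hP : P ∈ associatedPrimes C C) :
    P.height = 0 := by
  haveI : P.IsPrime := hP.isPrime
  haveI hCM := hC.isCohenMacaulayLocalRing_localization P
  have h0 := (depth_localization_eq_zero_iff (M := C) P).2 hP
  rw [depth_congr (Groth.Agent.Lib.Helper2.R0S1.locEquiv P)] at h0
  have h2 := hCM.supportDim_eq_depth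
  rw [Module.supportDim_self_eq_ringKrullDim, IsLocalization.AtPrime.ringKrullDim_eq_height P,
    h0] at h2
  exact_mod_cast h2

section Colon

variable {R : Type u} [CommRing R] [IsNoetherianRing R]

/-- `(I₁ ∩ I₂ : I₁) = I₂` when `R/I₂` is Cohen–Macaulay and no minimal prime of `I₁` is (contained
in) a minimal prime of `I₂`. -/
theorem colon_eq (I₁ I₂ : Ideal R) [LocCoh.IsCohenMacaulayRing (R ⧸ I₂)]
    (hunm : ∀ p ∈ I₂.minimalPrimes, ∀ p' ∈ I₁.minimalPrimes, p' ≤ p → p' = p)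
    (hdisj : Disjoint I₁.minimalPrimes I₂.minimalPrimes) :
    (I₁ ⊓ I₂).colon (I₁ : Set R) = I₂ := by
  apply le_antisymm
  · intro x hx
    by_contra hxI
    have hb0 : Ideal.Quotient.mk I₂ x ≠ 0 := by rwa [Ne, Ideal.Quotient.eq_zero_iff_mem]
    obtain ⟨P', hPass, hle⟩ :=
      exists_le_isAssociatedPrime_of_isNoetherianRing (R ⧸ I₂) (Ideal.Quotient.mk I₂ x) hb0
    haveI : P'.IsPrime := hPass.isPrime
    have hP'0 := height_eq_zero_of_mem_associatedPrimes_of_isCM P' hPass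
    have hP'min : P' ∈ minimalPrimes (R ⧸ I₂) := (Ideal.height_eq_zero_iff).1 hP'0
    have hPmin : P'.comap (Ideal.Quotient.mk I₂) ∈ I₂.minimalPrimes := by
      rw [Ideal.minimalPrimes_eq_comap]
      exact ⟨P', hP'min, rfl⟩
    have hI₁P : I₁ ≤ P'.comap (Ideal.Quotient.mk I₂) := by
      intro y hy
      rw [Ideal.mem_comap]
      apply hle
      rw [Submodule.mem_colon_singleton, Submodule.mem_bot]
      have h1 := (Submodule.mem_colon.mp hx) y hy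
      rw [smul_eq_mul, ← map_mul, Ideal.Quotient.eq_zero_iff_mem, mul_comm]
      exact h1.2
    haveI : (P'.comap (Ideal.Quotient.mk I₂)).IsPrime := hPmin.1.1
    obtain ⟨p', hp', hp'le⟩ := Ideal.exists_minimalPrimes_le hI₁P
    have heq := hunm _ hPmin p' hp' hp'le
    exact Set.disjoint_left.mp hdisj hp' (heq ▸ hPmin)
  · intro x hx
    rw [Submodule.mem_colon]
    intro y hy
    exact ⟨Ideal.mul_mem_left _ _ hy, Ideal.mul_mem_right _ _ hx⟩

end Colon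

section HeightOne

theorem exists_height_zero_prime (S : Type*) [CommRing S] [Nontrivial S] :
    ∃ Q : Ideal S, Q.IsPrime ∧ Q.height = 0 := by
  obtain ⟨m, hm⟩ := Ideal.exists_maximal S
  haveI := hm.isPrime
  obtain ⟨Q, hQ, -⟩ := Ideal.exists_minimalPrimes_le (I := ⊥) (J := m) bot_le
  haveI := hQ.1.1
  exact ⟨Q, hQ.1.1, Ideal.height_eq_zero_iff.2 hQ⟩

variable {C : Type u} [CommRing C]

theorem exists_prime_height_one [hC : LocCoh.IsGorensteinRing C] (b₁ b₂ : Ideal C)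
    [hCM₁ : LocCoh.IsCohenMacaulayRing (C ⧸ b₁)] [hCM₂ : LocCoh.IsCohenMacaulayRing (C ⧸ b₂)]
    (hinf : b₁ ⊓ b₂ = ⊥) (h12 : (Submodule.annihilator b₁ : Ideal C) = b₂)
    (h21 : (Submodule.annihilator b₂ : Ideal C) = b₁) (hne : b₁ ⊔ b₂ ≠ ⊤) :
    ∃ qC : Ideal C, qC.IsPrime ∧ b₁ ⊔ b₂ ≤ qC ∧ qC.height = 1 := by
  haveI : Nontrivial (C ⧸ (b₁ ⊔ b₂)) := Ideal.Quotient.nontrivial_iff.2 hne
  obtain ⟨Q, hQp, hQ0⟩ := exists_height_zero_prime (C ⧸ (b₁ ⊔ b₂))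
  obtain ⟨-, hQht⟩ := GeomLinkGlobal.aux b₁ b₂ hinf h12 h21 _ rfl Q
  rw [hQ0, zero_add] at hQht
  refine ⟨Q.comap (Ideal.Quotient.mk (b₁ ⊔ b₂)), Ideal.comap_isPrime _ _, ?_, hQht⟩
  intro x hx
  rw [Ideal.mem_comap, Ideal.Quotient.eq_zero_iff_mem.2 hx]
  exact Q.zero_mem

end HeightOne

section Main

open Groth.Agent.Lib.Helper7

variable (K : Type u) [Field K] (n c : ℕ)

theorem main (I₁ I₂ : Ideal (MvPolynomial (Fin (n + 1)) K))
    (hI₁ : I₁.IsHomogeneous (GrSyz.stdGr K (Fin (n + 1))))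
    (hI₂ : I₂.IsHomogeneous (GrSyz.stdGr K (Fin (n + 1))))
    [hCM₁ : LocCoh.IsCohenMacaulayRing (MvPolynomial (Fin (n + 1)) K ⧸ I₁)]
    [hCM₂ : LocCoh.IsCohenMacaulayRing (MvPolynomial (Fin (n + 1)) K ⧸ I₂)]
    (h₁ : I₁.height = c) (h₂ : I₂.height = c)
    (hdisj : Disjoint I₁.minimalPrimes I₂.minimalPrimes)
    [hG : LocCoh.IsGorensteinRing (MvPolynomial (Fin (n + 1)) K ⧸ (I₁ ⊓ I₂))] :
    (I₁ ⊔ I₂).height = c + 1 ∧
      LocCoh.IsGorensteinRing (MvPolynomial (Fin (n + 1)) K ⧸ (I₁ ⊔ I₂)) := by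
  classical
  have hht₁ : ∀ p ∈ I₁.minimalPrimes, p.height = c := fun p hp =>
    (StdGrUnmixed.height_eq_of_mem_minimalPrimes K (n + 1) hI₁ hp).trans h₁
  have hht₂ : ∀ p ∈ I₂.minimalPrimes, p.height = c := fun p hp =>
    (StdGrUnmixed.height_eq_of_mem_minimalPrimes K (n + 1) hI₂ hp).trans h₂
  have hnolt : ∀ p p' : Ideal (MvPolynomial (Fin (n + 1)) K), p.IsPrime → p'.IsPrime →
      p.height = c → p'.height = c → p' ≤ p → p' = p := by
    intro p p' hp hp' hpc hp'c hle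
    by_contra hne
    have hlt : p' < p := lt_of_le_of_ne hle hne
    have h3 := Ideal.height_add_one_le_of_lt_of_isPrime hlt
    rw [hpc, hp'c] at h3
    have h4 : c + 1 ≤ c := by exact_mod_cast h3
    omega
  have hunm₂₁ : ∀ p ∈ I₂.minimalPrimes, ∀ p' ∈ I₁.minimalPrimes, p' ≤ p → p' = p :=
    fun p hp p' hp' hle => hnolt p p' hp.1.1 hp'.1.1 (hht₂ p hp) (hht₁ p' hp') hle
  have hunm₁₂ : ∀ p ∈ I₁.minimalPrimes, ∀ p' ∈ I₂.minimalPrimes, p' ≤ p → p' = p :=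
    fun p hp p' hp' hle => hnolt p p' hp.1.1 hp'.1.1 (hht₁ p hp) (hht₂ p' hp') hle
  have hcol₁ : (I₁ ⊓ I₂).colon (I₁ : Set (MvPolynomial (Fin (n + 1)) K)) = I₂ :=
    colon_eq I₁ I₂ hunm₂₁ hdisj
  have hcol₂ : (I₁ ⊓ I₂).colon (I₂ : Set (MvPolynomial (Fin (n + 1)) K)) = I₁ := by
    have := colon_eq I₂ I₁ hunm₁₂ hdisj.symm
    rwa [inf_comm] at this
  set I := I₁ ⊓ I₂ with hI
  have hII₁ : I ≤ I₁ := inf_le_left
  have hII₂ : I ≤ I₂ := inf_le_right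
  set b₁ := I₁.map (Ideal.Quotient.mk I) with hb₁
  set b₂ := I₂.map (Ideal.Quotient.mk I) with hb₂
  have h12 : (Submodule.annihilator b₁ : Ideal (MvPolynomial (Fin (n + 1)) K ⧸ I)) = b₂ :=
    LinkCM.annihilator_map_mk I I₁ I₂ hII₂ hcol₁
  have h21 : (Submodule.annihilator b₂ : Ideal (MvPolynomial (Fin (n + 1)) K ⧸ I)) = b₁ :=
    LinkCM.annihilator_map_mk I I₂ I₁ hII₁ hcol₂
  have hinf : b₁ ⊓ b₂ = ⊥ := by
    rw [eq_bot_iff]
    rintro xbar ⟨hx₁, hx₂⟩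
    obtain ⟨x, rfl⟩ := Ideal.Quotient.mk_surjective xbar
    rw [SetLike.mem_coe, hb₁, Ideal.mem_quotient_iff_mem hII₁] at hx₁
    rw [SetLike.mem_coe, hb₂, Ideal.mem_quotient_iff_mem hII₂] at hx₂
    rw [Submodule.mem_bot, Ideal.Quotient.eq_zero_iff_mem]
    exact ⟨hx₁, hx₂⟩
  have e₁ : ((MvPolynomial (Fin (n + 1)) K ⧸ I) ⧸ b₁) ≃+* (MvPolynomial (Fin (n + 1)) K ⧸ I₁) :=
    (DoubleQuot.quotQuotEquivQuotSup I I₁).trans (Ideal.quotEquivOfEq (sup_eq_right.2 hII₁))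
  have e₂ : ((MvPolynomial (Fin (n + 1)) K ⧸ I) ⧸ b₂) ≃+* (MvPolynomial (Fin (n + 1)) K ⧸ I₂) :=
    (DoubleQuot.quotQuotEquivQuotSup I I₂).trans (Ideal.quotEquivOfEq (sup_eq_right.2 hII₂))
  haveI : LocCoh.IsCohenMacaulayRing ((MvPolynomial (Fin (n + 1)) K ⧸ I) ⧸ b₁) :=
    Groth.Agent.Lib.Helper21.CMKit.isCM_of_ringEquiv e₁.symm hCM₁
  haveI : LocCoh.IsCohenMacaulayRing ((MvPolynomial (Fin (n + 1)) K ⧸ I) ⧸ b₂) :=
    Groth.Agent.Lib.Helper21.CMKit.isCM_of_ringEquiv e₂.symm hCM₂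
  have hJmap : (I₁ ⊔ I₂).map (Ideal.Quotient.mk I) = b₁ ⊔ b₂ := Ideal.map_sup _ _ _
  have hIsup : I ≤ I₁ ⊔ I₂ := hII₁.trans le_sup_left
  have e₃ : ((MvPolynomial (Fin (n + 1)) K ⧸ I) ⧸ (b₁ ⊔ b₂)) ≃+*
      (MvPolynomial (Fin (n + 1)) K ⧸ (I₁ ⊔ I₂)) :=
    (Ideal.quotEquivOfEq hJmap.symm).trans
      ((DoubleQuot.quotQuotEquivQuotSup I (I₁ ⊔ I₂)).trans
        (Ideal.quotEquivOfEq (sup_eq_right.2 hIsup)))
  have key := GeomLinkGlobal.isGorensteinRing_quotient_sup b₁ b₂ hinf h12 h21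
  refine ⟨?_, Groth.Agent.Lib.Helper5.GorFibre.isGorensteinRing_of_ringEquiv e₃ key⟩
  apply le_antisymm
  · -- upper bound via a minimal prime of `C/(b₁ + b₂)`
    have hI₁ne : I₁ ≠ ⊤ := by
      rintro rfl
      rw [Ideal.height_top] at h₁
      exact ENat.top_ne_coe _ h₁
    have hI₂ne : I₂ ≠ ⊤ := by
      rintro rfl
      rw [Ideal.height_top] at h₂
      exact ENat.top_ne_coe _ h₂
    have hsupne : I₁ ⊔ I₂ ≠ ⊤ := by
      have hle := sup_le (StdGrUnmixed.le_irrel K (Fin (n + 1)) hI₁ hI₁ne)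
        (StdGrUnmixed.le_irrel K (Fin (n + 1)) hI₂ hI₂ne)
      intro h
      rw [h, top_le_iff] at hle
      exact (Groth.Agent.Lib.Helper21.GrSyzIrrel.irrel_isMaximal K (Fin (n + 1))).ne_top hle
    have hJne : b₁ ⊔ b₂ ≠ ⊤ := by
      rw [← hJmap]
      intro h
      apply hsupne
      have h1 := congrArg (Ideal.comap (Ideal.Quotient.mk I)) h
      rw [Ideal.comap_map_of_surjective _ Ideal.Quotient.mk_surjective,
        ← RingHom.ker_eq_comap_bot, Ideal.mk_ker, sup_eq_left.2 hIsup, Ideal.comap_top] at h1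
      exact h1
    obtain ⟨qC, hqCp, hJqC, hQht⟩ := exists_prime_height_one b₁ b₂ hinf h12 h21 hJne
    set q := qC.comap (Ideal.Quotient.mk I) with hq
    haveI hqp : q.IsPrime := Ideal.comap_isPrime _ _
    have hIq : I ≤ q := by
      intro x hx
      rw [hq, Ideal.mem_comap, Ideal.Quotient.eq_zero_iff_mem.2 hx]
      exact qC.zero_mem
    have hmapq : q.map (Ideal.Quotient.mk I) = qC :=
      Ideal.map_comap_of_surjective _ Ideal.Quotient.mk_surjective _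
    have hsupq : I₁ ⊔ I₂ ≤ q := by
      intro x hx
      rw [hq, Ideal.mem_comap]
      apply hJqC
      rw [← hJmap]
      exact Ideal.mem_map_of_mem _ hx
    obtain ⟨p₀, hp₀, hcov⟩ := CMRegQ.exists_minimalPrime_covBy I q hIq (by rw [hmapq]; exact hQht)
    have hqht := CMRegQ.height_eq_add_one_of_covBy K (n + 1) ⟨p₀, hp₀.1.1⟩ ⟨q, hqp⟩ hcov
    have hp₀c : p₀.height = c := by
      haveI := hp₀.1.1
      have h0 : I₁ ⊓ I₂ ≤ p₀ := hp₀.1.2
      rcases (Ideal.IsPrime.inf_le hp₀.1.1).1 h0 with h | h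
      · apply hht₁
        exact ⟨⟨hp₀.1.1, h⟩, fun r hr hrp => hp₀.2 ⟨hr.1, hII₁.trans hr.2⟩ hrp⟩
      · apply hht₂
        exact ⟨⟨hp₀.1.1, h⟩, fun r hr hrp => hp₀.2 ⟨hr.1, hII₂.trans hr.2⟩ hrp⟩
    calc (I₁ ⊔ I₂).height ≤ q.height := Ideal.height_mono hsupq
      _ = (c : ℕ∞) + 1 := by rw [hqht]; show p₀.height + 1 = _; rw [hp₀c]
  · rw [Ideal.height_eq_inf_minimalPrimes]
    refine le_iInf₂ fun q hq => ?_
    haveI := hq.1.1
    obtain ⟨p₁, hp₁, hp₁q⟩ := Ideal.exists_minimalPrimes_le (le_sup_left.trans hq.1.2)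
    obtain ⟨p₂, hp₂, hp₂q⟩ := Ideal.exists_minimalPrimes_le (le_sup_right.trans hq.1.2)
    haveI := hp₁.1.1
    haveI := hp₂.1.1
    by_cases h : p₁ = q
    · exfalso
      have heq := hunm₁₂ p₁ hp₁ p₂ hp₂ (h ▸ hp₂q)
      exact Set.disjoint_left.mp hdisj hp₁ (heq ▸ hp₂)
    · have hlt : p₁ < q := lt_of_le_of_ne hp₁q h
      have h3 := Ideal.height_add_one_le_of_lt_of_isPrime hlt
      rwa [hht₁ p₁ hp₁] at h3

end Main

end Groth.Agent.Lib.helper11.GeomLinkFinal
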