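import Mathlib
import Groth.Agent.Lib.Helper21.TorShift

/-!
# Graded freeness criterion over a polynomial ring (S14423)

`M` finitely generated ℕ-graded over `S = k[x_0..x_n]`, `Tor_1^S(M, S/S_+) = 0` ⇒ `M` has a
homogeneous basis.
-/

set_option autoImplicit false
universe u v w
open CategoryTheory

namespace Groth.Agent.Lib.helper11.GradedFree

open MvPolynomial

section Graded

variable {k : Type u} [CommRing k] {σ : Type v}
variable {M : Type w} [AddCommGroup M] [Module (MvPolynomial σ k) M]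
  (ℳ : ℕ → AddSubgroup M)
  [SetLike.GradedSMul (MvPolynomial.homogeneousSubmodule σ k) ℳ]
  [DirectSum.Decomposition ℳ]

/-- projection to the degree `d` piece. -/
noncomputable def proj (d : ℕ) : M →+ M :=
  AddMonoidHom.mk' (fun x => ((DirectSum.decompose ℳ x) d : M)) (fun x y => by
    rw [DirectSum.decompose_add, DirectSum.add_apply, AddSubgroup.coe_add])

lemma proj_apply (d : ℕ) (x : M) : proj ℳ d x = ((DirectSum.decompose ℳ x) d : M) := rfl

lemma proj_mem (d : ℕ) (x : M) : proj ℳ d x ∈ ℳ d := SetLike.coe_mem _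

lemma proj_of_mem_same {d : ℕ} {x : M} (hx : x ∈ ℳ d) : proj ℳ d x = x :=
  DirectSum.decompose_of_mem_same ℳ hx

lemma proj_of_mem_ne {d e : ℕ} {x : M} (hx : x ∈ ℳ e) (h : e ≠ d) : proj ℳ d x = 0 :=
  DirectSum.decompose_of_mem_ne ℳ hx h

open Classical in
lemma sum_proj (x : M) :
    ∑ d ∈ (DirectSum.decompose ℳ x).support, proj ℳ d x = x :=
  DirectSum.sum_support_decompose ℳ x

lemma proj_smul_mem (N : Submodule (MvPolynomial σ k) M) (d e2 : ℕ) (a : MvPolynomial σ k) (x : M)
    (hx : x ∈ ℳ e2)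
    (h : ∀ e1, e1 + e2 = d → (homogeneousComponent e1 a) • x ∈ N) : proj ℳ d (a • x) ∈ N := by
  have ha : a • x = ∑ e1 ∈ Finset.range (a.totalDegree + 1), homogeneousComponent e1 a • x := by
    rw [← Finset.sum_smul, sum_homogeneousComponent]
  rw [ha, map_sum]
  refine Submodule.sum_mem _ fun e1 _ => ?_
  have hmem : homogeneousComponent e1 a • x ∈ ℳ (e1 + e2) :=
    SetLike.GradedSMul.smul_mem (homogeneousComponent_mem e1 a) hx
  by_cases he : e1 + e2 = d
  · rw [proj_of_mem_same ℳ (he ▸ hmem)]; exact h e1 he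
  · rw [proj_of_mem_ne ℳ hmem he]; exact N.zero_mem

/-- graded Nakayama (generation form). -/
theorem span_eq_top_of_sup {ι : Type*} (m : ι → M) (deg : ι → ℕ) (hm : ∀ i, m i ∈ ℳ (deg i))
    (hsup : Submodule.span (MvPolynomial σ k) (Set.range m) ⊔
      (RingHom.ker (MvPolynomial.constantCoeff : MvPolynomial σ k →+* k)) •
        (⊤ : Submodule (MvPolynomial σ k) M) = ⊤) :
    Submodule.span (MvPolynomial σ k) (Set.range m) = ⊤ := by
  classical
  set N := Submodule.span (MvPolynomial σ k) (Set.range m) with hN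
  have hA : ∀ d, ∀ y ∈ N, proj ℳ d y ∈ N := by
    intro d y hy
    rw [hN, Finsupp.mem_span_range_iff_exists_finsupp] at hy
    obtain ⟨c, rfl⟩ := hy
    rw [Finsupp.sum, map_sum]
    refine Submodule.sum_mem _ fun i _ => ?_
    exact proj_smul_mem ℳ N d (deg i) (c i) (m i) (hm i)
      (fun e1 _ => N.smul_mem _ (Submodule.subset_span ⟨i, rfl⟩))
  have hB : ∀ d, (∀ e < d, ∀ x ∈ ℳ e, x ∈ N) → ∀ z ∈
      (RingHom.ker (MvPolynomial.constantCoeff : MvPolynomial σ k →+* k)) •
        (⊤ : Submodule (MvPolynomial σ k) M), proj ℳ d z ∈ N := by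
    intro d IH z hz
    refine Submodule.smul_induction_on hz ?_ ?_
    · intro c hc x _
      have hx : c • x = ∑ e2 ∈ (DirectSum.decompose ℳ x).support, c • proj ℳ e2 x := by
        rw [← Finset.smul_sum, sum_proj]
      rw [hx, map_sum]
      refine Submodule.sum_mem _ fun e2 _ => ?_
      refine proj_smul_mem ℳ N d e2 c _ (proj_mem ℳ e2 x) ?_
      intro e1 he
      rcases Nat.eq_zero_or_pos e1 with h0 | hpos
      · subst h0
        rw [homogeneousComponent_zero]
        have : coeff 0 c = 0 := by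
          have := (RingHom.mem_ker).1 hc
          rwa [constantCoeff_eq] at this
        rw [this, map_zero, zero_smul]
        exact N.zero_mem
      · exact N.smul_mem _ (IH e2 (by omega) _ (proj_mem ℳ e2 x))
    · intro x y hx hy
      rw [map_add]
      exact N.add_mem hx hy
  have hC : ∀ d, ∀ x ∈ ℳ d, x ∈ N := by
    intro d
    induction d using Nat.strong_induction_on with
    | _ d IH =>
      intro x hx
      have hxtop : x ∈ N ⊔ (RingHom.ker (MvPolynomial.constantCoeff : MvPolynomial σ k →+* k)) •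
          (⊤ : Submodule (MvPolynomial σ k) M) := by rw [hsup]; trivial
      obtain ⟨y, hy, z, hz, rfl⟩ := Submodule.mem_sup.1 hxtop
      rw [← proj_of_mem_same ℳ hx, map_add]
      exact N.add_mem (hA d y hy) (hB d IH z hz)
  rw [eq_top_iff]
  intro x _
  rw [← sum_proj ℳ x]
  exact Submodule.sum_mem _ fun e _ => hC e _ (proj_mem ℳ e x)

end Graded

section LinIndep

open TensorProduct

variable {R : Type u} [CommRing R] [IsNoetherianRing R] [IsDomain R] (I : Ideal R) (hI : I ≠ ⊤)
  {M : Type v} [AddCommGroup M] [Module R M] {ι : Type w} [Fintype ι] (m : ι → M)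

include hI in
theorem linearIndependent_of_inj (hspan : Submodule.span R (Set.range m) = ⊤)
    (hinj : Function.Injective (LinearMap.lTensor M I.subtype))
    (h1 : ∀ a : ι → R, ∑ i, a i • m i = 0 → ∀ i, a i ∈ I) :
    LinearIndependent R m := by
  classical
  have key : ∀ t : ℕ, ∀ a : ι → R, ∑ i, a i • m i = 0 → ∀ i, a i ∈ I ^ t := by
    intro t
    induction t with
    | zero => intro a _ i; simp
    | succ t IH =>
      intro a ha i
      let n : ι → I := fun i => ⟨a i, h1 a ha i⟩
      have h0 : ∑ i, m i ⊗ₜ[R] n i = (0 : M ⊗[R] I) := by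
        apply hinj
        rw [map_zero, map_sum]
        apply (TensorProduct.rid R M).injective
        rw [map_zero, map_sum]
        simpa [n] using ha
      obtain ⟨k', c, y, hcy, hcm⟩ := TensorProduct.vanishesTrivially_of_sum_tmul_eq_zero R hspan h0
      have hc : ∀ j i, c i j ∈ I ^ t := fun j i => IH (fun i => c i j) (hcm j) i
      have hai : a i = ∑ j, c i j * (y j : R) := by
        have := congrArg (Subtype.val) (hcy i)
        simpa [n] using this
      rw [hai, pow_succ]
      exact Ideal.sum_mem _ fun j _ => Ideal.mul_mem_mul (hc j i) (y j).2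
  rw [Fintype.linearIndependent_iff]
  intro a ha i
  have : a i ∈ ⨅ t, I ^ t := by
    rw [Ideal.mem_iInf]
    exact fun t => key t a ha i
  rw [Ideal.iInf_pow_eq_bot_of_isDomain I hI] at this
  exact this

end LinIndep


section Main

open Groth.Agent.Lib.Helper21.TorShift

variable (k : Type u) [Field k] (σ : Type) [Finite σ]
  (M : Type u) [AddCommGroup M] [Module (MvPolynomial σ k) M]
  [Module.Finite (MvPolynomial σ k) M]
  (ℳ : ℕ → AddSubgroup M)
  [SetLike.GradedSMul (MvPolynomial.homogeneousSubmodule σ k) ℳ]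
  [DirectSum.Decomposition ℳ]

theorem main
    (h : Limits.IsZero (((Tor (ModuleCat.{u} (MvPolynomial σ k)) 1).obj
      (ModuleCat.of (MvPolynomial σ k) M)).obj
      (ModuleCat.of (MvPolynomial σ k)
        (MvPolynomial σ k ⧸
          RingHom.ker (MvPolynomial.constantCoeff : MvPolynomial σ k →+* k))))) :
    ∃ (ι : Type u) (b : Module.Basis ι (MvPolynomial σ k) M),
      ∀ i, SetLike.IsHomogeneousElem ℳ (b i) := by
  classical
  set S := MvPolynomial σ k with hS
  set 𝔪 : Ideal S := RingHom.ker (MvPolynomial.constantCoeff : MvPolynomial σ k →+* k) with h𝔪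
  haveI hmax : 𝔪.IsMaximal := RingHom.ker_isMaximal_of_surjective _
    (fun z => ⟨MvPolynomial.C z, MvPolynomial.constantCoeff_C _ z⟩)
  letI : Field (S ⧸ 𝔪) := Ideal.Quotient.field 𝔪
  -- injectivity from Tor
  have hinj : Function.Injective (LinearMap.lTensor M 𝔪.subtype) := by
    have := (subsingleton_tor_one_iff (R := S) M (𝔪.subtype) (Submodule.mkQ 𝔪)
      (Submodule.injective_subtype 𝔪)
      (by
        rw [LinearMap.exact_iff, Submodule.ker_mkQ, Submodule.range_subtype])
      (Submodule.mkQ_surjective 𝔪)).1 (ModuleCat.isZero_iff_subsingleton.1 h)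
    exact this
  set V := M ⧸ (𝔪 • (⊤ : Submodule S M)) with hV
  set π : M →ₗ[S] V := Submodule.mkQ _ with hπ
  haveI : Module.Finite (S ⧸ 𝔪) V := Module.Finite.of_restrictScalars_finite S (S ⧸ 𝔪) V
  haveI : IsNoetherian (S ⧸ 𝔪) V := isNoetherian_of_isNoetherianRing_of_finite (S ⧸ 𝔪) V
  set H : Set M := {x | SetLike.IsHomogeneousElem ℳ x} with hH
  have hspanH : Submodule.span (S ⧸ 𝔪) (π '' H) = ⊤ := by
    rw [eq_top_iff]
    rintro v -
    obtain ⟨x, rfl⟩ := Submodule.mkQ_surjective _ v
    rw [← sum_proj ℳ x, map_sum]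
    refine Submodule.sum_mem _ fun d _ => Submodule.subset_span ⟨_, ⟨d, proj_mem ℳ d x⟩, rfl⟩
  obtain ⟨b, hbH, hbspan, hbli⟩ := exists_linearIndependent (S ⧸ 𝔪) (π '' H)
  rw [hspanH] at hbspan
  have hbfin : b.Finite := hbli.set_finite_of_isNoetherian
  haveI : Fintype ↥b := hbfin.fintype
  have hex : ∀ i : ↥b, ∃ x, x ∈ H ∧ π x = i.1 := fun i => hbH i.2
  choose m hmH hmπ using hex
  choose deg hdeg using hmH
  -- generation
  have hsup : Submodule.span S (Set.range m) ⊔ 𝔪 • (⊤ : Submodule S M) = ⊤ := by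
    rw [sup_comm, ← Submodule.map_mkQ_eq_top, Submodule.map_span]
    have himg : (Submodule.mkQ (𝔪 • (⊤ : Submodule S M))) '' Set.range m = b := by
      ext v
      constructor
      · rintro ⟨_, ⟨i, rfl⟩, rfl⟩
        rw [← hπ, hmπ i]; exact i.2
      · intro hv
        exact ⟨m ⟨v, hv⟩, ⟨_, rfl⟩, hmπ ⟨v, hv⟩⟩
    rw [himg, ← Submodule.restrictScalars_span S (S ⧸ 𝔪) Ideal.Quotient.mk_surjective, hbspan]
    rfl
  have hspan : Submodule.span S (Set.range m) = ⊤ := span_eq_top_of_sup ℳ m deg hdeg hsup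
  -- relations have coefficients in 𝔪
  have h1 : ∀ a : ↥b → S, ∑ i, a i • m i = 0 → ∀ i, a i ∈ 𝔪 := by
    intro a ha i
    have h2 : ∑ i : ↥b, (Ideal.Quotient.mk 𝔪 (a i)) • (i : V) = 0 := by
      have := congrArg π ha
      rw [map_sum, map_zero] at this
      rw [← this]
      refine Finset.sum_congr rfl fun i _ => ?_
      rw [map_smul, hmπ i]
      rfl
    have := Fintype.linearIndependent_iff.1 hbli _ h2 i
    exact Ideal.Quotient.eq_zero_iff_mem.1 this
  have hli : LinearIndependent S m :=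
    linearIndependent_of_inj 𝔪 hmax.ne_top m hspan hinj h1
  refine ⟨↥b, Module.Basis.mk hli hspan.ge, fun i => ?_⟩
  rw [Module.Basis.mk_apply]
  exact ⟨deg i, hdeg i⟩

end Main

end Groth.Agent.Lib.helper11.GradedFree
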