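import Mathlib

/-!
# Graded projective ⇒ graded free (S19462)

`R` a ℤ-graded ring with `R_{<0} = 0`, `R_0 = k` a field; `M` a f.g. ℤ-graded projective module
⇒ `M` has a homogeneous basis.
-/

set_option autoImplicit false
universe u v w

namespace Groth.Agent.Lib.helper11.GradedFreeZ

section Proj

variable {R : Type*} [CommRing R] {σ : Type*} [SetLike σ R] [AddSubmonoidClass σ R]
  (𝒜 : ℤ → σ) [GradedRing 𝒜]
  {M : Type*} [AddCommGroup M] [Module R M] {τ : Type*} [SetLike τ M] [AddSubmonoidClass τ M]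
  (ℳ : ℤ → τ) [DirectSum.Decomposition ℳ]

/-- projection to the degree `d` piece. -/
noncomputable def proj (d : ℤ) : M →+ M :=
  AddMonoidHom.mk' (fun x => ((DirectSum.decompose ℳ x) d : M)) (fun x y => by
    rw [DirectSum.decompose_add, DirectSum.add_apply]; rfl)

lemma proj_apply (d : ℤ) (x : M) : proj ℳ d x = ((DirectSum.decompose ℳ x) d : M) := rfl

lemma proj_mem (d : ℤ) (x : M) : proj ℳ d x ∈ ℳ d := SetLike.coe_mem _

lemma proj_of_mem_same {d : ℤ} {x : M} (hx : x ∈ ℳ d) : proj ℳ d x = x :=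
  DirectSum.decompose_of_mem_same ℳ hx

lemma proj_of_mem_ne {d e : ℤ} {x : M} (hx : x ∈ ℳ e) (h : e ≠ d) : proj ℳ d x = 0 :=
  DirectSum.decompose_of_mem_ne ℳ hx h

open Classical in
lemma sum_proj (x : M) :
    ∑ d ∈ (DirectSum.decompose ℳ x).support, proj ℳ d x = x :=
  DirectSum.sum_support_decompose ℳ x

open Classical in
lemma proj_eq_zero_of_notMem_support (x : M) (d : ℤ)
    (h : d ∉ (DirectSum.decompose ℳ x).support) : proj ℳ d x = 0 := by
  rw [DFinsupp.notMem_support_iff] at h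
  rw [proj_apply, h]; rfl

lemma eq_zero_of_forall_proj (x : M) (h : ∀ d, proj ℳ d x = 0) : x = 0 := by
  classical
  rw [← sum_proj ℳ x]
  exact Finset.sum_eq_zero fun d _ => h d

variable [SetLike.GradedSMul 𝒜 ℳ]

lemma proj_smul_mem (N : AddSubmonoid M) (d : ℤ) (a : R) (x : M)
    (h : ∀ e1 e2, e1 + e2 = d → (proj 𝒜 e1 a) • (proj ℳ e2 x) ∈ N) : proj ℳ d (a • x) ∈ N := by
  classical
  have ha : a • x = ∑ e1 ∈ (DirectSum.decompose 𝒜 a).support,
      ∑ e2 ∈ (DirectSum.decompose ℳ x).support, proj 𝒜 e1 a • proj ℳ e2 x := by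
    conv_lhs => rw [← sum_proj 𝒜 a, ← sum_proj ℳ x]
    rw [Finset.sum_smul]
    refine Finset.sum_congr rfl fun e1 _ => ?_
    rw [Finset.smul_sum]
  rw [ha, map_sum]
  refine AddSubmonoid.sum_mem _ fun e1 _ => ?_
  rw [map_sum]
  refine AddSubmonoid.sum_mem _ fun e2 _ => ?_
  have hmem : proj 𝒜 e1 a • proj ℳ e2 x ∈ ℳ (e1 + e2) :=
    SetLike.GradedSMul.smul_mem (proj_mem 𝒜 e1 a) (proj_mem ℳ e2 x)
  by_cases he : e1 + e2 = d
  · rw [proj_of_mem_same ℳ (he ▸ hmem)]; exact h e1 e2 he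
  · rw [proj_of_mem_ne ℳ hmem he]; exact N.zero_mem

lemma proj_smul_eq_zero (d : ℤ) (a : R) (x : M)
    (h : ∀ e1 e2, e1 + e2 = d → (proj 𝒜 e1 a) • (proj ℳ e2 x) = 0) : proj ℳ d (a • x) = 0 := by
  have := proj_smul_mem 𝒜 ℳ ⊥ d a x (fun e1 e2 he => by
    rw [AddSubmonoid.mem_bot]; exact h e1 e2 he)
  rwa [AddSubmonoid.mem_bot] at this

end Proj

section Filtration

variable {R : Type*} [CommRing R] {σ : Type*} [SetLike σ R] [AddSubmonoidClass σ R]
  (𝒜 : ℤ → σ) [GradedRing 𝒜] (hneg : ∀ i : ℤ, i < 0 → ∀ x ∈ 𝒜 i, x = 0)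

include hneg in
lemma proj_neg (a : R) {e : ℤ} (he : e < 0) : proj 𝒜 e a = 0 :=
  hneg e he _ (proj_mem 𝒜 e a)

/-- the ideal `R_{≥ t}`. -/
def Fil (t : ℤ) : Ideal R where
  carrier := {x | ∀ j < t, proj 𝒜 j x = 0}
  add_mem' := fun {x y} hx hy j hj => by rw [map_add, hx j hj, hy j hj, add_zero]
  zero_mem' := fun j _ => map_zero _
  smul_mem' := fun r x hx j hj => by
    refine proj_smul_eq_zero 𝒜 𝒜 j r x fun e1 e2 he => ?_
    rcases lt_or_ge e1 0 with h1 | h1
    · rw [proj_neg 𝒜 hneg r h1, zero_smul]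
    · rw [hx e2 (by omega), smul_zero]

lemma mem_Fil {t : ℤ} {x : R} : x ∈ Fil 𝒜 hneg t ↔ ∀ j < t, proj 𝒜 j x = 0 := Iff.rfl

lemma Fil_zero : Fil 𝒜 hneg 0 = ⊤ := by
  rw [eq_top_iff]
  intro x _ j hj
  exact proj_neg 𝒜 hneg x hj

lemma Fil_mul (s t : ℤ) : Fil 𝒜 hneg s * Fil 𝒜 hneg t ≤ Fil 𝒜 hneg (s + t) := by
  rw [Ideal.mul_le]
  intro x hx y hy j hj
  refine proj_smul_eq_zero 𝒜 𝒜 j x y fun e1 e2 he => ?_
  rcases lt_or_ge e1 s with h1 | h1
  · rw [hx e1 h1, zero_smul]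
  · rw [hy e2 (by omega), smul_zero]

lemma pow_le_Fil (n : ℕ) : (Fil 𝒜 hneg 1) ^ n ≤ Fil 𝒜 hneg (n : ℤ) := by
  induction n with
  | zero => rw [pow_zero, Nat.cast_zero, Fil_zero]; exact le_of_eq Ideal.one_eq_top
  | succ n IH =>
    rw [pow_succ, Nat.cast_succ]
    exact (Ideal.mul_mono_left IH).trans (Fil_mul 𝒜 hneg _ _)

lemma iInf_pow_eq_bot : ⨅ n : ℕ, (Fil 𝒜 hneg 1) ^ n = ⊥ := by
  rw [eq_bot_iff]
  intro x hx
  rw [Ideal.mem_iInf] at hx
  rw [Ideal.mem_bot]
  refine eq_zero_of_forall_proj 𝒜 x fun d => ?_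
  rcases lt_or_ge d 0 with h | h
  · exact proj_neg 𝒜 hneg x h
  · have := pow_le_Fil 𝒜 hneg (d.toNat + 1) (hx _)
    exact this d (by push_cast; omega)

variable {k : Type*} [Field k] [Algebra k R]
  (hk : ∀ c : k, algebraMap k R c ∈ 𝒜 0) (h0 : ∀ x ∈ 𝒜 0, ∃ c : k, algebraMap k R c = x)

include h0 in
lemma isMaximal [Nontrivial R] : (Fil 𝒜 hneg 1).IsMaximal := by
  rw [Ideal.isMaximal_iff]
  constructor
  · intro h1
    have := h1 0 (by norm_num)
    rw [proj_of_mem_same 𝒜 (SetLike.GradedOne.one_mem)] at this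
    exact one_ne_zero this
  · intro J x hJ hx hxJ
    have hx0 : proj 𝒜 0 x ≠ 0 := by
      intro h
      apply hx
      intro j hj
      rcases lt_or_eq_of_le (show j ≤ 0 by omega) with h' | h'
      · exact proj_neg 𝒜 hneg x h'
      · rw [h']; exact h
    obtain ⟨c, hc⟩ := h0 _ (proj_mem 𝒜 0 x)
    have hc0 : c ≠ 0 := by
      rintro rfl
      rw [map_zero] at hc
      exact hx0 hc.symm
    have hmem : x - proj 𝒜 0 x ∈ Fil 𝒜 hneg 1 := by
      intro j hj
      rcases lt_or_eq_of_le (show j ≤ 0 by omega) with h' | h'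
      · exact proj_neg 𝒜 hneg _ h'
      · rw [h', map_sub, proj_of_mem_same 𝒜 (proj_mem 𝒜 0 x), sub_self]
    have h2 : proj 𝒜 0 x ∈ J := by
      have := J.sub_mem hxJ (hJ hmem)
      rwa [sub_sub_cancel] at this
    have h3 : algebraMap k R c⁻¹ * proj 𝒜 0 x ∈ J := J.mul_mem_left _ h2
    rwa [← hc, ← map_mul, inv_mul_cancel₀ hc0, map_one] at h3

end Filtration

section LinIndep

open TensorProduct

variable {R : Type u} [CommRing R] (I : Ideal R) (hI : ⨅ t : ℕ, I ^ t = ⊥)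
  {M : Type v} [AddCommGroup M] [Module R M] {ι : Type w} [Fintype ι] (m : ι → M)

include hI in
theorem linearIndependent_of_inj (hspan : Submodule.span R (Set.range m) = ⊤)
    (hinj : Function.Injective (LinearMap.lTensor M I.subtype))
    (h1 : ∀ a : ι → R, ∑ i, a i • m i = 0 → ∀ i, a i ∈ I) :
    LinearIndependent R m := by
  classical
  have key : ∀ t : ℕ, ∀ a : ι → R, ∑ i, a i • m i = 0 → ∀ i, a i ∈ I ^ t := by
    intro t
    induction t with
    | zero => intro a _ i; simp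
    | succ t IH =>
      intro a ha i
      let n : ι → I := fun i => ⟨a i, h1 a ha i⟩
      have h0 : ∑ i, m i ⊗ₜ[R] n i = (0 : M ⊗[R] I) := by
        apply hinj
        rw [map_zero, map_sum]
        apply (TensorProduct.rid R M).injective
        rw [map_zero, map_sum]
        simpa [n] using ha
      obtain ⟨k', c, y, hcy, hcm⟩ := TensorProduct.vanishesTrivially_of_sum_tmul_eq_zero R hspan h0
      have hc : ∀ j i, c i j ∈ I ^ t := fun j i => IH (fun i => c i j) (hcm j) i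
      have hai : a i = ∑ j, c i j * (y j : R) := by
        have := congrArg (Subtype.val) (hcy i)
        simpa [n] using this
      rw [hai, pow_succ]
      exact Ideal.sum_mem _ fun j _ => Ideal.mul_mem_mul (hc j i) (y j).2
  rw [Fintype.linearIndependent_iff]
  intro a ha i
  have : a i ∈ ⨅ t, I ^ t := by
    rw [Ideal.mem_iInf]
    exact fun t => key t a ha i
  rw [hI] at this
  exact this

end LinIndep


section Gen

variable {R : Type*} [CommRing R] {σ : Type*} [SetLike σ R] [AddSubmonoidClass σ R]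
  (𝒜 : ℤ → σ) [GradedRing 𝒜] (hneg : ∀ i : ℤ, i < 0 → ∀ x ∈ 𝒜 i, x = 0)
  {M : Type*} [AddCommGroup M] [Module R M] {τ : Type*} [SetLike τ M] [AddSubmonoidClass τ M]
  (ℳ : ℤ → τ) [DirectSum.Decomposition ℳ] [SetLike.GradedSMul 𝒜 ℳ]

include hneg in
/-- a finitely generated graded module over a non-negatively graded ring is bounded below. -/
lemma exists_bound [Module.Finite R M] : ∃ d0 : ℤ, ∀ e < d0, ∀ x ∈ ℳ e, x = 0 := by
  classical
  obtain ⟨G, hG⟩ := (Module.Finite.fg_top : (⊤ : Submodule R M).FG)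
  obtain ⟨d0, hd0⟩ : ∃ d0 : ℤ, ∀ j ∈ (G.biUnion fun g => (DirectSum.decompose ℳ g).support),
      d0 ≤ j := by
    obtain ⟨B, hB⟩ := Finset.exists_le
      ((G.biUnion fun g => (DirectSum.decompose ℳ g).support).image Neg.neg)
    refine ⟨-B, fun j hj => ?_⟩
    have := hB (-j) (Finset.mem_image.2 ⟨j, hj, rfl⟩)
    omega
  refine ⟨d0, fun e he x hx => ?_⟩
  have hxG : x ∈ Submodule.span R (G : Set M) := by rw [hG]; trivial
  rw [← proj_of_mem_same ℳ hx]
  have key : ∀ y ∈ Submodule.span R (G : Set M), ∀ e < d0, proj ℳ e y = 0 := by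
    intro y hy
    refine Submodule.span_induction (p := fun y _ => ∀ e < d0, proj ℳ e y = 0) ?_ ?_ ?_ ?_ hy
    · intro g hg e he
      by_cases hge : e ∈ (DirectSum.decompose ℳ g).support
      · have := hd0 e (Finset.mem_biUnion.2 ⟨g, hg, hge⟩)
        omega
      · exact proj_eq_zero_of_notMem_support ℳ g e hge
    · intro e _; exact map_zero _
    · intro y z _ _ hy hz e he
      rw [map_add, hy e he, hz e he, add_zero]
    · intro a y _ hy e he
      refine proj_smul_eq_zero 𝒜 ℳ e a y fun e1 e2 h12 => ?_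
      rcases lt_or_ge e1 0 with h1 | h1
      · rw [proj_neg 𝒜 hneg a h1, zero_smul]
      · rw [hy e2 (by omega), smul_zero]
  exact key x hxG e he

include hneg in
/-- graded Nakayama (generation form), ℤ-graded, bounded below. -/
theorem span_eq_top_of_sup [Module.Finite R M] {ι : Type*} (m : ι → M) (deg : ι → ℤ)
    (hm : ∀ i, m i ∈ ℳ (deg i))
    (hsup : Submodule.span R (Set.range m) ⊔ (Fil 𝒜 hneg 1) • (⊤ : Submodule R M) = ⊤) :
    Submodule.span R (Set.range m) = ⊤ := by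
  classical
  set N := Submodule.span R (Set.range m) with hN
  obtain ⟨d0, hd0⟩ := exists_bound 𝒜 hneg ℳ
  have hA : ∀ d, ∀ y ∈ N, proj ℳ d y ∈ N := by
    intro d y hy
    rw [hN, Finsupp.mem_span_range_iff_exists_finsupp] at hy
    obtain ⟨c, rfl⟩ := hy
    rw [Finsupp.sum, map_sum]
    refine Submodule.sum_mem _ fun i _ => ?_
    refine proj_smul_mem 𝒜 ℳ N.toAddSubmonoid d (c i) (m i) fun e1 e2 _ => ?_
    refine N.smul_mem _ ?_
    by_cases h : deg i = e2
    · rw [proj_of_mem_same ℳ (h ▸ hm i)]; exact Submodule.subset_span ⟨i, rfl⟩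
    · rw [proj_of_mem_ne ℳ (hm i) h]; exact N.zero_mem
  have hB : ∀ d, (∀ e < d, ∀ x ∈ ℳ e, x ∈ N) → ∀ z ∈
      (Fil 𝒜 hneg 1) • (⊤ : Submodule R M), proj ℳ d z ∈ N := by
    intro d IH z hz
    refine Submodule.smul_induction_on hz ?_ ?_
    · intro c hc x _
      refine proj_smul_mem 𝒜 ℳ N.toAddSubmonoid d c x fun e1 e2 he => ?_
      rcases lt_or_ge e1 1 with h1 | h1
      · rw [hc e1 h1, zero_smul]; exact N.zero_mem
      · exact N.smul_mem _ (IH e2 (by omega) _ (proj_mem ℳ e2 x))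
    · intro x y hx hy
      rw [map_add]
      exact N.add_mem hx hy
  have hC : ∀ n : ℕ, ∀ e : ℤ, e < d0 + n → ∀ x ∈ ℳ e, x ∈ N := by
    intro n
    induction n with
    | zero =>
      intro e he x hx
      rw [hd0 e (by simpa using he) x hx]; exact N.zero_mem
    | succ n IH =>
      intro e he x hx
      have hxtop : x ∈ N ⊔ (Fil 𝒜 hneg 1) • (⊤ : Submodule R M) := by rw [hsup]; trivial
      obtain ⟨y, hy, z, hz, rfl⟩ := Submodule.mem_sup.1 hxtop
      rw [← proj_of_mem_same ℳ hx, map_add]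
      refine N.add_mem (hA e y hy) (hB e (fun e' he' => IH e' ?_) z hz)
      push_cast at he; omega
  rw [eq_top_iff]
  intro x _
  rw [← sum_proj ℳ x]
  refine Submodule.sum_mem _ fun e _ => hC (e - d0 + 1).toNat e ?_ _ (proj_mem ℳ e x)
  have := Int.self_le_toNat (e - d0 + 1)
  omega

end Gen

section Main

variable {k : Type u} [Field k] {R : Type u} [CommRing R] [Algebra k R]
    {σ : Type u} [SetLike σ R] [AddSubmonoidClass σ R] (𝒜 : ℤ → σ) [GradedRing 𝒜]
    (hneg : ∀ i : ℤ, i < 0 → ∀ x ∈ 𝒜 i, x = 0)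
    (h0 : ∀ x ∈ 𝒜 0, ∃ c : k, algebraMap k R c = x)
    {M : Type u} [AddCommGroup M] [Module R M] [Module.Finite R M]
    {τ : Type u} [SetLike τ M] [AddSubmonoidClass τ M] (ℳ : ℤ → τ) [DirectSum.Decomposition ℳ]
    [SetLike.GradedSMul 𝒜 ℳ]

include hneg h0 in
theorem main [Module.Projective R M] :
    ∃ (ι : Type u) (b : Module.Basis ι R M), ∀ i : ι, SetLike.IsHomogeneousElem ℳ (b i) := by
  classical
  rcases subsingleton_or_nontrivial R with hR | hR
  · haveI : Subsingleton M := Module.subsingleton R M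
    exact ⟨PEmpty, Module.Basis.empty M, fun i => i.elim⟩
  set 𝔪 : Ideal R := Fil 𝒜 hneg 1 with h𝔪
  haveI hmax : 𝔪.IsMaximal := isMaximal 𝒜 hneg h0
  letI : Field (R ⧸ 𝔪) := Ideal.Quotient.field 𝔪
  have hinj : Function.Injective (LinearMap.lTensor M 𝔪.subtype) :=
    Module.Flat.lTensor_preserves_injective_linearMap (M := M) 𝔪.subtype
      (Submodule.injective_subtype 𝔪)
  set V := M ⧸ (𝔪 • (⊤ : Submodule R M)) with hV
  set π : M →ₗ[R] V := Submodule.mkQ _ with hπ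
  haveI : Module.Finite (R ⧸ 𝔪) V := Module.Finite.of_restrictScalars_finite R (R ⧸ 𝔪) V
  haveI : IsNoetherian (R ⧸ 𝔪) V := isNoetherian_of_isNoetherianRing_of_finite (R ⧸ 𝔪) V
  set H : Set M := {x | SetLike.IsHomogeneousElem ℳ x} with hH
  have hspanH : Submodule.span (R ⧸ 𝔪) (π '' H) = ⊤ := by
    rw [eq_top_iff]
    rintro v -
    obtain ⟨x, rfl⟩ := Submodule.mkQ_surjective _ v
    rw [← sum_proj ℳ x, map_sum]
    refine Submodule.sum_mem _ fun d _ => Submodule.subset_span ⟨_, ⟨d, proj_mem ℳ d x⟩, rfl⟩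
  obtain ⟨b, hbH, hbspan, hbli⟩ := exists_linearIndependent (R ⧸ 𝔪) (π '' H)
  rw [hspanH] at hbspan
  have hbfin : b.Finite := hbli.set_finite_of_isNoetherian
  haveI : Fintype ↥b := hbfin.fintype
  have hex : ∀ i : ↥b, ∃ x, x ∈ H ∧ π x = i.1 := fun i => hbH i.2
  choose m hmH hmπ using hex
  choose deg hdeg using hmH
  have hsup : Submodule.span R (Set.range m) ⊔ 𝔪 • (⊤ : Submodule R M) = ⊤ := by
    rw [sup_comm, ← Submodule.map_mkQ_eq_top, Submodule.map_span]
    have himg : (Submodule.mkQ (𝔪 • (⊤ : Submodule R M))) '' Set.range m = b := by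
      ext v
      constructor
      · rintro ⟨_, ⟨i, rfl⟩, rfl⟩
        rw [← hπ, hmπ i]; exact i.2
      · intro hv
        exact ⟨m ⟨v, hv⟩, ⟨_, rfl⟩, hmπ ⟨v, hv⟩⟩
    rw [himg, ← Submodule.restrictScalars_span R (R ⧸ 𝔪) Ideal.Quotient.mk_surjective, hbspan]
    rfl
  have hspan : Submodule.span R (Set.range m) = ⊤ :=
    span_eq_top_of_sup 𝒜 hneg ℳ m deg hdeg hsup
  have h1 : ∀ a : ↥b → R, ∑ i, a i • m i = 0 → ∀ i, a i ∈ 𝔪 := by
    intro a ha i
    have h2 : ∑ i : ↥b, (Ideal.Quotient.mk 𝔪 (a i)) • (i : V) = 0 := by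
      have := congrArg π ha
      rw [map_sum, map_zero] at this
      rw [← this]
      refine Finset.sum_congr rfl fun i _ => ?_
      rw [map_smul, hmπ i]
      rfl
    have := Fintype.linearIndependent_iff.1 hbli _ h2 i
    exact Ideal.Quotient.eq_zero_iff_mem.1 this
  have hli : LinearIndependent R m :=
    linearIndependent_of_inj 𝔪 (iInf_pow_eq_bot 𝒜 hneg) m hspan hinj h1
  refine ⟨↥b, Module.Basis.mk hli hspan.ge, fun i => ?_⟩
  rw [Module.Basis.mk_apply]
  exact ⟨deg i, hdeg i⟩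

end Main

end Groth.Agent.Lib.helper11.GradedFreeZ
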