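import Mathlib

/-!
# Homogeneous local basis of a graded projective module at a homogeneous maximal ideal (S18789)
-/

set_option autoImplicit false
universe u v w x

namespace Groth.Agent.Lib.helper11.GradedLocalBasis

open DirectSum

section Proj

variable {k : Type u} [CommRing k] {M : Type v} [AddCommGroup M] [DecidableEq M]
  {P : Type x} [AddCommGroup P] [Module k P]
  (ℳ : M → Submodule k P) [Decomposition ℳ]

/-- projection to the degree `d` piece. -/
noncomputable def proj (d : M) : P →+ P :=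
  AddMonoidHom.mk' (fun x => ((DirectSum.decompose ℳ x) d : P)) (fun x y => by
    rw [DirectSum.decompose_add, DirectSum.add_apply]; rfl)

lemma proj_apply (d : M) (x : P) : proj ℳ d x = ((DirectSum.decompose ℳ x) d : P) := rfl

lemma proj_mem (d : M) (x : P) : proj ℳ d x ∈ ℳ d := SetLike.coe_mem _

lemma proj_of_mem_same {d : M} {x : P} (hx : x ∈ ℳ d) : proj ℳ d x = x :=
  DirectSum.decompose_of_mem_same ℳ hx

lemma proj_of_mem_ne {d e : M} {x : P} (hx : x ∈ ℳ e) (h : e ≠ d) : proj ℳ d x = 0 :=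
  DirectSum.decompose_of_mem_ne ℳ hx h

open Classical in
lemma sum_proj (x : P) :
    ∑ d ∈ (DirectSum.decompose ℳ x).support, proj ℳ d x = x :=
  DirectSum.sum_support_decompose ℳ x

open Classical in
lemma proj_eq_zero_of_notMem_support (x : P) (d : M)
    (h : d ∉ (DirectSum.decompose ℳ x).support) : proj ℳ d x = 0 := by
  rw [DFinsupp.notMem_support_iff] at h
  rw [proj_apply, h]; rfl

end Proj

section K

variable {k : Type u} [CommRing k] {M : Type v} [AddCommGroup M] [DecidableEq M]
  {A : Type w} [CommRing A] [Algebra k A] (𝒜 : M → Submodule k A) [GradedAlgebra 𝒜]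
  {P : Type x} [AddCommGroup P] [Module A P] [Module k P] [IsScalarTower k A P]
  (ℳ : M → Submodule k P) [Decomposition ℳ] [SetLike.GradedSMul 𝒜 ℳ]

lemma proj_smul_of_mem (c : A) {f : P} {wt : M} (hf : f ∈ ℳ wt) (e : M) :
    proj ℳ e (c • f) = proj 𝒜 (e - wt) c • f := by
  classical
  have hc : c • f = ∑ g ∈ (decompose 𝒜 c).support, proj 𝒜 g c • f := by
    conv_lhs => rw [← sum_proj 𝒜 c]
    rw [Finset.sum_smul]
  rw [hc, map_sum]
  have hterm : ∀ g, proj ℳ e (proj 𝒜 g c • f) = if g = e - wt then proj 𝒜 g c • f else 0 := by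
    intro g
    have hmem : proj 𝒜 g c • f ∈ ℳ (g + wt) :=
      SetLike.GradedSMul.smul_mem (proj_mem 𝒜 g c) hf
    split_ifs with h
    · subst h
      rw [sub_add_cancel] at hmem
      rw [proj_of_mem_same ℳ hmem]
    · rw [proj_of_mem_ne ℳ hmem (fun h' => h (by rw [← h']; abel))]
  simp_rw [hterm]
  rw [Finset.sum_ite_eq']
  split_ifs with h
  · rfl
  · rw [proj_eq_zero_of_notMem_support 𝒜 c _ h, zero_smul]

end K

section Main

variable {k : Type u} [CommRing k] {M : Type v} [AddCommGroup M] [DecidableEq M]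
  {A : Type w} [CommRing A] [Algebra k A] (𝒜 : M → Submodule k A) [GradedAlgebra 𝒜]
  {P : Type x} [AddCommGroup P] [Module A P] [Module k P] [IsScalarTower k A P]
  (ℳ : M → Submodule k P) [Decomposition ℳ] [SetLike.GradedSMul 𝒜 ℳ]

/-- an element not in an ideal has a homogeneous component not in it. -/
lemma exists_proj_notMem (m : Ideal A) {r : A} (hr : r ∉ m) : ∃ g, proj 𝒜 g r ∉ m := by
  classical
  by_contra h
  push Not at h
  apply hr
  rw [← sum_proj 𝒜 r]
  exact Ideal.sum_mem _ fun g _ => h g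

theorem main [Module.Finite A P] [Module.Projective A P]
    (m : Ideal A) [m.IsMaximal]
    {n : ℕ} (wt : Fin n → M) (f : Fin n → P) (hf : ∀ i, f i ∈ ℳ (wt i))
    (hli : LinearIndependent (A ⧸ m)
      (fun i => (Submodule.Quotient.mk (f i) : P ⧸ (m • (⊤ : Submodule A P)))))
    (hsp : Submodule.span A (Set.range f) ⊔ m • (⊤ : Submodule A P) = ⊤) :
    ∃ s : A, SetLike.IsHomogeneousElem 𝒜 s ∧ s ∉ m ∧
      (∀ p : P, ∃ (N : ℕ) (c : Fin n → A), s ^ N • p = ∑ i, c i • f i) ∧
      (∀ c : Fin n → A, ∑ i, c i • f i = 0 → ∃ N : ℕ, ∀ i, s ^ N * c i = 0) := by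
  classical
  set φ : (Fin n → A) →ₗ[A] P := Fintype.linearCombination A f with hφ
  have hφa : ∀ c, φ c = ∑ i, c i • f i := fun c => Fintype.linearCombination_apply A f c
  set N : Submodule A P := LinearMap.range φ with hN
  have hNspan : N = Submodule.span A (Set.range f) := Fintype.range_linearCombination A f
  -- N is graded
  have hNgr : ∀ x ∈ N, ∀ e, proj ℳ e x ∈ N := by
    rintro _ ⟨c, rfl⟩ e
    rw [hφa, map_sum]
    refine Submodule.sum_mem _ fun i _ => ?_
    rw [proj_smul_of_mem 𝒜 ℳ (c i) (hf i) e, hNspan]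
    exact Submodule.smul_mem _ _ (Submodule.subset_span ⟨i, rfl⟩)
  -- Step 1 : Nakayama
  obtain ⟨r, hr1, hrN⟩ := Submodule.exists_sub_one_mem_and_smul_le_of_fg_of_le_sup
    (I := m) (N := N) (N' := ⊤) (P := ⊤) (Module.Finite.fg_top) le_rfl (by rw [hNspan, hsp])
  have hr : ∀ p : P, r • p ∈ N := fun p =>
    hrN (Submodule.smul_mem_pointwise_smul p r ⊤ Submodule.mem_top)
  have hrm : r ∉ m := by
    intro h
    have : (1 : A) ∈ m := by
      have := m.sub_mem h hr1
      rwa [sub_sub_cancel] at this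
    exact (Ideal.IsMaximal.ne_top ‹_›) ((Ideal.eq_top_iff_one m).2 this)
  have hA : ∀ g p, proj 𝒜 g r • p ∈ N := by
    intro g p
    have hhom : ∀ e, ∀ q ∈ ℳ e, proj 𝒜 g r • q ∈ N := by
      intro e q hq
      have := hNgr _ (hr q) (g + e)
      rwa [proj_smul_of_mem 𝒜 ℳ r hq, add_sub_cancel_right] at this
    rw [← sum_proj ℳ p, Finset.smul_sum]
    exact Submodule.sum_mem _ fun e _ => hhom e _ (proj_mem ℳ e p)
  obtain ⟨g1, hg1⟩ := exists_proj_notMem 𝒜 m hrm
  set s1 := proj 𝒜 g1 r with hs1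
  -- Step 2 : lifting
  let h : P →ₗ[A] N := (s1 • (LinearMap.id : P →ₗ[A] P)).codRestrict N (fun p => hA g1 p)
  obtain ⟨σ, hσ⟩ := Module.projective_lifting_property φ.rangeRestrict h
    (LinearMap.surjective_rangeRestrict φ)
  have hσ' : ∀ p, φ (σ p) = s1 • p := by
    intro p
    have := congrArg (fun l => ((l p : N) : P)) hσ
    simpa [h] using this
  set E : Matrix (Fin n) (Fin n) A := Matrix.of fun i j => σ (f j) i with hE
  have hE1 : ∀ j, ∑ i, E i j • f i = s1 • f j := by
    intro j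
    rw [← hσ' (f j), hφa]
    rfl
  have hE2 : ∀ c : Fin n → A, ∑ i, c i • f i = 0 → E.mulVec c = 0 := by
    intro c hc
    have h0 : σ (∑ j, c j • f j) = 0 := by rw [hc, map_zero]
    rw [map_sum] at h0
    ext i
    have := congrFun h0 i
    rw [Finset.sum_apply] at this
    rw [Pi.zero_apply] at this ⊢
    rw [← this]
    simp only [Matrix.mulVec, dotProduct, hE, Matrix.of_apply, map_smul, Pi.smul_apply,
      smul_eq_mul]
    exact Finset.sum_congr rfl fun j _ => mul_comm _ _
  have hdet : ∀ c : Fin n → A, ∑ i, c i • f i = 0 → ∀ i, E.det * c i = 0 := by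
    intro c hc i
    have h1 : (E.adjugate * E).mulVec c = 0 := by
      rw [← Matrix.mulVec_mulVec, hE2 c hc, Matrix.mulVec_zero]
    rw [Matrix.adjugate_mul, Matrix.smul_mulVec, Matrix.one_mulVec] at h1
    have := congrFun h1 i
    simpa using this
  have hdetm : E.det ∉ m := by
    intro hmem
    have h1 : (Ideal.Quotient.mk m) E.det = 0 := Ideal.Quotient.eq_zero_iff_mem.2 hmem
    rw [RingHom.map_det] at h1
    have hEm : (Ideal.Quotient.mk m).mapMatrix E =
        (Ideal.Quotient.mk m s1) • (1 : Matrix (Fin n) (Fin n) (A ⧸ m)) := by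
      ext i j
      rw [RingHom.mapMatrix_apply, Matrix.map_apply, Matrix.smul_apply, Matrix.one_apply,
        smul_eq_mul]
      have hrel : ∑ i, (E i j - if i = j then s1 else 0) • f i = 0 := by
        simp_rw [sub_smul]
        rw [Finset.sum_sub_distrib, hE1 j]
        simp
      have hrel' : ∑ i, (Ideal.Quotient.mk m (E i j - if i = j then s1 else 0)) •
          (Submodule.Quotient.mk (f i) : P ⧸ (m • (⊤ : Submodule A P))) = 0 := by
        have := congrArg (Submodule.mkQ (m • (⊤ : Submodule A P))) hrel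
        rw [map_sum, map_zero] at this
        rw [← this]
        refine Finset.sum_congr rfl fun i _ => ?_
        rw [map_smul]
        rfl
      have := Fintype.linearIndependent_iff.1 hli _ hrel' i
      rw [map_sub, sub_eq_zero] at this
      rw [this]
      split_ifs <;> simp
    rw [hEm, Matrix.det_smul, Matrix.det_one, mul_one] at h1
    have hs1ne : (Ideal.Quotient.mk m s1) ≠ 0 := fun h0 => hg1 (Ideal.Quotient.eq_zero_iff_mem.1 h0)
    exact pow_ne_zero _ hs1ne h1
  obtain ⟨g2, hg2⟩ := exists_proj_notMem 𝒜 m hdetm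
  set s2 := proj 𝒜 g2 E.det with hs2
  -- relations are killed by `s2`
  have hB : ∀ c : Fin n → A, ∑ i, c i • f i = 0 → ∀ i, s2 * c i = 0 := by
    intro c hc i
    have hcomp : ∀ d : M, ∑ i, proj 𝒜 (d - wt i) (c i) • f i = 0 := by
      intro d
      have := congrArg (proj ℳ d) hc
      rw [map_sum, map_zero] at this
      rw [← this]
      exact Finset.sum_congr rfl fun i _ => (proj_smul_of_mem 𝒜 ℳ (c i) (hf i) d).symm
    have hkill : ∀ e : M, E.det * proj 𝒜 e (c i) = 0 := by
      intro e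
      have := hdet _ (hcomp (e + wt i)) i
      rwa [add_sub_cancel_right] at this
    have hkill2 : ∀ e : M, s2 * proj 𝒜 e (c i) = 0 := by
      intro e
      have h1 := proj_smul_of_mem 𝒜 𝒜 E.det (proj_mem 𝒜 e (c i)) (g2 + e)
      rw [add_sub_cancel_right, smul_eq_mul, hkill e, map_zero] at h1
      exact h1.symm
    rw [← sum_proj 𝒜 (c i), Finset.mul_sum]
    exact Finset.sum_eq_zero fun e _ => hkill2 e
  refine ⟨s1 * s2, ⟨g1 + g2, SetLike.GradedMul.mul_mem (proj_mem 𝒜 g1 r) (proj_mem 𝒜 g2 E.det)⟩,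
    ?_, ?_, ?_⟩
  · intro hmem
    rcases (Ideal.IsPrime.mem_or_mem (Ideal.IsMaximal.isPrime ‹_›) hmem) with h' | h'
    · exact hg1 h'
    · exact hg2 h'
  · intro p
    obtain ⟨c, hc⟩ := hA g1 p
    refine ⟨1, fun i => s2 * c i, ?_⟩
    rw [pow_one, mul_comm, mul_smul]
    change s2 • (s1 • p) = _
    rw [← hc, hφa, Finset.smul_sum]
    exact Finset.sum_congr rfl fun i _ => by rw [mul_smul]
  · intro c hc
    refine ⟨1, fun i => ?_⟩
    rw [pow_one, mul_assoc, hB c hc i, mul_zero]

end Main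

end Groth.Agent.Lib.helper11.GradedLocalBasis
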