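import Mathlib
import Groth.Agent.Lib.Helper8.ChainRes
import Groth.Agent.S14613

/-!
# helper11 — GrothCx1: the "Grothendieck complex" of a bounded-above flat complex with
finitely generated cohomology (algebra side of EGA III 6.10.5 / Mumford §5 Lemma 1)

For a Noetherian ring `A` and a cochain complex `C` of flat `A`-modules, bounded above, with finitely
generated cohomology, there is a bounded-above complex `L` of finite free modules and a
quasi-isomorphism `w : L ⟶ C` such that `L ⊗ M ⟶ C ⊗ M` is a quasi-isomorphism for every `M`;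
hence a natural isomorphism `TFun L p ≅ TFun C p`.
-/

set_option autoImplicit false

open CategoryTheory CategoryTheory.Limits MonoidalCategory CohIII

namespace Groth.Agent.Lib.helper11.GrothCx1

universe u

section Res

attribute [local instance] HasDerivedCategory.standard

open Groth.Agent.Lib.Helper8 PC7 PC8 PC18 PCMod2 PCNoeth

variable {A : Type u} [CommRing A] [IsNoetherianRing A]

/-- cochain version of helper8's S2373: finite free resolution of a complex with f.g. cohomology,
bounded above. -/
theorem exists_quasiIso_from_finite_free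
    (C : CochainComplex (ModuleCat.{u} A) ℤ) (hfin : ∀ i, Module.Finite A (C.homology i)) (m : ℤ)
    (hac : ∀ i : ℤ, m ≤ i → IsZero (C.homology i)) :
    ∃ (L : CochainComplex (ModuleCat.{u} A) ℤ) (w : L ⟶ C),
      (∀ i, Module.Finite A (L.X i) ∧ Module.Free A (L.X i)) ∧ (∀ i : ℤ, m ≤ i → IsZero (L.X i)) ∧
        QuasiIso w := by
  let K : Dual.D A := DerivedCategory.Q.obj C
  have hK : ∀ n : ℤ, Nonempty ((DerivedCategory.homologyFunctor (ModuleCat.{u} A) n).obj K ≅
      C.homology n) := fun n => ⟨hIsoD C n⟩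
  have hb : ∃ b : ℤ, ∀ j : ℤ, b < j → Subsingleton (Dual.HD A K j) := by
    refine ⟨m, fun j hj => ?_⟩
    obtain ⟨e⟩ := hK j
    exact ModuleCat.subsingleton_of_isZero ((hac j (by omega)).of_iso e)
  have hfin' : ∀ j : ℤ, Module.Finite A (Dual.HD A K j) := fun j => by
    obtain ⟨e⟩ := hK j
    have := hfin j
    exact Module.Finite.equiv e.symm.toLinearEquiv
  have hM : ∀ n : ℤ, IsNPC (ffProp A) n (DerivedCategory.Q.obj C) :=
    isPC_of_finite_homology K hb hfin'
  obtain ⟨G, w, hG, hw, hz⟩ := resolution_zero (ffProp A) ffProp_sum ffProp_hqs ffProp_hql hM m hac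
  exact ⟨G, w, fun i => hG.2 i, hz, hw⟩

end Res

section Nat

variable {A : Type u} [CommRing A] {ι : Type} {c : ComplexShape ι}

/-- the map `K ⊗ M ⟶ K' ⊗ M` induced by a map of complexes -/
noncomputable abbrev tmap {K K' : HomologicalComplex (ModuleCat.{u} A) c} (w : K ⟶ K')
    (M : ModuleCat.{u} A) : tensorObj K M ⟶ tensorObj K' M :=
  ((tensorRight M).mapHomologicalComplex c).map w

lemma tmap_naturality {K K' : HomologicalComplex (ModuleCat.{u} A) c} (w : K ⟶ K')
    {M N : ModuleCat.{u} A} (g : M ⟶ N) :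
    tmap w M ≫ tensorMap K' g = tensorMap K g ≫ tmap w N :=
  NatTrans.mapHomologicalComplex_naturality ((tensoringRight (ModuleCat.{u} A)).map g) w

/-- the natural transformation `TFun K p ⟶ TFun K' p` induced by `w : K ⟶ K'`. -/
noncomputable def TFunTrans {K K' : HomologicalComplex (ModuleCat.{u} A) c} (w : K ⟶ K') (p : ι) :
    TFun K p ⟶ TFun K' p where
  app M := HomologicalComplex.homologyMap (tmap w M) p
  naturality M N g := by
    change HomologicalComplex.homologyMap (tensorMap K g) p ≫
        HomologicalComplex.homologyMap (tmap w N) p =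
      HomologicalComplex.homologyMap (tmap w M) p ≫ HomologicalComplex.homologyMap (tensorMap K' g) p
    rw [← HomologicalComplex.homologyMap_comp, ← HomologicalComplex.homologyMap_comp,
      tmap_naturality]

/-- if all `K ⊗ M ⟶ K' ⊗ M` are quasi-isomorphisms, `TFun K p ≅ TFun K' p`. -/
noncomputable def TFunIso {K K' : HomologicalComplex (ModuleCat.{u} A) c} (w : K ⟶ K') (p : ι)
    (hw : ∀ M : ModuleCat.{u} A, QuasiIso (tmap w M)) : TFun K p ≅ TFun K' p :=
  haveI : ∀ M, IsIso ((TFunTrans w p).app M) := fun M => by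
    have h1 : QuasiIsoAt (tmap w M) p := (hw M).quasiIsoAt p
    exact (quasiIsoAt_iff_isIso_homologyMap (tmap w M) p).mp h1
  haveI : IsIso (TFunTrans w p) := NatIso.isIso_of_isIso_app _
  asIso (TFunTrans w p)

end Nat

section Main

variable {A : Type u} [CommRing A] [IsNoetherianRing A]

/-- **Grothendieck complex**: for `C` flat, bounded above, with f.g. cohomology over a Noetherian
ring, there is a bounded above complex `L` of finite free modules with `TFun L p ≅ TFun C p`
(naturally) for all `p`. -/
theorem exists_finite_free_TFunIso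
    (C : CochainComplex (ModuleCat.{u} A) ℤ) (hflat : ∀ i, Module.Flat A (C.X i))
    (hb : ∃ b : ℤ, ∀ i, b < i → IsZero (C.X i))
    (hfin : ∀ i, Module.Finite A (C.homology i)) :
    ∃ (L : CochainComplex (ModuleCat.{u} A) ℤ) (w : L ⟶ C),
      (∀ i, Module.Finite A (L.X i) ∧ Module.Free A (L.X i)) ∧
      (∃ b : ℤ, ∀ i, b < i → IsZero (L.X i)) ∧ QuasiIso w ∧
      ∀ M : ModuleCat.{u} A, QuasiIso (tmap w M) := by
  obtain ⟨b, hb⟩ := hb
  have hac : ∀ i : ℤ, b + 1 ≤ i → IsZero (C.homology i) := fun i hi =>
    ShortComplex.isZero_homology_of_isZero_X₂ _ (hb i (by omega))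
  obtain ⟨L, w, hL, hLz, hw⟩ := exists_quasiIso_from_finite_free C hfin (b + 1) hac
  refine ⟨L, w, hL, ⟨b, fun i hi => hLz i (by omega)⟩, hw, fun M => ?_⟩
  have hLflat : ∀ i, Module.Flat A (L.X i) := fun i => by
    have := (hL i).2
    infer_instance
  exact Groth.Agent.S14613.result A L C hLflat hflat ⟨b, fun i hi => hLz i (by omega)⟩ ⟨b, hb⟩ w M

end Main

end Groth.Agent.Lib.helper11.GrothCx1
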