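import Groth.Agent.Lib.helper11.TFunOpcycles
import Mathlib

/-!
# `T_p` over a local ring: surjectivity onto the residue field implies right exactness (helper11)
-/

set_option autoImplicit false
universe u

namespace Groth.Agent.Lib.helper11.TFunLocal

section LinAlg

open TensorProduct IsLocalRing

variable {R : Type*} [CommRing R] [IsLocalRing R]
  {X₁ X₂ X₃ : Type*} [AddCommGroup X₁] [AddCommGroup X₂] [AddCommGroup X₃]
  [Module R X₁] [Module R X₂] [Module R X₃]

/-- If `X₁ → X₂ → X₃` is a complex of modules over a local ring `R` with `X₂` finite and `X₃` finite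
free, and every cycle of the complex tensored with the residue field lifts (modulo a boundary)
to a cycle of the complex (tensored with `R`), then the cokernel of `X₂ → X₃` is free. -/
theorem free_coker_of_lift (f : X₁ →ₗ[R] X₂) (g : X₂ →ₗ[R] X₃) (hgf : g ∘ₗ f = 0)
    [Module.Finite R X₂] [Module.Finite R X₃] [Module.Free R X₃]
    (H : ∀ x₂ : X₂ ⊗[R] ResidueField R, g.rTensor (ResidueField R) x₂ = 0 →
      ∃ x₁ : X₂ ⊗[R] R, g.rTensor R x₁ = 0 ∧
        ∃ y : X₁ ⊗[R] ResidueField R,
          (Algebra.linearMap R (ResidueField R)).lTensor X₂ x₁ =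
            x₂ + f.rTensor (ResidueField R) y) :
    Module.Free R (X₃ ⧸ LinearMap.range g) := by
  set Z := LinearMap.ker g with hZ
  have star : ∀ x₂ : X₂ ⊗[R] ResidueField R, g.rTensor (ResidueField R) x₂ = 0 →
      x₂ ∈ LinearMap.range (Z.subtype.rTensor (ResidueField R)) := by
    intro x₂ hx₂
    obtain ⟨x₁, hx₁, y, hy⟩ := H x₂ hx₂
    let z : X₂ := TensorProduct.rid R X₂ x₁
    have hx₁z : x₁ = z ⊗ₜ[R] (1 : R) := by
      rw [← TensorProduct.rid_symm_apply, LinearEquiv.symm_apply_apply]
    have hz : g z = 0 := by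
      have := congrArg (TensorProduct.rid R X₃) hx₁
      rw [hx₁z, LinearMap.rTensor_tmul, TensorProduct.rid_tmul, one_smul, map_zero] at this
      exact this
    let f' : X₁ →ₗ[R] Z := f.codRestrict Z (fun x => by
      rw [hZ, LinearMap.mem_ker]
      simpa using LinearMap.congr_fun hgf x)
    have hf' : Z.subtype ∘ₗ f' = f := rfl
    refine ⟨(⟨z, hz⟩ : Z) ⊗ₜ[R] (1 : ResidueField R) - f'.rTensor (ResidueField R) y, ?_⟩
    rw [map_sub, LinearMap.rTensor_tmul, ← LinearMap.comp_apply, ← LinearMap.rTensor_comp, hf']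
    rw [hx₁z, LinearMap.lTensor_tmul] at hy
    simp only [Algebra.linearMap_apply, map_one] at hy
    simp only [Submodule.subtype_apply]
    rw [hy]
    abel
  let f₀ : (X₂ ⧸ Z) →ₗ[R] X₃ := Z.liftQ g le_rfl
  have hf₀q : f₀ ∘ₗ Z.mkQ = g := Submodule.liftQ_mkQ _ _ _
  have hinj : Function.Injective (f₀.rTensor (ResidueField R)) := by
    rw [injective_iff_map_eq_zero]
    intro w hw
    obtain ⟨x₂, rfl⟩ := LinearMap.rTensor_surjective (ResidueField R) (Submodule.mkQ_surjective Z) w
    have h1 : g.rTensor (ResidueField R) x₂ = 0 := by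
      rw [← hf₀q, LinearMap.rTensor_comp, LinearMap.comp_apply]
      exact hw
    obtain ⟨u, rfl⟩ := star x₂ h1
    rw [← LinearMap.comp_apply, ← LinearMap.rTensor_comp]
    have : Z.mkQ ∘ₗ Z.subtype = 0 := by
      ext x
      simp
    rw [this, LinearMap.rTensor_zero, LinearMap.zero_apply]
  have hexact : Function.Exact f₀ (LinearMap.range g).mkQ := by
    have : LinearMap.range f₀ = LinearMap.range g := Submodule.range_liftQ _ _ _
    rw [LinearMap.exact_iff, Submodule.ker_mkQ, this]
  exact Module.free_of_lTensor_residueField_injective f₀ (LinearMap.range g).mkQ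
    (Submodule.mkQ_surjective _) hexact ((LinearMap.lTensor_inj_iff_rTensor_inj _ _).mpr hinj)

end LinAlg

section Lift

open CategoryTheory

variable {A : Type u} [Ring A]
variable {S₁ S₂ : ShortComplex (ModuleCat.{u} A)} (φ : S₁ ⟶ S₂)

lemma exists_lift_of_surjective_homologyMap
    (hφ : Function.Surjective (ShortComplex.homologyMap φ).hom)
    (x₂ : S₂.X₂) (hx₂ : S₂.g.hom x₂ = 0) :
    ∃ x₁ : S₁.X₂, S₁.g.hom x₁ = 0 ∧ ∃ y : S₂.X₁, φ.τ₂.hom x₁ = x₂ + S₂.f.hom y := by
  let k₂ : LinearMap.ker S₂.g.hom := ⟨x₂, hx₂⟩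
  let z₂ : S₂.cycles := S₂.moduleCatCyclesIso.inv.hom k₂
  have hz₂ : S₂.iCycles.hom z₂ = x₂ := by
    have := S₂.moduleCatCyclesIso_inv_iCycles_apply k₂
    exact this
  obtain ⟨h₁, hh₁⟩ := hφ (S₂.homologyπ.hom z₂)
  have hπ₁ : Function.Surjective S₁.homologyπ.hom :=
    (ModuleCat.epi_iff_surjective _).mp inferInstance
  obtain ⟨z₁, rfl⟩ := hπ₁ h₁
  have hnat : S₂.homologyπ.hom ((ShortComplex.cyclesMap φ).hom z₁) =
      (ShortComplex.homologyMap φ).hom (S₁.homologyπ.hom z₁) := by
    have := congrArg (fun t => t.hom z₁) (ShortComplex.homologyπ_naturality φ)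
    exact this.symm
  set w := (ShortComplex.cyclesMap φ).hom z₁ - z₂ with hw
  have h3 : S₂.homologyπ.hom w = 0 := by
    rw [hw, map_sub, sub_eq_zero, hnat, hh₁]
  have h4 : S₂.moduleCatLeftHomologyData.π.hom (S₂.moduleCatCyclesIso.hom.hom w) = 0 := by
    have := congrArg (fun t => t.hom w) S₂.π_moduleCatCyclesIso_hom
    simp only [ModuleCat.hom_comp, LinearMap.comp_apply] at this
    rw [← this, h3, map_zero]
  let v : LinearMap.ker S₂.g.hom := S₂.moduleCatCyclesIso.hom.hom w
  have h4' : v ∈ LinearMap.range S₂.moduleCatToCycles :=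
    (Submodule.Quotient.mk_eq_zero _).mp h4
  obtain ⟨y, hy⟩ := h4'
  refine ⟨S₁.iCycles.hom z₁, ?_, y, ?_⟩
  · exact congrArg (fun t => t.hom z₁) S₁.iCycles_g
  · have h5 : S₂.iCycles.hom w = S₂.f.hom y := by
      have := S₂.moduleCatCyclesIso_hom_i_apply w
      rw [← this]
      change _ = (S₂.moduleCatToCycles y).1
      rw [hy]
      rfl
    have h6 : S₂.iCycles.hom ((ShortComplex.cyclesMap φ).hom z₁) = φ.τ₂.hom (S₁.iCycles.hom z₁) :=
      congrArg (fun t => t.hom z₁) (ShortComplex.cyclesMap_i φ)
    rw [← h6, ← h5, hw, map_sub, hz₂]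
    abel

end Lift

section Key

open CategoryTheory CategoryTheory.Limits MonoidalCategory CohIII IsLocalRing
open Groth.Agent.Lib.helper11

attribute [-instance] CategoryTheory.ShortComplex.hasHomology_of_preserves

variable {A : Type u} [CommRing A] [IsLocalRing A] {ι : Type} {c : ComplexShape ι}
variable (P : HomologicalComplex (ModuleCat.{u} A) c)

/-- the residue map `A → k` as a morphism of `ModuleCat A`. -/
noncomputable abbrev resMap (A : Type u) [CommRing A] [IsLocalRing A] :
    ModuleCat.of A A ⟶ ModuleCat.of A (ResidueField A) :=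
  ModuleCat.ofHom (Algebra.linearMap A (ResidueField A))

theorem free_coker_of_surjective (p : ι) [Module.Finite A (P.X p)]
    [Module.Finite A (P.X (c.next p))] [Module.Free A (P.X (c.next p))]
    (h : Function.Surjective ((TFun P p).map (resMap A)).hom) :
    Module.Free A (P.X (c.next p) ⧸ LinearMap.range (P.d p (c.next p)).hom) := by
  apply free_coker_of_lift (P.d (c.prev p) p).hom (P.d p (c.next p)).hom
  · rw [← ModuleCat.hom_comp, P.d_comp_d]
    rfl
  · intro x₂ hx₂
    exact exists_lift_of_surjective_homologyMap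
      ((HomologicalComplex.shortComplexFunctor _ c p).map (tensorMap P (resMap A))) h x₂ hx₂

theorem flat_opcycles_of_surjective (p j : ι) (hpj : c.Rel p j) [Module.Finite A (P.X p)]
    [Module.Finite A (P.X j)] [Module.Flat A (P.X j)]
    (h : Function.Surjective ((TFun P p).map (resMap A)).hom) :
    Module.Flat A (P.opcycles j) := by
  obtain rfl := c.next_eq' hpj
  have : Module.Free A (P.X (c.next p)) := Module.free_of_flat_of_isLocalRing
  have hfree := free_coker_of_surjective P p h
  let e : P.opcycles (c.next p) ≅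
      ModuleCat.of A (P.X (c.next p) ⧸ LinearMap.range (P.d p (c.next p)).hom) :=
    IsColimit.coconePointUniqueUpToIso (P.opcyclesIsCokernel p (c.next p) (c.prev_eq' hpj))
      (ModuleCat.cokernelIsColimit (P.d p (c.next p)))
  exact Module.Flat.of_linearEquiv e.toLinearEquiv

/-- **Key lemma**: over a local ring, for a complex of finite flat modules, if
`T_p(A) → T_p(k)` is surjective then `T_p` is right exact. -/
theorem preservesEpi_of_surjective (hP : ∀ i, Module.Finite A (P.X i) ∧ Module.Flat A (P.X i))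
    (p j : ι) (hpj : c.Rel p j)
    (h : Function.Surjective ((TFun P p).map (resMap A)).hom) :
    (TFun P p).PreservesEpimorphisms := by
  have hflat : ∀ i, Module.Flat A (P.X i) := fun i => (hP i).2
  rw [TFunBasic.preservesEpi_iff_preservesMono P hflat p j hpj,
    TFunOpcycles.preservesMono_iff_flat_opcycles P j hflat]
  have := (hP p).1
  have := (hP j).1
  have := (hP j).2
  exact flat_opcycles_of_surjective P p j hpj h

end Key

end Groth.Agent.Lib.helper11.TFunLocal
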