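import Mathlib
import Groth.Agent.Lib.helper11.GrothCx1
import Groth.Agent.Lib.helper11.TFunLocal

/-!
# helper11 — GrothCx2: the local exchange criterion for flat complexes with f.g. cohomology
(algebraic form of EGA III 7.5.x / S2447)

`A` Noetherian local, `C` a bounded-above cochain complex of flat `A`-modules with finitely generated
cohomology.  Then `T^p = H^p(C ⊗ -)` is right exact iff `T^p(A) → T^p(k)` is surjective.
-/

set_option autoImplicit false

open CategoryTheory CategoryTheory.Limits MonoidalCategory CohIII IsLocalRing

namespace Groth.Agent.Lib.helper11.GrothCx2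

universe u

open Groth.Agent.Lib.helper11 GrothCx1

variable {A : Type u} [CommRing A]

/-- transfer of surjectivity of `F(g)` along a natural isomorphism of functors to `ModuleCat`. -/
lemma surjective_map_of_iso {F G : ModuleCat.{u} A ⥤ ModuleCat.{u} A} (e : F ≅ G)
    {M N : ModuleCat.{u} A} (g : M ⟶ N) (h : Function.Surjective (G.map g).hom) :
    Function.Surjective (F.map g).hom := by
  rw [← ModuleCat.epi_iff_surjective] at h ⊢
  have h1 : F.map g = e.hom.app M ≫ G.map g ≫ e.inv.app N := by
    rw [← Category.assoc, ← e.hom.naturality g, Category.assoc, Iso.hom_inv_id_app, Category.comp_id]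
  rw [h1]
  infer_instance

variable [IsNoetherianRing A] [IsLocalRing A]

/-- **algebraic S2447**. -/
theorem preservesEpi_iff_surjective
    (C : CochainComplex (ModuleCat.{u} A) ℤ) (hflat : ∀ i, Module.Flat A (C.X i))
    (hb : ∃ b : ℤ, ∀ i, b < i → IsZero (C.X i))
    (hfin : ∀ i, Module.Finite A (C.homology i)) (p : ℤ) :
    (TFun C p).PreservesEpimorphisms ↔
      Function.Surjective ((TFun C p).map
        (ModuleCat.ofHom (Algebra.linearMap A (ResidueField A)))).hom := by
  have hepi : Epi (TFunLocal.resMap A) :=
    (ModuleCat.epi_iff_surjective _).mpr IsLocalRing.residue_surjective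
  constructor
  · intro h
    rw [← ModuleCat.epi_iff_surjective]
    exact inferInstanceAs (Epi ((TFun C p).map (TFunLocal.resMap A)))
  · intro h
    obtain ⟨L, w, hL, -, -, hw⟩ := exists_finite_free_TFunIso C hflat hb hfin
    let e : TFun L p ≅ TFun C p := TFunIso w p hw
    have hL' : ∀ i, Module.Finite A (L.X i) ∧ Module.Flat A (L.X i) := fun i => by
      have := (hL i).2
      exact ⟨(hL i).1, inferInstance⟩
    have hs := surjective_map_of_iso e (TFunLocal.resMap A) h
    have hpe : (TFun L p).PreservesEpimorphisms :=
      TFunLocal.preservesEpi_of_surjective L hL' p (p + 1) rfl hs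
    exact Functor.preservesEpimorphisms.of_iso e

end Groth.Agent.Lib.helper11.GrothCx2
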