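import Mathlib
import Groth.Agent.Lib.helper11.GrothCx2

/-!
# helper11 — GrothCx3: exchange criterion for an `Ab`-valued functor computed by a flat complex

If `G : ModuleCat A ⥤ Ab` is naturally isomorphic to `M ↦ H^p(C ⊗ M)` (underlying abelian group) for a
bounded-above complex `C` of flat `A`-modules with finitely generated cohomology over a Noetherian local
ring `A`, then `G` preserves epimorphisms iff `G(A) → G(k)` is surjective.  (Final assembly step for
S2447: take `G = tensorAFunctor A F ⋙ HAb X p` and `C` = a Čech complex of `F`.)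
-/

set_option autoImplicit false

open CategoryTheory CategoryTheory.Limits MonoidalCategory CohIII IsLocalRing

namespace Groth.Agent.Lib.helper11.GrothCx3

universe u

open Groth.Agent.Lib.helper11

variable {A : Type u} [CommRing A]

lemma preservesEpi_comp_forget₂_iff (T : ModuleCat.{u} A ⥤ ModuleCat.{u} A) :
    (T ⋙ forget₂ (ModuleCat.{u} A) AddCommGrpCat.{u}).PreservesEpimorphisms ↔
      T.PreservesEpimorphisms := by
  constructor
  · intro h
    refine ⟨fun {M N} g hg => ?_⟩
    have h1 : Epi ((T ⋙ forget₂ (ModuleCat.{u} A) AddCommGrpCat.{u}).map g) := inferInstance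
    exact (forget₂ (ModuleCat.{u} A) AddCommGrpCat.{u}).epi_of_epi_map h1
  · intro h
    infer_instance

lemma surjective_iff_of_iso {G : ModuleCat.{u} A ⥤ AddCommGrpCat.{u}}
    {T : ModuleCat.{u} A ⥤ ModuleCat.{u} A}
    (e : G ≅ T ⋙ forget₂ (ModuleCat.{u} A) AddCommGrpCat.{u}) {M N : ModuleCat.{u} A} (g : M ⟶ N) :
    Function.Surjective (G.map g).hom ↔ Function.Surjective (T.map g).hom := by
  rw [← AddCommGrpCat.epi_iff_surjective, ← ModuleCat.epi_iff_surjective]
  have h1 : G.map g = e.hom.app M ≫ (forget₂ (ModuleCat.{u} A) AddCommGrpCat.{u}).map (T.map g) ≫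
      e.inv.app N := by
    have := e.hom.naturality g
    rw [← Category.assoc, ← Functor.comp_map, ← this, Category.assoc, Iso.hom_inv_id_app,
      Category.comp_id]
  have h2 : (forget₂ (ModuleCat.{u} A) AddCommGrpCat.{u}).map (T.map g) =
      e.inv.app M ≫ G.map g ≫ e.hom.app N := by
    rw [h1]
    simp
  constructor
  · intro h
    have : Epi ((forget₂ (ModuleCat.{u} A) AddCommGrpCat.{u}).map (T.map g)) := by
      rw [h2]
      infer_instance
    exact (forget₂ (ModuleCat.{u} A) AddCommGrpCat.{u}).epi_of_epi_map this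
  · intro h
    rw [h1]
    infer_instance

variable [IsNoetherianRing A] [IsLocalRing A]

/-- **Final assembly step for S2447.** -/
theorem preservesEpi_iff_surjective_of_iso (G : ModuleCat.{u} A ⥤ AddCommGrpCat.{u})
    (C : CochainComplex (ModuleCat.{u} A) ℤ) (hflat : ∀ i, Module.Flat A (C.X i))
    (hb : ∃ b : ℤ, ∀ i, b < i → IsZero (C.X i))
    (hfin : ∀ i, Module.Finite A (C.homology i)) (p : ℤ)
    (e : G ≅ TFun C p ⋙ forget₂ (ModuleCat.{u} A) AddCommGrpCat.{u}) :
    G.PreservesEpimorphisms ↔
      Function.Surjective (G.map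
        (ModuleCat.ofHom (Algebra.linearMap A (ResidueField A)))).hom := by
  rw [surjective_iff_of_iso e, ← GrothCx2.preservesEpi_iff_surjective C hflat hb hfin p,
    ← preservesEpi_comp_forget₂_iff]
  exact Functor.PreservesEpimorphisms.iso_iff e

end Groth.Agent.Lib.helper11.GrothCx3
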