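import Groth.Agent.Lib.helper11.TFunLocal
import Mathlib

/-!
# Artin-Rees and lifting of cycles (helper11)
-/

set_option autoImplicit false
universe u v

namespace Groth.Agent.Lib.helper11.TFunAR

section AR

open TensorProduct

variable {R : Type*} [CommRing R] (I : Ideal R)
  {X₂ X₃ : Type*} [AddCommGroup X₂] [AddCommGroup X₃] [Module R X₂] [Module R X₃]

theorem exists_lift_mod [IsNoetherianRing R] [Module.Finite R X₃] (g : X₂ →ₗ[R] X₃) :
    ∃ c : ℕ, ∀ n ≥ c, ∀ z : X₂, g z ∈ (I ^ (n + 1) • ⊤ : Submodule R X₃) →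
      ∃ y ∈ (I • ⊤ : Submodule R X₂), g y = g z := by
  obtain ⟨c, hc⟩ := Ideal.exists_pow_inf_eq_pow_smul I (LinearMap.range g)
  refine ⟨c, fun n hn z hz => ?_⟩
  have h1 : g z ∈ I ^ (n + 1) • ⊤ ⊓ LinearMap.range g := ⟨hz, LinearMap.mem_range_self g z⟩
  rw [hc (n + 1) (by omega)] at h1
  have h2 : I ^ (n + 1 - c) • (I ^ c • ⊤ ⊓ LinearMap.range g) ≤ I • LinearMap.range g := by
    have : n + 1 - c = (n - c) + 1 := by omega
    rw [this, pow_succ', mul_smul]
    exact Submodule.smul_mono le_rfl (Submodule.smul_le_right.trans inf_le_right)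
  have h3 := h2 h1
  rw [LinearMap.range_eq_map, ← Submodule.map_smul''] at h3
  obtain ⟨y, hy, hyz⟩ := h3
  exact ⟨y, hy, hyz⟩

lemma ker_lTensor_mkQ_le (J : Ideal R) (w : X₃ ⊗[R] R)
    (hw : (Submodule.mkQ J).lTensor X₃ w = 0) : w ∈ (J • ⊤ : Submodule R (X₃ ⊗[R] R)) := by
  have hex : Function.Exact (LinearMap.lTensor X₃ (Submodule.subtype J))
      (LinearMap.lTensor X₃ (Submodule.mkQ J)) :=
    lTensor_exact X₃ (LinearMap.exact_subtype_mkQ J) (Submodule.mkQ_surjective J)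
  obtain ⟨u, rfl⟩ := (hex w).mp hw
  clear hw
  induction u using TensorProduct.induction_on with
  | zero => simp
  | tmul x j =>
    rw [LinearMap.lTensor_tmul]
    have : x ⊗ₜ[R] ((Submodule.subtype J) j) = (j : R) • (x ⊗ₜ[R] (1 : R)) := by
      rw [TensorProduct.smul_tmul', TensorProduct.smul_tmul, smul_eq_mul, mul_one]
      rfl
    rw [this]
    exact Submodule.smul_mem_smul j.2 Submodule.mem_top
  | add a b ha hb =>
    rw [map_add]
    exact Submodule.add_mem _ ha hb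

lemma map_eq_zero_of_mem_smul_top {N : Type*} [AddCommGroup N] [Module R N]
    (hN : ∀ i ∈ I, ∀ n : N, i • n = 0) {Y : Type*} [AddCommGroup Y] [Module R Y]
    (f : Y →ₗ[R] X₂ ⊗[R] N) (y : Y) (hy : y ∈ (I • ⊤ : Submodule R Y)) : f y = 0 := by
  have hkill : ∀ i ∈ I, ∀ t : X₂ ⊗[R] N, i • t = 0 := by
    intro i hi t
    induction t using TensorProduct.induction_on with
    | zero => simp
    | tmul x n => rw [← TensorProduct.tmul_smul, hN i hi, TensorProduct.tmul_zero]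
    | add a b ha hb => rw [smul_add, ha, hb, add_zero]
  refine Submodule.smul_induction_on hy (fun r hr m _ => ?_) (fun a b ha hb => ?_)
  · rw [map_smul, hkill r hr]
  · rw [map_add, ha, hb, add_zero]

theorem exists_cycle_lift [IsNoetherianRing R] [Module.Finite R X₃] (d : X₂ →ₗ[R] X₃) :
    ∃ c : ℕ, ∀ n ≥ c, ∀ x₂ : X₂ ⊗[R] (R ⧸ I ^ (n + 1)), d.rTensor _ x₂ = 0 →
      ∃ x₁ : X₂ ⊗[R] R, d.rTensor R x₁ = 0 ∧
        ∀ (N : Type v) [AddCommGroup N] [Module R N] (g : (R ⧸ I ^ (n + 1)) →ₗ[R] N),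
          (∀ i ∈ I, ∀ n : N, i • n = 0) →
          (g ∘ₗ Submodule.mkQ (I ^ (n + 1))).lTensor X₂ x₁ = g.lTensor X₂ x₂ := by
  obtain ⟨c, hc⟩ := exists_lift_mod I (d.rTensor R)
  refine ⟨c, fun n hn x₂ hx₂ => ?_⟩
  obtain ⟨z, rfl⟩ := LinearMap.lTensor_surjective X₂ (Submodule.mkQ_surjective (I ^ (n + 1))) x₂
  have hw : (Submodule.mkQ (I ^ (n + 1))).lTensor X₃ (d.rTensor R z) = 0 := by
    rw [← LinearMap.comp_apply, LinearMap.lTensor_comp_rTensor, ← LinearMap.rTensor_comp_lTensor,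
      LinearMap.comp_apply, hx₂]
  obtain ⟨y, hy, hyz⟩ := hc n hn z (ker_lTensor_mkQ_le _ _ hw)
  refine ⟨z - y, by rw [map_sub, hyz, sub_self], fun N _ _ g hN => ?_⟩
  rw [map_sub, map_eq_zero_of_mem_smul_top I hN _ y hy, sub_zero, LinearMap.lTensor_comp,
    LinearMap.comp_apply]

end AR

section Surj

open CategoryTheory

variable {A : Type u} [Ring A]
variable {S₁ S₂ : ShortComplex (ModuleCat.{u} A)} (φ : S₁ ⟶ S₂)

lemma surjective_homologyMap_of_lift
    (H : ∀ x₂ : S₂.X₂, S₂.g.hom x₂ = 0 →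
      ∃ x₁ : S₁.X₂, S₁.g.hom x₁ = 0 ∧ ∃ y : S₂.X₁, φ.τ₂.hom x₁ = x₂ + S₂.f.hom y) :
    Function.Surjective (ShortComplex.homologyMap φ).hom := by
  intro h₂
  have hπ₂ : Function.Surjective S₂.homologyπ.hom :=
    (ModuleCat.epi_iff_surjective _).mp inferInstance
  obtain ⟨z₂, rfl⟩ := hπ₂ h₂
  have hx₂ : S₂.g.hom (S₂.iCycles.hom z₂) = 0 := congrArg (fun t => t.hom z₂) S₂.iCycles_g
  obtain ⟨x₁, hx₁, y, hy⟩ := H _ hx₂
  let z₁ : S₁.cycles := S₁.moduleCatCyclesIso.inv.hom ⟨x₁, hx₁⟩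
  have hz₁ : S₁.iCycles.hom z₁ = x₁ := S₁.moduleCatCyclesIso_inv_iCycles_apply ⟨x₁, hx₁⟩
  refine ⟨S₁.homologyπ.hom z₁, ?_⟩
  have hnat : S₂.homologyπ.hom ((ShortComplex.cyclesMap φ).hom z₁) =
      (ShortComplex.homologyMap φ).hom (S₁.homologyπ.hom z₁) := by
    have := congrArg (fun t => t.hom z₁) (ShortComplex.homologyπ_naturality φ)
    exact this.symm
  rw [← hnat]
  have hinj : Function.Injective S₂.iCycles.hom :=
    (ModuleCat.mono_iff_injective _).mp inferInstance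
  have h6 : S₂.iCycles.hom ((ShortComplex.cyclesMap φ).hom z₁) = φ.τ₂.hom (S₁.iCycles.hom z₁) :=
    congrArg (fun t => t.hom z₁) (ShortComplex.cyclesMap_i φ)
  have h7 : S₂.iCycles.hom (S₂.toCycles.hom y) = S₂.f.hom y :=
    congrArg (fun t => t.hom y) S₂.toCycles_i
  have h8 : (ShortComplex.cyclesMap φ).hom z₁ = z₂ + S₂.toCycles.hom y := by
    apply hinj
    rw [h6, hz₁, hy, map_add, h7]
  have h9 : S₂.homologyπ.hom (S₂.toCycles.hom y) = 0 :=
    congrArg (fun t => t.hom y) S₂.toCycles_comp_homologyπ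
  rw [h8, map_add, h9, add_zero]

end Surj

section Main

open CategoryTheory CategoryTheory.Limits MonoidalCategory CohIII
open Groth.Agent.Lib.helper11

attribute [-instance] CategoryTheory.ShortComplex.hasHomology_of_preserves

variable {A : Type u} [CommRing A] [IsNoetherianRing A] {ι : Type} {c : ComplexShape ι}
variable (P : HomologicalComplex (ModuleCat.{u} A) c) (I : Ideal A)

theorem surjective_map_mk_of_surjective_factor (p : ι) [Module.Finite A (P.X (c.next p))]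
    (H : ∃ n₀ : ℕ, ∀ n : ℕ, n₀ ≤ n → Function.Surjective ((TFun P p).map (ModuleCat.ofHom
        (Ideal.Quotient.factorₐ A (Ideal.pow_le_self (I := I) (Nat.succ_ne_zero n))).toLinearMap :
        ModuleCat.of A (A ⧸ I ^ (n + 1)) ⟶ ModuleCat.of A (A ⧸ I))).hom) :
    Function.Surjective ((TFun P p).map (ModuleCat.ofHom (Submodule.mkQ I) :
      ModuleCat.of A A ⟶ ModuleCat.of A (A ⧸ I))).hom := by
  obtain ⟨n₀, hn₀⟩ := H
  obtain ⟨c₀, hc₀⟩ := exists_cycle_lift I (P.d p (c.next p)).hom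
  set n := max n₀ c₀ with hn
  have hsurj := hn₀ n (le_max_left _ _)
  apply surjective_homologyMap_of_lift
    ((HomologicalComplex.shortComplexFunctor _ c p).map (tensorMap P _))
  intro xb hxb
  obtain ⟨x₂, hx₂, y, hy⟩ := TFunLocal.exists_lift_of_surjective_homologyMap
    ((HomologicalComplex.shortComplexFunctor _ c p).map (tensorMap P _)) hsurj xb hxb
  obtain ⟨x₁, hx₁, hx₁'⟩ := hc₀ n (le_max_right _ _) x₂ hx₂
  refine ⟨x₁, hx₁, y, ?_⟩
  have h1 := hx₁' (A ⧸ I)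
    (Ideal.Quotient.factorₐ A (Ideal.pow_le_self (I := I) (Nat.succ_ne_zero n))).toLinearMap
    (by
      intro i hi t
      obtain ⟨a, rfl⟩ := Ideal.Quotient.mk_surjective t
      rw [← Ideal.Quotient.mk_eq_mk, ← Submodule.Quotient.mk_smul, Submodule.Quotient.mk_eq_zero]
      exact Ideal.mul_mem_right _ _ hi)
  have h2 : (Ideal.Quotient.factorₐ A (Ideal.pow_le_self (I := I)
      (Nat.succ_ne_zero n))).toLinearMap ∘ₗ Submodule.mkQ (I ^ (n + 1)) = Submodule.mkQ I := by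
    ext
    rfl
  rw [h2] at h1
  rw [← hy]
  exact h1

end Main

end Groth.Agent.Lib.helper11.TFunAR
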