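import Mathlib
import Groth.Agent.Lib.helper11.GrothCx3
import Groth.Agent.Lib.helper11.TFunAR

/-!
# helper11 — GrothCx4: exchange criterion via truncations `A/m^(n+1) → A/m`
(algebraic form of S4506) for flat bounded-above complexes with f.g. cohomology.
-/

set_option autoImplicit false

open CategoryTheory CategoryTheory.Limits MonoidalCategory CohIII IsLocalRing

namespace Groth.Agent.Lib.helper11.GrothCx4

universe u

open Groth.Agent.Lib.helper11 GrothCx1

variable {A : Type u} [CommRing A] [IsNoetherianRing A] [IsLocalRing A]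

/-- the projection `A/m^(n+1) → A/m` as a morphism of `ModuleCat A`. -/
noncomputable abbrev facMap (A : Type u) [CommRing A] [IsLocalRing A] (n : ℕ) :
    ModuleCat.of A (A ⧸ maximalIdeal A ^ (n + 1)) ⟶ ModuleCat.of A (A ⧸ maximalIdeal A) :=
  ModuleCat.ofHom (Ideal.Quotient.factorₐ A (Ideal.pow_le_self (I := maximalIdeal A)
    (Nat.succ_ne_zero n))).toLinearMap

lemma epi_facMap (n : ℕ) : Epi (facMap A n) := by
  rw [ModuleCat.epi_iff_surjective]
  exact Ideal.Quotient.factor_surjective
    (Ideal.pow_le_self (I := maximalIdeal A) (Nat.succ_ne_zero n))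

/-- **algebraic S4506**. -/
theorem preservesEpi_iff_surjective_facMap
    (C : CochainComplex (ModuleCat.{u} A) ℤ) (hflat : ∀ i, Module.Flat A (C.X i))
    (hb : ∃ b : ℤ, ∀ i, b < i → IsZero (C.X i))
    (hfin : ∀ i, Module.Finite A (C.homology i)) (p : ℤ) :
    (TFun C p).PreservesEpimorphisms ↔
      ∀ n : ℕ, Function.Surjective ((TFun C p).map (facMap A n)).hom := by
  constructor
  · intro h n
    have := epi_facMap (A := A) n
    rw [← ModuleCat.epi_iff_surjective]
    infer_instance
  · intro H
    obtain ⟨L, w, hL, -, -, hw⟩ := exists_finite_free_TFunIso C hflat hb hfin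
    let e : TFun L p ≅ TFun C p := TFunIso w p hw
    have hL' : ∀ i, Module.Finite A (L.X i) ∧ Module.Flat A (L.X i) := fun i => by
      have := (hL i).2
      exact ⟨(hL i).1, inferInstance⟩
    have H' : ∃ n₀ : ℕ, ∀ n : ℕ, n₀ ≤ n → Function.Surjective ((TFun L p).map (facMap A n)).hom :=
      ⟨0, fun n _ => GrothCx2.surjective_map_of_iso e (facMap A n) (H n)⟩
    have := (hL ((ComplexShape.up ℤ).next p)).1
    have hs : Function.Surjective ((TFun L p).map (TFunLocal.resMap A)).hom :=
      TFunAR.surjective_map_mk_of_surjective_factor L (maximalIdeal A) p H'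
    have hpe : (TFun L p).PreservesEpimorphisms :=
      TFunLocal.preservesEpi_of_surjective L hL' p (p + 1) rfl hs
    exact Functor.preservesEpimorphisms.of_iso e

/-- **Final assembly step for S4506.** -/
theorem preservesEpi_iff_surjective_facMap_of_iso (G : ModuleCat.{u} A ⥤ AddCommGrpCat.{u})
    (C : CochainComplex (ModuleCat.{u} A) ℤ) (hflat : ∀ i, Module.Flat A (C.X i))
    (hb : ∃ b : ℤ, ∀ i, b < i → IsZero (C.X i))
    (hfin : ∀ i, Module.Finite A (C.homology i)) (p : ℤ)
    (e : G ≅ TFun C p ⋙ forget₂ (ModuleCat.{u} A) AddCommGrpCat.{u}) :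
    G.PreservesEpimorphisms ↔ ∀ n : ℕ, Function.Surjective (G.map (facMap A n)).hom := by
  have h1 : ∀ n : ℕ, Function.Surjective (G.map (facMap A n)).hom ↔
      Function.Surjective ((TFun C p).map (facMap A n)).hom := fun n =>
    GrothCx3.surjective_iff_of_iso e (facMap A n)
  simp only [h1]
  rw [← preservesEpi_iff_surjective_facMap C hflat hb hfin p,
    ← GrothCx3.preservesEpi_comp_forget₂_iff]
  exact Functor.PreservesEpimorphisms.iso_iff e

end Groth.Agent.Lib.helper11.GrothCx4
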