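import Mathlib
import Groth.Agent.Lib.helper11.GrothCx3
import Groth.Agent.Lib.helper11.TFunCorep4

/-!
# helper11 — GrothCx5: corepresentability statements (EGA III 7.7.x algebra) for flat bounded-above
complexes with finitely generated cohomology; assembly lemmas for S2437 / S2436.
-/

set_option autoImplicit false

open CategoryTheory CategoryTheory.Limits MonoidalCategory CohIII Opposite

namespace Groth.Agent.Lib.helper11.GrothCx5

universe u

open Groth.Agent.Lib.helper11 GrothCx1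

variable {A : Type u} [CommRing A] [IsNoetherianRing A]

/-- left exact `T^p` of a flat bounded-above complex with f.g. cohomology is corepresentable by a
finite module. -/
theorem exists_corep_of_preservesMono
    (C : CochainComplex (ModuleCat.{u} A) ℤ) (hflat : ∀ i, Module.Flat A (C.X i))
    (hb : ∃ b : ℤ, ∀ i, b < i → IsZero (C.X i))
    (hfin : ∀ i, Module.Finite A (C.homology i)) (p : ℤ)
    (h : (TFun C p).PreservesMonomorphisms) :
    ∃ Q : ModuleCat.{u} A, Module.Finite A Q ∧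
      Nonempty (TFun C p ≅ (linearCoyoneda A (ModuleCat.{u} A)).obj (op Q)) := by
  obtain ⟨L, w, hL, -, -, hw⟩ := exists_finite_free_TFunIso C hflat hb hfin
  let e : TFun L p ≅ TFun C p := TFunIso w p hw
  have hLflat : ∀ i, Module.Flat A (L.X i) := fun i => by
    have := (hL i).2
    infer_instance
  have := (hL p).1
  have := (hL ((ComplexShape.up ℤ).next p)).1
  have hm : (TFun L p).PreservesMonomorphisms := Functor.preservesMonomorphisms.of_iso e.symm
  obtain ⟨Q, hQ, ⟨eQ⟩⟩ := TFunCorep4.exists_corep_of_preservesMono L p hLflat hm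
  exact ⟨Q, hQ, ⟨e.symm ≪≫ eQ⟩⟩

/-- **algebraic S2437**. -/
theorem preservesEpi_iff_corep_succ
    (C : CochainComplex (ModuleCat.{u} A) ℤ) (hflat : ∀ i, Module.Flat A (C.X i))
    (hb : ∃ b : ℤ, ∀ i, b < i → IsZero (C.X i))
    (hfin : ∀ i, Module.Finite A (C.homology i)) (p : ℤ) :
    (TFun C p).PreservesEpimorphisms ↔
      ∃ Q : ModuleCat.{u} A,
        Nonempty (TFun C (p + 1) ≅ (linearCoyoneda A (ModuleCat.{u} A)).obj (op Q)) := by
  rw [TFunBasic.preservesEpi_iff_preservesMono C hflat p (p + 1) rfl]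
  constructor
  · intro h
    obtain ⟨Q, -, hQ⟩ := exists_corep_of_preservesMono C hflat hb hfin (p + 1) h
    exact ⟨Q, hQ⟩
  · rintro ⟨Q, ⟨e⟩⟩
    have := TFunCorep4.preservesMono_linearCoyoneda Q
    exact Functor.preservesMonomorphisms.of_iso e.symm

lemma preservesMono_comp_forget₂_iff (T : ModuleCat.{u} A ⥤ ModuleCat.{u} A) :
    (T ⋙ forget₂ (ModuleCat.{u} A) AddCommGrpCat.{u}).PreservesMonomorphisms ↔
      T.PreservesMonomorphisms := by
  constructor
  · intro h
    refine ⟨fun {M N} g hg => ?_⟩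
    have h1 : Mono ((T ⋙ forget₂ (ModuleCat.{u} A) AddCommGrpCat.{u}).map g) := inferInstance
    exact (forget₂ (ModuleCat.{u} A) AddCommGrpCat.{u}).mono_of_mono_map h1
  · intro h
    infer_instance

/-- **Final assembly step for S2437.** -/
theorem preservesEpi_iff_corep_succ_of_iso (G G' : ModuleCat.{u} A ⥤ AddCommGrpCat.{u})
    (C : CochainComplex (ModuleCat.{u} A) ℤ) (hflat : ∀ i, Module.Flat A (C.X i))
    (hb : ∃ b : ℤ, ∀ i, b < i → IsZero (C.X i))
    (hfin : ∀ i, Module.Finite A (C.homology i)) (p : ℤ)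
    (e : G ≅ TFun C p ⋙ forget₂ (ModuleCat.{u} A) AddCommGrpCat.{u})
    (e' : G' ≅ TFun C (p + 1) ⋙ forget₂ (ModuleCat.{u} A) AddCommGrpCat.{u}) :
    G.PreservesEpimorphisms ↔
      ∃ Q : ModuleCat.{u} A, Nonempty (G' ≅
        (linearCoyoneda A (ModuleCat.{u} A)).obj (op Q) ⋙
          forget₂ (ModuleCat.{u} A) AddCommGrpCat.{u}) := by
  have h1 : G.PreservesEpimorphisms ↔ (TFun C p).PreservesEpimorphisms := by
    rw [← GrothCx3.preservesEpi_comp_forget₂_iff]
    exact Functor.PreservesEpimorphisms.iso_iff e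
  rw [h1]
  constructor
  · intro h
    obtain ⟨Q, ⟨eQ⟩⟩ := (preservesEpi_iff_corep_succ C hflat hb hfin p).mp h
    exact ⟨Q, ⟨e' ≪≫ Functor.isoWhiskerRight eQ _⟩⟩
  · rintro ⟨Q, ⟨eQ⟩⟩
    rw [TFunBasic.preservesEpi_iff_preservesMono C hflat p (p + 1) rfl,
      ← preservesMono_comp_forget₂_iff]
    have h2 : ((linearCoyoneda A (ModuleCat.{u} A)).obj (op Q) ⋙
        forget₂ (ModuleCat.{u} A) AddCommGrpCat.{u}).PreservesMonomorphisms := by
      have := TFunCorep4.preservesMono_linearCoyoneda Q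
      infer_instance
    exact Functor.preservesMonomorphisms.of_iso (e'.symm ≪≫ eQ).symm

/-- `T^0` is left exact when `C` vanishes in negative degrees. -/
theorem preservesMono_zero (C : CochainComplex (ModuleCat.{u} A) ℤ)
    (hflat : ∀ i, Module.Flat A (C.X i)) (hneg : ∀ i : ℤ, i < 0 → IsZero (C.X i)) :
    (TFun C 0).PreservesMonomorphisms := by
  rw [← TFunBasic.preservesEpi_iff_preservesMono C hflat (-1) 0 (by simp)]
  refine ⟨fun {M N} g _ => ?_⟩
  have h0 : IsZero ((tensorObj C N).X (-1)) := by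
    have : Subsingleton (C.X (-1)) := ModuleCat.subsingleton_of_isZero (hneg (-1) (by omega))
    have : Subsingleton (TensorProduct A (C.X (-1)) N) := inferInstance
    exact ModuleCat.isZero_of_subsingleton (ModuleCat.of A (TensorProduct A (C.X (-1)) N))
  have hex : (tensorObj C N).ExactAt (-1) := ShortComplex.exact_of_isZero_X₂ _ h0
  have hz : IsZero ((TFun C (-1)).obj N) := hex.isZero_homology
  exact ⟨fun a b _ => hz.eq_of_src a b⟩

/-- **Final assembly step for S2436.** -/
theorem exists_corep_zero_of_iso (G : ModuleCat.{u} A ⥤ ModuleCat.{u} A)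
    (C : CochainComplex (ModuleCat.{u} A) ℤ) (hflat : ∀ i, Module.Flat A (C.X i))
    (hb : ∃ b : ℤ, ∀ i, b < i → IsZero (C.X i))
    (hfin : ∀ i, Module.Finite A (C.homology i)) (hneg : ∀ i : ℤ, i < 0 → IsZero (C.X i))
    (e : G ≅ TFun C 0) :
    ∃ Q : ModuleCat.{u} A, Module.Finite A Q ∧
      Nonempty (G ≅ (linearCoyoneda A (ModuleCat.{u} A)).obj (op Q)) := by
  obtain ⟨Q, hQ, ⟨eQ⟩⟩ :=
    exists_corep_of_preservesMono C hflat hb hfin 0 (preservesMono_zero C hflat hneg)
  exact ⟨Q, hQ, ⟨e ≪≫ eQ⟩⟩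

end Groth.Agent.Lib.helper11.GrothCx5
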