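import Mathlib
import Groth.Agent.Lib.helper11.ExtFun
import Groth.Agent.Lib.helper11.GorHull
import Groth.Agent.Lib.helper11.LocalDualityCM
import Groth.Agent.Lib.helper11.LCGamma
import Groth.Agent.Lib.helper11.FinLenArt
import Groth.Agent.Lib.helper11.GlDimRegular
import Groth.Agent.Lib.helper11.ExtShift
import Groth.Agent.Lib.helper19.RegularLocal

/-!
# `length Hom(I, R/J)` over a two-dimensional regular local ring (helper11)
-/

set_option autoImplicit false

namespace Groth.Agent.Lib.helper11.HilbLen

open CategoryTheory Limits Abelian IsLocalRing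
open Groth.Agent.Lib.helper11 Groth.Agent.Lib.helper11.LocalDuality
open Groth.Agent.Lib.helper11.LCKit

universe u

section Tensor

variable {R : Type u} [CommRing R]

/-- tensoring a finite module with a module of finite length gives finite length. -/
theorem length_tensor_ne_top (W N : Type u) [AddCommGroup W] [Module R W] [Module.Finite R W]
    [AddCommGroup N] [Module R N] (hN : Module.length R N ≠ ⊤) :
    Module.length R (TensorProduct R W N) ≠ ⊤ := by
  obtain ⟨k, f, hf⟩ := Module.Finite.exists_fin' R W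
  have hsurj : Function.Surjective (LinearMap.rTensor N f) := LinearMap.rTensor_surjective N hf
  have hle := Module.length_le_of_surjective (LinearMap.rTensor N f) hsurj
  have e : TensorProduct R (Fin k → R) N ≃ₗ[R] (Fin k → N) :=
    (TensorProduct.comm R (Fin k → R) N).trans (TensorProduct.piScalarRight R R N (Fin k))
  rw [e.length_eq, Module.length_pi_of_fintype] at hle
  have hfin : (∑ _i : Fin k, Module.length R N) ≠ ⊤ := by
    rw [Finset.sum_const, Finset.card_univ, Fintype.card_fin, nsmul_eq_mul]
    obtain ⟨a, ha⟩ := ENat.ne_top_iff_exists.mp hN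
    rw [← ha]
    exact_mod_cast ENat.coe_ne_top (k * a)
  exact ne_top_of_le_ne_top hfin hle

end Tensor

section Duality

variable {R : Type u} [CommRing R] [IsNoetherianRing R] [IsLocalRing R]

/-- `H^0_m(M) ≃ M` for `M` of finite length. -/
theorem ev_bijective (M : ModuleCat.{u} R) (hM : Module.length R M ≠ ⊤) :
    Function.Bijective (ev (maximalIdeal R) M) := by
  refine ⟨ev_injective _ M, ?_⟩
  intro m
  obtain ⟨k, hk⟩ := FinLenArt.exists_pow_le_annihilator_of_isFiniteLength M
    (Module.length_ne_top_iff.mp hM)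
  have : m ∈ LinearMap.range (ev (maximalIdeal R) M) := by
    rw [mem_range_ev_iff]
    exact ⟨k, fun a ha => Module.mem_annihilator.mp (hk ha) m⟩
  exact this

/-- Serre-type duality for finite length modules over a Gorenstein local ring of dimension `d`:
`length Ext^d(M, N) = length Hom(N, M)` when `pd M ≤ d`. -/
theorem length_ext_top_eq (hG : ∃ k : ℕ, HasInjectiveDimensionLT (ModuleCat.of R R) k) (d : ℕ)
    (hd : ringKrullDim R = d) (M : ModuleCat.{u} R) (hM : Module.length R M ≠ ⊤)
    (hpd : HasProjectiveDimensionLT M (d + 1)) (N : ModuleCat.{u} R)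
    (hN : Module.length R N ≠ ⊤) :
    Module.length R (Ext M N d) = Module.length R (N →ₗ[R] M) := by
  obtain ⟨g, hg⟩ := GorHull.exists_hull hG d hd
  haveI : Module.Injective R (LocCoh.H (maximalIdeal R) d R) := hg.isInjective
  obtain ⟨-, -, hdepth⟩ := GorensteinLocal.gorenstein_main hG d hd
  obtain ⟨NI⟩ := nonempty_natIso_of_depth d hd hdepth (LocCoh.H (maximalIdeal R) d R) R
    (LinearMap.ringLmapEquivSelf R R _) d le_rfl
  rw [Nat.sub_self] at NI
  haveI : Module.Finite R M := GorHull.finite_of_length_ne_top M hM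
  haveI : Module.Finite R N := GorHull.finite_of_length_ne_top N hN
  let eM : M ≃ₗ[R] (Ext M (ModuleCat.of R R) d →ₗ[R] LocCoh.H (maximalIdeal R) d R) :=
    (LinearEquiv.ofBijective _ (ev_bijective M hM)).symm.trans (NI.θ M)
  obtain ⟨eT⟩ := ExtFun.nonempty_tensor_equiv M d hpd N
  have hfin := length_tensor_ne_top (Ext M (ModuleCat.of R R) d) N hN
  have hmatlis := Groth.Agent.Lib.Helper26.Matlis.length_linearMap hg
    (TensorProduct R (Ext M (ModuleCat.of R R) d) N) (Module.length_ne_top_iff.mp hfin)
  let adj : (TensorProduct R (Ext M (ModuleCat.of R R) d) N →ₗ[R] LocCoh.H (maximalIdeal R) d R)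
      ≃ₗ[R] (N →ₗ[R] M) :=
    (LinearEquiv.congrLeft _ R (TensorProduct.comm R (Ext M (ModuleCat.of R R) d) N)).trans
      ((TensorProduct.lift.equiv (RingHom.id R) N (Ext M (ModuleCat.of R R) d) _).symm.trans
        (LinearEquiv.congrRight eM.symm))
  rw [← eT.length_eq, ← hmatlis, adj.length_eq]

end Duality

section Colon

variable {R : Type u} [CommRing R] (I J : Ideal R)

theorem le_colon : I ≤ I.colon (J : Set R) := fun x hx =>
  Submodule.mem_colon.mpr (fun p _ => I.mul_mem_right p hx)

/-- evaluation at `1`. -/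
noncomputable def evOne : ((R ⧸ J) →ₗ[R] (R ⧸ I)) →ₗ[R] (R ⧸ I) :=
  LinearMap.applyₗ (Ideal.Quotient.mk J 1)

theorem evOne_injective : Function.Injective (evOne I J) := by
  rw [injective_iff_map_eq_zero]
  intro φ hφ
  apply LinearMap.ext
  intro x
  obtain ⟨r, rfl⟩ := Ideal.Quotient.mk_surjective x
  have h1 : Ideal.Quotient.mk J r = r • Ideal.Quotient.mk J 1 := by
    rw [Algebra.smul_def, Ideal.Quotient.algebraMap_eq, ← map_mul, mul_one]
  rw [h1, map_smul]
  change r • evOne I J φ = 0
  rw [hφ, smul_zero]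

/-- the projection `R/I → R/(I : J)`. -/
noncomputable def toColon : (R ⧸ I) →ₗ[R] (R ⧸ I.colon (J : Set R)) :=
  Submodule.mapQ I (I.colon (J : Set R)) LinearMap.id (le_colon I J)

theorem toColon_surjective : Function.Surjective (toColon I J) := by
  intro y
  obtain ⟨r, rfl⟩ := Submodule.Quotient.mk_surjective _ y
  exact ⟨Submodule.Quotient.mk r, rfl⟩

theorem exact_evOne_toColon : Function.Exact (evOne I J) (toColon I J) := by
  intro x
  obtain ⟨r, rfl⟩ := Submodule.Quotient.mk_surjective _ x
  have hto : toColon I J (Submodule.Quotient.mk r) = Submodule.Quotient.mk r := rfl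
  rw [hto, Submodule.Quotient.mk_eq_zero, Submodule.mem_colon]
  constructor
  · intro h
    have hker : J ≤ LinearMap.ker (LinearMap.toSpanSingleton R (R ⧸ I)
        (Submodule.Quotient.mk r)) := by
      intro j hj
      rw [LinearMap.mem_ker, LinearMap.toSpanSingleton_apply, ← Submodule.Quotient.mk_smul,
        Submodule.Quotient.mk_eq_zero, smul_eq_mul, mul_comm]
      exact h j hj
    refine ⟨Submodule.liftQ J _ hker, ?_⟩
    change (Submodule.liftQ J _ hker) (Submodule.Quotient.mk 1) = _
    rw [Submodule.liftQ_apply, LinearMap.toSpanSingleton_apply, one_smul]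
  · rintro ⟨φ, hφ⟩ j hj
    have h0 : Ideal.Quotient.mk J j = 0 := Ideal.Quotient.eq_zero_iff_mem.mpr hj
    have h1 : Ideal.Quotient.mk J j = j • Ideal.Quotient.mk J 1 := by
      rw [Algebra.smul_def, Ideal.Quotient.algebraMap_eq, ← map_mul, mul_one]
    have h2 : j • (Submodule.Quotient.mk r : R ⧸ I) = 0 := by
      rw [← hφ]
      change j • φ (Ideal.Quotient.mk J 1) = 0
      rw [← map_smul, ← h1, h0, map_zero]
    rw [← Submodule.Quotient.mk_smul, Submodule.Quotient.mk_eq_zero] at h2
    rw [smul_eq_mul, mul_comm]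
    exact h2

/-- `length Hom(R/J, R/I) + length R/(I : J) = length R/I`. -/
theorem length_hom_add_length_colon :
    Module.length R ((R ⧸ J) →ₗ[R] (R ⧸ I)) + Module.length R (R ⧸ I.colon (J : Set R)) =
      Module.length R (R ⧸ I) :=
  (Module.length_eq_add_of_exact (evOne I J) (toColon I J) (evOne_injective I J)
    (toColon_surjective I J) (exact_evOne_toColon I J)).symm

end Colon

section FourTerm

variable {R : Type u} [CommRing R] {K F X : Type u} [AddCommGroup K] [Module R K]
  [AddCommGroup F] [Module R F] [AddCommGroup X] [Module R X]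
  (i : K →ₗ[R] F) (π : F →ₗ[R] X) (hi : Function.Injective i) (hπ : Function.Surjective π)
  (hex : Function.Exact i π) [Module.Projective R F] (Y : Type u) [AddCommGroup Y] [Module R Y]

include hi hπ hex in
/-- lengths in `0 → Hom(X,Y) → Hom(F,Y) → Hom(K,Y) → Ext^1(X,Y) → 0`. -/
theorem length_four_term :
    Module.length R (F →ₗ[R] Y) + Module.length R (Ext (ModuleCat.of R X) (ModuleCat.of R Y) 1) =
      Module.length R (X →ₗ[R] Y) + Module.length R (K →ₗ[R] Y) := by
  set φ : (F →ₗ[R] Y) →ₗ[R] (K →ₗ[R] Y) := LinearMap.lcomp R Y i with hφ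
  have hex1 : Function.Exact (LinearMap.lcomp R Y π) φ :=
    LinearMap.exact_lcomp_of_exact_of_surjective Y hex hπ
  have h1 : Module.length R (F →ₗ[R] Y) =
      Module.length R (X →ₗ[R] Y) + Module.length R (LinearMap.range φ) := by
    refine Module.length_eq_add_of_exact (LinearMap.lcomp R Y π) φ.rangeRestrict
      (LinearMap.lcomp_injective_of_surjective π hπ) (LinearMap.surjective_rangeRestrict φ) ?_
    intro ψ
    rw [← hex1 ψ]
    constructor
    · intro h
      exact congrArg Subtype.val h
    · intro h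
      exact Subtype.ext h
  have h2 : Module.length R (K →ₗ[R] Y) = Module.length R (LinearMap.range φ) +
      Module.length R (Ext (ModuleCat.of R X) (ModuleCat.of R Y) 1) := by
    refine Module.length_eq_add_of_exact (LinearMap.range φ).subtype
      (ExtShift.deltaLin i π hex Y hi hπ) (Submodule.subtype_injective _)
      (ExtShift.deltaLin_surjective i π hi hπ hex Y) ?_
    intro ψ
    rw [ExtShift.deltaLin_eq_zero_iff]
    constructor
    · rintro ⟨ψ', rfl⟩
      exact ⟨⟨φ ψ', ψ', rfl⟩, rfl⟩
    · rintro ⟨⟨_, ψ', rfl⟩, rfl⟩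
      exact ⟨ψ', rfl⟩
  rw [h1, h2]
  ac_rfl

end FourTerm

section Resolution

variable {R : Type u} [CommRing R] [IsNoetherianRing R] [IsLocalRing R] [IsDomain R]

theorem rank_ideal_eq_one (I : Ideal R) (hI : I ≠ ⊥) : Module.rank R I = 1 := by
  apply le_antisymm
  · have := Submodule.rank_le I
    rwa [Module.rank_self] at this
  · obtain ⟨a, ha, ha0⟩ := Submodule.exists_mem_ne_zero_of_ne_bot hI
    have hinj : Function.Injective (LinearMap.toSpanSingleton R I ⟨a, ha⟩) := by
      rw [injective_iff_map_eq_zero]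
      intro x hx
      rw [LinearMap.toSpanSingleton_apply] at hx
      have h2 : x * a = 0 := congrArg Subtype.val hx
      rcases mul_eq_zero.mp h2 with h | h
      · exact h
      · exact absurd h ha0
    have := LinearMap.rank_le_of_injective _ hinj
    rwa [Module.rank_self] at this

/-- A nonzero ideal of projective dimension `≤ 1` in a Noetherian local domain has a resolution
`0 → R^r → R^{r+1} → I → 0`. -/
theorem exists_resolution (I : Ideal R) (hI : I ≠ ⊥)
    (hpd : HasProjectiveDimensionLT (ModuleCat.of R I) 2) :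
    ∃ (r : ℕ) (π : (Fin (r + 1) → R) →ₗ[R] I), Function.Surjective π ∧
      Nonempty (LinearMap.ker π ≃ₗ[R] (Fin r → R)) := by
  obtain ⟨m, π, hπ⟩ := Module.Finite.exists_fin' R I
  have hS := ExtShift.sc_shortExact (LinearMap.ker π).subtype π
    (Submodule.subtype_injective _) hπ (LinearMap.exact_subtype_ker_map π)
  haveI hFp : Projective (ModuleCat.of R (Fin m → R)) :=
    (IsProjective.iff_projective (R := R) (P := Fin m → R)).mp inferInstance
  have hF1 : HasProjectiveDimensionLT (ModuleCat.of R (Fin m → R)) 1 := inferInstance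
  have hK : HasProjectiveDimensionLT (ModuleCat.of R (LinearMap.ker π)) 1 :=
    hS.hasProjectiveDimensionLT_X₁ 1 hF1 hpd
  have hKp : Projective (ModuleCat.of R (LinearMap.ker π)) :=
    projective_iff_hasProjectiveDimensionLT_one.mpr hK
  haveI : Module.Projective R (LinearMap.ker π) :=
    (IsProjective.iff_projective (R := R) (P := LinearMap.ker π)).mpr hKp
  haveI : Module.Free R (LinearMap.ker π) := Module.free_of_flat_of_isLocalRing
  obtain ⟨r, hr⟩ : ∃ r, Module.finrank R (LinearMap.ker π) = r := ⟨_, rfl⟩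
  have e : LinearMap.ker π ≃ₗ[R] (Fin r → R) :=
    hr ▸ (Module.finBasis R (LinearMap.ker π)).equivFun
  have hrank := rank_quotient_add_rank_of_isDomain (LinearMap.ker π)
  rw [(π.quotKerEquivOfSurjective hπ).rank_eq, rank_ideal_eq_one I hI, e.rank_eq, rank_fin_fun,
    rank_fin_fun] at hrank
  have hm : m = r + 1 := by
    have : ((1 + r : ℕ) : Cardinal) = (m : Cardinal) := by
      rw [← hrank]; push_cast; rfl
    have := Nat.cast_injective this
    omega
  subst hm
  exact ⟨r, π, hπ, ⟨e⟩⟩

end Resolution

section Main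

variable (R : Type u) [CommRing R] [IsRegularLocalRing R]

theorem length_hom_fin (k : ℕ) (F Y : Type u) [AddCommGroup F] [Module R F] [AddCommGroup Y]
    [Module R Y] (e : F ≃ₗ[R] (Fin k → R)) :
    Module.length R (F →ₗ[R] Y) = k * Module.length R Y := by
  rw [(LinearEquiv.congrLeft Y R e).length_eq, ← (Module.piEquiv (Fin k) R Y).length_eq,
    Module.length_pi_of_fintype, Finset.sum_const, Finset.card_univ, Fintype.card_fin,
    nsmul_eq_mul]

/-- **S13444**. -/
theorem main (hdim : ringKrullDim R = 2) (I J : Ideal R)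
    (hI : Module.length R (R ⧸ I) < ⊤) (hJ : Module.length R (R ⧸ J) < ⊤) :
    Module.length R (↥I →ₗ[R] (R ⧸ J)) + Module.length R (R ⧸ I.colon (J : Set R)) =
      Module.length R (R ⧸ J) + Module.length R (R ⧸ I) := by
  haveI : IsDomain R := Groth.Agent.Lib.helper19.isDomain_of_isRegularLocalRing R
  have hpdall : ∀ M : ModuleCat.{u} R, HasProjectiveDimensionLT M 3 := fun M =>
    GlDimRegular.hasProjectiveDimensionLT_of_isRegularLocalRing 2 hdim M
  have hG : ∃ k : ℕ, HasInjectiveDimensionLT (ModuleCat.of R R) k := by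
    refine ⟨3, ?_⟩
    rw [hasInjectiveDimensionLT_iff]
    intro i hi Y e
    haveI := hpdall Y
    exact Ext.eq_zero_of_hasProjectiveDimensionLT e 3 hi
  -- `I ≠ ⊥`
  have hI0 : I ≠ ⊥ := by
    rintro rfl
    have hfl : IsFiniteLength R R := by
      rw [← Module.length_ne_top_iff, ← (Submodule.quotEquivOfEqBot (⊥ : Ideal R) rfl).length_eq]
      exact hI.ne
    have hart : IsArtinianRing R := (isArtinianRing_iff_isFiniteLength R).mpr hfl
    have hle : Ring.KrullDimLE 0 R := isArtinianRing_iff_krullDimLE_zero.mp hart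
    have h0 : ringKrullDim R ≤ 0 := by
      rw [Ring.KrullDimLE, Order.krullDimLE_iff] at hle
      exact hle
    rw [hdim] at h0
    exact absurd h0 (by norm_num)
  have hM : Module.length R (ModuleCat.of R (R ⧸ I)) ≠ ⊤ := hI.ne
  have hN : Module.length R (ModuleCat.of R (R ⧸ J)) ≠ ⊤ := hJ.ne
  -- projective dimension of `I`
  have hS0 := ExtShift.sc_shortExact I.subtype (Submodule.mkQ I) (Submodule.subtype_injective _)
    (Submodule.mkQ_surjective I) (LinearMap.exact_subtype_mkQ I)
  haveI hRp : Projective (ModuleCat.of R R) :=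
    (IsProjective.iff_projective (R := R) (P := R)).mp inferInstance
  have hR2 : HasProjectiveDimensionLT (ModuleCat.of R R) 2 := inferInstance
  have hpdI : HasProjectiveDimensionLT (ModuleCat.of R I) 2 :=
    hS0.hasProjectiveDimensionLT_X₁ 2 hR2 (hpdall _)
  obtain ⟨r, π, hπ, ⟨eK⟩⟩ := exists_resolution I hI0 hpdI
  have four := length_four_term (LinearMap.ker π).subtype π (Submodule.subtype_injective _) hπ
    (LinearMap.exact_subtype_ker_map π) (R ⧸ J)
  rw [length_hom_fin R (r + 1) _ _ (LinearEquiv.refl R _), length_hom_fin R r _ _ eK] at four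
  obtain ⟨eS⟩ := ExtShift.ext_succ_equiv I.subtype (Submodule.mkQ I) (Submodule.subtype_injective _)
    (Submodule.mkQ_surjective I) (LinearMap.exact_subtype_mkQ I) (R ⧸ J) 0
  have dual := length_ext_top_eq hG 2 hdim (ModuleCat.of R (R ⧸ I)) hM (hpdall _)
    (ModuleCat.of R (R ⧸ J)) hN
  have colon := length_hom_add_length_colon I J
  rw [eS.length_eq] at four
  have dual' : Module.length R (Ext (ModuleCat.of R (R ⧸ I)) (ModuleCat.of R (R ⧸ J)) (0 + 2)) =
      Module.length R ((R ⧸ J) →ₗ[R] (R ⧸ I)) := dual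
  rw [dual'] at four
  obtain ⟨y, hy⟩ := ENat.ne_top_iff_exists.mp hJ.ne
  rw [← hy] at four ⊢
  have hfin : ((r : ℕ∞) * (y : ℕ∞)) ≠ ⊤ := by exact_mod_cast ENat.coe_ne_top (r * y)
  have key : Module.length R (↥I →ₗ[R] (R ⧸ J)) =
      (y : ℕ∞) + Module.length R ((R ⧸ J) →ₗ[R] (R ⧸ I)) := by
    apply ENat.add_left_injective_of_ne_top hfin
    change _ + _ = _ + _
    rw [← four]
    push_cast
    ring
  rw [key, add_assoc, colon]

end Main

end Groth.Agent.Lib.helper11.HilbLen
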