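import Groth.Agent.Lib.helper11.DRankFlat
import Groth.Agent.Lib.helper11.TFunKer

/-!
# Finiteness of the homology of a base-changed complex (helper11)

If `T_p(B) = H_p(P ⊗_A B)` is a finite `A`-module then `H_p(B ⊗_A P)` is a finite `B`-module.
-/

set_option autoImplicit false
universe u

namespace Groth.Agent.Lib.helper11.HomologyBCFinite

open CategoryTheory CategoryTheory.Limits CohIII TensorProduct
open Groth.Agent.Lib.helper11

attribute [-instance] CategoryTheory.ShortComplex.hasHomology_of_preserves

variable {A B : Type u} [CommRing A] [CommRing B] {ι : Type} {c : ComplexShape ι}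

/-- finiteness of the kernel of the base change, for an explicit algebra instance. -/
def FinKerBC (alg : Algebra A B) {M N : Type u} [AddCommGroup M] [Module A M]
    [AddCommGroup N] [Module A N] (g : M →ₗ[A] N) : Prop :=
  letI := alg
  Module.Finite B (LinearMap.ker (g.baseChange B))

set_option backward.isDefEq.respectTransparency false in
lemma finite_ker_extendScalars_map_iff (φ : A →+* B) {M N : ModuleCat.{u} A} (g : M ⟶ N) :
    Module.Finite B (LinearMap.ker ((ModuleCat.extendScalars φ).map g).hom) ↔
      FinKerBC ((algebraMap B B).comp φ).toAlgebra g.hom := Iff.rfl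

lemma opcyclesIsoBC_hom_comp (φ : A →+* B) (P : HomologicalComplex (ModuleCat.{u} A) c)
    (p j : ι) :
    (TFunBC.opcyclesIsoBC φ P p).hom ≫ (ModuleCat.extendScalars φ).map (P.fromOpcycles p j) =
      ((bcCx φ P).fromOpcycles p j :
        (bcCx φ P).opcycles p ⟶ (ModuleCat.extendScalars φ).obj (P.X j)) := by
  have h1 : (bcCx φ P).pOpcycles p ≫ (TFunBC.opcyclesIsoBC φ P p).hom =
      (ModuleCat.extendScalars φ).map (P.pOpcycles p) :=
    IsColimit.comp_coconePointUniqueUpToIso_hom
      ((bcCx φ P).opcyclesIsCokernel (c.prev p) p rfl)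
      (CokernelCofork.mapIsColimit _ (P.opcyclesIsCokernel (c.prev p) p rfl)
        (ModuleCat.extendScalars φ)) WalkingParallelPair.one
  have h2 : (bcCx φ P).pOpcycles p ≫ ((bcCx φ P).fromOpcycles p j :
      (bcCx φ P).opcycles p ⟶ (ModuleCat.extendScalars φ).obj (P.X j)) =
      (ModuleCat.extendScalars φ).map (P.d p j) := (bcCx φ P).p_fromOpcycles p j
  have h3 : (ModuleCat.extendScalars φ).map (P.pOpcycles p) ≫
      (ModuleCat.extendScalars φ).map (P.fromOpcycles p j) =
      (ModuleCat.extendScalars φ).map (P.d p j) := by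
    rw [← Functor.map_comp, P.p_fromOpcycles]
  have h4 : (bcCx φ P).pOpcycles p ≫ ((TFunBC.opcyclesIsoBC φ P p).hom ≫
      (ModuleCat.extendScalars φ).map (P.fromOpcycles p j)) =
      (ModuleCat.extendScalars φ).map (P.d p j) :=
    (Category.assoc _ _ _).symm.trans
      ((congrArg (fun t => t ≫ (ModuleCat.extendScalars φ).map (P.fromOpcycles p j)) h1).trans h3)
  exact (cancel_epi ((bcCx φ P).pOpcycles p)).mp (h4.trans h2.symm)

/-- the homology of the base change as a kernel. -/
theorem nonempty_homologyBCEquivKer (φ : A →+* B) (P : HomologicalComplex (ModuleCat.{u} A) c)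
    (p j : ι) (hj : c.next p = j) :
    Nonempty ((bcCx φ P).homology p ≃ₗ[B]
      LinearMap.ker ((ModuleCat.extendScalars φ).map (P.fromOpcycles p j)).hom) := by
  have hcomp : ∀ z, ((bcCx φ P).fromOpcycles p j).hom z =
      ((ModuleCat.extendScalars φ).map (P.fromOpcycles p j)).hom
        ((TFunBC.opcyclesIsoBC φ P p).hom.hom z) := by
    intro z
    have := congrArg (fun t => t.hom z) (opcyclesIsoBC_hom_comp φ P p j)
    exact this.symm
  have hmap : Submodule.map (TFunBC.opcyclesIsoBC φ P p).toLinearEquiv.toLinearMap
      (LinearMap.ker ((bcCx φ P).fromOpcycles p j).hom) =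
      LinearMap.ker ((ModuleCat.extendScalars φ).map (P.fromOpcycles p j)).hom := by
    ext z
    rw [Submodule.mem_map, LinearMap.mem_ker]
    constructor
    · rintro ⟨y, hy, rfl⟩
      rw [LinearMap.mem_ker, hcomp y] at hy
      exact hy
    · intro hz
      refine ⟨(TFunBC.opcyclesIsoBC φ P p).toLinearEquiv.symm z, ?_, by simp⟩
      rw [LinearMap.mem_ker, hcomp]
      change ((ModuleCat.extendScalars φ).map (P.fromOpcycles p j)).hom
        ((TFunBC.opcyclesIsoBC φ P p).toLinearEquiv
          ((TFunBC.opcyclesIsoBC φ P p).toLinearEquiv.symm z)) = 0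
      rw [LinearEquiv.apply_symm_apply]
      exact hz
  exact ⟨(DRankFlat.homologyEquivKer (bcCx φ P) p j hj).trans
    (LinearEquiv.ofSubmodules (TFunBC.opcyclesIsoBC φ P p).toLinearEquiv _ _ hmap)⟩

section Std

variable [Algebra A B] {M N : Type u} [AddCommGroup M] [Module A M] [AddCommGroup N] [Module A N]

lemma comm_lTensor (g : M →ₗ[A] N) (z : B ⊗[A] M) :
    TensorProduct.comm A B N (g.lTensor B z) = g.rTensor B (TensorProduct.comm A B M z) := by
  induction z using TensorProduct.induction_on with
  | zero => simp
  | tmul b m => simp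
  | add x y hx hy => simp only [map_add, hx, hy]

theorem finite_ker_baseChange (g : M →ₗ[A] N)
    (h : Module.Finite A (LinearMap.ker (g.rTensor B))) :
    Module.Finite B (LinearMap.ker (g.baseChange B)) := by
  rw [Module.Finite.iff_fg]
  apply Submodule.FG.of_restrictScalars A
  have h1 : (LinearMap.ker (g.baseChange B)).restrictScalars A = LinearMap.ker (g.lTensor B) := by
    ext z
    rw [Submodule.restrictScalars_mem, LinearMap.mem_ker, LinearMap.mem_ker,
      LinearMap.baseChange_eq_ltensor]
  rw [h1, ← Module.Finite.iff_fg]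
  have hmap : Submodule.map (TensorProduct.comm A B M).toLinearMap (LinearMap.ker (g.lTensor B)) =
      LinearMap.ker (g.rTensor B) := by
    ext z
    rw [Submodule.mem_map, LinearMap.mem_ker]
    constructor
    · rintro ⟨y, hy, rfl⟩
      rw [LinearMap.mem_ker] at hy
      change g.rTensor B (TensorProduct.comm A B M y) = 0
      rw [← comm_lTensor, hy, map_zero]
    · intro hz
      refine ⟨(TensorProduct.comm A B M).symm z, ?_, by simp⟩
      rw [LinearMap.mem_ker]
      apply (TensorProduct.comm A B N).injective
      rw [comm_lTensor, LinearEquiv.apply_symm_apply, hz, map_zero]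
  exact Module.Finite.equiv (LinearEquiv.ofSubmodules (TensorProduct.comm A B M) _ _ hmap).symm

theorem finite_homology_bcCx (P : HomologicalComplex (ModuleCat.{u} A) c) (p : ι)
    (h : Module.Finite A (T P p (ModuleCat.of A B))) :
    Module.Finite B ((bcCx (algebraMap A B) P).homology p) := by
  obtain ⟨e⟩ := nonempty_homologyBCEquivKer (algebraMap A B) P p (c.next p) rfl
  have h1 : Module.Finite A (LinearMap.ker ((P.fromOpcycles p (c.next p)).hom.rTensor B)) :=
    Module.Finite.equiv (TFunKer.TKerEquiv P p (c.next p) (ModuleCat.of A B) rfl)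
  have h2 := finite_ker_baseChange (B := B) (P.fromOpcycles p (c.next p)).hom h1
  have h3 : FinKerBC ((algebraMap B B).comp (algebraMap A B)).toAlgebra
      (P.fromOpcycles p (c.next p)).hom := by
    rw [TFunBC.weird_eq]
    exact h2
  have h4 := (finite_ker_extendScalars_map_iff (algebraMap A B) (P.fromOpcycles p (c.next p))).mpr h3
  exact Module.Finite.equiv e.symm

end Std

end Groth.Agent.Lib.helper11.HomologyBCFinite
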