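import Mathlib
import Groth.Agent.Lib.Helper12.PairKer
import Groth.Agent.Lib.Helper5.StalkBCA
import Groth.Agent.Lib.Helper12.HCoupA

set_option autoImplicit false
set_option linter.style.haveILetI false
universe u
open CategoryTheory AlgebraicGeometry TopologicalSpace Opposite Limits TensorProduct

namespace Groth.Agent.Lib.helper11.IdemLift

/-- In a pushout square of commutative rings, every element of the pushout is a finite sum of
products `inl a * inr b`. -/
theorem induction_of_isPushout {R A B P : CommRingCat.{u}} {f : R ⟶ A} {g : R ⟶ B}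
    {inl : A ⟶ P} {inr : B ⟶ P} (h : IsPushout f g inl inr) (C : P → Prop)
    (hadd : ∀ x y, C x → C y → C (x + y)) (hzero : C 0)
    (hmul : ∀ (a : A) (b : B), C (inl.hom a * inr.hom b)) (x : P) : C x := by
  algebraize [f.hom, g.hom]
  have h0 := CommRingCat.isPushout_tensorProduct R A B
  have hf : CommRingCat.ofHom (algebraMap R A) = f := by
    ext a; rfl
  have hg : CommRingCat.ofHom (algebraMap R B) = g := by
    ext a; rfl
  rw [hf, hg] at h0
  let e := h0.isoIsPushout _ _ h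
  have hl : CommRingCat.ofHom (Algebra.TensorProduct.includeLeft (R := R) (S := R) (A := A) (B := B)).toRingHom ≫ e.hom = inl :=
    h0.inl_isoIsPushout_hom _ _ h
  have hr : CommRingCat.ofHom (Algebra.TensorProduct.includeRight (R := R) (A := A) (B := B)).toRingHom ≫ e.hom = inr :=
    h0.inr_isoIsPushout_hom _ _ h
  have hx : x = e.hom.hom (e.inv.hom x) := by
    have := congrArg (fun φ => φ.hom x) e.inv_hom_id
    simpa using this.symm
  rw [hx]
  generalize e.inv.hom x = y
  induction y using TensorProduct.induction_on with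
  | zero => rw [map_zero]; exact hzero
  | tmul a b =>
    have h1 : (a ⊗ₜ[R] b : A ⊗[R] B) = Algebra.TensorProduct.includeLeft (R := R) (S := R) a *
        Algebra.TensorProduct.includeRight b := by
      simp
    have h2 : e.hom.hom (Algebra.TensorProduct.includeLeft (R := R) (S := R) (A := A) (B := B) a) = inl.hom a :=
      congrArg (fun φ => φ.hom a) hl
    have h3 : e.hom.hom (Algebra.TensorProduct.includeRight (R := R) (A := A) (B := B) b) = inr.hom b :=
      congrArg (fun φ => φ.hom b) hr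
    rw [h1, map_mul, h2, h3]
    exact hmul a b
  | add y z hy hz => rw [map_add]; exact hadd _ _ hy hz


open Groth.Agent.Lib.Helper12.PairNbhd

variable (S : Scheme.{u}) (s : S)

/-- the pair henselization of the local ring of `S` at `s` along its maximal ideal -/
abbrev Bh : Type u := Lim (S.presheaf.stalk s) (IsLocalRing.maximalIdeal (S.presheaf.stalk s))

/-- the ideal of `Bh` generated by the maximal ideal -/
noncomputable abbrev Ih : Ideal (Bh S s) :=
  (IsLocalRing.maximalIdeal (S.presheaf.stalk s)).map (algebraMap (S.presheaf.stalk s) (Bh S s))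

/-- the point `Bh → κ(s)` -/
noncomputable def φh : CommRingCat.of (Bh S s) ⟶ S.residueField s :=
  CommRingCat.ofHom (Lim.pt (S.presheaf.stalk s) (IsLocalRing.maximalIdeal (S.presheaf.stalk s))).toRingHom

theorem φh_surjective : Function.Surjective (φh S s).hom :=
  Lim.pt_surjective

theorem ker_φh : RingHom.ker (φh S s).hom = Ih S s :=
  Lim.ker_pt_eq_map _ _

theorem algebraMap_φh :
    CommRingCat.ofHom (algebraMap (S.presheaf.stalk s) (Bh S s)) ≫ φh S s = S.residue s := by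
  ext r
  exact (Lim.pt (S.presheaf.stalk s) (IsLocalRing.maximalIdeal (S.presheaf.stalk s))).commutes r

/-- `Spec Bh ⟶ S` -/
noncomputable def gh : Spec (CommRingCat.of (Bh S s)) ⟶ S :=
  Spec.map (CommRingCat.ofHom (algebraMap (S.presheaf.stalk s) (Bh S s))) ≫ S.fromSpecStalk s

theorem SpecMap_φh_gh : Spec.map (φh S s) ≫ gh S s = S.fromSpecResidueField s := by
  rw [gh, ← Category.assoc, ← Spec.map_comp, algebraMap_φh]
  rfl

instance flat_gh : Flat (gh S s) := by
  haveI : Flat (Spec.map (CommRingCat.ofHom (algebraMap (S.presheaf.stalk s) (Bh S s)))) := by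
    rw [Flat.SpecMap_iff]
    exact (RingHom.flat_algebraMap_iff).2 inferInstance
  haveI := Groth.Agent.Lib.Helper5.StalkBC.flat_fromSpecStalk S s
  unfold gh
  infer_instance

theorem gh_mem (V : S.Opens) (hs : s ∈ V) (x : Spec (CommRingCat.of (Bh S s))) : gh S s x ∈ V := by
  have h1 : gh S s x ∈ Set.range (S.fromSpecStalk s) := by
    unfold gh
    rw [Scheme.Hom.comp_apply]
    exact Set.mem_range_self _
  rw [Scheme.range_fromSpecStalk] at h1
  exact h1.mem_open V.2 hs

instance henselian_Bh : HenselianRing (Bh S s) (Ih S s) := Lim.henselianRing _ _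


section Geo

variable {X S : Scheme.{u}} (f : X ⟶ S) (s : S)

/-- the base change of `X` to the henselization -/
noncomputable abbrev XB : Scheme.{u} := pullback f (gh S s)

/-- the closed fibre inside `XB` -/
noncomputable def jh : f.fiber s ⟶ XB f s :=
  pullback.lift (f.fiberι s) (f.fiberToSpecResidueField s ≫ Spec.map (φh S s)) (by
    rw [f.fiber_fac, Category.assoc, SpecMap_φh_gh])

@[reassoc (attr := simp)]
theorem jh_fst : jh f s ≫ pullback.fst f (gh S s) = f.fiberι s := pullback.lift_fst _ _ _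

@[reassoc (attr := simp)]
theorem jh_snd : jh f s ≫ pullback.snd f (gh S s) =
    f.fiberToSpecResidueField s ≫ Spec.map (φh S s) := pullback.lift_snd _ _ _

theorem isPullback_jh :
    IsPullback (jh f s) (f.fiberToSpecResidueField s) (pullback.snd f (gh S s)) (Spec.map (φh S s)) := by
  refine IsPullback.of_right ?_ (jh_snd f s) (IsPullback.of_hasPullback f (gh S s))
  rw [jh_fst, SpecMap_φh_gh]
  exact IsPullback.of_hasPullback f (S.fromSpecResidueField s)

instance isClosedImmersion_jh : IsClosedImmersion (jh f s) := by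
  haveI : IsClosedImmersion (Spec.map (φh S s)) :=
    IsClosedImmersion.spec_of_surjective _ (φh_surjective S s)
  exact MorphismProperty.of_isPullback (P := @IsClosedImmersion) (isPullback_jh f s).flip inferInstance

theorem range_jh :
    Set.range (jh f s) =
      (pullback.snd f (gh S s)) ⁻¹' PrimeSpectrum.zeroLocus (Ih S s : Set (Bh S s)) := by
  have h := Scheme.image_preimage_eq_of_isPullback (isPullback_jh f s).flip Set.univ
  rw [Set.preimage_univ, Set.image_univ, Set.image_univ] at h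
  rw [h]
  congr 1
  have h2 := _root_.range_comap_of_surjective _ (φh S s).hom (φh_surjective S s)
  rw [ker_φh] at h2
  exact h2

end Geo

theorem appLE_top_top {X Y : Scheme.{u}} (g : X ⟶ Y) (h : (⊤ : X.Opens) ≤ g ⁻¹ᵁ ⊤) :
    g.appLE ⊤ ⊤ h = g.appTop := by
  rw [Scheme.Hom.appTop, g.app_eq_appLE]
  rfl

theorem appLE_congr_hom {X Y : Scheme.{u}} {g₁ g₂ : X ⟶ Y} (e : g₁ = g₂) (U : Y.Opens) (V : X.Opens)
    (h : V ≤ g₁ ⁻¹ᵁ U) : g₁.appLE U V h = g₂.appLE U V (e ▸ h) := by
  subst e; rfl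

/-- sections of `Spec κ(s) ⟶ S` over `V ∋ s` = evaluation at `s`. -/
theorem fromSpecResidueField_appLE (S : Scheme.{u}) (s : S) (V : S.Opens) (hs : s ∈ V)
    (h : (⊤ : (Spec (S.residueField s)).Opens) ≤ (S.fromSpecResidueField s) ⁻¹ᵁ V) :
    (S.fromSpecResidueField s).appLE V ⊤ h =
      S.evaluation V s hs ≫ (Scheme.ΓSpecIso (S.residueField s)).inv := by
  have h1 : (⊤ : (Spec (S.residueField s)).Opens) ≤
      (Spec.map (S.residue s)) ⁻¹ᵁ ((S.fromSpecStalk s) ⁻¹ᵁ V) := h
  have h2 : (S.fromSpecResidueField s).appLE V ⊤ h =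
      (S.fromSpecStalk s).app V ≫ (Spec.map (S.residue s)).appLE ((S.fromSpecStalk s) ⁻¹ᵁ V) ⊤ h1 :=
    Scheme.Hom.comp_appLE (Spec.map (S.residue s)) (S.fromSpecStalk s) V ⊤ h
  rw [h2, Scheme.fromSpecStalk_app hs, Category.assoc, Category.assoc, Scheme.Hom.map_appLE,
    appLE_top_top, ← Scheme.ΓSpecIso_inv_naturality, ← Category.assoc]
  rfl


section Lift

variable {X S : Scheme.{u}} (f : X ⟶ S) (s : S)

theorem top_le_fiberι_preimage (V : S.Opens) (hs : s ∈ V) :
    (⊤ : (f.fiber s).Opens) ≤ (f.fiberι s) ⁻¹ᵁ (f ⁻¹ᵁ V) := by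
  intro x _
  have hx : f.fiberι s x ∈ Set.range (f.fiberι s) := Set.mem_range_self x
  rw [f.range_fiberι s] at hx
  have h2 : f (f.fiberι s x) = s := hx
  show f (f.fiberι s x) ∈ V
  rw [h2]
  exact hs

/-- restriction of sections of `O_X` over `f⁻¹V` to the fibre -/
noncomputable def ρ (V : S.Opens) (hs : s ∈ V) : Γ(X, f ⁻¹ᵁ V) ⟶ Γ(f.fiber s, ⊤) :=
  (f.fiberι s).appLE (f ⁻¹ᵁ V) ⊤ (top_le_fiberι_preimage f s V hs)

/-- `κ(s) → Γ(X_s, O)` -/
noncomputable def σ : S.residueField s ⟶ Γ(f.fiber s, ⊤) :=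
  (Scheme.ΓSpecIso (S.residueField s)).inv ≫ (f.fiberToSpecResidueField s).appTop

/-- a global function on the fibre extends to a neighbourhood of the fibre -/
def Lifts (z : Γ(f.fiber s, ⊤)) : Prop :=
  ∃ (V : S.Opens) (hs : s ∈ V) (t : Γ(X, f ⁻¹ᵁ V)), (ρ f s V hs).hom t = z

theorem ρ_res {V V' : S.Opens} (h : V' ≤ V) (hs : s ∈ V') (t : Γ(X, f ⁻¹ᵁ V)) :
    (ρ f s V' hs).hom ((X.presheaf.map (homOfLE (f.preimage_mono h)).op).hom t) =
      (ρ f s V (h hs)).hom t := by
  have := Scheme.Hom.map_appLE (f.fiberι s) (top_le_fiberι_preimage f s V' hs)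
    (homOfLE (f.preimage_mono h)).op
  exact congrArg (fun φ => φ.hom t) this

theorem Lifts.add {z w : Γ(f.fiber s, ⊤)} (hz : Lifts f s z) (hw : Lifts f s w) :
    Lifts f s (z + w) := by
  obtain ⟨V₁, hs₁, t₁, h₁⟩ := hz
  obtain ⟨V₂, hs₂, t₂, h₂⟩ := hw
  have hs : s ∈ V₁ ⊓ V₂ := ⟨hs₁, hs₂⟩
  refine ⟨V₁ ⊓ V₂, hs,
    (X.presheaf.map (homOfLE (f.preimage_mono (inf_le_left : V₁ ⊓ V₂ ≤ V₁))).op).hom t₁ +
    (X.presheaf.map (homOfLE (f.preimage_mono (inf_le_right : V₁ ⊓ V₂ ≤ V₂))).op).hom t₂, ?_⟩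
  rw [map_add, ρ_res f s inf_le_left hs t₁, ρ_res f s inf_le_right hs t₂, h₁, h₂]

theorem Lifts.mul {z w : Γ(f.fiber s, ⊤)} (hz : Lifts f s z) (hw : Lifts f s w) :
    Lifts f s (z * w) := by
  obtain ⟨V₁, hs₁, t₁, h₁⟩ := hz
  obtain ⟨V₂, hs₂, t₂, h₂⟩ := hw
  have hs : s ∈ V₁ ⊓ V₂ := ⟨hs₁, hs₂⟩
  refine ⟨V₁ ⊓ V₂, hs,
    (X.presheaf.map (homOfLE (f.preimage_mono (inf_le_left : V₁ ⊓ V₂ ≤ V₁))).op).hom t₁ *
    (X.presheaf.map (homOfLE (f.preimage_mono (inf_le_right : V₁ ⊓ V₂ ≤ V₂))).op).hom t₂, ?_⟩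
  rw [map_mul, ρ_res f s inf_le_left hs t₁, ρ_res f s inf_le_right hs t₂, h₁, h₂]

theorem Lifts.zero : Lifts f s 0 := ⟨⊤, trivial, 0, map_zero _⟩

theorem app_ρ (V : S.Opens) (hs : s ∈ V) :
    f.app V ≫ ρ f s V hs = S.evaluation V s hs ≫ σ f s := by
  have h0 : (⊤ : (f.fiber s).Opens) ≤ (f.fiberι s ≫ f) ⁻¹ᵁ V := top_le_fiberι_preimage f s V hs
  have h1 : f.app V ≫ ρ f s V hs = (f.fiberι s ≫ f).appLE V ⊤ h0 :=
    (Scheme.Hom.comp_appLE (f.fiberι s) f V ⊤ h0).symm
  rw [h1, appLE_congr_hom (f.fiber_fac s) V ⊤ h0]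
  have h2 : (⊤ : (Spec (S.residueField s)).Opens) ≤ (S.fromSpecResidueField s) ⁻¹ᵁ V := by
    intro x _
    show S.fromSpecResidueField s x ∈ V
    rw [Scheme.fromSpecResidueField_apply]
    exact hs
  have h4 : (⊤ : (f.fiber s).Opens) ≤ (f.fiberToSpecResidueField s) ⁻¹ᵁ ⊤ :=
    (Scheme.Hom.preimage_top _).ge
  have h3 := Scheme.Hom.appLE_comp_appLE (f.fiberToSpecResidueField s) (S.fromSpecResidueField s)
    V ⊤ ⊤ h2 h4
  rw [← h3, fromSpecResidueField_appLE S s V hs h2, appLE_top_top _ h4, Category.assoc]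
  rfl

theorem Lifts.σ (k : S.residueField s) : Lifts f s ((σ f s).hom k) := by
  obtain ⟨r, rfl⟩ := IsLocalRing.residue_surjective (R := S.presheaf.stalk s) k
  obtain ⟨V, hs, a, rfl⟩ := TopCat.Presheaf.exists_germ_eq S.presheaf r
  refine ⟨V, hs, (f.app V).hom a, ?_⟩
  exact congrArg (fun φ => φ.hom a) (app_ρ f s V hs)

end Lift


section Main

open Groth.Agent.Lib.Helper12

variable {X S : Scheme.{u}} (f : X ⟶ S) (s : S)

/-- the hypothesis: Lemma K (clopen subsets of the closed part lift) for `X_B → Spec B`,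
`B` the pair henselization of `(O_{S,s}, m)` -/
def LemmaK : Prop :=
  ∀ V : Set (XB f s),
    V ⊆ (pullback.snd f (gh S s)) ⁻¹' PrimeSpectrum.zeroLocus (Ih S s : Set (Bh S s)) →
    IsClosed V →
    IsClosed ((pullback.snd f (gh S s)) ⁻¹' PrimeSpectrum.zeroLocus (Ih S s : Set (Bh S s)) \ V) →
    ∃ U : Set (XB f s), IsClopen U ∧
      U ∩ (pullback.snd f (gh S s)) ⁻¹' PrimeSpectrum.zeroLocus (Ih S s : Set (Bh S s)) = V

theorem exists_idempotent_lift [QuasiCompact f] (hK : LemmaK f s) (e : Γ(f.fiber s, ⊤))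
    (he : IsIdempotentElem e) :
    ∃ e' : Γ(XB f s, ⊤), IsIdempotentElem e' ∧ (jh f s).appTop.hom e' = e := by
  have hj : Topology.IsClosedEmbedding (jh f s) := (jh f s).isClosedEmbedding
  have hVe : IsClosed ((f.fiber s).basicOpen e : Set (f.fiber s)) :=
    HCoup.isClosed_basicOpen_of_isIdempotentElem _ e he
  have hsub : (jh f s) '' ((f.fiber s).basicOpen e : Set (f.fiber s)) ⊆
      (pullback.snd f (gh S s)) ⁻¹' PrimeSpectrum.zeroLocus (Ih S s : Set (Bh S s)) := by
    rw [← range_jh]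
    exact Set.image_subset_range _ _
  have hW : IsClosed ((pullback.snd f (gh S s)) ⁻¹' PrimeSpectrum.zeroLocus (Ih S s : Set (Bh S s)) \
      (jh f s) '' ((f.fiber s).basicOpen e : Set (f.fiber s))) := by
    rw [← range_jh, ← Set.image_univ, ← Set.image_sdiff hj.injective]
    exact hj.isClosedMap _ (by
      rw [← Set.compl_eq_univ_sdiff]
      exact ((f.fiber s).basicOpen e).isOpen.isClosed_compl)
  obtain ⟨U, hU, hUV⟩ := hK _ hsub (hj.isClosedMap _ hVe) hW
  obtain ⟨e', he', hbo⟩ := HCoup.exists_idempotent_basicOpen_eq (XB f s) ⟨U, hU.isOpen⟩ hU.isClosed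
  refine ⟨e', he', ?_⟩
  refine HCoup.idempotent_eq_of_basicOpen_eq (f.fiber s) _ e (he'.map _) he ?_
  rw [← Scheme.preimage_basicOpen_top, hbo]
  ext x
  constructor
  · intro hx
    have hx' : jh f s x ∈ U ∩
        (pullback.snd f (gh S s)) ⁻¹' PrimeSpectrum.zeroLocus (Ih S s : Set (Bh S s)) := by
      refine ⟨hx, ?_⟩
      rw [← range_jh]
      exact Set.mem_range_self x
    rw [hUV] at hx'
    obtain ⟨y, hy, hyx⟩ := hx'
    rw [← hj.injective hyx]
    exact hy
  · intro hx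
    have hx' : jh f s x ∈ (jh f s) '' ((f.fiber s).basicOpen e : Set (f.fiber s)) :=
      Set.mem_image_of_mem _ hx
    rw [← hUV] at hx'
    exact hx'.1

end Main

end Groth.Agent.Lib.helper11.IdemLift
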