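import Groth.Agent.Lib.helper11.IdemLift1

set_option autoImplicit false
set_option linter.style.haveILetI false
universe u
open CategoryTheory AlgebraicGeometry TopologicalSpace Opposite Limits TensorProduct

namespace Groth.Agent.Lib.helper11.IdemLift

open Groth.Agent.Lib.Helper12.PairNbhd

section Main

open Groth.Agent.Lib.Helper12

variable {X S : Scheme.{u}} (f : X ⟶ S) (s : S)

theorem jh_appLE_fst (W : S.Opens) (hsW : s ∈ W) (UY : (XB f s).Opens)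
    (h1 : UY ≤ (pullback.fst f (gh S s)) ⁻¹ᵁ (f ⁻¹ᵁ W))
    (h2 : (⊤ : (f.fiber s).Opens) ≤ (jh f s) ⁻¹ᵁ UY) :
    (pullback.fst f (gh S s)).appLE (f ⁻¹ᵁ W) UY h1 ≫ (jh f s).appLE UY ⊤ h2 = ρ f s W hsW := by
  rw [Scheme.Hom.appLE_comp_appLE]
  exact appLE_congr_hom (jh_fst f s) _ _ _

theorem t_h6 : φh S s ≫ (Scheme.ΓSpecIso (S.residueField s)).inv =
      (Scheme.ΓSpecIso (CommRingCat.of (Bh S s))).inv ≫ (Spec.map (φh S s)).appTop :=
    Scheme.ΓSpecIso_inv_naturality (φh S s)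

theorem t_h7 : (Scheme.ΓSpecIso (CommRingCat.of (Bh S s))).hom ≫ φh S s ≫ σ f s =
      (Spec.map (φh S s)).appTop ≫ (f.fiberToSpecResidueField s).appTop := by
  unfold σ
  rw [← Category.assoc (φh S s), t_h6, Category.assoc, Iso.hom_inv_id_assoc]

theorem t_h3 : (Spec.map (φh S s)).appTop ≫ (f.fiberToSpecResidueField s).appTop =
    (f.fiberToSpecResidueField s ≫ Spec.map (φh S s)).appTop := by
  rw [Scheme.Hom.comp_appTop]


theorem jh_appLE_snd (UY : (XB f s).Opens)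
    (h1 : UY ≤ (pullback.snd f (gh S s)) ⁻¹ᵁ ⊤)
    (h2 : (⊤ : (f.fiber s).Opens) ≤ (jh f s) ⁻¹ᵁ UY) :
    (pullback.snd f (gh S s)).appLE ⊤ UY h1 ≫ (jh f s).appLE UY ⊤ h2 =
      (Scheme.ΓSpecIso (CommRingCat.of (Bh S s))).hom ≫ φh S s ≫ σ f s := by
  rw [t_h7, t_h3, Scheme.Hom.appLE_comp_appLE]
  have h0 : (⊤ : (f.fiber s).Opens) ≤ (jh f s ≫ pullback.snd f (gh S s)) ⁻¹ᵁ ⊤ :=
    (Scheme.Hom.preimage_top _).ge
  have h3 : (jh f s ≫ pullback.snd f (gh S s)).appLE ⊤ ⊤ h0 =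
      (f.fiberToSpecResidueField s ≫ Spec.map (φh S s)).appLE ⊤ ⊤ ((jh_snd f s) ▸ h0) :=
    appLE_congr_hom (jh_snd f s) ⊤ ⊤ h0
  rw [h3]
  exact appLE_top_top _ _


theorem lifts_of_lemmaK [QuasiCompact f] [QuasiSeparated f] (hK : LemmaK f s) (e : Γ(f.fiber s, ⊤))
    (he : IsIdempotentElem e) : Lifts f s e := by
  obtain ⟨e', -, hje⟩ := exists_idempotent_lift f s hK e he
  obtain ⟨W, hW, hsW, -⟩ :=
    TopologicalSpace.Opens.isBasis_iff_nbhd.mp S.isBasis_affineOpens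
      (show s ∈ (⊤ : S.Opens) from trivial)
  have H := IsPullback.of_hasPullback f (gh S s)
  have hUST : (⊤ : (Spec (CommRingCat.of (Bh S s))).Opens) ≤ (gh S s) ⁻¹ᵁ W :=
    fun x _ => gh_mem S s W hsW x
  have hUSX : f ⁻¹ᵁ W ≤ f ⁻¹ᵁ W := le_rfl
  have hiso := isIso_pushoutSection_of_isQuasiSeparated_of_flat_right H hUST hUSX rfl hW
    (isAffineOpen_top _) (f.isCompact_preimage hW.isCompact)
    (f.isQuasiSeparated_preimage hW.isQuasiSeparated)
  have hpo := (isIso_pushoutSection_iff H hUST hUSX rfl).mp hiso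
  have hjUY : (⊤ : (f.fiber s).Opens) ≤ (jh f s) ⁻¹ᵁ
      ((pullback.fst f (gh S s)) ⁻¹ᵁ (f ⁻¹ᵁ W) ⊓ (pullback.snd f (gh S s)) ⁻¹ᵁ ⊤) := by
    intro x _
    refine ⟨?_, trivial⟩
    have hx : (pullback.fst f (gh S s)) (jh f s x) = f.fiberι s x := by
      rw [← Scheme.Hom.comp_apply, jh_fst]
    show (pullback.fst f (gh S s)) (jh f s x) ∈ f ⁻¹ᵁ W
    rw [hx]
    exact top_le_fiberι_preimage f s W hsW trivial
  have key : ∀ y, Lifts f s (((jh f s).appLE _ ⊤ hjUY).hom y) := by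
    intro y
    refine induction_of_isPushout hpo (fun y => Lifts f s (((jh f s).appLE _ ⊤ hjUY).hom y))
      ?_ ?_ ?_ y
    · intro x y hx hy
      rw [map_add]
      exact hx.add f s hy
    · rw [map_zero]
      exact Lifts.zero f s
    · intro c b
      rw [map_mul]
      refine Lifts.mul f s ?_ ?_
      · have h := congrArg (fun φ => φ.hom c) (jh_appLE_fst f s W hsW _ (by simp) hjUY)
        exact ⟨W, hsW, c, h.symm⟩
      · have h := congrArg (fun φ => φ.hom b) (jh_appLE_snd f s _ (by simp) hjUY)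
        simp only [CommRingCat.comp_apply] at h
        rw [h]
        exact Lifts.σ f s _
  have h1 := key (((XB f s).presheaf.map (homOfLE le_top).op).hom e')
  have h2 := congrArg (fun φ => φ.hom e') (Scheme.Hom.map_appLE (jh f s) hjUY (homOfLE le_top).op)
  simp only [CommRingCat.comp_apply] at h2
  rw [h2] at h1
  have h3 : (jh f s).appLE ⊤ ⊤ (hjUY.trans ((Opens.map (jh f s).base).map (homOfLE le_top)).le) =
      (jh f s).appTop := appLE_top_top _ _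
  rw [h3, hje] at h1
  exact h1

theorem final {X S : Scheme.{u}} (f : X ⟶ S) (s : S)
    (e : (f.fiber s).presheaf.obj (op ⊤)) (h : Lifts f s e) :
    ∃ (V : S.Opens) (_ : s ∈ V) (t : X.presheaf.obj (op (f ⁻¹ᵁ V))),
      ((f.fiberι s).app (f ⁻¹ᵁ V)).hom t =
        ((f.fiber s).presheaf.map (homOfLE (le_top : (f.fiberι s) ⁻¹ᵁ (f ⁻¹ᵁ V) ≤ ⊤)).op).hom e := by
  obtain ⟨V, hs, t, ht⟩ := h
  refine ⟨V, hs, t, ?_⟩
  rw [← ht]
  have h1 : ρ f s V hs = (f.fiberι s).app (f ⁻¹ᵁ V) ≫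
      (f.fiber s).presheaf.map (homOfLE (top_le_fiberι_preimage f s V hs)).op := rfl
  rw [h1, CommRingCat.comp_apply, ← CommRingCat.comp_apply, ← Functor.map_comp]
  have h2 : (homOfLE (top_le_fiberι_preimage f s V hs)).op ≫
      (homOfLE (le_top : (f.fiberι s) ⁻¹ᵁ (f ⁻¹ᵁ V) ≤ ⊤)).op = 𝟙 _ := rfl
  rw [h2, CategoryTheory.Functor.map_id]
  rfl


end Main

end Groth.Agent.Lib.helper11.IdemLift
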