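import Mathlib
import Groth.Prelude.Def_GrLC
import Groth.Agent.Lib.Helper20.GrLES8
import Groth.Agent.Lib.Helper20.GrKit8

/-!
# Koszul chain for graded local cohomology, I: exactness on graded pieces

Piecewise consequences of the long exact sequence of graded local cohomology
(`Groth.Agent.Lib.Helper20.GrLES.les`).
-/

set_option autoImplicit false
set_option linter.unusedSectionVars false
set_option linter.unusedVariables false

namespace Groth.Agent.Lib.helper11.KZ1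

open DirectSum Groth.Agent.Lib.Helper26.GrProj Groth.Agent.Lib.Helper20.GrKit
  Groth.Agent.Lib.Helper20.GrLES

universe u

variable {ι : Type} [AddCommGroup ι] [DecidableEq ι] {R : Type u} [CommRing R]
  {𝒜 : ι → AddSubgroup R} [GradedRing 𝒜]

section One

variable {M : Type u} [AddCommGroup M] [Module R M] {ℳ : ι → AddSubgroup M}
  [DirectSum.Decomposition ℳ] [SetLike.GradedSMul 𝒜 ℳ]

theorem Hcomp_eq_bot_iff (E : GrLC.StarInjRes 𝒜 ℳ) (a : HomogeneousIdeal 𝒜) (i : ℕ) (g : ι) :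
    E.Hcomp a i g = ⊥ ↔ E.Hgr a i g = ⊥ := by
  rw [Submodule.eq_bot_iff, AddSubgroup.eq_bot_iff_forall]
  exact Iff.rfl

end One

variable {M' : Type u} [AddCommGroup M'] [Module R M'] {ℳ' : ι → AddSubgroup M'}
  [DirectSum.Decomposition ℳ'] [SetLike.GradedSMul 𝒜 ℳ']
  {M : Type u} [AddCommGroup M] [Module R M] {ℳ : ι → AddSubgroup M}
  [DirectSum.Decomposition ℳ] [SetLike.GradedSMul 𝒜 ℳ]
  {M'' : Type u} [AddCommGroup M''] [Module R M''] {ℳ'' : ι → AddSubgroup M''}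
  [DirectSum.Decomposition ℳ''] [SetLike.GradedSMul 𝒜 ℳ'']
  (E' : GrLC.StarInjRes 𝒜 ℳ') (E : GrLC.StarInjRes 𝒜 ℳ) (E'' : GrLC.StarInjRes 𝒜 ℳ'')
  (f : M' →ₗ[R] M) (π : M →ₗ[R] M'') (hfg : GrLC.IsGrHom ℳ' ℳ f)
  (hπg : GrLC.IsGrHom ℳ ℳ'' π) (hf : Function.Injective f) (hπ : Function.Surjective π)
  (hex : LinearMap.ker π = LinearMap.range f) (a : HomogeneousIdeal 𝒜)

include hfg hπg hf hπ hex

/-- middle term: `H^i(M')_g = 0` and `H^i(M'')_g = 0` imply `H^i(M)_g = 0` -/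
theorem mid_eq_bot (i : ℕ) (g : ι) (h' : E'.Hgr a i g = ⊥) (h'' : E''.Hgr a i g = ⊥) :
    E.Hgr a i g = ⊥ := by
  classical
  obtain ⟨δ, hδ, hles⟩ := les E' E E'' f π hfg hπg hf hπ hex a
  obtain ⟨φ, hφ⟩ := exists_lift E' E f hfg
  obtain ⟨ψ, hψ⟩ := exists_lift E E'' π hπg
  obtain ⟨hm, -, -, -⟩ := hles φ ψ hφ hψ
  rw [AddSubgroup.eq_bot_iff_forall]
  intro w hw
  have h1 : ψ.Hmap a i w = 0 := by
    have := ψ.Hmap_isGrHom a i g w hw
    rw [h'', AddSubgroup.mem_bot] at this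
    exact this
  have hwr : w ∈ LinearMap.range (φ.Hmap a i) := by
    rw [← hm i]
    exact h1
  obtain ⟨y, hy, rfl⟩ := exists_homogeneous_preimage (E'.Hgr a i) (E.Hgr a i)
    (Hgr_isInternal E' a i) (Hgr_isInternal E a i) _ (φ.Hmap_isGrHom a i) g w hw hwr
  rw [h', AddSubgroup.mem_bot] at hy
  rw [hy, map_zero]

/-- right term: `H^i(M)_g = 0` and `H^{i+1}(M')_g = 0` imply `H^i(M'')_g = 0` -/
theorem right_eq_bot (i : ℕ) (g : ι) (h : E.Hgr a i g = ⊥) (h' : E'.Hgr a (i + 1) g = ⊥) :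
    E''.Hgr a i g = ⊥ := by
  classical
  obtain ⟨δ, hδ, hles⟩ := les E' E E'' f π hfg hπg hf hπ hex a
  obtain ⟨φ, hφ⟩ := exists_lift E' E f hfg
  obtain ⟨ψ, hψ⟩ := exists_lift E E'' π hπg
  obtain ⟨-, hr, -, -⟩ := hles φ ψ hφ hψ
  rw [AddSubgroup.eq_bot_iff_forall]
  intro w hw
  have h1 : δ i w = 0 := by
    have := hδ i g w hw
    rw [h', AddSubgroup.mem_bot] at this
    exact this
  have hwr : w ∈ LinearMap.range (ψ.Hmap a i) := by
    rw [← hr i]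
    exact h1
  obtain ⟨y, hy, rfl⟩ := exists_homogeneous_preimage (E.Hgr a i) (E''.Hgr a i)
    (Hgr_isInternal E a i) (Hgr_isInternal E'' a i) _ (ψ.Hmap_isGrHom a i) g w hw hwr
  rw [h, AddSubgroup.mem_bot] at hy
  rw [hy, map_zero]

/-- left term: `H^i(M'')_g = 0` and `H^{i+1}(M)_g = 0` imply `H^{i+1}(M')_g = 0` -/
theorem left_eq_bot (i : ℕ) (g : ι) (h'' : E''.Hgr a i g = ⊥) (h : E.Hgr a (i + 1) g = ⊥) :
    E'.Hgr a (i + 1) g = ⊥ := by
  classical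
  obtain ⟨δ, hδ, hles⟩ := les E' E E'' f π hfg hπg hf hπ hex a
  obtain ⟨φ, hφ⟩ := exists_lift E' E f hfg
  obtain ⟨ψ, hψ⟩ := exists_lift E E'' π hπg
  obtain ⟨-, -, hl, -⟩ := hles φ ψ hφ hψ
  rw [AddSubgroup.eq_bot_iff_forall]
  intro w hw
  have h1 : φ.Hmap a (i + 1) w = 0 := by
    have := φ.Hmap_isGrHom a (i + 1) g w hw
    rw [h, AddSubgroup.mem_bot] at this
    exact this
  have hwr : w ∈ LinearMap.range (δ i) := by
    rw [← hl i]
    exact h1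
  obtain ⟨y, hy, rfl⟩ := exists_homogeneous_preimage (E''.Hgr a i) (E'.Hgr a (i + 1))
    (Hgr_isInternal E'' a i) (Hgr_isInternal E' a (i + 1)) _ (hδ i) g w hw hwr
  rw [h'', AddSubgroup.mem_bot] at hy
  rw [hy, map_zero]

/-- left term in degree zero: `H^0(M)_g = 0` implies `H^0(M')_g = 0` -/
theorem left_zero_eq_bot (g : ι) (h : E.Hgr a 0 g = ⊥) : E'.Hgr a 0 g = ⊥ := by
  classical
  obtain ⟨E''⟩ := nonempty_starInjRes 𝒜 ℳ''
  obtain ⟨δ, hδ, hles⟩ := les E' E E'' f π hfg hπg hf hπ hex a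
  obtain ⟨φ, hφ⟩ := exists_lift E' E f hfg
  obtain ⟨ψ, hψ⟩ := exists_lift E E'' π hπg
  obtain ⟨-, -, -, hinj⟩ := hles φ ψ hφ hψ
  rw [AddSubgroup.eq_bot_iff_forall]
  intro w hw
  have h1 : φ.Hmap a 0 w = 0 := by
    have := φ.Hmap_isGrHom a 0 g w hw
    rw [h, AddSubgroup.mem_bot] at this
    exact this
  exact hinj (h1.trans (map_zero _).symm)

end Groth.Agent.Lib.helper11.KZ1
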