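import Mathlib
import Groth.Prelude.Def_GrLC
import Groth.Agent.Lib.Helper20.GrLES13
import Groth.Agent.Lib.helper11.KZ1

/-!
# Koszul chain for graded local cohomology, II: vanishing of pieces, shifts and products
-/

set_option autoImplicit false
set_option linter.unusedSectionVars false
set_option linter.unusedVariables false

namespace Groth.Agent.Lib.helper11.KZ2

open DirectSum Groth.Agent.Lib.Helper26.GrProj Groth.Agent.Lib.Helper20.GrKit
  Groth.Agent.Lib.Helper20.GrLES Groth.Agent.Lib.helper11.KZ1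

universe u

variable {R : Type u} [CommRing R] {𝒜 : ℤ → AddSubgroup R} [GradedRing 𝒜]
  (a : HomogeneousIdeal 𝒜)

section Van

variable {M : Type u} [AddCommGroup M] [Module R M] (ℳ : ℤ → AddSubgroup M)
  [DirectSum.Decomposition ℳ] [SetLike.GradedSMul 𝒜 ℳ]
  {N : Type u} [AddCommGroup N] [Module R N] (𝒩 : ℤ → AddSubgroup N)
  [DirectSum.Decomposition 𝒩] [SetLike.GradedSMul 𝒜 𝒩]

/-- the piece of degree `g` of `H^i_a(M)` vanishes (for every *injective resolution) -/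
def Van (i : ℕ) (g : ℤ) : Prop := ∀ E : GrLC.StarInjRes 𝒜 ℳ, E.Hgr a i g = ⊥

variable {ℳ 𝒩}

theorem van_of_equiv (e : M ≃ₗ[R] N) (he : GrLC.IsGrHom ℳ 𝒩 e.toLinearMap) (i : ℕ) (g : ℤ)
    (E : GrLC.StarInjRes 𝒜 ℳ) (h : E.Hgr a i g = ⊥) : Van a 𝒩 i g := by
  intro F
  obtain ⟨ε, h1, h2⟩ := exists_comparison_equiv E F e he a i
  rw [AddSubgroup.eq_bot_iff_forall]
  intro w hw
  have h3 := h2 g w hw
  rw [h, AddSubgroup.mem_bot] at h3
  have : ε (ε.symm w) = 0 := by
    have h4 : ε.symm w = 0 := h3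
    rw [h4, map_zero]
  rwa [LinearEquiv.apply_symm_apply] at this

theorem van_of_one (i : ℕ) (g : ℤ) (E : GrLC.StarInjRes 𝒜 ℳ) (h : E.Hgr a i g = ⊥) :
    Van a ℳ i g :=
  van_of_equiv a (LinearEquiv.refl R M) (fun g x hx => hx) i g E h

theorem van_shift (i : ℕ) (g k : ℤ) (h : Van a ℳ i (g - k)) : Van a (shiftGr ℳ k) i g := by
  obtain ⟨E⟩ := nonempty_starInjRes 𝒜 ℳ
  apply van_of_one a i g (shiftRes E k)
  rw [AddSubgroup.eq_bot_iff_forall]
  intro w hw
  rw [shiftH_mem, h E, AddSubgroup.mem_bot] at hw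
  exact hw

theorem van_prod (i : ℕ) (g : ℤ) (h1 : Van a ℳ i g) (h2 : Van a 𝒩 i g) :
    Van a (prodGr ℳ 𝒩) i g := by
  intro E
  obtain ⟨E1⟩ := nonempty_starInjRes 𝒜 ℳ
  obtain ⟨E2⟩ := nonempty_starInjRes 𝒜 𝒩
  refine mid_eq_bot E1 E E2 (LinearMap.inl R M N) (LinearMap.snd R M N) ?_ ?_
    LinearMap.inl_injective LinearMap.snd_surjective ?_ a i g (h1 E1) (h2 E2)
  · intro g x hx
    exact ⟨hx, zero_mem _⟩
  · intro g x hx
    exact hx.2
  · ext ⟨x, y⟩
    simp only [LinearMap.mem_ker, LinearMap.snd_apply, LinearMap.mem_range, LinearMap.inl_apply,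
      Prod.mk.injEq]
    constructor
    · intro h
      exact ⟨x, rfl, h.symm⟩
    · rintro ⟨z, -, h⟩
      exact h.symm

end Van

section Bound

variable {M : Type u} [AddCommGroup M] [Module R M] (ℳ : ℤ → AddSubgroup M)
  [DirectSum.Decomposition ℳ] [SetLike.GradedSMul 𝒜 ℳ]

/-- the bundled shift `X(-k)` -/
noncomputable def gshift (X : GrLC.GMod.{u} 𝒜) (k : ℤ) : GrLC.GMod.{u} 𝒜 :=
  { carrier := X.carrier
    gr := shiftGr X.gr k }

/-- `X` looks like a finite direct sum of copies of `M(-j)` as far as vanishing of pieces of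
local cohomology is concerned -/
def LCBound (X : GrLC.GMod.{u} 𝒜) (j : ℤ) : Prop :=
  ∀ (i : ℕ) (g : ℤ), Van a ℳ i (g - j) → Van a X.gr i g

theorem lcBound_shift_self (j : ℤ) :
    LCBound a ℳ (gshift (GrLC.GMod.of 𝒜 M ℳ) j) j := by
  intro i g h
  show Van a (shiftGr ℳ j) i g
  exact van_shift a i g j h

theorem lcBound_shift (X : GrLC.GMod.{u} 𝒜) (j k : ℤ) (h : LCBound a ℳ X j) :
    LCBound a ℳ (gshift X k) (j + k) := by
  intro i g hv
  show Van a (shiftGr X.gr k) i g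
  apply van_shift a i g k
  apply h
  have : g - k - j = g - (j + k) := by ring
  rw [this]
  exact hv

theorem lcBound_prod (X Y : GrLC.GMod.{u} 𝒜) (j : ℤ) (hX : LCBound a ℳ X j)
    (hY : LCBound a ℳ Y j) : LCBound a ℳ (gprod 𝒜 X Y) j := by
  intro i g hv
  show Van a (prodGr X.gr Y.gr) i g
  exact van_prod a i g (hX i g hv) (hY i g hv)

end Bound

end Groth.Agent.Lib.helper11.KZ2
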