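import Mathlib
import Groth.Prelude.Def_GrLC
import Groth.Agent.Lib.helper11.KZ2

/-!
# Koszul chain for graded local cohomology, III: Koszul-type complexes by iterated cones
-/

set_option autoImplicit false
set_option linter.unusedSectionVars false
set_option linter.unusedVariables false

namespace Groth.Agent.Lib.helper11.KZ3

open DirectSum Groth.Agent.Lib.Helper26.GrProj Groth.Agent.Lib.Helper20.GrKit
  Groth.Agent.Lib.Helper20.GrLES Groth.Agent.Lib.helper11.KZ1 Groth.Agent.Lib.helper11.KZ2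

universe u

variable {R : Type u} [CommRing R] {𝒜 : ℤ → AddSubgroup R} [GradedRing 𝒜]
  (a : HomogeneousIdeal 𝒜)
  {M : Type u} [AddCommGroup M] [Module R M] (ℳ : ℤ → AddSubgroup M)
  [DirectSum.Decomposition ℳ] [SetLike.GradedSMul 𝒜 ℳ]

/-- A Koszul-type complex over the graded module `M`: a complex of graded modules
`… → X 2 → X 1 → X 0 ≅ M` such that every element `x` with `P x` acts null-homotopically, and
`X j` behaves like a finite direct sum of copies of `M(-j)` for the vanishing of pieces of local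
cohomology. -/
structure Kos (P : R → Prop) where
  X : ℕ → GrLC.GMod.{u} 𝒜
  d : ∀ j : ℕ, (X (j + 1)).carrier →ₗ[R] (X j).carrier
  d_gr : ∀ j : ℕ, GrLC.IsGrHom (X (j + 1)).gr (X j).gr (d j)
  d_comp : ∀ (j : ℕ) (y : (X (j + 1 + 1)).carrier), d j (d (j + 1) y) = 0
  e : (X 0).carrier ≃ₗ[R] M
  e_gr : GrLC.IsGrHom (X 0).gr ℳ e.toLinearMap
  hom : ∀ x : R, P x → ∃ s : ∀ j : ℕ, (X j).carrier →ₗ[R] (X (j + 1)).carrier,
    (∀ y, d 0 (s 0 y) = x • y) ∧ ∀ (j : ℕ) (y : (X (j + 1)).carrier),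
      d (j + 1) (s (j + 1) y) + s j (d j y) = x • y
  bound : ∀ j : ℕ, LCBound a ℳ (X j) (j : ℤ)
  d0_mem : ∀ y, d 0 y ∈ (Ideal.span {x : R | P x}) • (⊤ : Submodule R (X 0).carrier)

/-- the trivial complex: `X j = M(-j)` with zero differentials -/
noncomputable def Kos.base : Kos a ℳ (fun _ => False) where
  X j := gshift (GrLC.GMod.of 𝒜 M ℳ) (j : ℤ)
  d j := 0
  d_gr j := fun g y hy => zero_mem _
  d_comp j y := rfl
  e := LinearEquiv.refl R M
  e_gr := by
    intro g y hy
    have h : y ∈ ℳ (g - ((0 : ℕ) : ℤ)) := hy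
    rw [Nat.cast_zero, sub_zero] at h
    exact h
  hom x hx := hx.elim
  bound j := lcBound_shift_self a ℳ (j : ℤ)
  d0_mem y := zero_mem _

section Cone

variable {a ℳ} {P : R → Prop} (K : Kos a ℳ P) (x : R) (hx : x ∈ 𝒜 1)

/-- terms of the cone of multiplication by `x` -/
noncomputable def coneX : ℕ → GrLC.GMod.{u} 𝒜
  | 0 => K.X 0
  | j + 1 => gprod 𝒜 (K.X (j + 1)) (gshift (K.X j) 1)

/-- differentials of the cone -/
noncomputable def coneD : ∀ j : ℕ, (coneX K (j + 1)).carrier →ₗ[R] (coneX K j).carrier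
  | 0 => ((K.d 0).coprod (x • LinearMap.id) :
      ((K.X (0 + 1)).carrier × (K.X 0).carrier) →ₗ[R] (K.X 0).carrier)
  | j + 1 => ((((K.d (j + 1)).coprod (x • LinearMap.id)).prod
      (-(K.d j) ∘ₗ LinearMap.snd R _ _)) :
      ((K.X (j + 1 + 1)).carrier × (K.X (j + 1)).carrier) →ₗ[R]
        ((K.X (j + 1)).carrier × (K.X j).carrier))

theorem coneD_zero (y : (K.X (0 + 1)).carrier) (z : (K.X 0).carrier) :
    coneD K x 0 (y, z) = K.d 0 y + x • z := rfl

theorem coneD_succ (j : ℕ) (y : (K.X (j + 1 + 1)).carrier) (z : (K.X (j + 1)).carrier) :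
    coneD K x (j + 1) (y, z) = (K.d (j + 1) y + x • z, - K.d j z) := rfl

/-- extension of an old homotopy to the cone -/
noncomputable def coneS (s : ∀ j : ℕ, (K.X j).carrier →ₗ[R] (K.X (j + 1)).carrier) :
    ∀ j : ℕ, (coneX K j).carrier →ₗ[R] (coneX K (j + 1)).carrier
  | 0 => (((s 0).prod 0) :
      (K.X 0).carrier →ₗ[R] ((K.X (0 + 1)).carrier × (K.X 0).carrier))
  | j + 1 => ((((s (j + 1)) ∘ₗ LinearMap.fst R _ _).prod (-(s j) ∘ₗ LinearMap.snd R _ _)) :
      ((K.X (j + 1)).carrier × (K.X j).carrier) →ₗ[R]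
        ((K.X (j + 1 + 1)).carrier × (K.X (j + 1)).carrier))

theorem coneS_zero (s : ∀ j : ℕ, (K.X j).carrier →ₗ[R] (K.X (j + 1)).carrier)
    (y : (K.X 0).carrier) : coneS K s 0 y = (s 0 y, (0 : (K.X 0).carrier)) := rfl

theorem coneS_succ (s : ∀ j : ℕ, (K.X j).carrier →ₗ[R] (K.X (j + 1)).carrier) (j : ℕ)
    (y : (K.X (j + 1)).carrier) (z : (K.X j).carrier) :
    coneS K s (j + 1) (y, z) = (s (j + 1) y, - s j z) := rfl

/-- the homotopy for the new element -/
noncomputable def coneT : ∀ j : ℕ, (coneX K j).carrier →ₗ[R] (coneX K (j + 1)).carrier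
  | 0 => (((0 : (K.X 0).carrier →ₗ[R] (K.X (0 + 1)).carrier).prod LinearMap.id) :
      (K.X 0).carrier →ₗ[R] ((K.X (0 + 1)).carrier × (K.X 0).carrier))
  | j + 1 => (((0 : ((K.X (j + 1)).carrier × (K.X j).carrier) →ₗ[R]
        (K.X (j + 1 + 1)).carrier).prod (LinearMap.fst R _ _)) :
      ((K.X (j + 1)).carrier × (K.X j).carrier) →ₗ[R]
        ((K.X (j + 1 + 1)).carrier × (K.X (j + 1)).carrier))

theorem coneT_zero (y : (K.X 0).carrier) :
    coneT K 0 y = ((0 : (K.X (0 + 1)).carrier), y) := rfl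

theorem coneT_succ (j : ℕ) (y : (K.X (j + 1)).carrier) (z : (K.X j).carrier) :
    coneT K (j + 1) (y, z) = ((0 : (K.X (j + 1 + 1)).carrier), y) := rfl

include hx in
theorem coneD_gr : ∀ j : ℕ, GrLC.IsGrHom (coneX K (j + 1)).gr (coneX K j).gr (coneD K x j) := by
  intro j
  cases j with
  | zero =>
    intro g w hw
    obtain ⟨y, z⟩ : (K.X (0 + 1)).carrier × (K.X 0).carrier := w
    have hy : y ∈ (K.X (0 + 1)).gr g := hw.1
    have hz : z ∈ (K.X 0).gr (g - 1) := hw.2
    show K.d 0 y + x • z ∈ (K.X 0).gr g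
    have h2 := SetLike.GradedSMul.smul_mem (A := 𝒜) (B := (K.X 0).gr) hx hz
    rw [vadd_eq_add, add_sub_cancel] at h2
    exact add_mem (K.d_gr 0 g y hy) h2
  | succ j =>
    intro g w hw
    obtain ⟨y, z⟩ : (K.X (j + 1 + 1)).carrier × (K.X (j + 1)).carrier := w
    have hy : y ∈ (K.X (j + 1 + 1)).gr g := hw.1
    have hz : z ∈ (K.X (j + 1)).gr (g - 1) := hw.2
    have h2 := SetLike.GradedSMul.smul_mem (A := 𝒜) (B := (K.X (j + 1)).gr) hx hz
    rw [vadd_eq_add, add_sub_cancel] at h2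
    refine ⟨?_, ?_⟩
    · show K.d (j + 1) y + x • z ∈ (K.X (j + 1)).gr g
      exact add_mem (K.d_gr (j + 1) g y hy) h2
    · show - K.d j z ∈ (K.X j).gr (g - 1)
      exact neg_mem (K.d_gr j (g - 1) z hz)

theorem coneD_comp : ∀ (j : ℕ) (w : (coneX K (j + 1 + 1)).carrier),
    coneD K x j (coneD K x (j + 1) w) = 0 := by
  intro j
  cases j with
  | zero =>
    intro w
    obtain ⟨y, z⟩ : (K.X (0 + 1 + 1)).carrier × (K.X (0 + 1)).carrier := w
    show K.d 0 (K.d (0 + 1) y + x • z) + x • (- K.d 0 z) = 0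
    rw [map_add, K.d_comp, map_smul, smul_neg, zero_add, add_neg_cancel]
  | succ j =>
    intro w
    obtain ⟨y, z⟩ : (K.X (j + 1 + 1 + 1)).carrier × (K.X (j + 1 + 1)).carrier := w
    show ((K.d (j + 1) (K.d (j + 1 + 1) y + x • z) + x • (- K.d (j + 1) z),
      - K.d j (- K.d (j + 1) z)) : (K.X (j + 1)).carrier × (K.X j).carrier) = 0
    rw [map_add, K.d_comp, map_smul, smul_neg, zero_add, add_neg_cancel, map_neg, K.d_comp,
      neg_zero, neg_zero]
    rfl

theorem coneS_spec (y0 : R) (s : ∀ j : ℕ, (K.X j).carrier →ₗ[R] (K.X (j + 1)).carrier)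
    (hs0 : ∀ y, K.d 0 (s 0 y) = y0 • y)
    (hs : ∀ (j : ℕ) (y : (K.X (j + 1)).carrier),
      K.d (j + 1) (s (j + 1) y) + s j (K.d j y) = y0 • y) :
    (∀ w, coneD K x 0 (coneS K s 0 w) = y0 • w) ∧
      ∀ (j : ℕ) (w : (coneX K (j + 1)).carrier),
        coneD K x (j + 1) (coneS K s (j + 1) w) + coneS K s j (coneD K x j w) = y0 • w := by
  refine ⟨?_, ?_⟩
  · intro (w : (K.X 0).carrier)
    show K.d 0 (s 0 w) + x • (0 : (K.X 0).carrier) = y0 • w
    rw [smul_zero, add_zero, hs0]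
  · intro j
    cases j with
    | zero =>
      intro w
      obtain ⟨y, z⟩ : (K.X (0 + 1)).carrier × (K.X 0).carrier := w
      show ((K.d (0 + 1) (s (0 + 1) y) + x • (- s 0 z), - K.d 0 (- s 0 z)) :
          (K.X (0 + 1)).carrier × (K.X 0).carrier) +
        ((s 0 (K.d 0 y + x • z), (0 : (K.X 0).carrier)) :
          (K.X (0 + 1)).carrier × (K.X 0).carrier) = y0 • ((y, z) :
          (K.X (0 + 1)).carrier × (K.X 0).carrier)
      apply Prod.ext
      · show K.d (0 + 1) (s (0 + 1) y) + x • (- s 0 z) + s 0 (K.d 0 y + x • z) = y0 • y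
        rw [map_add, map_smul, smul_neg, ← hs 0 y]
        abel
      · show - K.d 0 (- s 0 z) + 0 = y0 • z
        rw [map_neg, neg_neg, add_zero, hs0]
    | succ j =>
      intro w
      obtain ⟨y, z⟩ : (K.X (j + 1 + 1)).carrier × (K.X (j + 1)).carrier := w
      show ((K.d (j + 1 + 1) (s (j + 1 + 1) y) + x • (- s (j + 1) z),
            - K.d (j + 1) (- s (j + 1) z)) :
          (K.X (j + 1 + 1)).carrier × (K.X (j + 1)).carrier) +
        ((s (j + 1) (K.d (j + 1) y + x • z), - s j (- K.d j z)) :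
          (K.X (j + 1 + 1)).carrier × (K.X (j + 1)).carrier) = y0 • ((y, z) :
          (K.X (j + 1 + 1)).carrier × (K.X (j + 1)).carrier)
      apply Prod.ext
      · show K.d (j + 1 + 1) (s (j + 1 + 1) y) + x • (- s (j + 1) z) +
          s (j + 1) (K.d (j + 1) y + x • z) = y0 • y
        rw [map_add, map_smul, smul_neg, ← hs (j + 1) y]
        abel
      · show - K.d (j + 1) (- s (j + 1) z) + - s j (- K.d j z) = y0 • z
        rw [map_neg, neg_neg, map_neg, neg_neg, hs j z]

theorem coneT_spec :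
    (∀ w, coneD K x 0 (coneT K 0 w) = x • w) ∧
      ∀ (j : ℕ) (w : (coneX K (j + 1)).carrier),
        coneD K x (j + 1) (coneT K (j + 1) w) + coneT K j (coneD K x j w) = x • w := by
  refine ⟨?_, ?_⟩
  · intro (w : (K.X 0).carrier)
    show K.d 0 (0 : (K.X (0 + 1)).carrier) + x • w = x • w
    rw [map_zero]
    abel
  · intro j
    cases j with
    | zero =>
      intro w
      obtain ⟨y, z⟩ : (K.X (0 + 1)).carrier × (K.X 0).carrier := w
      show ((K.d (0 + 1) (0 : (K.X (0 + 1 + 1)).carrier) + x • y, - K.d 0 y) :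
          (K.X (0 + 1)).carrier × (K.X 0).carrier) +
        (((0 : (K.X (0 + 1)).carrier), K.d 0 y + x • z) :
          (K.X (0 + 1)).carrier × (K.X 0).carrier) = x • ((y, z) :
          (K.X (0 + 1)).carrier × (K.X 0).carrier)
      apply Prod.ext
      · show K.d (0 + 1) 0 + x • y + 0 = x • y
        rw [map_zero]
        abel
      · show - K.d 0 y + (K.d 0 y + x • z) = x • z
        abel
    | succ j =>
      intro w
      obtain ⟨y, z⟩ : (K.X (j + 1 + 1)).carrier × (K.X (j + 1)).carrier := w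
      show ((K.d (j + 1 + 1) (0 : (K.X (j + 1 + 1 + 1)).carrier) + x • y, - K.d (j + 1) y) :
          (K.X (j + 1 + 1)).carrier × (K.X (j + 1)).carrier) +
        (((0 : (K.X (j + 1 + 1)).carrier), K.d (j + 1) y + x • z) :
          (K.X (j + 1 + 1)).carrier × (K.X (j + 1)).carrier) = x • ((y, z) :
          (K.X (j + 1 + 1)).carrier × (K.X (j + 1)).carrier)
      apply Prod.ext
      · show K.d (j + 1 + 1) 0 + x • y + 0 = x • y
        rw [map_zero]
        abel
      · show - K.d (j + 1) y + (K.d (j + 1) y + x • z) = x • z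
        abel

/-- the cone of multiplication by a new linear form `x` -/
noncomputable def Kos.cone : Kos a ℳ (fun y => P y ∨ y = x) where
  X := coneX K
  d := coneD K x
  d_gr := coneD_gr K x hx
  d_comp := coneD_comp K x
  e := K.e
  e_gr := K.e_gr
  hom := by
    rintro y0 (h | rfl)
    · obtain ⟨s, hs0, hs⟩ := K.hom y0 h
      exact ⟨coneS K s, coneS_spec K x y0 s hs0 hs⟩
    · exact ⟨coneT K, coneT_spec K y0⟩
  bound := by
    intro j
    cases j with
    | zero => exact K.bound 0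
    | succ j =>
      show LCBound a ℳ (gprod 𝒜 (K.X (j + 1)) (gshift (K.X j) 1)) ((j + 1 : ℕ) : ℤ)
      apply lcBound_prod
      · exact K.bound (j + 1)
      · have := lcBound_shift a ℳ (K.X j) (j : ℤ) 1 (K.bound j)
        rw [Nat.cast_add, Nat.cast_one]
        exact this
  d0_mem := by
    intro w
    obtain ⟨y, z⟩ : (K.X (0 + 1)).carrier × (K.X 0).carrier := w
    show K.d 0 y + x • z ∈
      (Ideal.span {y : R | P y ∨ y = x}) • (⊤ : Submodule R (K.X 0).carrier)
    have hle : Ideal.span {y : R | P y} ≤ Ideal.span {y : R | P y ∨ y = x} :=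
      Ideal.span_mono (fun y hy => Or.inl hy)
    refine add_mem (Submodule.smul_mono_left hle (K.d0_mem y)) ?_
    exact Submodule.smul_mem_smul (Ideal.subset_span (Or.inr rfl)) Submodule.mem_top

end Cone

/-- a Koszul-type complex for any finite list of linear forms -/
theorem nonempty_kos (l : List R) (hl : ∀ x ∈ l, x ∈ 𝒜 1) :
    Nonempty (Kos a ℳ (fun y => y ∈ l)) := by
  induction l with
  | nil =>
    have : (fun y : R => y ∈ ([] : List R)) = fun _ => False := by
      funext y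
      simp
    rw [this]
    exact ⟨Kos.base a ℳ⟩
  | cons x l ih =>
    obtain ⟨K⟩ := ih (fun y hy => hl y (List.mem_cons_of_mem _ hy))
    have : (fun y : R => y ∈ x :: l) = fun y => y ∈ l ∨ y = x := by
      funext y
      rw [List.mem_cons, or_comm]
    rw [this]
    exact ⟨K.cone x (hl x List.mem_cons_self)⟩

end Groth.Agent.Lib.helper11.KZ3
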