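import Mathlib
import Groth.Prelude.Def_GrLC
import Groth.Agent.Lib.Helper20.GrFin3
import Groth.Agent.Lib.helper11.KZ3
import Groth.Agent.S0323

/-!
# Koszul chain for graded local cohomology, IV: the chain lemma
-/

set_option autoImplicit false
set_option linter.unusedSectionVars false
set_option linter.unusedVariables false

namespace Groth.Agent.Lib.helper11.KZ4

open DirectSum Groth.Agent.Lib.Helper26.GrProj Groth.Agent.Lib.Helper20.GrKit
  Groth.Agent.Lib.Helper20.GrLES Groth.Agent.Lib.helper11.KZ1 Groth.Agent.Lib.helper11.KZ2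
  Groth.Agent.Lib.helper11.KZ3

universe u

variable {R : Type u} [CommRing R] [IsNoetherianRing R] {𝒜 : ℤ → AddSubgroup R} [GradedRing 𝒜]
  (a : HomogeneousIdeal 𝒜)

section SES

variable {M' : Type u} [AddCommGroup M'] [Module R M'] {ℳ' : ℤ → AddSubgroup M'}
  [DirectSum.Decomposition ℳ'] [SetLike.GradedSMul 𝒜 ℳ']
  {M : Type u} [AddCommGroup M] [Module R M] {ℳ : ℤ → AddSubgroup M}
  [DirectSum.Decomposition ℳ] [SetLike.GradedSMul 𝒜 ℳ]
  {M'' : Type u} [AddCommGroup M''] [Module R M''] {ℳ'' : ℤ → AddSubgroup M''}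
  [DirectSum.Decomposition ℳ''] [SetLike.GradedSMul 𝒜 ℳ'']
  (f : M' →ₗ[R] M) (π : M →ₗ[R] M'') (hfg : GrLC.IsGrHom ℳ' ℳ f)
  (hπg : GrLC.IsGrHom ℳ ℳ'' π) (hf : Function.Injective f) (hπ : Function.Surjective π)
  (hex : LinearMap.ker π = LinearMap.range f)

include hfg hπg hf hπ hex

theorem van_mid (i : ℕ) (g : ℤ) (h' : Van a ℳ' i g) (h'' : Van a ℳ'' i g) : Van a ℳ i g := by
  intro E
  obtain ⟨E'⟩ := nonempty_starInjRes 𝒜 ℳ'
  obtain ⟨E''⟩ := nonempty_starInjRes 𝒜 ℳ''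
  exact mid_eq_bot E' E E'' f π hfg hπg hf hπ hex a i g (h' E') (h'' E'')

theorem van_right (i : ℕ) (g : ℤ) (h : Van a ℳ i g) (h' : Van a ℳ' (i + 1) g) :
    Van a ℳ'' i g := by
  intro E''
  obtain ⟨E'⟩ := nonempty_starInjRes 𝒜 ℳ'
  obtain ⟨E⟩ := nonempty_starInjRes 𝒜 ℳ
  exact right_eq_bot E' E E'' f π hfg hπg hf hπ hex a i g (h E) (h' E')

theorem van_left (i : ℕ) (g : ℤ) (h'' : Van a ℳ'' i g) (h : Van a ℳ (i + 1) g) :
    Van a ℳ' (i + 1) g := by
  intro E'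
  obtain ⟨E''⟩ := nonempty_starInjRes 𝒜 ℳ''
  obtain ⟨E⟩ := nonempty_starInjRes 𝒜 ℳ
  exact left_eq_bot E' E E'' f π hfg hπg hf hπ hex a i g (h'' E'') (h E)

theorem van_left_zero (g : ℤ) (h : Van a ℳ 0 g) : Van a ℳ' 0 g := by
  intro E'
  obtain ⟨E⟩ := nonempty_starInjRes 𝒜 ℳ
  exact left_zero_eq_bot (ℳ'' := ℳ'') E' E f π hfg hπg hf hπ hex a g (h E)

end SES

section GSES

variable (A B C : GrLC.GMod.{u} 𝒜) (f : A.carrier →ₗ[R] B.carrier) (π : B.carrier →ₗ[R] C.carrier)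
  (hfg : GrLC.IsGrHom A.gr B.gr f) (hπg : GrLC.IsGrHom B.gr C.gr π) (hf : Function.Injective f)
  (hπ : Function.Surjective π) (hex : LinearMap.ker π = LinearMap.range f)

include hfg hπg hf hπ hex

theorem gvan_mid (i : ℕ) (g : ℤ) (h' : Van a A.gr i g) (h'' : Van a C.gr i g) :
    Van a B.gr i g :=
  van_mid a f π hfg hπg hf hπ hex i g h' h''

theorem gvan_right (i : ℕ) (g : ℤ) (h : Van a B.gr i g) (h' : Van a A.gr (i + 1) g) :
    Van a C.gr i g :=
  van_right a f π hfg hπg hf hπ hex i g h h'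

theorem gvan_left (i : ℕ) (g : ℤ) (h'' : Van a C.gr i g) (h : Van a B.gr (i + 1) g) :
    Van a A.gr (i + 1) g :=
  van_left a f π hfg hπg hf hπ hex i g h'' h

theorem gvan_left_zero (g : ℤ) (h : Van a B.gr 0 g) : Van a A.gr 0 g :=
  van_left_zero a f π hfg hπg hf hπ hex g h

end GSES

section Tors

variable {T : Type u} [AddCommGroup T] [Module R T] (𝒯 : ℤ → AddSubgroup T)
  [DirectSum.Decomposition 𝒯] [SetLike.GradedSMul 𝒜 𝒯]

theorem van_of_torsion (htors : ∀ z : T, ∃ s : ℕ, ∀ r ∈ a.toIdeal ^ s, r • z = 0) (i : ℕ)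
    (hi : 0 < i) (g : ℤ) : Van a 𝒯 i g := by
  intro E
  obtain ⟨e⟩ := bridge_starInjRes E a i
  haveI := (Groth.Agent.S0323.result R a.toIdeal T htors).2 i hi
  haveI : Subsingleton (E.H a i) := e.toEquiv.subsingleton
  rw [AddSubgroup.eq_bot_iff_forall]
  intro w _
  exact Subsingleton.elim _ _

theorem van_of_lt (t : ℕ) (ht : ∀ (M : Type u) [AddCommGroup M] [Module R M]
    (ℳ : ℤ → AddSubgroup M) [DirectSum.Decomposition ℳ] [SetLike.GradedSMul 𝒜 ℳ]
    (E : GrLC.StarInjRes 𝒜 ℳ) (i : ℕ), t < i → Subsingleton (E.H a i)) (i : ℕ) (hi : t < i)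
    (g : ℤ) : Van a 𝒯 i g := by
  intro E
  haveI := ht T 𝒯 E i hi
  rw [AddSubgroup.eq_bot_iff_forall]
  intro w _
  exact Subsingleton.elim _ _

end Tors

/-- bundled graded submodule -/
noncomputable def gsub (X : GrLC.GMod.{u} 𝒜) (P : Submodule R X.carrier)
    (hP : ∀ g x, x ∈ P → proj X.gr g x ∈ P) : GrLC.GMod.{u} 𝒜 :=
  { carrier := P
    gr := subGr X.gr P
    dec := subDecomposition X.gr P hP
    gsmul := subGradedSMul 𝒜 X.gr P }

/-- bundled graded quotient -/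
noncomputable def gquo (X : GrLC.GMod.{u} 𝒜) (C : Submodule R X.carrier)
    (hC : ∀ g x, x ∈ C → proj X.gr g x ∈ C) : GrLC.GMod.{u} 𝒜 :=
  { carrier := X.carrier ⧸ C
    gr := quoGr X.gr C
    dec := quoDecomposition X.gr C hC
    gsmul := quoGradedSMul 𝒜 X.gr C }

section Chain

variable (X : ℕ → GrLC.GMod.{u} 𝒜) (d : ∀ j : ℕ, (X (j + 1)).carrier →ₗ[R] (X j).carrier)
  (d_gr : ∀ j : ℕ, GrLC.IsGrHom (X (j + 1)).gr (X j).gr (d j))
  (d_comp : ∀ (j : ℕ) (y : (X (j + 1 + 1)).carrier), d j (d (j + 1) y) = 0)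
  (hH : ∀ (j : ℕ) (z : (X (j + 1)).carrier), d j z = 0 → ∀ r ∈ a.toIdeal,
    r • z ∈ LinearMap.range (d (j + 1)))

/-- the boundaries `B_j ⊆ X_j` -/
noncomputable def Bm (j : ℕ) : GrLC.GMod.{u} 𝒜 :=
  gsub (X j) (LinearMap.range (d j))
    (fun g x hx => range_proj_stable (X (j + 1)).gr (X j).gr (d j) (d_gr j) g x hx)

/-- the cycles `Z_j ⊆ X_{j+1}` -/
noncomputable def Zm (j : ℕ) : GrLC.GMod.{u} 𝒜 :=
  gsub (X (j + 1)) (LinearMap.ker (d j))
    (fun g x hx => ker_proj_stable (X (j + 1)).gr (X j).gr (d j) (d_gr j) g x hx)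

/-- the boundaries inside the cycles -/
def BZ (j : ℕ) : Submodule R (LinearMap.ker (d j)) :=
  (LinearMap.range (d (j + 1))).comap (LinearMap.ker (d j)).subtype

theorem BZ_stable (j : ℕ) (g : ℤ) (x : LinearMap.ker (d j)) (hx : x ∈ BZ X d j) :
    proj (Zm X d d_gr j).gr g x ∈ BZ X d j := by
  letI : DirectSum.Decomposition (subGr (X (j + 1)).gr (LinearMap.ker (d j))) :=
    (Zm X d d_gr j).dec
  show ((proj (subGr (X (j + 1)).gr (LinearMap.ker (d j))) g x : LinearMap.ker (d j)) :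
    (X (j + 1)).carrier) ∈ LinearMap.range (d (j + 1))
  rw [proj_subGr (X (j + 1)).gr (LinearMap.ker (d j))
    (fun g x hx => ker_proj_stable (X (j + 1)).gr (X j).gr (d j) (d_gr j) g x hx) g x]
  exact range_proj_stable (X (j + 1 + 1)).gr (X (j + 1)).gr (d (j + 1)) (d_gr (j + 1)) g _ hx

/-- the homology `Z_j / B_{j+1}` -/
noncomputable def Tm (j : ℕ) : GrLC.GMod.{u} 𝒜 :=
  gquo (Zm X d d_gr j) (BZ X d j) (BZ_stable X d d_gr j)

include d_comp in
theorem range_le_ker (j : ℕ) : LinearMap.range (d (j + 1)) ≤ LinearMap.ker (d j) := by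
  rintro _ ⟨y, rfl⟩
  exact d_comp j y

include hH in
theorem Tm_torsion (j : ℕ) (z : (Tm X d d_gr j).carrier) :
    ∃ s : ℕ, ∀ r ∈ a.toIdeal ^ s, r • z = 0 := by
  refine ⟨1, fun r hr => ?_⟩
  rw [pow_one] at hr
  obtain ⟨w, rfl⟩ := Submodule.mkQ_surjective (BZ X d j) z
  show (r • ((BZ X d j).mkQ w) : ↥(LinearMap.ker (d j)) ⧸ BZ X d j) = 0
  rw [← map_smul]
  apply (Submodule.Quotient.mk_eq_zero _).2
  show ((r • w : LinearMap.ker (d j)) : (X (j + 1)).carrier) ∈ LinearMap.range (d (j + 1))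
  rw [Submodule.coe_smul]
  exact hH j w w.2 r hr

include d_comp hH in
theorem chain_aux (t : ℕ) (ht : ∀ (M : Type u) [AddCommGroup M] [Module R M]
    (ℳ : ℤ → AddSubgroup M) [DirectSum.Decomposition ℳ] [SetLike.GradedSMul 𝒜 ℳ]
    (E : GrLC.StarInjRes 𝒜 ℳ) (i : ℕ), t < i → Subsingleton (E.H a i)) (i : ℕ) (g : ℤ)
    (hv : ∀ j : ℕ, Van a (X (j + 1)).gr (i + j) g) :
    ∀ (k j : ℕ), t < i + j + k → Van a (Bm X d d_gr j).gr (i + j) g := by
  intro k
  induction k with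
  | zero =>
    intro j hj
    exact van_of_lt a _ t ht (i + j) hj g
  | succ k ih =>
    intro j hj
    have h1 : Van a (Bm X d d_gr (j + 1)).gr (i + j + 1) g := ih (j + 1) (by omega)
    -- the sequence `0 → B_{j+1} → Z_j → T_j → 0`
    have h2 : Van a (Zm X d d_gr j).gr (i + j + 1) g := by
      refine gvan_mid a (Bm X d d_gr (j + 1)) (Zm X d d_gr j) (Tm X d d_gr j)
        (Submodule.inclusion (range_le_ker X d d_comp j)) (BZ X d j).mkQ ?_ ?_ ?_ ?_ ?_
        (i + j + 1) g h1 (van_of_torsion a _ (Tm_torsion a X d d_gr hH j) (i + j + 1)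
          (by omega) g)
      · intro g x hx
        exact hx
      · intro g x hx
        exact ⟨x, hx, rfl⟩
      · exact Submodule.inclusion_injective _
      · exact Submodule.mkQ_surjective (BZ X d j)
      · exact (Submodule.ker_mkQ (BZ X d j)).trans (Submodule.range_inclusion _ _ _).symm
    -- the sequence `0 → Z_j → X_{j+1} → B_j → 0`
    refine gvan_right a (Zm X d d_gr j) (X (j + 1)) (Bm X d d_gr j)
      (LinearMap.ker (d j)).subtype (d j).rangeRestrict ?_ ?_ ?_ ?_ ?_ (i + j) g (hv j) h2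
    · intro g x hx
      exact hx
    · intro g x hx
      exact d_gr j g x hx
    · exact Submodule.subtype_injective _
    · exact LinearMap.surjective_rangeRestrict _
    · exact (LinearMap.ker_rangeRestrict _).trans (Submodule.range_subtype _).symm

include d_comp hH in
/-- **Chain lemma.** -/
theorem chain (i : ℕ) (g : ℤ) (hv : ∀ j : ℕ, Van a (X (j + 1)).gr (i + j) g) :
    Van a (Bm X d d_gr 0).gr i g := by
  obtain ⟨t, ht⟩ := Groth.Agent.Lib.Helper20.GrFin.exists_cd 𝒜 a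
  exact chain_aux a X d d_gr d_comp hH t ht i g hv (t + 1) 0 (by omega)

end Chain

end Groth.Agent.Lib.helper11.KZ4
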