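import Mathlib
import Groth.Prelude.Def_GrLC
import Groth.Agent.Lib.helper11.KZ4

/-!
# Koszul chain for graded local cohomology, V: consequences for the module itself
-/

set_option autoImplicit false
set_option linter.unusedSectionVars false
set_option linter.unusedVariables false

namespace Groth.Agent.Lib.helper11.KZ5

open DirectSum Groth.Agent.Lib.Helper26.GrProj Groth.Agent.Lib.Helper20.GrKit
  Groth.Agent.Lib.Helper20.GrLES Groth.Agent.Lib.helper11.KZ1 Groth.Agent.Lib.helper11.KZ2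
  Groth.Agent.Lib.helper11.KZ3 Groth.Agent.Lib.helper11.KZ4

universe u

variable {R : Type u} [CommRing R] [IsNoetherianRing R] {𝒜 : ℤ → AddSubgroup R} [GradedRing 𝒜]
  (a : HomogeneousIdeal 𝒜)

section Tors

variable {T : Type u} [AddCommGroup T] [Module R T] (𝒯 : ℤ → AddSubgroup T)
  [DirectSum.Decomposition 𝒯] [SetLike.GradedSMul 𝒜 𝒯]

/-- for a torsion module, `H^0_a(T)_g = 0` forces `T_g = 0` -/
theorem piece_eq_bot_of_torsion (htors : ∀ z : T, ∃ s : ℕ, ∀ r ∈ a.toIdeal ^ s, r • z = 0)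
    (g : ℤ) (h : Van a 𝒯 0 g) : 𝒯 g = ⊥ := by
  obtain ⟨E⟩ := nonempty_starInjRes 𝒜 𝒯
  rw [AddSubgroup.eq_bot_iff_forall]
  intro t ht
  have hc : E.ε t ∈ E.cocyc a 0 := by
    refine ⟨?_, d_eps E t⟩
    obtain ⟨s, hs⟩ := htors t
    exact ⟨s, fun r hr => by rw [← map_smul, hs r hr, map_zero]⟩
  have hmem : E.toH a 0 ⟨E.ε t, hc⟩ ∈ E.Hgr a 0 g := ⟨⟨E.ε t, hc⟩, E.ε_grHom g t ht, rfl⟩
  rw [h E, AddSubgroup.mem_bot, toH_eq_zero_iff, mem_cobdy_zero] at hmem
  exact E.ε_injective (hmem.trans (map_zero _).symm)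

end Tors

section Apply

variable {M : Type u} [AddCommGroup M] [Module R M] {ℳ : ℤ → AddSubgroup M}
  [DirectSum.Decomposition ℳ] [SetLike.GradedSMul 𝒜 ℳ]
  {P : R → Prop} (K : Kos a ℳ P) (hP : a.toIdeal ≤ Ideal.span {y : R | P y})

include hP in
theorem K_hH (j : ℕ) (z : (K.X (j + 1)).carrier) (hz : K.d j z = 0) (r : R)
    (hr : r ∈ a.toIdeal) : r • z ∈ LinearMap.range (K.d (j + 1)) := by
  have hr' := hP hr
  clear hr
  induction hr' using Submodule.span_induction with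
  | mem y hy =>
    obtain ⟨s, -, hs⟩ := K.hom y hy
    have := hs j z
    rw [hz, map_zero, add_zero] at this
    exact ⟨_, this⟩
  | zero =>
    rw [zero_smul]
    exact zero_mem _
  | add y y' _ _ h1 h2 =>
    rw [add_smul]
    exact add_mem h1 h2
  | smul c y _ h1 =>
    rw [smul_eq_mul, mul_smul]
    exact Submodule.smul_mem _ c h1

include hP in
theorem K_h0 (w : (K.X 0).carrier) (r : R) (hr : r ∈ a.toIdeal) :
    r • w ∈ LinearMap.range (K.d 0) := by
  have hr' := hP hr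
  clear hr
  induction hr' using Submodule.span_induction with
  | mem y hy =>
    obtain ⟨s, hs0, -⟩ := K.hom y hy
    exact ⟨_, hs0 w⟩
  | zero =>
    rw [zero_smul]
    exact zero_mem _
  | add y y' _ _ h1 h2 =>
    rw [add_smul]
    exact add_mem h1 h2
  | smul c y _ h1 =>
    rw [smul_eq_mul, mul_smul]
    exact Submodule.smul_mem _ c h1

include hP in
theorem van_B0 (i : ℕ) (g : ℤ) (hv : ∀ j : ℕ, Van a ℳ (i + j) (g - (j + 1))) :
    Van a (Bm K.X K.d K.d_gr 0).gr i g := by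
  apply chain a K.X K.d K.d_gr K.d_comp (fun j z hz r hr => K_hH a K hP j z hz r hr) i g
  intro j
  apply K.bound (j + 1) (i + j) g
  have : g - ((j + 1 : ℕ) : ℤ) = g - ((j : ℤ) + 1) := by push_cast; ring
  rw [this]
  exact hv j

/-- the quotient `X_0 / B_0` -/
noncomputable def Q0 : GrLC.GMod.{u} 𝒜 :=
  gquo (K.X 0) (LinearMap.range (K.d 0))
    (fun g x hx => range_proj_stable (K.X (0 + 1)).gr (K.X 0).gr (K.d 0) (K.d_gr 0) g x hx)

include hP in
theorem Q0_torsion (z : (Q0 a K).carrier) : ∃ s : ℕ, ∀ r ∈ a.toIdeal ^ s, r • z = 0 := by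
  refine ⟨1, fun r hr => ?_⟩
  rw [pow_one] at hr
  obtain ⟨w, rfl⟩ := Submodule.mkQ_surjective (LinearMap.range (K.d 0)) z
  show (r • ((LinearMap.range (K.d 0)).mkQ w) : (K.X 0).carrier ⧸ LinearMap.range (K.d 0)) = 0
  rw [← map_smul]
  exact (Submodule.Quotient.mk_eq_zero _).2 (K_h0 a K hP w r hr)

theorem ses0 :
    GrLC.IsGrHom (Bm K.X K.d K.d_gr 0).gr (K.X 0).gr (LinearMap.range (K.d 0)).subtype ∧
    GrLC.IsGrHom (K.X 0).gr (Q0 a K).gr (LinearMap.range (K.d 0)).mkQ ∧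
    Function.Injective (LinearMap.range (K.d 0)).subtype ∧
    Function.Surjective (LinearMap.range (K.d 0)).mkQ ∧
    LinearMap.ker (LinearMap.range (K.d 0)).mkQ =
      LinearMap.range (LinearMap.range (K.d 0)).subtype :=
  ⟨fun g x hx => hx, fun g x hx => ⟨x, hx, rfl⟩, Submodule.subtype_injective _,
    Submodule.mkQ_surjective _, (Submodule.ker_mkQ _).trans (Submodule.range_subtype _).symm⟩

include K hP in
/-- vanishing on the shifted diagonal propagates (one step) -/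
theorem propagate (i : ℕ) (hi : 0 < i) (g : ℤ)
    (hv : ∀ j : ℕ, Van a ℳ (i + j) (g - (j + 1))) : Van a ℳ i g := by
  have h1 := van_B0 a K hP i g hv
  obtain ⟨s1, s2, s3, s4, s5⟩ := ses0 a K
  have h2 : Van a (K.X 0).gr i g :=
    gvan_mid a (Bm K.X K.d K.d_gr 0) (K.X 0) (Q0 a K) _ _ s1 s2 s3 s4 s5 i g h1
      (van_of_torsion a _ (Q0_torsion a K hP) i hi g)
  obtain ⟨E⟩ := nonempty_starInjRes 𝒜 (K.X 0).gr
  exact van_of_equiv a K.e K.e_gr i g E (h2 E)

include K hP in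
/-- pieces of `M` in degrees where the shifted diagonal vanishes lie in `a M` -/
theorem piece_le (g : ℤ) (h0 : Van a ℳ 0 g) (hv : ∀ j : ℕ, Van a ℳ (1 + j) (g - (j + 1)))
    (m : M) (hm : m ∈ ℳ g) : m ∈ (Ideal.span {y : R | P y}) • (⊤ : Submodule R M) := by
  have h1 := van_B0 a K hP 1 g hv
  obtain ⟨s1, s2, s3, s4, s5⟩ := ses0 a K
  have he' : GrLC.IsGrHom ℳ (K.X 0).gr K.e.symm.toLinearMap := isGrHom_symm (K.X 0).gr ℳ K.e K.e_gr
  have h2 : Van a (K.X 0).gr 0 g := by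
    obtain ⟨E⟩ := nonempty_starInjRes 𝒜 ℳ
    exact van_of_equiv a K.e.symm he' 0 g E (h0 E)
  have h3 : Van a (Q0 a K).gr 0 g :=
    gvan_right a (Bm K.X K.d K.d_gr 0) (K.X 0) (Q0 a K) _ _ s1 s2 s3 s4 s5 0 g h2 h1
  have h4 : (Q0 a K).gr g = ⊥ := piece_eq_bot_of_torsion a _ (Q0_torsion a K hP) g h3
  have h5 : (LinearMap.range (K.d 0)).mkQ (K.e.symm m) ∈ (Q0 a K).gr g :=
    s2 g _ (he' g m hm)
  rw [h4] at h5
  have h5' : (LinearMap.range (K.d 0)).mkQ (K.e.symm m) = 0 := AddSubgroup.mem_bot.1 h5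
  have h6 : K.e.symm m ∈ LinearMap.range (K.d 0) := (Submodule.Quotient.mk_eq_zero _).1 h5'
  obtain ⟨y, hy⟩ := h6
  have h7 := K.d0_mem y
  rw [hy] at h7
  have h8 : K.e (K.e.symm m) ∈ (Ideal.span {y : R | P y}) • (⊤ : Submodule R M) := by
    have := Submodule.mem_map_of_mem (f := K.e.toLinearMap) h7
    rw [Submodule.map_smul''] at this
    exact Submodule.smul_mono le_rfl le_top this
  rwa [LinearEquiv.apply_symm_apply] at h8

end Apply

end Groth.Agent.Lib.helper11.KZ5
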