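import Mathlib
import Groth.Prelude.Def_GrLC
import Groth.Agent.Lib.helper11.KZ5

/-!
# Koszul chain for graded local cohomology, VI: Castelnuovo–Mumford propagation (S13228)
-/

set_option autoImplicit false
set_option linter.unusedSectionVars false
set_option linter.unusedVariables false

namespace Groth.Agent.Lib.helper11.KZ6

open DirectSum Groth.Agent.Lib.Helper26.GrProj Groth.Agent.Lib.Helper20.GrKit
  Groth.Agent.Lib.Helper20.GrLES Groth.Agent.Lib.helper11.KZ1 Groth.Agent.Lib.helper11.KZ2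
  Groth.Agent.Lib.helper11.KZ3 Groth.Agent.Lib.helper11.KZ4 Groth.Agent.Lib.helper11.KZ5

universe u

variable {R : Type u} [CommRing R] [IsNoetherianRing R] {𝒜 : ℤ → AddSubgroup R} [GradedRing 𝒜]
  (a : HomogeneousIdeal 𝒜)
  (hhom : a.toIdeal = Ideal.span ((𝒜 1 : AddSubgroup R) : Set R))

include hhom in
/-- a finite list of linear forms generating the irrelevant ideal -/
theorem exists_list : ∃ l : List R, (∀ x ∈ l, x ∈ 𝒜 1) ∧
    a.toIdeal = Ideal.span {y : R | y ∈ l} := by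
  classical
  have hfg : (Ideal.span ((𝒜 1 : AddSubgroup R) : Set R)).FG := by
    rw [← hhom]
    exact IsNoetherian.noetherian _
  obtain ⟨s', hs', hspan⟩ := (Submodule.fg_span_iff_fg_span_finset_subset _).1 hfg
  refine ⟨s'.toList, fun x hx => hs' (Finset.mem_toList.1 hx), ?_⟩
  rw [hhom]
  have : {y : R | y ∈ s'.toList} = (s' : Set R) := by
    ext y
    simp
  rw [this]
  exact hspan

variable {M : Type u} [AddCommGroup M] [Module R M] (ℳ : ℤ → AddSubgroup M)
  [DirectSum.Decomposition ℳ] [SetLike.GradedSMul 𝒜 ℳ]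

include hhom in
/-- one step of propagation, in terms of the module only -/
theorem propagate' (i : ℕ) (hi : 0 < i) (g : ℤ)
    (hv : ∀ j : ℕ, Van a ℳ (i + j) (g - (j + 1))) : Van a ℳ i g := by
  obtain ⟨l, hl1, hl2⟩ := exists_list a hhom
  obtain ⟨K⟩ := nonempty_kos a ℳ l hl1
  exact propagate a K hl2.le i hi g hv

include hhom in
/-- pieces of `M` in degrees where the shifted diagonal vanishes lie in `a M` -/
theorem piece_le' (g : ℤ) (h0 : Van a ℳ 0 g) (hv : ∀ j : ℕ, Van a ℳ (1 + j) (g - (j + 1)))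
    (m : M) (hm : m ∈ ℳ g) : m ∈ a.toIdeal • (⊤ : Submodule R M) := by
  obtain ⟨l, hl1, hl2⟩ := exists_list a hhom
  obtain ⟨K⟩ := nonempty_kos a ℳ l hl1
  rw [hl2]
  exact piece_le a K hl2.le g h0 hv m hm

include hhom in
theorem propagate_all (r : ℤ) (l : ℕ) (hl : 1 ≤ l)
    (hvan : ∀ i : ℕ, l ≤ i → Van a ℳ i (r + 1 - i)) :
    ∀ (n : ℕ) (i : ℕ), l ≤ i → Van a ℳ i (r + 1 + n - i) := by
  intro n
  induction n with
  | zero =>
    intro i hi
    have : r + 1 + ((0 : ℕ) : ℤ) - (i : ℤ) = r + 1 - i := by push_cast; ring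
    rw [this]
    exact hvan i hi
  | succ n ih =>
    intro i hi
    apply propagate' a hhom ℳ i (by omega)
    intro j
    have : r + 1 + ((n + 1 : ℕ) : ℤ) - (i : ℤ) - ((j : ℤ) + 1) =
        r + 1 + (n : ℤ) - ((i + j : ℕ) : ℤ) := by push_cast; ring
    rw [this]
    exact ih (i + j) (by omega)

include hhom in
/-- **S13228.** -/
theorem s13228 (E : GrLC.StarInjRes 𝒜 ℳ) (r : ℤ) (l : ℕ) (hl : 1 ≤ l)
    (hvan : ∀ i : ℕ, l ≤ i → E.Hcomp a i (r + 1 - i) = ⊥) (i : ℕ) (hi : l ≤ i) (s : ℤ)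
    (hs : r < s) : E.Hcomp a i (s - i) = ⊥ := by
  rw [Hcomp_eq_bot_iff]
  have h1 : ∀ i : ℕ, l ≤ i → Van a ℳ i (r + 1 - i) := by
    intro i hi
    exact van_of_one a i _ E ((Hcomp_eq_bot_iff E a i _).1 (hvan i hi))
  have h2 := propagate_all a hhom ℳ r l hl h1 (s - r - 1).toNat i hi
  have h3 : r + 1 + ((s - r - 1).toNat : ℤ) - (i : ℤ) = s - i := by
    rw [Int.toNat_of_nonneg (by omega)]
    ring
  rw [h3] at h2
  exact h2 E

end Groth.Agent.Lib.helper11.KZ6
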