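import Mathlib
import Groth.Prelude.Def_GrLC
import Groth.Agent.Lib.Helper20.GrLES16
import Groth.Agent.Lib.helper11.KZ6

/-!
# Koszul chain for graded local cohomology, VIII: regularity and quasi-regular linear forms
-/

set_option autoImplicit false
set_option linter.unusedSectionVars false
set_option linter.unusedVariables false
set_option linter.style.haveILetI false

namespace Groth.Agent.Lib.helper11.KZ8

open DirectSum Groth.Agent.Lib.Helper26.GrProj Groth.Agent.Lib.Helper20.GrKit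
  Groth.Agent.Lib.Helper20.GrLES Groth.Agent.Lib.helper11.KZ1 Groth.Agent.Lib.helper11.KZ2
  Groth.Agent.Lib.helper11.KZ3 Groth.Agent.Lib.helper11.KZ4 Groth.Agent.Lib.helper11.KZ5
  Groth.Agent.Lib.helper11.KZ6

universe u

variable {R : Type u} [CommRing R] [IsNoetherianRing R] {𝒜 : ℤ → AddSubgroup R} [GradedRing 𝒜]
  (a : HomogeneousIdeal 𝒜)
  {M : Type u} [AddCommGroup M] [Module R M] {ℳ : ℤ → AddSubgroup M}
  [DirectSum.Decomposition ℳ] [SetLike.GradedSMul 𝒜 ℳ]
  {N : Type u} [AddCommGroup N] [Module R N] {𝒩 : ℤ → AddSubgroup N}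
  [DirectSum.Decomposition 𝒩] [SetLike.GradedSMul 𝒜 𝒩]

/-- If `(0 :_M x)` has no higher local cohomology, vanishing of `H^i(M/xM)_g` and `H^{i+1}(M)_g`
forces vanishing of `H^{i+1}(M)_{g-k}`. -/
theorem rev_step (x : R) (k : ℤ) (hx : x ∈ 𝒜 k)
    (hK : ∀ j : ℕ, 1 ≤ j →
      Subsingleton (LocCoh.H a.toIdeal j (LinearMap.ker (x • (LinearMap.id : M →ₗ[R] M)))))
    (π : M →ₗ[R] N) (hπ : Function.Surjective π) (hπg : GrLC.IsGrHom ℳ 𝒩 π)
    (hker : LinearMap.ker π = LinearMap.range (x • (LinearMap.id : M →ₗ[R] M)))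
    (i : ℕ) (g : ℤ) (h1 : Van a 𝒩 i g) (h2 : Van a ℳ (i + 1) g) :
    Van a ℳ (i + 1) (g - k) := by
  classical
  set K : Submodule R M := LinearMap.ker (x • (LinearMap.id : M →ₗ[R] M)) with hKdef
  have hKst : ∀ g y, y ∈ K → proj ℳ g y ∈ K := ker_smul_proj_stable x k hx
  letI : DirectSum.Decomposition (subGr ℳ K) := subDecomposition ℳ K hKst
  letI : DirectSum.Decomposition (quoGr ℳ K) := quoDecomposition ℳ K hKst
  have hEK : ∀ (j : ℕ) (g' : ℤ), 1 ≤ j → Van a (subGr ℳ K) j g' := by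
    intro j g' hj EK
    obtain ⟨e⟩ := bridge_starInjRes EK a j
    haveI := hK j hj
    haveI : Subsingleton (EK.H a j) := e.toEquiv.subsingleton
    rw [AddSubgroup.eq_bot_iff_forall]
    intro w _
    exact Subsingleton.elim _ _
  -- second sequence `0 → (M/K)(-k) → M → N → 0`
  let xb : (M ⧸ K) →ₗ[R] M := K.liftQ (x • (LinearMap.id : M →ₗ[R] M)) le_rfl
  have hxbg : GrLC.IsGrHom (shiftGr (quoGr ℳ K) k) ℳ xb := by
    rintro g' y ⟨m', hm', rfl⟩
    change x • m' ∈ ℳ g'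
    have := SetLike.GradedSMul.smul_mem (A := 𝒜) (B := ℳ) hx hm'
    rw [vadd_eq_add, add_sub_cancel] at this
    exact this
  have hxbi : Function.Injective xb := by
    rw [← LinearMap.ker_eq_bot]
    exact Submodule.ker_liftQ_eq_bot _ _ _ le_rfl
  have hxbr : LinearMap.ker π = LinearMap.range xb := by
    rw [hker, Submodule.range_liftQ]
  have h3 : Van a (shiftGr (quoGr ℳ K) k) (i + 1) g :=
    van_left a xb π hxbg hπg hxbi hπ hxbr i g h1 h2
  have h4 : Van a (quoGr ℳ K) (i + 1) (g - k) := by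
    intro Eb
    have := h3 (shiftRes Eb k)
    rw [AddSubgroup.eq_bot_iff_forall] at this ⊢
    intro w hw
    exact this w ((shiftH_mem Eb k a (i + 1) g w).2 hw)
  -- first sequence `0 → K → M → M/K → 0`
  exact van_mid a K.subtype K.mkQ (fun g y hy => hy) (mkQ_isGrHom ℳ K)
    (Submodule.subtype_injective K) (Submodule.mkQ_surjective K)
    (by rw [Submodule.ker_mkQ, Submodule.range_subtype]) (i + 1) (g - k)
    (hEK (i + 1) (g - k) (by omega)) h4

section Reg

variable (hpos : ∀ n : ℤ, n < 0 → 𝒜 n = ⊥)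
  (ha : a.toIdeal = Ideal.span (⋃ n ∈ Set.Ioi (0 : ℤ), (𝒜 n : Set R)))
  (hhom : a.toIdeal = Ideal.span ((𝒜 1 : AddSubgroup R) : Set R))
  [Module.Finite R M] [Module.Finite R N]
  (x : R) (hx : x ∈ 𝒜 1)
  (hK : ∀ j : ℕ, 1 ≤ j →
    Subsingleton (LocCoh.H a.toIdeal j (LinearMap.ker (x • (LinearMap.id : M →ₗ[R] M)))))
  (π : M →ₗ[R] N) (hπ : Function.Surjective π) (hπg : GrLC.IsGrHom ℳ 𝒩 π)
  (hker : LinearMap.ker π = LinearMap.range (x • (LinearMap.id : M →ₗ[R] M)))

include hhom hx hK hπ hπg hker in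
/-- `H^0` of the quotient of a `d`-regular module -/
theorem quot_zero (d : ℤ) (h0 : ∀ g : ℤ, d < g → Van a ℳ 0 g)
    (hM : ∀ i : ℕ, 0 < i → Van a ℳ i (d - i + 1)) (g : ℤ) (hg : d < g) : Van a 𝒩 0 g := by
  obtain ⟨E⟩ := nonempty_starInjRes 𝒜 ℳ
  obtain ⟨E'⟩ := nonempty_starInjRes 𝒜 𝒩
  apply van_of_one a 0 g E'
  have hM' : ∀ i : ℕ, 1 ≤ i → Van a ℳ i (d + 1 - i) := by
    intro i hi
    have : d + 1 - (i : ℤ) = d - i + 1 := by ring
    rw [this]
    exact hM i hi
  have h2 := propagate_all a hhom ℳ d 1 le_rfl hM' (g - d - 1).toNat 1 le_rfl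
  have e : d + 1 + ((g - d - 1).toNat : ℤ) - ((1 : ℕ) : ℤ) = g - 1 := by
    rw [Int.toNat_of_nonneg (by omega)]
    push_cast
    ring
  rw [e] at h2
  exact quasi_regular_step a x 1 hx hK π hπ hπg hker E E' 0 g (h0 g hg E) (h2 E)

include ha hhom hx hK hπ hπg hker in
/-- lifting weak regularity from the quotient -/
theorem lift_reg (d : ℤ) (h0 : ∀ g : ℤ, d < g → Van a 𝒩 0 g)
    (hN : ∀ i : ℕ, 0 < i → Van a 𝒩 i (d - i + 1)) (i : ℕ) (hi : 0 < i) :
    Van a ℳ i (d - i + 1) := by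
  obtain ⟨E⟩ := nonempty_starInjRes 𝒜 ℳ
  obtain ⟨r, hr⟩ := Groth.Agent.Lib.Helper20.GrFin.s13227 𝒜 a ha ℳ E
  obtain ⟨i, rfl⟩ : ∃ i', i = i' + 1 := ⟨i - 1, by omega⟩
  -- vanishing for the quotient on and above the diagonal
  have hN' : ∀ i : ℕ, 1 ≤ i → Van a 𝒩 i (d + 1 - i) := by
    intro i hi
    have : d + 1 - (i : ℤ) = d - i + 1 := by ring
    rw [this]
    exact hN i hi
  have hNall : ∀ g : ℤ, d - i + 1 ≤ g → Van a 𝒩 i g := by
    intro g hg
    by_cases hi0 : i = 0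
    · subst hi0
      apply h0
      push_cast at hg
      omega
    · have h2 := propagate_all a hhom 𝒩 d 1 le_rfl hN' (g + i - d - 1).toNat i (by omega)
      have e : d + 1 + ((g + i - d - 1).toNat : ℤ) - (i : ℤ) = g := by
        rw [Int.toNat_of_nonneg (by omega)]
        ring
      rw [e] at h2
      exact h2
  -- descending induction
  have key : ∀ (n : ℕ) (g : ℤ), d - i + 1 ≤ g → r ≤ g + n → Van a ℳ (i + 1) (g - 1) := by
    intro n
    induction n with
    | zero =>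
      intro g hg hrg
      exact rev_step a x 1 hx hK π hπ hπg hker i g (hNall g hg)
        (van_of_one a (i + 1) g E ((Hcomp_eq_bot_iff E a _ _).1 (hr (i + 1) g (by simpa using hrg))))
    | succ n ih =>
      intro g hg hrg
      have h3 := ih (g + 1) (by omega) (by push_cast at hrg ⊢; omega)
      rw [add_sub_cancel_right] at h3
      exact rev_step a x 1 hx hK π hπ hπg hker i g (hNall g hg) h3
  have h4 := key (r - (d - i + 1)).toNat (d - i + 1) le_rfl (by
    have := Int.self_le_toNat (r - (d - i + 1))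
    omega)
  have e : d - (i : ℤ) + 1 - 1 = d - ((i + 1 : ℕ) : ℤ) + 1 := by push_cast; ring
  rw [e] at h4
  exact h4

end Reg

end Groth.Agent.Lib.helper11.KZ8
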