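import Mathlib
import Groth.Prelude.Def_GrLC
import Groth.Agent.Lib.helper11.KZ8

/-!
# Koszul chain for graded local cohomology, X: regularity in terms of local cohomology
-/

set_option autoImplicit false
set_option linter.unusedSectionVars false
set_option linter.unusedVariables false
set_option linter.style.haveILetI false

namespace Groth.Agent.Lib.helper11.KZ10

open DirectSum Groth.Agent.Lib.Helper26.GrProj Groth.Agent.Lib.Helper20.GrKit
  Groth.Agent.Lib.Helper20.GrLES Groth.Agent.Lib.helper11.KZ1 Groth.Agent.Lib.helper11.KZ2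
  Groth.Agent.Lib.helper11.KZ3 Groth.Agent.Lib.helper11.KZ4 Groth.Agent.Lib.helper11.KZ5
  Groth.Agent.Lib.helper11.KZ6 Groth.Agent.Lib.helper11.KZ8

universe u

variable {R : Type u} [CommRing R] [IsNoetherianRing R] {𝒜 : ℤ → AddSubgroup R} [GradedRing 𝒜]
  (a : HomogeneousIdeal 𝒜)

section Def

variable {M : Type u} [AddCommGroup M] [Module R M] (ℳ : ℤ → AddSubgroup M)
  [DirectSum.Decomposition ℳ] [SetLike.GradedSMul 𝒜 ℳ]

/-- the regularity (in the sense of local cohomology) is at most `d` -/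
def RegLE (d : ℤ) : Prop := ∀ (i : ℕ) (g : ℤ), d < g + i → Van a ℳ i g

variable {ℳ}

theorem RegLE.mono {d d' : ℤ} (h : RegLE a ℳ d) (hd : d ≤ d') : RegLE a ℳ d' :=
  fun i g hg => h i g (by omega)

/-- `H^0_a(M)_g = 0` as soon as `M_g = 0` -/
theorem van_zero_of_piece (g : ℤ) (h : ℳ g = ⊥) : Van a ℳ 0 g := by
  classical
  intro E
  rw [AddSubgroup.eq_bot_iff_forall]
  rintro x ⟨z, hz, rfl⟩
  have hzr : (z : (E.X 0).carrier) ∈ LinearMap.range E.ε := by
    rw [← E.exact_zero]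
    exact z.2.2
  obtain ⟨t, ht⟩ := hzr
  have h1 : E.ε (proj ℳ g t) = z := by
    rw [← proj_hom ℳ (E.X 0).gr E.ε E.ε_grHom g t, ht]
    exact proj_of_mem_same (E.X 0).gr hz
  have h2 : proj ℳ g t = 0 := by
    have := proj_mem ℳ g t
    rw [h, AddSubgroup.mem_bot] at this
    exact this
  rw [h2, map_zero] at h1
  rw [toH_eq_zero_iff, mem_cobdy_zero]
  exact h1.symm

theorem van_unshift (i : ℕ) (g k : ℤ) (h : Van a (shiftGr ℳ k) i g) : Van a ℳ i (g - k) := by
  intro E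
  have := h (shiftRes E k)
  rw [AddSubgroup.eq_bot_iff_forall] at this ⊢
  intro w hw
  exact this w ((shiftH_mem E k a i g w).2 hw)

theorem RegLE.shift {d : ℤ} (h : RegLE a ℳ d) (k : ℤ) : RegLE a (shiftGr ℳ k) (d + k) := by
  intro i g hg
  apply van_shift a i g k
  exact h i (g - k) (by omega)

end Def

section SES

variable {M' : Type u} [AddCommGroup M'] [Module R M'] {ℳ' : ℤ → AddSubgroup M'}
  [DirectSum.Decomposition ℳ'] [SetLike.GradedSMul 𝒜 ℳ']
  {M : Type u} [AddCommGroup M] [Module R M] {ℳ : ℤ → AddSubgroup M}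
  [DirectSum.Decomposition ℳ] [SetLike.GradedSMul 𝒜 ℳ]
  {M'' : Type u} [AddCommGroup M''] [Module R M''] {ℳ'' : ℤ → AddSubgroup M''}
  [DirectSum.Decomposition ℳ''] [SetLike.GradedSMul 𝒜 ℳ'']
  (f : M' →ₗ[R] M) (π : M →ₗ[R] M'') (hfg : GrLC.IsGrHom ℳ' ℳ f)
  (hπg : GrLC.IsGrHom ℳ ℳ'' π) (hf : Function.Injective f) (hπ : Function.Surjective π)
  (hex : LinearMap.ker π = LinearMap.range f)

include hfg hπg hf hπ hex

theorem RegLE.mid {d : ℤ} (h' : RegLE a ℳ' d) (h'' : RegLE a ℳ'' d) : RegLE a ℳ d :=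
  fun i g hg => van_mid a f π hfg hπg hf hπ hex i g (h' i g hg) (h'' i g hg)

theorem RegLE.right {d : ℤ} (h : RegLE a ℳ d) (h' : RegLE a ℳ' (d + 1)) : RegLE a ℳ'' d :=
  fun i g hg => van_right a f π hfg hπg hf hπ hex i g (h i g hg)
    (h' (i + 1) g (by push_cast; omega))

theorem RegLE.left {d : ℤ} (h : RegLE a ℳ d) (h'' : RegLE a ℳ'' (d - 1)) : RegLE a ℳ' d := by
  intro i g hg
  cases i with
  | zero => exact van_left_zero a f π hfg hπg hf hπ hex g (h 0 g hg)
  | succ i =>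
    exact van_left a f π hfg hπg hf hπ hex i g (h'' i g (by push_cast at hg; omega))
      (h (i + 1) g hg)

end SES

section Equiv

variable {M : Type u} [AddCommGroup M] [Module R M] {ℳ : ℤ → AddSubgroup M}
  [DirectSum.Decomposition ℳ] [SetLike.GradedSMul 𝒜 ℳ]
  {N : Type u} [AddCommGroup N] [Module R N] {𝒩 : ℤ → AddSubgroup N}
  [DirectSum.Decomposition 𝒩] [SetLike.GradedSMul 𝒜 𝒩]

theorem RegLE.equiv {d : ℤ} (h : RegLE a ℳ d) (e : M ≃ₗ[R] N)
    (he : GrLC.IsGrHom ℳ 𝒩 e.toLinearMap) : RegLE a 𝒩 d := by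
  intro i g hg
  obtain ⟨E⟩ := nonempty_starInjRes 𝒜 ℳ
  exact van_of_equiv a e he i g E (h i g hg E)

theorem RegLE.prod {d : ℤ} (h1 : RegLE a ℳ d) (h2 : RegLE a 𝒩 d) : RegLE a (prodGr ℳ 𝒩) d :=
  fun i g hg => van_prod a i g (h1 i g hg) (h2 i g hg)

end Equiv

section Weak

variable (hhom : a.toIdeal = Ideal.span ((𝒜 1 : AddSubgroup R) : Set R))
  {M : Type u} [AddCommGroup M] [Module R M] {ℳ : ℤ → AddSubgroup M}
  [DirectSum.Decomposition ℳ] [SetLike.GradedSMul 𝒜 ℳ]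

include hhom in
/-- weak regularity implies regularity -/
theorem regLE_of_weak (d : ℤ) (h0 : ∀ g : ℤ, d < g → Van a ℳ 0 g)
    (hM : ∀ i : ℕ, 0 < i → Van a ℳ i (d - i + 1)) : RegLE a ℳ d := by
  intro i g hg
  by_cases hi : i = 0
  · subst hi
    exact h0 g (by simpa using hg)
  · have hM' : ∀ i : ℕ, 1 ≤ i → Van a ℳ i (d + 1 - i) := by
      intro i hi
      have : d + 1 - (i : ℤ) = d - i + 1 := by ring
      rw [this]
      exact hM i hi
    have h2 := propagate_all a hhom ℳ d 1 le_rfl hM' (g + i - d - 1).toNat i (by omega)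
    have e : d + 1 + ((g + i - d - 1).toNat : ℤ) - (i : ℤ) = g := by
      rw [Int.toNat_of_nonneg (by omega)]
      ring
    rw [e] at h2
    exact h2

end Weak

end Groth.Agent.Lib.helper11.KZ10
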