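import Mathlib
import Groth.Prelude.Def_GrLC
import Groth.Agent.Lib.Helper20.GrLES14
import Groth.Agent.Lib.helper11.KZ10

/-!
# Koszul chain for graded local cohomology, XI: regularity and regular sequences of linear forms
-/

set_option autoImplicit false
set_option linter.unusedSectionVars false
set_option linter.unusedVariables false
set_option linter.style.haveILetI false

namespace Groth.Agent.Lib.helper11.KZ11

open DirectSum Groth.Agent.Lib.Helper26.GrProj Groth.Agent.Lib.Helper20.GrKit
  Groth.Agent.Lib.Helper20.GrLES Groth.Agent.Lib.helper11.KZ1 Groth.Agent.Lib.helper11.KZ2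
  Groth.Agent.Lib.helper11.KZ3 Groth.Agent.Lib.helper11.KZ4 Groth.Agent.Lib.helper11.KZ5
  Groth.Agent.Lib.helper11.KZ6 Groth.Agent.Lib.helper11.KZ8 Groth.Agent.Lib.helper11.KZ10
open scoped Pointwise

universe u

variable {R : Type u} [CommRing R] [IsNoetherianRing R] {𝒜 : ℤ → AddSubgroup R} [GradedRing 𝒜]
  (a : HomogeneousIdeal 𝒜)

section Tors

variable {T : Type u} [AddCommGroup T] [Module R T] (𝒯 : ℤ → AddSubgroup T)
  [DirectSum.Decomposition 𝒯] [SetLike.GradedSMul 𝒜 𝒯]

theorem regLE_torsion_iff (htors : ∀ z : T, ∃ s : ℕ, ∀ r ∈ a.toIdeal ^ s, r • z = 0) (d : ℤ) :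
    RegLE a 𝒯 d ↔ ∀ g : ℤ, d < g → 𝒯 g = ⊥ := by
  constructor
  · intro h g hg
    exact piece_eq_bot_of_torsion a 𝒯 htors g (h 0 g (by simpa using hg))
  · intro h i g hg
    by_cases hi : i = 0
    · subst hi
      exact van_zero_of_piece a g (h g (by simpa using hg))
    · exact van_of_torsion a 𝒯 htors i (by omega) g

end Tors

section Quot

variable (ha : a.toIdeal = Ideal.span (⋃ n ∈ Set.Ioi (0 : ℤ), (𝒜 n : Set R)))
  (hhom : a.toIdeal = Ideal.span ((𝒜 1 : AddSubgroup R) : Set R))
  {M : Type u} [AddCommGroup M] [Module R M] [Module.Finite R M] {ℳ : ℤ → AddSubgroup M}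
  [DirectSum.Decomposition ℳ] [SetLike.GradedSMul 𝒜 ℳ]
  {N : Type u} [AddCommGroup N] [Module R N] {𝒩 : ℤ → AddSubgroup N}
  [DirectSum.Decomposition 𝒩] [SetLike.GradedSMul 𝒜 𝒩]
  (y : R) (hy : y ∈ 𝒜 1) (hreg : IsSMulRegular M y)
  (π : M →ₗ[R] N) (hπ : Function.Surjective π) (hπg : GrLC.IsGrHom ℳ 𝒩 π)
  (hker : LinearMap.ker π = LinearMap.range (y • (LinearMap.id : M →ₗ[R] M)))

include hreg in
theorem hK_of_regular (j : ℕ) (hj : 1 ≤ j) :
    Subsingleton (LocCoh.H a.toIdeal j (LinearMap.ker (y • (LinearMap.id : M →ₗ[R] M)))) := by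
  have hbot : LinearMap.ker (y • (LinearMap.id : M →ₗ[R] M)) = ⊥ := by
    rw [LinearMap.ker_eq_bot]
    intro m m' h
    exact hreg h
  haveI : Subsingleton (LinearMap.ker (y • (LinearMap.id : M →ₗ[R] M))) := by
    rw [hbot]
    infer_instance
  exact (Groth.Agent.S0323.result R a.toIdeal _
    (fun m => ⟨0, fun r _ => by rw [Subsingleton.elim m 0, smul_zero]⟩)).2 j hj

include ha hhom hy hreg hπ hπg hker in
/-- the regularity does not change modulo a regular linear form -/
theorem regLE_quot_iff (d : ℤ) : RegLE a ℳ d ↔ RegLE a 𝒩 d := by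
  have hK := hK_of_regular a y hreg
  constructor
  · intro h i g hg
    obtain ⟨E⟩ := nonempty_starInjRes 𝒜 ℳ
    obtain ⟨E'⟩ := nonempty_starInjRes 𝒜 𝒩
    apply van_of_one a i g E'
    exact quasi_regular_step a y 1 hy hK π hπ hπg hker E E' i g (h i g hg E)
      (h (i + 1) (g - 1) (by push_cast; omega) E)
  · intro h
    obtain ⟨E⟩ := nonempty_starInjRes 𝒜 ℳ
    obtain ⟨r, hr⟩ := Groth.Agent.Lib.Helper20.GrFin.s13227 𝒜 a ha ℳ E
    have hrV : ∀ (i : ℕ) (g : ℤ), r ≤ g → Van a ℳ i g := fun i g hg =>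
      van_of_one a i g E ((Hcomp_eq_bot_iff E a _ _).1 (hr i g hg))
    -- degree zero
    have hyg : GrLC.IsGrHom (shiftGr ℳ 1) ℳ (y • (LinearMap.id : M →ₗ[R] M)) := by
      intro g m hm
      have hm' : m ∈ ℳ (g - 1) := hm
      have := SetLike.GradedSMul.smul_mem (A := 𝒜) (B := ℳ) hy hm'
      rw [vadd_eq_add, add_sub_cancel] at this
      exact this
    have hyi : Function.Injective (y • (LinearMap.id : M →ₗ[R] M)) := fun m m' hmm => hreg hmm
    have hzero : ∀ g : ℤ, Van a ℳ 0 g → Van a ℳ 0 (g - 1) := by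
      intro g hg
      exact van_unshift a 0 g 1
        (van_left_zero a (ℳ' := shiftGr ℳ 1) (y • (LinearMap.id : M →ₗ[R] M)) π hyg hπg hyi hπ
          hker g hg)
    have hzero_all : ∀ (n : ℕ) (g : ℤ), r ≤ g + n → Van a ℳ 0 g := by
      intro n
      induction n with
      | zero =>
        intro g hg
        exact hrV 0 g (by simpa using hg)
      | succ n ih =>
        intro g hg
        have := hzero (g + 1) (ih (g + 1) (by push_cast at hg ⊢; omega))
        rwa [add_sub_cancel_right] at this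
    -- positive degrees
    have key : ∀ (i : ℕ) (n : ℕ) (g : ℤ), d < g + i → r ≤ g + n → Van a ℳ (i + 1) (g - 1) := by
      intro i n
      induction n with
      | zero =>
        intro g hg hrg
        exact rev_step a y 1 hy hK π hπ hπg hker i g (h i g hg)
          (hrV (i + 1) g (by simpa using hrg))
      | succ n ih =>
        intro g hg hrg
        have h3 := ih (g + 1) (by omega) (by push_cast at hrg ⊢; omega)
        rw [add_sub_cancel_right] at h3
        exact rev_step a y 1 hy hK π hπ hπg hker i g (h i g hg) h3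
    intro i g hg
    cases i with
    | zero => exact hzero_all (r - g).toNat g (by have := Int.self_le_toNat (r - g); omega)
    | succ i =>
      have := key i (r - (g + 1)).toNat (g + 1) (by push_cast at hg; omega)
        (by have := Int.self_le_toNat (r - (g + 1)); omega)
      rwa [add_sub_cancel_right] at this

end Quot

section Seq

variable (ha : a.toIdeal = Ideal.span (⋃ n ∈ Set.Ioi (0 : ℤ), (𝒜 n : Set R)))
  (hhom : a.toIdeal = Ideal.span ((𝒜 1 : AddSubgroup R) : Set R))

include ha hhom in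
/-- the regularity does not change modulo a regular sequence of linear forms -/
theorem regLE_regseq_iff : ∀ (t : ℕ) (M : Type u) [AddCommGroup M] [Module R M] [Module.Finite R M]
    (ℳ : ℤ → AddSubgroup M) [DirectSum.Decomposition ℳ] [SetLike.GradedSMul 𝒜 ℳ]
    (f : Fin t → R) (hf : ∀ i, f i ∈ 𝒜 1)
    (hreg : RingTheory.Sequence.IsWeaklyRegular M (List.ofFn f))
    (N : Type u) [AddCommGroup N] [Module R N] (𝒩 : ℤ → AddSubgroup N)
    [DirectSum.Decomposition 𝒩] [SetLike.GradedSMul 𝒜 𝒩] (π : M →ₗ[R] N)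
    (hπ : Function.Surjective π) (hπg : GrLC.IsGrHom ℳ 𝒩 π)
    (hker : LinearMap.ker π = Ideal.span (Set.range f) • (⊤ : Submodule R M)) (d : ℤ),
    RegLE a ℳ d ↔ RegLE a 𝒩 d := by
  intro t
  induction t with
  | zero =>
    intro M _ _ _ ℳ _ _ f hf hreg N _ _ 𝒩 _ _ π hπ hπg hker d
    have hk0 : LinearMap.ker π = ⊥ := by
      rw [hker, Set.range_eq_empty f, Ideal.span_empty, Submodule.bot_smul]
    let e : M ≃ₗ[R] N := LinearEquiv.ofBijective π ⟨LinearMap.ker_eq_bot.1 hk0, hπ⟩
    have he : GrLC.IsGrHom ℳ 𝒩 e.toLinearMap := hπg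
    have he' : GrLC.IsGrHom 𝒩 ℳ e.symm.toLinearMap := isGrHom_symm ℳ 𝒩 e he
    exact ⟨fun h => h.equiv a e he, fun h => h.equiv a e.symm he'⟩
  | succ t ih =>
    intro M _ _ _ ℳ _ _ f hf hreg N _ _ 𝒩 _ _ π hπ hπg hker d
    classical
    rw [List.ofFn_succ] at hreg
    obtain ⟨hx, hreg'⟩ := (RingTheory.Sequence.isWeaklyRegular_cons_iff M (f 0) _).1 hreg
    let C : Submodule R M := f 0 • (⊤ : Submodule R M)
    have hC : ∀ g y, y ∈ C → proj ℳ g y ∈ C := smul_top_proj_stable 𝒜 ℳ (f 0) 1 (hf 0)
    letI : DirectSum.Decomposition (quoGr ℳ C) := quoDecomposition ℳ C hC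
    have hkerQ : LinearMap.ker C.mkQ = LinearMap.range (f 0 • (LinearMap.id : M →ₗ[R] M)) := by
      rw [Submodule.ker_mkQ]
      exact smul_top_eq_range (f 0)
    have h1 : RegLE a ℳ d ↔ RegLE a (quoGr ℳ C) d :=
      regLE_quot_iff a ha hhom (f 0) (hf 0) hx C.mkQ (Submodule.mkQ_surjective C)
        (mkQ_isGrHom ℳ C) hkerQ d
    have hCle : C ≤ LinearMap.ker π := by
      rw [hker]
      intro y hy
      obtain ⟨m', -, rfl⟩ := (Submodule.mem_smul_pointwise_iff_exists _ _ _).1 hy
      exact Submodule.smul_mem_smul (Ideal.subset_span ⟨0, rfl⟩) Submodule.mem_top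
    let ρ : (M ⧸ C) →ₗ[R] N := C.liftQ π hCle
    have hρs : Function.Surjective ρ := by
      intro n
      obtain ⟨m', rfl⟩ := hπ n
      exact ⟨C.mkQ m', rfl⟩
    have hρg : GrLC.IsGrHom (quoGr ℳ C) 𝒩 ρ := by
      rintro g y ⟨m', hm', rfl⟩
      exact hπg g m' hm'
    have hρk : LinearMap.ker ρ =
        Ideal.span (Set.range fun i : Fin t => f i.succ) • (⊤ : Submodule R (M ⧸ C)) := by
      rw [Submodule.ker_liftQ, hker, Submodule.map_smul'', Submodule.map_top, Submodule.range_mkQ]
      apply le_antisymm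
      · rw [Submodule.smul_le]
        intro r hr y _
        have key : ∀ y : M ⧸ C, r • y ∈
            Ideal.span (Set.range fun i : Fin t => f i.succ) • (⊤ : Submodule R (M ⧸ C)) := by
          refine Submodule.span_induction (p := fun r _ => ∀ y : M ⧸ C, r • y ∈
            Ideal.span (Set.range fun i : Fin t => f i.succ) • (⊤ : Submodule R (M ⧸ C)))
            ?_ ?_ ?_ ?_ hr
          · rintro _ ⟨i, rfl⟩ y
            refine Fin.cases ?_ (fun j => ?_) i
            · obtain ⟨m', rfl⟩ := C.mkQ_surjective y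
              have : f 0 • C.mkQ m' = 0 := by
                rw [← map_smul, Submodule.mkQ_apply, Submodule.Quotient.mk_eq_zero]
                exact Submodule.smul_mem_pointwise_smul _ _ _ Submodule.mem_top
              rw [this]
              exact Submodule.zero_mem _
            · exact Submodule.smul_mem_smul (Ideal.subset_span ⟨j, rfl⟩) Submodule.mem_top
          · intro y
            rw [zero_smul]
            exact Submodule.zero_mem _
          · intro r s _ _ hr hs y
            rw [add_smul]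
            exact Submodule.add_mem _ (hr y) (hs y)
          · intro r s _ hs y
            rw [smul_eq_mul, mul_smul]
            exact Submodule.smul_mem _ r (hs y)
        exact key y
      · apply Submodule.smul_mono_left
        apply Ideal.span_mono
        rintro _ ⟨j, rfl⟩
        exact ⟨j.succ, rfl⟩
    have h2 := ih (M ⧸ C) (quoGr ℳ C) (fun i => f i.succ) (fun i => hf i.succ) hreg' N 𝒩 ρ hρs
      hρg hρk d
    exact h1.trans h2

end Seq

end Groth.Agent.Lib.helper11.KZ11
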