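import Mathlib
import Groth.Prelude.Def_GrLC
import Groth.Prelude.Def_GrSyz
import Groth.Agent.Lib.Helper20.GrLES18
import Groth.Agent.Lib.Helper5.LciE
import Groth.Agent.Lib.helper11.KZ11

/-!
# Koszul chain for graded local cohomology, XII: the polynomial ring is `0`-regular
-/

set_option autoImplicit false
set_option linter.unusedSectionVars false
set_option linter.unusedVariables false
set_option linter.style.haveILetI false

namespace Groth.Agent.Lib.helper11.KZ12

open DirectSum Groth.Agent.Lib.Helper26.GrProj Groth.Agent.Lib.Helper20.GrKit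
  Groth.Agent.Lib.Helper20.GrLES Groth.Agent.Lib.Helper20.GrConv
  Groth.Agent.Lib.Helper20.HilbDim Groth.Agent.Lib.Helper20.SegQuot
  Groth.Agent.Lib.helper11.KZ1 Groth.Agent.Lib.helper11.KZ2
  Groth.Agent.Lib.helper11.KZ3 Groth.Agent.Lib.helper11.KZ4 Groth.Agent.Lib.helper11.KZ5
  Groth.Agent.Lib.helper11.KZ6 Groth.Agent.Lib.helper11.KZ8 Groth.Agent.Lib.helper11.KZ10
  Groth.Agent.Lib.helper11.KZ11 MvPolynomial
open scoped Pointwise

universe u

variable (k : Type u) [Field k] (n : ℕ)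

/-- the irrelevant ideal of the polynomial ring is generated by the variables -/
theorem irrel_eq_span_X :
    (idealToAS (GrSyz.stdGr k (Fin n)) (GrSyz.irrel (GrSyz.stdGr k (Fin n)))).toIdeal =
      Ideal.span (Set.range (X : Fin n → MvPolynomial (Fin n) k)) := by
  rw [irrel_toIdeal_eq]
  have h1 : Ideal.span (⋃ m ∈ Set.Ioi (0 : ℤ),
      (asGr (GrSyz.stdGr k (Fin n)) m : Set (MvPolynomial (Fin n) k))) =
        irrIdeal (GrSyz.stdGr k (Fin n)) := rfl
  rw [h1, irrIdeal_stdGr]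

/-- the polynomial ring is `0`-regular -/
theorem regLE_poly :
    RegLE (idealToAS (GrSyz.stdGr k (Fin n)) (GrSyz.irrel (GrSyz.stdGr k (Fin n))))
      (asGr (GrSyz.stdGr k (Fin n))) 0 := by
  classical
  set 𝒜₀ := GrSyz.stdGr k (Fin n) with h𝒜₀
  set a := idealToAS 𝒜₀ (GrSyz.irrel 𝒜₀) with hadef
  have ha := irrel_toIdeal_eq k (Fin n)
  have hhom := irrel_toIdeal_eq_span_one k (Fin n)
  have haX := irrel_eq_span_X k n
  let C : Submodule (MvPolynomial (Fin n) k) (MvPolynomial (Fin n) k) := a.toIdeal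
  have hC : ∀ g x, x ∈ C → proj (asGr 𝒜₀) g x ∈ C := fun g x hx => a.isHomogeneous g hx
  letI : DirectSum.Decomposition (quoGr (asGr 𝒜₀) C) := quoDecomposition (asGr 𝒜₀) C hC
  have hX1 : ∀ i : Fin n, (X i : MvPolynomial (Fin n) k) ∈ asGr 𝒜₀ 1 := by
    intro i
    change (X i : MvPolynomial (Fin n) k) ∈ GrSyz.stdGr k (Fin n) 1
    rw [GrSyz.mem_stdGr_iff]
    exact isWeightedHomogeneous_X k (fun _ : Fin n => (1 : ℤ)) i
  have hker : LinearMap.ker C.mkQ = Ideal.span (Set.range (X : Fin n → MvPolynomial (Fin n) k)) •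
      (⊤ : Submodule (MvPolynomial (Fin n) k) (MvPolynomial (Fin n) k)) := by
    rw [Submodule.ker_mkQ, ← haX]
    change a.toIdeal = a.toIdeal • (⊤ : Ideal (MvPolynomial (Fin n) k))
    rw [smul_eq_mul, Ideal.mul_top]
  refine (regLE_regseq_iff a ha hhom n (MvPolynomial (Fin n) k) (asGr 𝒜₀)
    (fun i => (X i : MvPolynomial (Fin n) k)) hX1
    (Groth.Agent.Lib.Helper5.Lci.isWeaklyRegular_X n) (MvPolynomial (Fin n) k ⧸ C)
    (quoGr (asGr 𝒜₀) C) C.mkQ (Submodule.mkQ_surjective C) (mkQ_isGrHom (asGr 𝒜₀) C) hker 0).2 ?_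
  rw [regLE_torsion_iff]
  · intro g hg
    rw [AddSubgroup.eq_bot_iff_forall]
    rintro y ⟨x, hx, rfl⟩
    change C.mkQ x = 0
    rw [Submodule.mkQ_apply, Submodule.Quotient.mk_eq_zero]
    change x ∈ a.toIdeal
    rw [ha]
    apply Ideal.subset_span
    simp only [Set.mem_iUnion, Set.mem_Ioi, SetLike.mem_coe]
    exact ⟨g, hg, hx⟩
  · intro z
    refine ⟨1, fun r hr => ?_⟩
    rw [pow_one] at hr
    obtain ⟨w, rfl⟩ := Submodule.mkQ_surjective C z
    rw [← map_smul, Submodule.mkQ_apply, Submodule.Quotient.mk_eq_zero, smul_eq_mul]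
    exact Ideal.mul_mem_right _ _ hr

end Groth.Agent.Lib.helper11.KZ12
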