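import Mathlib
import Groth.Prelude.Def_GrLC
import Groth.Agent.Lib.helper11.KZ11

/-!
# Koszul chain for graded local cohomology, XIII: regularity of graded free modules
-/

set_option autoImplicit false
set_option linter.unusedSectionVars false
set_option linter.unusedVariables false
set_option linter.style.haveILetI false

namespace Groth.Agent.Lib.helper11.KZ13

open DirectSum Groth.Agent.Lib.Helper26.GrProj Groth.Agent.Lib.Helper20.GrKit
  Groth.Agent.Lib.Helper20.GrLES Groth.Agent.Lib.helper11.KZ1 Groth.Agent.Lib.helper11.KZ2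
  Groth.Agent.Lib.helper11.KZ3 Groth.Agent.Lib.helper11.KZ4 Groth.Agent.Lib.helper11.KZ5
  Groth.Agent.Lib.helper11.KZ6 Groth.Agent.Lib.helper11.KZ8 Groth.Agent.Lib.helper11.KZ10
  Groth.Agent.Lib.helper11.KZ11

universe u

variable {R : Type u} [CommRing R] [IsNoetherianRing R] {𝒜 : ℤ → AddSubgroup R} [GradedRing 𝒜]
  (a : HomogeneousIdeal 𝒜)

/-- regularity of a finite product -/
theorem regLE_pi {N : Type u} [AddCommGroup N] [Module R N] (d : ℤ) :
    ∀ (n : ℕ) (𝒩 : Fin n → ℤ → AddSubgroup N) [∀ j, DirectSum.Decomposition (𝒩 j)]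
      [∀ j, SetLike.GradedSMul 𝒜 (𝒩 j)], (∀ j, RegLE a (𝒩 j) d) → RegLE a (piGr 𝒩) d := by
  intro n
  induction n with
  | zero =>
    intro 𝒩 _ _ _
    rw [regLE_torsion_iff]
    · intro g _
      rw [AddSubgroup.eq_bot_iff_forall]
      intro v _
      exact Subsingleton.elim _ _
    · intro z
      exact ⟨0, fun r _ => by rw [Subsingleton.elim z 0, smul_zero]⟩
  | succ n ih =>
    intro 𝒩 _ _ h
    have h0 := h 0
    have h1 := ih (fun j => 𝒩 j.succ) (fun j => h j.succ)
    let f : N →ₗ[R] (Fin (n + 1) → N) := LinearMap.single R (fun _ => N) 0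
    let π : (Fin (n + 1) → N) →ₗ[R] (Fin n → N) :=
      LinearMap.pi (fun j => LinearMap.proj j.succ)
    refine RegLE.mid a (ℳ' := 𝒩 0) (ℳ'' := piGr (fun j => 𝒩 j.succ)) f π ?_ ?_ ?_ ?_ ?_ h0 h1
    · intro g x hx j
      change (Pi.single (0 : Fin (n + 1)) x : Fin (n + 1) → N) j ∈ 𝒩 j g
      by_cases hj : j = 0
      · subst hj
        rw [Pi.single_eq_same]
        exact hx
      · rw [Pi.single_eq_of_ne hj]
        exact zero_mem _
    · intro g v hv j
      exact hv j.succ
    · intro x x' hxx
      have := congrFun hxx 0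
      change (Pi.single (0 : Fin (n + 1)) x : Fin (n + 1) → N) 0 =
        (Pi.single (0 : Fin (n + 1)) x' : Fin (n + 1) → N) 0 at this
      rwa [Pi.single_eq_same, Pi.single_eq_same] at this
    · intro w
      refine ⟨Fin.cons 0 w, ?_⟩
      funext j
      change (Fin.cons 0 w : Fin (n + 1) → N) j.succ = w j
      rw [Fin.cons_succ]
    · ext v
      constructor
      · intro hv
        refine ⟨v 0, ?_⟩
        funext j
        change (Pi.single (0 : Fin (n + 1)) (v 0) : Fin (n + 1) → N) j = v j
        refine Fin.cases ?_ (fun j' => ?_) j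
        · rw [Pi.single_eq_same]
        · rw [Pi.single_eq_of_ne (Fin.succ_ne_zero j')]
          have := congrFun hv j'
          exact this.symm
      · rintro ⟨x, rfl⟩
        rw [LinearMap.mem_ker]
        funext j
        change (Pi.single (0 : Fin (n + 1)) x : Fin (n + 1) → N) j.succ = 0
        rw [Pi.single_eq_of_ne (Fin.succ_ne_zero j)]

/-- regularity of a graded free module over a `0`-regular ring -/
theorem regLE_frGr (hR : RegLE a 𝒜 0) (d : ℤ) (n : ℕ) (deg : Fin n → ℤ) (hdeg : ∀ j, deg j ≤ d) :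
    RegLE a (frGr 𝒜 deg) d := by
  apply regLE_pi a d n (fun j => shiftGr 𝒜 (deg j))
  intro j
  have := hR.shift a (deg j)
  rw [zero_add] at this
  exact this.mono a (hdeg j)

end Groth.Agent.Lib.helper11.KZ13
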