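import Mathlib
import Groth.Prelude.Def_GrLC
import Groth.Prelude.Def_GrSyz
import Groth.Agent.Lib.helper11.KZ13

/-!
# Koszul chain for graded local cohomology, XIV: syzygies of a graded free resolution
-/

set_option autoImplicit false
set_option linter.unusedSectionVars false
set_option linter.unusedVariables false
set_option linter.style.haveILetI false

namespace Groth.Agent.Lib.helper11.KZ14

open DirectSum Groth.Agent.Lib.Helper26.GrProj Groth.Agent.Lib.Helper20.GrKit
  Groth.Agent.Lib.Helper20.GrLES Groth.Agent.Lib.helper11.KZ1 Groth.Agent.Lib.helper11.KZ2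
  Groth.Agent.Lib.helper11.KZ3 Groth.Agent.Lib.helper11.KZ4 Groth.Agent.Lib.helper11.KZ5
  Groth.Agent.Lib.helper11.KZ6 Groth.Agent.Lib.helper11.KZ8 Groth.Agent.Lib.helper11.KZ10
  Groth.Agent.Lib.helper11.KZ11 Groth.Agent.Lib.helper11.KZ13

universe u

variable {R : Type u} [CommRing R] {𝒜 : ℤ → AddSubgroup R} [GradedRing 𝒜]
  {M : Type u} [AddCommGroup M] [Module R M] {ℳ : ℤ → AddSubgroup M}
  [DirectSum.Decomposition ℳ] [SetLike.GradedSMul 𝒜 ℳ]
  (F : GrSyz.FreeRes 𝒜 ℳ)

/-- the augmentation is homogeneous -/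
theorem augLin_isGrHom : GrLC.IsGrHom (frGr 𝒜 (F.deg 0)) ℳ F.augLin :=
  linearCombination_isGrHom 𝒜 ℳ (F.deg 0) F.aug F.aug_mem

/-- the first syzygy module -/
abbrev K : Submodule R (Fin (F.rk 0) → R) := LinearMap.ker F.augLin

theorem K_stable (g : ℤ) (x : Fin (F.rk 0) → R) (hx : x ∈ K F) :
    proj (frGr 𝒜 (F.deg 0)) g x ∈ K F :=
  ker_proj_stable (frGr 𝒜 (F.deg 0)) ℳ F.augLin (augLin_isGrHom F) g x hx

/-- the grading of the first syzygy module -/
abbrev Kgr : ℤ → AddSubgroup (K F) := subGr (frGr 𝒜 (F.deg 0)) (K F)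

noncomputable instance : DirectSum.Decomposition (Kgr F) :=
  subDecomposition (frGr 𝒜 (F.deg 0)) (K F) (K_stable F)

theorem mulVec_mem_K (v : Fin (F.rk (0 + 1)) → R) : (F.d 0).mulVec v ∈ K F := by
  change (F.d 0).mulVecLin v ∈ LinearMap.ker F.augLin
  rw [F.exact_zero]
  exact ⟨v, rfl⟩

/-- the columns of the first differential, as elements of the syzygy module -/
noncomputable def syzAug (b : Fin (F.rk (0 + 1))) : K F :=
  ⟨(F.d 0).mulVec (Pi.single b 1), mulVec_mem_K F _⟩

theorem linearCombination_syzAug (v : Fin (F.rk (0 + 1)) → R) :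
    ((Fintype.linearCombination R (syzAug F) v : K F) : Fin (F.rk 0) → R) =
      (F.d 0).mulVec v := by
  classical
  rw [Fintype.linearCombination_apply, Submodule.coe_sum]
  funext j
  rw [Finset.sum_apply, Matrix.mulVec, dotProduct]
  refine Finset.sum_congr rfl fun b _ => ?_
  change v b • ((F.d 0).mulVec (Pi.single b 1)) j = _
  rw [Matrix.mulVec_single_one, smul_eq_mul, mul_comm]
  rfl

/-- the shifted resolution, a resolution of the first syzygy module -/
noncomputable def syz : GrSyz.FreeRes 𝒜 (Kgr F) where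
  rk i := F.rk (i + 1)
  deg i := F.deg (i + 1)
  d i := F.d (i + 1)
  aug := syzAug F
  d_mem i := F.d_mem (i + 1)
  aug_mem b := by
    intro j
    change ((F.d 0).mulVec (Pi.single b 1)) j ∈ 𝒜 (F.deg (0 + 1) b - F.deg 0 j)
    rw [Matrix.mulVec_single_one]
    exact F.d_mem 0 j b
  aug_surjective := by
    rintro ⟨x, hx⟩
    have hx' : x ∈ LinearMap.ker F.augLin := hx
    rw [F.exact_zero] at hx'
    obtain ⟨v, rfl⟩ := hx'
    exact ⟨v, Subtype.ext (linearCombination_syzAug F v)⟩
  exact_zero := by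
    rw [← F.exact_succ 0]
    ext v
    rw [LinearMap.mem_ker, LinearMap.mem_ker]
    constructor
    · intro h
      have := congrArg (Subtype.val) h
      rw [linearCombination_syzAug] at this
      exact this
    · intro h
      apply Subtype.ext
      rw [linearCombination_syzAug]
      exact h
  exact_succ i := F.exact_succ (i + 1)

theorem syz_isMinimal (𝔪 : Ideal R) (h : F.IsMinimal 𝔪) : (syz F).IsMinimal 𝔪 :=
  fun i a b => h (i + 1) a b

theorem syz_isGenLE (d : ℤ) (h : F.IsGenLE d) : (syz F).IsGenLE (d + 1) := by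
  intro i b
  have := h (i + 1) b
  change F.deg (i + 1) b ≤ d + 1 + i
  push_cast at this
  omega

theorem syz_deg (i : ℕ) (b : Fin (F.rk (i + 1))) : (syz F).deg i b = F.deg (i + 1) b := rfl

/-- the short exact sequence `0 → K → F_0 → M → 0` -/
theorem ses :
    GrLC.IsGrHom (Kgr F) (frGr 𝒜 (F.deg 0)) (K F).subtype ∧
    GrLC.IsGrHom (frGr 𝒜 (F.deg 0)) ℳ F.augLin ∧
    Function.Injective (K F).subtype ∧ Function.Surjective F.augLin ∧
    LinearMap.ker F.augLin = LinearMap.range (K F).subtype :=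
  ⟨fun g x hx => hx, augLin_isGrHom F, Submodule.subtype_injective _, F.aug_surjective,
    (Submodule.range_subtype _).symm⟩

end Groth.Agent.Lib.helper11.KZ14
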