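import Mathlib
import Groth.Prelude.Def_GrLC
import Groth.Prelude.Def_GrSyz
import Groth.Agent.Lib.helper11.KZ14

/-!
# Koszul chain for graded local cohomology, XV: regularity via resolutions versus local cohomology
-/

set_option autoImplicit false
set_option linter.unusedSectionVars false
set_option linter.unusedVariables false
set_option linter.style.haveILetI false

namespace Groth.Agent.Lib.helper11.KZ15

open DirectSum Groth.Agent.Lib.Helper26.GrProj Groth.Agent.Lib.Helper20.GrKit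
  Groth.Agent.Lib.Helper20.GrLES Groth.Agent.Lib.helper11.KZ1 Groth.Agent.Lib.helper11.KZ2
  Groth.Agent.Lib.helper11.KZ3 Groth.Agent.Lib.helper11.KZ4 Groth.Agent.Lib.helper11.KZ5
  Groth.Agent.Lib.helper11.KZ6 Groth.Agent.Lib.helper11.KZ8 Groth.Agent.Lib.helper11.KZ10
  Groth.Agent.Lib.helper11.KZ11 Groth.Agent.Lib.helper11.KZ13 Groth.Agent.Lib.helper11.KZ14

universe u

variable {R : Type u} [CommRing R] [IsNoetherianRing R] {𝒜 : ℤ → AddSubgroup R} [GradedRing 𝒜]
  (a : HomogeneousIdeal 𝒜) (hR : RegLE a 𝒜 0)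

include hR in
theorem regLE_of_isGenLE_aux (t : ℕ) (ht : ∀ (M : Type u) [AddCommGroup M] [Module R M]
    (ℳ : ℤ → AddSubgroup M) [DirectSum.Decomposition ℳ] [SetLike.GradedSMul 𝒜 ℳ]
    (E : GrLC.StarInjRes 𝒜 ℳ) (i : ℕ), t < i → Subsingleton (E.H a i)) :
    ∀ (c i : ℕ), t < i + c → ∀ (M : Type u) [AddCommGroup M] [Module R M]
      (ℳ : ℤ → AddSubgroup M) [DirectSum.Decomposition ℳ] [SetLike.GradedSMul 𝒜 ℳ]
      (F : GrSyz.FreeRes 𝒜 ℳ) (d : ℤ), F.IsGenLE d → ∀ g : ℤ, d < g + i → Van a ℳ i g := by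
  intro c
  induction c with
  | zero =>
    intro i hi M _ _ ℳ _ _ F d hF g hg
    exact van_of_lt a ℳ t ht i (by omega) g
  | succ c ih =>
    intro i hi M _ _ ℳ _ _ F d hF g hg
    have h1 : Van a (Kgr F) (i + 1) g :=
      ih (i + 1) (by omega) (K F) (Kgr F) (syz F) (d + 1) (syz_isGenLE F d hF) g
        (by push_cast; omega)
    have h2 : Van a (frGr 𝒜 (F.deg 0)) i g :=
      regLE_frGr a hR d (F.rk 0) (F.deg 0) (fun j => by have := hF 0 j; simpa using this) i g hg
    obtain ⟨s1, s2, s3, s4, s5⟩ := ses F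
    exact van_right a (K F).subtype F.augLin s1 s2 s3 s4 s5 i g h2 h1

include hR in
/-- a resolution generated in degrees `≤ d + i` forces regularity `≤ d` -/
theorem regLE_of_isGenLE {M : Type u} [AddCommGroup M] [Module R M]
    (ℳ : ℤ → AddSubgroup M) [DirectSum.Decomposition ℳ] [SetLike.GradedSMul 𝒜 ℳ]
    (F : GrSyz.FreeRes 𝒜 ℳ) (d : ℤ) (hF : F.IsGenLE d) : RegLE a ℳ d := by
  obtain ⟨t, ht⟩ := Groth.Agent.Lib.Helper20.GrFin.exists_cd 𝒜 a
  intro i g hg
  exact regLE_of_isGenLE_aux a hR t ht (t + 1) i (by omega) M ℳ F d hF g hg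

section Converse

variable (hhom : a.toIdeal = Ideal.span ((𝒜 1 : AddSubgroup R) : Set R))
  (hne : a.toIdeal ≠ ⊤)

theorem coord_mem_of_mem_smul {n : ℕ} (v : Fin n → R)
    (hv : v ∈ a.toIdeal • (⊤ : Submodule R (Fin n → R))) (j : Fin n) : v j ∈ a.toIdeal := by
  refine Submodule.smul_induction_on (p := fun v => v j ∈ a.toIdeal) hv ?_ ?_
  · intro r hr w _
    rw [Pi.smul_apply, smul_eq_mul]
    exact Ideal.mul_mem_right _ _ hr
  · intro x y hx hy
    rw [Pi.add_apply]
    exact add_mem hx hy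

include hhom hne in
/-- generators of a minimal resolution of a `d`-regular module have degrees `≤ d` -/
theorem deg_zero_le {M : Type u} [AddCommGroup M] [Module R M]
    (ℳ : ℤ → AddSubgroup M) [DirectSum.Decomposition ℳ] [SetLike.GradedSMul 𝒜 ℳ]
    (F : GrSyz.FreeRes 𝒜 ℳ) (hF : F.IsMinimal a.toIdeal) (d : ℤ) (h : RegLE a ℳ d)
    (b : Fin (F.rk 0)) : F.deg 0 b ≤ d := by
  classical
  by_contra hlt
  rw [not_le] at hlt
  set g := F.deg 0 b with hg
  have h1 : F.aug b ∈ a.toIdeal • (⊤ : Submodule R M) := by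
    apply piece_le' a hhom ℳ g (h 0 g (by simpa using hlt)) ?_ (F.aug b) (F.aug_mem b)
    intro j
    apply h (1 + j) (g - ((j : ℤ) + 1))
    push_cast
    omega
  -- lift to the free module
  have h2 : (a.toIdeal • (⊤ : Submodule R M)) =
      (a.toIdeal • (⊤ : Submodule R (Fin (F.rk 0) → R))).map F.augLin := by
    rw [Submodule.map_smul'', Submodule.map_top, LinearMap.range_eq_top.2 F.aug_surjective]
  rw [h2] at h1
  obtain ⟨v, hv, hvb⟩ := h1
  have h3 : F.augLin (Pi.single b 1) = F.aug b := by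
    change Fintype.linearCombination R F.aug (Pi.single b 1) = F.aug b
    rw [Fintype.linearCombination_apply_single, one_smul]
  have h4 : Pi.single b 1 - v ∈ LinearMap.ker F.augLin := by
    rw [LinearMap.mem_ker, map_sub, h3, hvb, sub_self]
  rw [F.exact_zero] at h4
  obtain ⟨w, hw⟩ := h4
  have h5 := congrFun hw b
  rw [Pi.sub_apply, Pi.single_eq_same] at h5
  have h6 : (F.d 0).mulVecLin w b ∈ a.toIdeal := by
    change (F.d 0).mulVec w b ∈ a.toIdeal
    rw [Matrix.mulVec, dotProduct]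
    exact Ideal.sum_mem _ fun c _ => Ideal.mul_mem_right _ _ (hF 0 b c)
  have h7 : v b ∈ a.toIdeal := coord_mem_of_mem_smul a v hv b
  apply hne
  rw [Ideal.eq_top_iff_one]
  have : (1 : R) = (F.d 0).mulVecLin w b + v b := by rw [h5]; ring
  rw [this]
  exact add_mem h6 h7

include hR hhom hne in
/-- **minimal resolutions of `d`-regular modules are generated in degrees `≤ d + i`** -/
theorem isGenLE_of_regLE : ∀ (i : ℕ) (M : Type u) [AddCommGroup M] [Module R M]
    (ℳ : ℤ → AddSubgroup M) [DirectSum.Decomposition ℳ] [SetLike.GradedSMul 𝒜 ℳ]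
    (F : GrSyz.FreeRes 𝒜 ℳ) (hF : F.IsMinimal a.toIdeal) (d : ℤ) (h : RegLE a ℳ d)
    (b : Fin (F.rk i)), F.deg i b ≤ d + i := by
  intro i
  induction i with
  | zero =>
    intro M _ _ ℳ _ _ F hF d h b
    have := deg_zero_le a hhom hne ℳ F hF d h b
    simpa using this
  | succ i ih =>
    intro M _ _ ℳ _ _ F hF d h b
    have h0 : RegLE a (frGr 𝒜 (F.deg 0)) (d + 1) :=
      regLE_frGr a hR (d + 1) (F.rk 0) (F.deg 0)
        (fun j => by have := deg_zero_le a hhom hne ℳ F hF d h j; omega)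
    obtain ⟨s1, s2, s3, s4, s5⟩ := ses F
    have hK : RegLE a (Kgr F) (d + 1) :=
      RegLE.left a (K F).subtype F.augLin s1 s2 s3 s4 s5 h0 (by rw [add_sub_cancel_right]; exact h)
    have := ih (K F) (Kgr F) (syz F) (syz_isMinimal F _ hF) (d + 1) hK b
    rw [syz_deg] at this
    push_cast
    omega

end Converse

end Groth.Agent.Lib.helper11.KZ15
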