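import Mathlib
import Groth.Prelude.Def_GrLC
import Groth.Prelude.Def_GrSyz
import Groth.Agent.Lib.Helper20.GrLES18
import Groth.Agent.Lib.helper11.KZ8

/-!
# Koszul chain for graded local cohomology, IX: S15420
-/

set_option autoImplicit false
set_option linter.unusedSectionVars false
set_option linter.unusedVariables false
set_option linter.style.haveILetI false

namespace Groth.Agent.Lib.helper11.KZ9

open DirectSum Groth.Agent.Lib.Helper26.GrProj Groth.Agent.Lib.Helper20.GrKit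
  Groth.Agent.Lib.Helper20.GrLES Groth.Agent.Lib.Helper20.GrConv
  Groth.Agent.Lib.helper11.KZ1 Groth.Agent.Lib.helper11.KZ2
  Groth.Agent.Lib.helper11.KZ3 Groth.Agent.Lib.helper11.KZ4 Groth.Agent.Lib.helper11.KZ5
  Groth.Agent.Lib.helper11.KZ6 Groth.Agent.Lib.helper11.KZ8
open scoped Pointwise

universe u

/-- `endDeg ≤ d` in terms of pieces -/
theorem endDeg_le_coe_iff {A : Type u} [AddCommGroup A] (𝒜A : ℤ → AddSubgroup A) (d : ℤ) :
    GrLC.endDeg 𝒜A ≤ ((d : WithTop ℤ) : WithBot (WithTop ℤ)) ↔ ∀ g : ℤ, d < g → 𝒜A g = ⊥ := by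
  rw [endDeg_le_iff]
  constructor
  · intro h g hg
    by_contra hne
    have := h g hne
    rw [WithBot.coe_le_coe, WithTop.coe_le_coe] at this
    omega
  · intro h n hn
    rw [WithBot.coe_le_coe, WithTop.coe_le_coe]
    by_contra hlt
    exact hn (h n (by omega))

theorem Hcomp_eq_bot_iff' {ι : Type} [AddCommGroup ι] [DecidableEq ι] {R : Type u} [CommRing R]
    {σ : Type u} [SetLike σ R] [AddSubgroupClass σ R] {𝒜 : ι → σ} [GradedRing 𝒜]
    {M : Type u} [AddCommGroup M] [Module R M] {τ : Type u} [SetLike τ M] [AddSubgroupClass τ M]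
    {ℳ : ι → τ} [DirectSum.Decomposition ℳ] [SetLike.GradedSMul 𝒜 ℳ]
    (E : GrLC.StarInjRes 𝒜 ℳ) (a : HomogeneousIdeal 𝒜) (i : ℕ) (g : ι) :
    E.Hcomp a i g = ⊥ ↔ E.Hgr a i g = ⊥ := by
  rw [Submodule.eq_bot_iff, AddSubgroup.eq_bot_iff_forall]
  exact Iff.rfl

theorem s15420 (k : Type u) [Field k] (r : ℕ)
    (M : Type u) [AddCommGroup M] [Module k M] [Module (MvPolynomial (Fin (r + 1)) k) M]
    [IsScalarTower k (MvPolynomial (Fin (r + 1)) k) M]
    [Module.Finite (MvPolynomial (Fin (r + 1)) k) M]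
    (ℳ : ℤ → Submodule k M) [DirectSum.Decomposition ℳ]
    [SetLike.GradedSMul (GrSyz.stdGr k (Fin (r + 1))) ℳ]
    (x : MvPolynomial (Fin (r + 1)) k) (hx : x ∈ GrSyz.stdGr k (Fin (r + 1)) 1)
    (hq : IsFiniteLength (MvPolynomial (Fin (r + 1)) k)
      ↥(Submodule.torsionBy (MvPolynomial (Fin (r + 1)) k) M x))
    (N : Type u) [AddCommGroup N] [Module k N] [Module (MvPolynomial (Fin (r + 1)) k) N]
    [IsScalarTower k (MvPolynomial (Fin (r + 1)) k) N]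
    [Module.Finite (MvPolynomial (Fin (r + 1)) k) N]
    (𝒩 : ℤ → Submodule k N) [DirectSum.Decomposition 𝒩]
    [SetLike.GradedSMul (GrSyz.stdGr k (Fin (r + 1))) 𝒩]
    (π : M →ₗ[MvPolynomial (Fin (r + 1)) k] N) (hπ : Function.Surjective π)
    (hπg : GrLC.IsGrHom ℳ 𝒩 π)
    (hker : LinearMap.ker π =
      LinearMap.range (x • (LinearMap.id : M →ₗ[MvPolynomial (Fin (r + 1)) k] M)))
    (E : GrLC.StarInjRes (GrSyz.stdGr k (Fin (r + 1))) ℳ)
    (E' : GrLC.StarInjRes (GrSyz.stdGr k (Fin (r + 1))) 𝒩) (d : ℤ) :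
    (GrLC.endDeg (E.Hgr (GrSyz.irrel (GrSyz.stdGr k (Fin (r + 1)))) 0) ≤
        ((d : WithTop ℤ) : WithBot (WithTop ℤ)) ∧
      ∀ i : ℕ, 0 < i →
        E.Hcomp (GrSyz.irrel (GrSyz.stdGr k (Fin (r + 1)))) i (d - (i : ℤ) + 1) = ⊥) ↔
    ((GrLC.endDeg (E'.Hgr (GrSyz.irrel (GrSyz.stdGr k (Fin (r + 1)))) 0) ≤
        ((d : WithTop ℤ) : WithBot (WithTop ℤ)) ∧
      ∀ i : ℕ, 0 < i →
        E'.Hcomp (GrSyz.irrel (GrSyz.stdGr k (Fin (r + 1)))) i (d - (i : ℤ) + 1) = ⊥) ∧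
      GrLC.endDeg (E.Hgr (GrSyz.irrel (GrSyz.stdGr k (Fin (r + 1)))) 0) ≤
        ((d : WithTop ℤ) : WithBot (WithTop ℤ))) := by
  classical
  set 𝒜₀ := GrSyz.stdGr k (Fin (r + 1)) with h𝒜₀
  set a := idealToAS 𝒜₀ (GrSyz.irrel 𝒜₀) with hadef
  have hpos := asGr_stdGr_neg k (Fin (r + 1))
  have ha := irrel_toIdeal_eq k (Fin (r + 1))
  have hhom := irrel_toIdeal_eq_span_one k (Fin (r + 1))
  set K : Submodule (MvPolynomial (Fin (r + 1)) k) M :=
    LinearMap.ker (x • (LinearMap.id : M →ₗ[MvPolynomial (Fin (r + 1)) k] M)) with hKdef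
  have hKeq : K = Submodule.torsionBy (MvPolynomial (Fin (r + 1)) k) M x := by
    ext m
    rw [Submodule.mem_torsionBy_iff]
    rfl
  have hKfl : IsFiniteLength (MvPolynomial (Fin (r + 1)) k) K := by
    rw [hKeq]
    exact hq
  have hx' : x ∈ asGr 𝒜₀ 1 := hx
  have hKst : ∀ g y, y ∈ K → proj (asGrM ℳ) g y ∈ K :=
    ker_smul_proj_stable (𝒜 := asGr 𝒜₀) (ℳ := asGrM ℳ) x 1 hx'
  letI : DirectSum.Decomposition (subGr (asGrM ℳ) K) := subDecomposition (asGrM ℳ) K hKst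
  have hK : ∀ j : ℕ, 1 ≤ j → Subsingleton (LocCoh.H a.toIdeal j K) := fun j hj =>
    subsingleton_H_of_isFiniteLength (asGr 𝒜₀) hpos a ha hhom (subGr (asGrM ℳ) K) hKfl j hj
  -- conversions
  have convM : ∀ (j : ℕ) (g : ℤ),
      E.Hcomp (GrSyz.irrel 𝒜₀) j g = ⊥ ↔ Van a (asGrM ℳ) j g := by
    intro j g
    constructor
    · intro h
      apply van_of_one a j g (resToAS E)
      rw [AddSubgroup.eq_bot_iff_forall]
      intro w hw
      have hw' : convH E (GrSyz.irrel 𝒜₀) j w ∈ E.Hcomp (GrSyz.irrel 𝒜₀) j g := hw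
      rw [h, Submodule.mem_bot] at hw'
      exact hw'
    · intro h
      have h3 := h (resToAS E)
      rw [Submodule.eq_bot_iff]
      intro w hw
      have hw' : (convH E (GrSyz.irrel 𝒜₀) j).symm w ∈ (resToAS E).Hgr a j g := hw
      rw [h3, AddSubgroup.mem_bot] at hw'
      exact hw'
  have convN : ∀ (j : ℕ) (g : ℤ),
      E'.Hcomp (GrSyz.irrel 𝒜₀) j g = ⊥ ↔ Van a (asGrM 𝒩) j g := by
    intro j g
    constructor
    · intro h
      apply van_of_one a j g (resToAS E')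
      rw [AddSubgroup.eq_bot_iff_forall]
      intro w hw
      have hw' : convH E' (GrSyz.irrel 𝒜₀) j w ∈ E'.Hcomp (GrSyz.irrel 𝒜₀) j g := hw
      rw [h, Submodule.mem_bot] at hw'
      exact hw'
    · intro h
      have h3 := h (resToAS E')
      rw [Submodule.eq_bot_iff]
      intro w hw
      have hw' : (convH E' (GrSyz.irrel 𝒜₀) j).symm w ∈ (resToAS E').Hgr a j g := hw
      rw [h3, AddSubgroup.mem_bot] at hw'
      exact hw'
  have endM : GrLC.endDeg (E.Hgr (GrSyz.irrel 𝒜₀) 0) ≤ ((d : WithTop ℤ) : WithBot (WithTop ℤ)) ↔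
      ∀ g : ℤ, d < g → Van a (asGrM ℳ) 0 g := by
    rw [endDeg_le_coe_iff]
    constructor
    · intro h g hg
      exact (convM 0 g).1 ((Hcomp_eq_bot_iff' E _ 0 g).2 (h g hg))
    · intro h g hg
      exact (Hcomp_eq_bot_iff' E _ 0 g).1 ((convM 0 g).2 (h g hg))
  have endN : GrLC.endDeg (E'.Hgr (GrSyz.irrel 𝒜₀) 0) ≤ ((d : WithTop ℤ) : WithBot (WithTop ℤ)) ↔
      ∀ g : ℤ, d < g → Van a (asGrM 𝒩) 0 g := by
    rw [endDeg_le_coe_iff]
    constructor
    · intro h g hg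
      exact (convN 0 g).1 ((Hcomp_eq_bot_iff' E' _ 0 g).2 (h g hg))
    · intro h g hg
      exact (Hcomp_eq_bot_iff' E' _ 0 g).1 ((convN 0 g).2 (h g hg))
  rw [endM, endN]
  constructor
  · rintro ⟨h0, hM⟩
    refine ⟨⟨?_, ?_⟩, h0⟩
    · intro g hg
      exact quot_zero (𝒜 := asGr 𝒜₀) a (ℳ := asGrM ℳ) (𝒩 := asGrM 𝒩) hhom x hx' hK π hπ hπg hker
        d h0 (fun i hi => (convM i _).1 (hM i hi)) g hg
    · intro i hi
      exact Groth.Agent.Lib.Helper20.GrLES.s15419 k r M ℳ x hx hq N 𝒩 π hπ hπg hker E E' d hM i hi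
  · rintro ⟨⟨h0N, hN⟩, h0⟩
    refine ⟨h0, ?_⟩
    intro i hi
    apply (convM i _).2
    exact lift_reg (𝒜 := asGr 𝒜₀) a (ℳ := asGrM ℳ) (𝒩 := asGrM 𝒩) ha hhom x hx' hK π hπ hπg hker
      d h0N (fun i hi => (convN i _).1 (hN i hi)) i hi

end Groth.Agent.Lib.helper11.KZ9
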