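import Mathlib
import Groth.Prelude.Def_GrLC
import Groth.Prelude.Def_GrSyz
import Groth.Agent.Lib.helper11.KZ9
import Groth.Agent.Lib.helper11.KZ12
import Groth.Agent.Lib.helper11.KZ15

/-!
# Koszul chain for graded local cohomology, XVI: S15417 and S15418
-/

set_option autoImplicit false
set_option linter.unusedSectionVars false
set_option linter.unusedVariables false
set_option linter.style.haveILetI false

namespace Groth.Agent.Lib.helper11.KZ16

open DirectSum Groth.Agent.Lib.Helper26.GrProj Groth.Agent.Lib.Helper20.GrKit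
  Groth.Agent.Lib.Helper20.GrLES Groth.Agent.Lib.Helper20.GrConv
  Groth.Agent.Lib.helper11.KZ1 Groth.Agent.Lib.helper11.KZ2
  Groth.Agent.Lib.helper11.KZ3 Groth.Agent.Lib.helper11.KZ4 Groth.Agent.Lib.helper11.KZ5
  Groth.Agent.Lib.helper11.KZ6 Groth.Agent.Lib.helper11.KZ8 Groth.Agent.Lib.helper11.KZ9
  Groth.Agent.Lib.helper11.KZ10 Groth.Agent.Lib.helper11.KZ11 Groth.Agent.Lib.helper11.KZ12
  Groth.Agent.Lib.helper11.KZ13 Groth.Agent.Lib.helper11.KZ14 Groth.Agent.Lib.helper11.KZ15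
  MvPolynomial
open scoped Pointwise

universe u

section Conv

variable {R : Type u} [CommRing R]
  {σ : Type u} [SetLike σ R] [AddSubgroupClass σ R] {𝒜 : ℤ → σ} [GradedRing 𝒜]
  {M : Type u} [AddCommGroup M] [Module R M] {τ : Type u} [SetLike τ M] [AddSubgroupClass τ M]
  {ℳ : ℤ → τ} [DirectSum.Decomposition ℳ] [SetLike.GradedSMul 𝒜 ℳ]

/-- conversion of graded free resolutions -/
def freeResToAS (F : GrSyz.FreeRes 𝒜 ℳ) : GrSyz.FreeRes (asGr 𝒜) (asGrM ℳ) where
  rk := F.rk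
  deg := F.deg
  d := F.d
  aug := F.aug
  d_mem := F.d_mem
  aug_mem := F.aug_mem
  aug_surjective := F.aug_surjective
  exact_zero := F.exact_zero
  exact_succ := F.exact_succ

/-- vanishing of a piece, for a given resolution or for all converted ones -/
theorem conv (E : GrLC.StarInjRes 𝒜 ℳ) (a : HomogeneousIdeal 𝒜) (j : ℕ) (g : ℤ) :
    E.Hgr a j g = ⊥ ↔ Van (idealToAS 𝒜 a) (asGrM ℳ) j g := by
  constructor
  · intro h
    apply van_of_one (idealToAS 𝒜 a) j g (resToAS E)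
    rw [AddSubgroup.eq_bot_iff_forall]
    intro w hw
    have hw' : convH E a j w ∈ E.Hgr a j g := hw
    rw [h, AddSubgroup.mem_bot] at hw'
    exact hw'
  · intro h
    have h3 := h (resToAS E)
    rw [AddSubgroup.eq_bot_iff_forall]
    intro w hw
    have hw' : (convH E a j).symm w ∈ (resToAS E).Hgr (idealToAS 𝒜 a) j g := hw
    rw [h3, AddSubgroup.mem_bot] at hw'
    exact hw'

/-- regularity in terms of the ends of the local cohomology modules -/
theorem regLE_iff_endDeg [IsNoetherianRing R] (E : GrLC.StarInjRes 𝒜 ℳ) (a : HomogeneousIdeal 𝒜)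
    (d : ℤ) :
    RegLE (idealToAS 𝒜 a) (asGrM ℳ) d ↔ ∀ i : ℕ, GrLC.endDeg (E.Hgr a i) +
      (((i : ℤ) : WithTop ℤ) : WithBot (WithTop ℤ)) ≤ ((d : WithTop ℤ) : WithBot (WithTop ℤ)) := by
  have key : ∀ i : ℕ, GrLC.endDeg (E.Hgr a i) +
      (((i : ℤ) : WithTop ℤ) : WithBot (WithTop ℤ)) ≤ ((d : WithTop ℤ) : WithBot (WithTop ℤ)) ↔
      ∀ g : ℤ, d < g + i → E.Hgr a i g = ⊥ := by
    intro i
    rw [add_int_le_iff]
    have e : ((d : WithTop ℤ) : WithBot (WithTop ℤ)) +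
        (((-(i : ℤ) : ℤ) : WithTop ℤ) : WithBot (WithTop ℤ)) =
        (((d - i : ℤ) : WithTop ℤ) : WithBot (WithTop ℤ)) := by
      rw [← WithBot.coe_add, ← WithTop.coe_add]
      rfl
    rw [e, endDeg_le_coe_iff]
    constructor
    · intro h g hg
      exact h g (by omega)
    · intro h g hg
      exact h g (by omega)
  constructor
  · intro h i
    rw [key]
    intro g hg
    exact (conv E a i g).2 (h i g hg)
  · intro h i g hg
    exact (conv E a i g).1 ((key i).1 (h i) g hg)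

end Conv

section Poly

variable (k : Type u) [Field k] (n : ℕ)

theorem irrel_ne_top :
    (idealToAS (GrSyz.stdGr k (Fin n)) (GrSyz.irrel (GrSyz.stdGr k (Fin n)))).toIdeal ≠ ⊤ := by
  rw [irrel_eq_span_X]
  intro h
  have h1 : Ideal.span (Set.range (X : Fin n → MvPolynomial (Fin n) k)) ≤
      RingHom.ker (constantCoeff : MvPolynomial (Fin n) k →+* k) := by
    rw [Ideal.span_le]
    rintro _ ⟨i, rfl⟩
    rw [SetLike.mem_coe, RingHom.mem_ker]
    exact constantCoeff_X k i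
  rw [h] at h1
  have := h1 (Submodule.mem_top : (1 : MvPolynomial (Fin n) k) ∈ ⊤)
  rw [RingHom.mem_ker, map_one] at this
  exact one_ne_zero this

variable {M : Type u} [AddCommGroup M] [Module k M] [Module (MvPolynomial (Fin n) k) M]
  [IsScalarTower k (MvPolynomial (Fin n) k) M]
  (ℳ : ℤ → Submodule k M) [DirectSum.Decomposition ℳ]
  [SetLike.GradedSMul (GrSyz.stdGr k (Fin n)) ℳ]
  (F : GrSyz.FreeRes (GrSyz.stdGr k (Fin n)) ℳ)

/-- generation in degrees `≤ d + i` of a minimal resolution is regularity `≤ d` -/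
theorem isGenLE_iff_regLE (hF : F.IsMinimal (GrSyz.irrel (GrSyz.stdGr k (Fin n))).toIdeal)
    (d : ℤ) : F.IsGenLE d ↔
      RegLE (idealToAS (GrSyz.stdGr k (Fin n)) (GrSyz.irrel (GrSyz.stdGr k (Fin n))))
        (asGrM ℳ) d := by
  constructor
  · intro h
    exact regLE_of_isGenLE _ (regLE_poly k n) (asGrM ℳ) (freeResToAS F) d h
  · intro h i b
    exact isGenLE_of_regLE _ (regLE_poly k n) (irrel_toIdeal_eq_span_one k (Fin n))
      (irrel_ne_top k n) i M (asGrM ℳ) (freeResToAS F) hF d h b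

/-- one direction holds for every resolution -/
theorem regLE_of_isGenLE' (d : ℤ) (h : F.IsGenLE d) :
      RegLE (idealToAS (GrSyz.stdGr k (Fin n)) (GrSyz.irrel (GrSyz.stdGr k (Fin n))))
        (asGrM ℳ) d :=
  regLE_of_isGenLE _ (regLE_poly k n) (asGrM ℳ) (freeResToAS F) d h

theorem s15417 (hF : F.IsMinimal (GrSyz.irrel (GrSyz.stdGr k (Fin n))).toIdeal)
    (E : GrLC.StarInjRes (GrSyz.stdGr k (Fin n)) ℳ) (d : ℤ) :
    F.IsGenLE d ↔ ∀ i : ℕ, GrLC.endDeg (E.Hgr (GrSyz.irrel (GrSyz.stdGr k (Fin n))) i) +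
      (((i : ℤ) : WithTop ℤ) : WithBot (WithTop ℤ)) ≤ ((d : WithTop ℤ) : WithBot (WithTop ℤ)) := by
  rw [isGenLE_iff_regLE k n ℳ F hF d, regLE_iff_endDeg E]

theorem s15418 (hF : F.IsMinimal (GrSyz.irrel (GrSyz.stdGr k (Fin n))).toIdeal)
    (E : GrLC.StarInjRes (GrSyz.stdGr k (Fin n)) ℳ) (d : ℤ) :
    F.IsGenLE d ↔ (GrLC.endDeg (E.Hgr (GrSyz.irrel (GrSyz.stdGr k (Fin n))) 0) ≤
        ((d : WithTop ℤ) : WithBot (WithTop ℤ)) ∧
      ∀ i : ℕ, 0 < i → E.Hcomp (GrSyz.irrel (GrSyz.stdGr k (Fin n))) i (d - (i : ℤ) + 1) = ⊥) := by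
  rw [isGenLE_iff_regLE k n ℳ F hF d, endDeg_le_coe_iff]
  constructor
  · intro h
    refine ⟨fun g hg => (conv E _ 0 g).2 (h 0 g (by simpa using hg)), fun i hi => ?_⟩
    rw [Hcomp_eq_bot_iff']
    exact (conv E _ i _).2 (h i _ (by omega))
  · rintro ⟨h0, hM⟩
    apply regLE_of_weak _ (irrel_toIdeal_eq_span_one k (Fin n)) d
    · intro g hg
      exact (conv E _ 0 g).1 (h0 g hg)
    · intro i hi
      exact (conv E _ i _).1 ((Hcomp_eq_bot_iff' E _ i _).1 (hM i hi))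

end Poly

end Groth.Agent.Lib.helper11.KZ16
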