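import Mathlib
import Groth.Prelude.Def_GrLC
import Groth.Agent.Lib.Helper20.GrKit2
import Groth.Agent.Lib.helper11.SG7

/-!
# Minimal homogeneous systems of generators of a graded module
-/

set_option autoImplicit false
set_option linter.unusedSectionVars false
set_option linter.unusedVariables false
set_option linter.style.haveILetI false

namespace Groth.Agent.Lib.helper11.KZ17

open DirectSum Groth.Agent.Lib.Helper26.GrProj Groth.Agent.Lib.Helper20.GrKit
  Groth.Agent.Lib.helper11.SG7

universe u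

variable {R : Type u} [CommRing R] (𝒜 : ℤ → AddSubgroup R) [GradedRing 𝒜]
  (hpos : ∀ n : ℤ, n < 0 → 𝒜 n = ⊥)
  (hunit : ∀ c ∈ 𝒜 0, c ≠ 0 → ∃ u : R, u * c = 1)
  {M : Type u} [AddCommGroup M] [Module R M] (ℳ : ℤ → AddSubgroup M)
  [DirectSum.Decomposition ℳ] [SetLike.GradedSMul 𝒜 ℳ]

include hpos hunit in
/-- a generator occurring in a relation with a coefficient outside the irrelevant ideal can be
dropped -/
theorem span_succAbove {n : ℕ} (deg : Fin (n + 1) → ℤ) (m : Fin (n + 1) → M)
    (hm : ∀ j, m j ∈ ℳ (deg j)) (v : Fin (n + 1) → R)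
    (hv : Fintype.linearCombination R m v = 0) (j₀ : Fin (n + 1))
    (hj₀ : v j₀ ∉ (irr 𝒜).toIdeal) :
    Submodule.span R (Set.range m) ≤ Submodule.span R (Set.range (m ∘ j₀.succAbove)) := by
  classical
  -- the homogeneous component of degree `deg j₀` of the relation
  set w : Fin (n + 1) → R := proj (frGr 𝒜 deg) (deg j₀) v with hw
  have hwker : w ∈ LinearMap.ker (Fintype.linearCombination R m) :=
    ker_proj_stable (frGr 𝒜 deg) ℳ (Fintype.linearCombination R m)
      (linearCombination_isGrHom 𝒜 ℳ deg m hm) (deg j₀) v hv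
  have hwj : w j₀ = proj 𝒜 0 (v j₀) := by
    rw [hw, proj_piGr, proj_shiftGr, sub_self]
  set c := proj 𝒜 0 (v j₀) with hc
  have hc0 : c ∈ 𝒜 0 := proj_mem 𝒜 0 (v j₀)
  have hcne : c ≠ 0 := by
    intro h0
    apply hj₀
    have := sub_proj_zero_mem_irr 𝒜 hpos (v j₀)
    rw [← hc, h0, sub_zero] at this
    exact this
  obtain ⟨u, hu⟩ := hunit c hc0 hcne
  -- solve for `m j₀`
  have hsum : ∑ j, w j • m j = 0 := by
    have := hwker
    rw [LinearMap.mem_ker, Fintype.linearCombination_apply] at this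
    exact this
  have hsum' : w j₀ • m j₀ + ∑ j : Fin n, w (j₀.succAbove j) • m (j₀.succAbove j) = 0 := by
    rw [← hsum, Fin.sum_univ_succAbove _ j₀]
  have hmj : m j₀ = - ∑ j : Fin n, (u * w (j₀.succAbove j)) • m (j₀.succAbove j) := by
    have h1 : c • m j₀ = - ∑ j : Fin n, w (j₀.succAbove j) • m (j₀.succAbove j) := by
      rw [← hwj]
      exact eq_neg_of_add_eq_zero_left hsum'
    calc m j₀ = (u * c) • m j₀ := by rw [hu, one_smul]
      _ = u • (c • m j₀) := by rw [mul_smul]
      _ = - ∑ j : Fin n, (u * w (j₀.succAbove j)) • m (j₀.succAbove j) := by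
        rw [h1, smul_neg, Finset.smul_sum]
        congr 1
        refine Finset.sum_congr rfl fun j _ => ?_
        rw [mul_smul]
  rw [Submodule.span_le]
  rintro _ ⟨j, rfl⟩
  by_cases hj : j = j₀
  · subst hj
    rw [SetLike.mem_coe, hmj]
    refine neg_mem (Submodule.sum_mem _ fun i _ => Submodule.smul_mem _ _ ?_)
    exact Submodule.subset_span ⟨i, rfl⟩
  · obtain ⟨i, rfl⟩ := Fin.exists_succAbove_eq hj
    exact Submodule.subset_span ⟨i, rfl⟩

include hpos hunit in
/-- **Minimal homogeneous generators.** A finitely generated graded module has a finite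
homogeneous system of generators all of whose relations have coefficients in the irrelevant
ideal. -/
theorem exists_minimal_gens (hfg : (⊤ : Submodule R M).FG) :
    ∃ (n : ℕ) (deg : Fin n → ℤ) (m : Fin n → M), (∀ j, m j ∈ ℳ (deg j)) ∧
      Submodule.span R (Set.range m) = ⊤ ∧
      ∀ v : Fin n → R, Fintype.linearCombination R m v = 0 → ∀ j, v j ∈ (irr 𝒜).toIdeal := by
  classical
  have hex : ∃ n : ℕ, ∃ (deg : Fin n → ℤ) (m : Fin n → M), (∀ j, m j ∈ ℳ (deg j)) ∧
      Submodule.span R (Set.range m) = ⊤ := exists_homogeneous_gens ℳ hfg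
  obtain ⟨deg, m, hm, hspan⟩ := Nat.find_spec hex
  refine ⟨Nat.find hex, deg, m, hm, hspan, ?_⟩
  intro v hv j₀
  by_contra hj₀
  obtain ⟨n', hn'⟩ : ∃ n', Nat.find hex = n' + 1 := by
    cases h : Nat.find hex with
    | zero =>
      exfalso
      rw [h] at j₀
      exact j₀.elim0
    | succ n' => exact ⟨n', rfl⟩
  have hmin := Nat.find_min hex (m := n') (by omega)
  apply hmin
  -- transport along `hn'`
  revert deg m v j₀
  rw [hn']
  intro deg m hm hspan v hv j₀ hj₀
  refine ⟨deg ∘ j₀.succAbove, m ∘ j₀.succAbove, fun j => hm _, ?_⟩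
  rw [eq_top_iff, ← hspan]
  exact span_succAbove 𝒜 hpos hunit ℳ deg m hm v hv j₀ hj₀

end Groth.Agent.Lib.helper11.KZ17
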