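import Mathlib
import Groth.Prelude.Def_GrLC
import Groth.Prelude.Def_GrSyz
import Groth.Agent.Lib.helper11.KZ17

/-!
# Existence of minimal graded free resolutions
-/

set_option autoImplicit false
set_option linter.unusedSectionVars false
set_option linter.unusedVariables false
set_option linter.style.haveILetI false

namespace Groth.Agent.Lib.helper11.KZ18

open DirectSum Groth.Agent.Lib.Helper26.GrProj Groth.Agent.Lib.Helper20.GrKit
  Groth.Agent.Lib.helper11.SG7 Groth.Agent.Lib.helper11.KZ17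

universe u

variable {R : Type u} [CommRing R] [IsNoetherianRing R] (𝒜 : ℤ → AddSubgroup R) [GradedRing 𝒜]
  (hpos : ∀ n : ℤ, n < 0 → 𝒜 n = ⊥)
  (hunit : ∀ c ∈ 𝒜 0, c ≠ 0 → ∃ u : R, u * c = 1)

/-- a homogeneous submodule of a graded free module all of whose elements have coordinates in the
irrelevant ideal -/
structure St where
  n : ℕ
  deg : Fin n → ℤ
  K : Submodule R (Fin n → R)
  hK : ∀ g x, x ∈ K → proj (frGr 𝒜 deg) g x ∈ K
  hKa : ∀ v ∈ K, ∀ j, v j ∈ (irr 𝒜).toIdeal

/-- the next step of a minimal resolution -/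
def Rel (s s' : St 𝒜) : Prop :=
  ∃ D : Matrix (Fin s.n) (Fin s'.n) R, (∀ i j, D i j ∈ 𝒜 (s'.deg j - s.deg i)) ∧
    (∀ i j, D i j ∈ (irr 𝒜).toIdeal) ∧
    LinearMap.range D.mulVecLin = s.K ∧ LinearMap.ker D.mulVecLin = s'.K

theorem mulVecLin_isGrHom {n n' : ℕ} (deg : Fin n → ℤ) (deg' : Fin n' → ℤ)
    (D : Matrix (Fin n) (Fin n') R) (hD : ∀ i j, D i j ∈ 𝒜 (deg' j - deg i)) :
    GrLC.IsGrHom (frGr 𝒜 deg') (frGr 𝒜 deg) D.mulVecLin := by
  intro g v hv i
  change (D.mulVec v) i ∈ 𝒜 (g - deg i)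
  rw [Matrix.mulVec, dotProduct]
  refine sum_mem fun j _ => ?_
  have h1 : v j ∈ 𝒜 (g - deg' j) := hv j
  have := SetLike.GradedMul.mul_mem (hD i j) h1
  have e : deg' j - deg i + (g - deg' j) = g - deg i := by ring
  rw [e] at this
  exact this

include hpos hunit in
theorem step (s : St 𝒜) : ∃ s' : St 𝒜, Rel 𝒜 s s' := by
  classical
  letI : DirectSum.Decomposition (subGr (frGr 𝒜 s.deg) s.K) :=
    subDecomposition (frGr 𝒜 s.deg) s.K s.hK
  haveI : IsNoetherian R (Fin s.n → R) := isNoetherian_of_isNoetherianRing_of_finite R _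
  have hfg : (⊤ : Submodule R s.K).FG := Module.finite_def.1 inferInstance
  obtain ⟨n', deg', m', hm', hspan, hmin⟩ :=
    exists_minimal_gens 𝒜 hpos hunit (subGr (frGr 𝒜 s.deg) s.K) hfg
  let D : Matrix (Fin s.n) (Fin n') R := fun i j => (m' j : Fin s.n → R) i
  have key : ∀ v : Fin n' → R,
      D.mulVecLin v = ((Fintype.linearCombination R m' v : s.K) : Fin s.n → R) := by
    intro v
    rw [Fintype.linearCombination_apply, Submodule.coe_sum]
    funext i
    rw [Finset.sum_apply]
    change (D.mulVec v) i = _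
    rw [Matrix.mulVec, dotProduct]
    refine Finset.sum_congr rfl fun j _ => ?_
    change D i j * v j = (v j • (m' j : Fin s.n → R)) i
    rw [Pi.smul_apply, smul_eq_mul, mul_comm]
  have hDmem : ∀ i j, D i j ∈ 𝒜 (deg' j - s.deg i) := fun i j => hm' j i
  have hrange : LinearMap.range D.mulVecLin = s.K := by
    ext x
    constructor
    · rintro ⟨v, rfl⟩
      rw [key]
      exact Subtype.property _
    · intro hx
      have h1 : (⟨x, hx⟩ : s.K) ∈ Submodule.span R (Set.range m') := by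
        rw [hspan]
        exact Submodule.mem_top
      rw [← Fintype.range_linearCombination] at h1
      obtain ⟨v, hv⟩ := h1
      refine ⟨v, ?_⟩
      rw [key, hv]
  have hDa : ∀ i j, D i j ∈ (irr 𝒜).toIdeal := fun i j => s.hKa _ (m' j).2 i
  refine ⟨⟨n', deg', LinearMap.ker D.mulVecLin, ?_, ?_⟩, D, hDmem, hDa, hrange, rfl⟩
  · intro g x hx
    exact ker_proj_stable (frGr 𝒜 deg') (frGr 𝒜 s.deg) D.mulVecLin
      (mulVecLin_isGrHom 𝒜 s.deg deg' D hDmem) g x hx
  · intro v hv j
    apply hmin v _ j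
    apply Subtype.ext
    rw [← key]
    exact hv

/-- the sequence of syzygy modules -/
noncomputable def seq (s0 : St 𝒜) : ℕ → St 𝒜
  | 0 => s0
  | i + 1 => Classical.choose (step 𝒜 hpos hunit (seq s0 i))

theorem seq_rel (s0 : St 𝒜) (i : ℕ) :
    Rel 𝒜 (seq 𝒜 hpos hunit s0 i) (seq 𝒜 hpos hunit s0 (i + 1)) :=
  Classical.choose_spec (step 𝒜 hpos hunit (seq 𝒜 hpos hunit s0 i))

variable {M : Type u} [AddCommGroup M] [Module R M] [Module.Finite R M] (ℳ : ℤ → AddSubgroup M)
  [DirectSum.Decomposition ℳ] [SetLike.GradedSMul 𝒜 ℳ]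

include hpos hunit in
/-- **Existence of minimal graded free resolutions.** -/
theorem exists_minimal_freeRes :
    ∃ F : GrSyz.FreeRes 𝒜 ℳ, F.IsMinimal (irr 𝒜).toIdeal := by
  classical
  have hfg : (⊤ : Submodule R M).FG := Module.finite_def.1 inferInstance
  obtain ⟨n0, deg0, m0, hm0, hspan0, hmin0⟩ := exists_minimal_gens 𝒜 hpos hunit ℳ hfg
  let s0 : St 𝒜 :=
    { n := n0
      deg := deg0
      K := LinearMap.ker (Fintype.linearCombination R m0)
      hK := fun g x hx => ker_proj_stable (frGr 𝒜 deg0) ℳ (Fintype.linearCombination R m0)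
        (linearCombination_isGrHom 𝒜 ℳ deg0 m0 hm0) g x hx
      hKa := fun v hv j => hmin0 v hv j }
  let sq := seq 𝒜 hpos hunit s0
  have hrel : ∀ i, Rel 𝒜 (sq i) (sq (i + 1)) := seq_rel 𝒜 hpos hunit s0
  let D : ∀ i, Matrix (Fin (sq i).n) (Fin (sq (i + 1)).n) R := fun i => Classical.choose (hrel i)
  have hD : ∀ i, (∀ a b, D i a b ∈ 𝒜 ((sq (i + 1)).deg b - (sq i).deg a)) ∧
      (∀ a b, D i a b ∈ (irr 𝒜).toIdeal) ∧
      LinearMap.range (D i).mulVecLin = (sq i).K ∧
      LinearMap.ker (D i).mulVecLin = (sq (i + 1)).K := fun i => Classical.choose_spec (hrel i)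
  refine ⟨{ rk := fun i => (sq i).n
            deg := fun i => (sq i).deg
            d := D
            aug := m0
            d_mem := fun i a b => (hD i).1 a b
            aug_mem := hm0
            aug_surjective := linearCombination_surjective m0 hspan0
            exact_zero := (hD 0).2.2.1.symm
            exact_succ := fun i => (hD i).2.2.2.trans (hD (i + 1)).2.2.1.symm }, ?_⟩
  intro i a b
  exact (hD i).2.1 a b

end Groth.Agent.Lib.helper11.KZ18
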