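import Mathlib
import Groth.Prelude.Def_GrLC
import Groth.Prelude.Def_GrSyz
import Groth.Agent.Lib.helper11.KZ16
import Groth.Agent.Lib.helper11.KZ18

/-!
# Regularity via minimal resolutions equals regularity via local cohomology (polynomial rings)
-/

set_option autoImplicit false
set_option linter.unusedSectionVars false
set_option linter.unusedVariables false
set_option linter.style.haveILetI false

namespace Groth.Agent.Lib.helper11.KZ19

open DirectSum Groth.Agent.Lib.Helper26.GrProj Groth.Agent.Lib.Helper20.GrKit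
  Groth.Agent.Lib.Helper20.GrLES Groth.Agent.Lib.Helper20.GrConv
  Groth.Agent.Lib.Helper20.HilbDim
  Groth.Agent.Lib.helper11.SG7
  Groth.Agent.Lib.helper11.KZ2 Groth.Agent.Lib.helper11.KZ9
  Groth.Agent.Lib.helper11.KZ10 Groth.Agent.Lib.helper11.KZ12
  Groth.Agent.Lib.helper11.KZ16 Groth.Agent.Lib.helper11.KZ18
  MvPolynomial

universe u

/-- an extended integer is the infimum of the integers above it -/
theorem iInf_coe_of_le (x : WithBot (WithTop ℤ)) :
    (⨅ (r : ℤ) (_ : x ≤ ((r : WithTop ℤ) : WithBot (WithTop ℤ))),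
      ((r : WithTop ℤ) : WithBot (WithTop ℤ))) = x := by
  apply le_antisymm
  · induction x using WithBot.recBotCoe with
    | bot =>
      have h : ∀ r : ℤ, (⨅ (r : ℤ) (_ : (⊥ : WithBot (WithTop ℤ)) ≤
          ((r : WithTop ℤ) : WithBot (WithTop ℤ))), ((r : WithTop ℤ) : WithBot (WithTop ℤ))) ≤
          ((r : WithTop ℤ) : WithBot (WithTop ℤ)) := fun r =>
        iInf₂_le (f := fun (r : ℤ) (_ : (⊥ : WithBot (WithTop ℤ)) ≤
          ((r : WithTop ℤ) : WithBot (WithTop ℤ))) => ((r : WithTop ℤ) : WithBot (WithTop ℤ)))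
          r bot_le
      generalize (⨅ (r : ℤ) (_ : (⊥ : WithBot (WithTop ℤ)) ≤
          ((r : WithTop ℤ) : WithBot (WithTop ℤ))), ((r : WithTop ℤ) : WithBot (WithTop ℤ))) = y
        at h
      induction y using WithBot.recBotCoe with
      | bot => exact le_rfl
      | coe y =>
        exfalso
        induction y using WithTop.recTopCoe with
        | top =>
          have := h 0
          rw [WithBot.coe_le_coe] at this
          exact absurd this (by simp)
        | coe m =>
          have := h (m - 1)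
          rw [WithBot.coe_le_coe, WithTop.coe_le_coe] at this
          omega
    | coe x =>
      induction x using WithTop.recTopCoe with
      | top => exact le_top
      | coe n =>
        exact iInf₂_le (f := fun (r : ℤ) (_ : (((n : ℤ) : WithTop ℤ) : WithBot (WithTop ℤ)) ≤
          ((r : WithTop ℤ) : WithBot (WithTop ℤ))) => ((r : WithTop ℤ) : WithBot (WithTop ℤ)))
          n le_rfl
  · exact le_iInf₂ fun r hr => hr

section Poly

variable (k : Type u) [Field k] (n : ℕ)

theorem hunit_stdGr : ∀ c ∈ asGr (GrSyz.stdGr k (Fin n)) 0, c ≠ 0 →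
    ∃ u : MvPolynomial (Fin n) k, u * c = 1 := by
  intro c hc hne
  have hc' : c ∈ GrSyz.stdGr k (Fin n) 0 := hc
  rw [stdGr_zero, Submodule.mem_span_singleton] at hc'
  obtain ⟨t, rfl⟩ := hc'
  have ht : t ≠ 0 := by
    rintro rfl
    exact hne (zero_smul _ _)
  refine ⟨C t⁻¹, ?_⟩
  rw [Algebra.smul_def, mul_one]
  change C t⁻¹ * C t = 1
  rw [← C_mul, inv_mul_cancel₀ ht, C_1]

theorem irr_toIdeal_eq :
    (irr (asGr (GrSyz.stdGr k (Fin n)))).toIdeal =
      (GrSyz.irrel (GrSyz.stdGr k (Fin n))).toIdeal := by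
  have := irrel_toIdeal_eq k (Fin n)
  rw [irr_toIdeal]
  exact this.symm

variable {M : Type u} [AddCommGroup M] [Module k M] [Module (MvPolynomial (Fin n) k) M]
  [IsScalarTower k (MvPolynomial (Fin n) k) M]
  (ℳ : ℤ → Submodule k M) [DirectSum.Decomposition ℳ]
  [SetLike.GradedSMul (GrSyz.stdGr k (Fin n)) ℳ]

/-- conversion of graded free resolutions, backwards -/
def freeResOfAS (F : GrSyz.FreeRes (asGr (GrSyz.stdGr k (Fin n))) (asGrM ℳ)) :
    GrSyz.FreeRes (GrSyz.stdGr k (Fin n)) ℳ where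
  rk := F.rk
  deg := F.deg
  d := F.d
  aug := F.aug
  d_mem := F.d_mem
  aug_mem := F.aug_mem
  aug_surjective := F.aug_surjective
  exact_zero := F.exact_zero
  exact_succ := F.exact_succ

variable [Module.Finite (MvPolynomial (Fin n) k) M]

/-- existence of minimal graded free resolutions over the polynomial ring -/
theorem exists_minimal :
    ∃ F : GrSyz.FreeRes (GrSyz.stdGr k (Fin n)) ℳ,
      F.IsMinimal (GrSyz.irrel (GrSyz.stdGr k (Fin n))).toIdeal := by
  obtain ⟨F, hF⟩ := exists_minimal_freeRes (asGr (GrSyz.stdGr k (Fin n)))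
    (asGr_stdGr_neg k (Fin n)) (hunit_stdGr k n) (asGrM ℳ)
  refine ⟨freeResOfAS k n ℳ F, ?_⟩
  intro i a b
  rw [← irr_toIdeal_eq]
  exact hF i a b

/-- **regularity `≤ r` via resolutions is regularity `≤ r` via local cohomology** -/
theorem isRegLE_iff_regLE (r : ℤ) :
    GrSyz.IsRegLE (GrSyz.stdGr k (Fin n)) ℳ (GrSyz.irrel (GrSyz.stdGr k (Fin n))).toIdeal r ↔
      RegLE (idealToAS (GrSyz.stdGr k (Fin n)) (GrSyz.irrel (GrSyz.stdGr k (Fin n))))
        (asGrM ℳ) r := by
  constructor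
  · rintro ⟨F, -, hgen⟩
    exact regLE_of_isGenLE' k n ℳ F r hgen
  · intro h
    obtain ⟨F, hF⟩ := exists_minimal k n ℳ
    exact ⟨F, hF, (isGenLE_iff_regLE k n ℳ F hF r).2 h⟩

/-- the regularity as an infimum over the local-cohomology condition -/
theorem reg_eq_iInf :
    GrSyz.reg (GrSyz.stdGr k (Fin n)) ℳ (GrSyz.irrel (GrSyz.stdGr k (Fin n))).toIdeal =
      ⨅ (r : ℤ) (_ : RegLE (idealToAS (GrSyz.stdGr k (Fin n))
        (GrSyz.irrel (GrSyz.stdGr k (Fin n)))) (asGrM ℳ) r),
        ((r : WithTop ℤ) : WithBot (WithTop ℤ)) := by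
  unfold GrSyz.reg
  congr 1
  funext r
  rw [isRegLE_iff_regLE]

/-- if regularity `≤ r` is equivalent to `x ≤ r` for all `r`, the regularity is `x` -/
theorem reg_eq_of_forall (x : WithBot (WithTop ℤ))
    (h : ∀ r : ℤ, RegLE (idealToAS (GrSyz.stdGr k (Fin n))
      (GrSyz.irrel (GrSyz.stdGr k (Fin n)))) (asGrM ℳ) r ↔
        x ≤ ((r : WithTop ℤ) : WithBot (WithTop ℤ))) :
    GrSyz.reg (GrSyz.stdGr k (Fin n)) ℳ (GrSyz.irrel (GrSyz.stdGr k (Fin n))).toIdeal = x := by
  rw [reg_eq_iInf, ← iInf_coe_of_le x]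
  congr 1
  funext r
  rw [h r]

theorem s15424 (E : GrLC.StarInjRes (GrSyz.stdGr k (Fin n)) ℳ) :
    GrSyz.reg (GrSyz.stdGr k (Fin n)) ℳ (GrSyz.irrel (GrSyz.stdGr k (Fin n))).toIdeal =
      ⨆ i : ℕ, (GrLC.endDeg (E.Hgr (GrSyz.irrel (GrSyz.stdGr k (Fin n))) i) +
        (((i : ℤ) : WithTop ℤ) : WithBot (WithTop ℤ))) := by
  apply reg_eq_of_forall
  intro r
  rw [regLE_iff_endDeg E, iSup_le_iff]

end Poly

end Groth.Agent.Lib.helper11.KZ19
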