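import Mathlib
import Groth.Prelude.Def_GrLC
import Groth.Prelude.Def_GrSyz
import Groth.Agent.Lib.helper11.KZ19
import Groth.Agent.Lib.helper11.KZ11
import Groth.Agent.Lib.helper11.SG5

/-!
# Consequences of `reg (resolutions) = reg (local cohomology)` over polynomial rings
-/

set_option autoImplicit false
set_option linter.unusedSectionVars false
set_option linter.unusedVariables false
set_option linter.style.haveILetI false

namespace Groth.Agent.Lib.helper11.KZ20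

open DirectSum Groth.Agent.Lib.Helper26.GrProj Groth.Agent.Lib.Helper20.GrKit
  Groth.Agent.Lib.Helper20.GrLES Groth.Agent.Lib.Helper20.GrConv
  Groth.Agent.Lib.Helper20.HilbDim
  Groth.Agent.Lib.helper11.SG5 Groth.Agent.Lib.helper11.SG7
  Groth.Agent.Lib.helper11.KZ2 Groth.Agent.Lib.helper11.KZ9
  Groth.Agent.Lib.helper11.KZ10 Groth.Agent.Lib.helper11.KZ11 Groth.Agent.Lib.helper11.KZ12
  Groth.Agent.Lib.helper11.KZ16 Groth.Agent.Lib.helper11.KZ18 Groth.Agent.Lib.helper11.KZ19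
  MvPolynomial

universe u

section Poly

variable (k : Type u) [Field k] (n : ℕ)

section SES

variable {M₁ : Type u} [AddCommGroup M₁] [Module k M₁] [Module (MvPolynomial (Fin n) k) M₁]
  [IsScalarTower k (MvPolynomial (Fin n) k) M₁] [Module.Finite (MvPolynomial (Fin n) k) M₁]
  (ℳ₁ : ℤ → Submodule k M₁) [DirectSum.Decomposition ℳ₁]
  [SetLike.GradedSMul (GrSyz.stdGr k (Fin n)) ℳ₁]
  {M₂ : Type u} [AddCommGroup M₂] [Module k M₂] [Module (MvPolynomial (Fin n) k) M₂]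
  [IsScalarTower k (MvPolynomial (Fin n) k) M₂] [Module.Finite (MvPolynomial (Fin n) k) M₂]
  (ℳ₂ : ℤ → Submodule k M₂) [DirectSum.Decomposition ℳ₂]
  [SetLike.GradedSMul (GrSyz.stdGr k (Fin n)) ℳ₂]
  {M₃ : Type u} [AddCommGroup M₃] [Module k M₃] [Module (MvPolynomial (Fin n) k) M₃]
  [IsScalarTower k (MvPolynomial (Fin n) k) M₃] [Module.Finite (MvPolynomial (Fin n) k) M₃]
  (ℳ₃ : ℤ → Submodule k M₃) [DirectSum.Decomposition ℳ₃]
  [SetLike.GradedSMul (GrSyz.stdGr k (Fin n)) ℳ₃]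
  (f : M₁ →ₗ[MvPolynomial (Fin n) k] M₂) (g : M₂ →ₗ[MvPolynomial (Fin n) k] M₃)
  (hf : Function.Injective f) (hg : Function.Surjective g)
  (hfg : LinearMap.range f = LinearMap.ker g)
  (hfgr : GrLC.IsGrHom ℳ₁ ℳ₂ f) (hggr : GrLC.IsGrHom ℳ₂ ℳ₃ g)

include hf hg hfg hfgr hggr in
theorem s15678 (r : ℤ) :
    (GrSyz.IsRegLE (GrSyz.stdGr k (Fin n)) ℳ₂ (GrSyz.irrel (GrSyz.stdGr k (Fin n))).toIdeal r →
      GrSyz.IsRegLE (GrSyz.stdGr k (Fin n)) ℳ₃
        (GrSyz.irrel (GrSyz.stdGr k (Fin n))).toIdeal (r - 1) →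
      GrSyz.IsRegLE (GrSyz.stdGr k (Fin n)) ℳ₁ (GrSyz.irrel (GrSyz.stdGr k (Fin n))).toIdeal r) ∧
    (GrSyz.IsRegLE (GrSyz.stdGr k (Fin n)) ℳ₁ (GrSyz.irrel (GrSyz.stdGr k (Fin n))).toIdeal r →
      GrSyz.IsRegLE (GrSyz.stdGr k (Fin n)) ℳ₃ (GrSyz.irrel (GrSyz.stdGr k (Fin n))).toIdeal r →
      GrSyz.IsRegLE (GrSyz.stdGr k (Fin n)) ℳ₂ (GrSyz.irrel (GrSyz.stdGr k (Fin n))).toIdeal r) ∧
    (GrSyz.IsRegLE (GrSyz.stdGr k (Fin n)) ℳ₁
        (GrSyz.irrel (GrSyz.stdGr k (Fin n))).toIdeal (r + 1) →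
      GrSyz.IsRegLE (GrSyz.stdGr k (Fin n)) ℳ₂ (GrSyz.irrel (GrSyz.stdGr k (Fin n))).toIdeal r →
      GrSyz.IsRegLE (GrSyz.stdGr k (Fin n)) ℳ₃ (GrSyz.irrel (GrSyz.stdGr k (Fin n))).toIdeal r) := by
  have hfgr' : GrLC.IsGrHom (asGrM ℳ₁) (asGrM ℳ₂) f := hfgr
  have hggr' : GrLC.IsGrHom (asGrM ℳ₂) (asGrM ℳ₃) g := hggr
  simp only [isRegLE_iff_regLE]
  refine ⟨fun h2 h3 => ?_, fun h1 h3 => ?_, fun h1 h2 => ?_⟩
  · exact RegLE.left _ f g hfgr' hggr' hf hg hfg.symm h2 h3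
  · exact RegLE.mid _ f g hfgr' hggr' hf hg hfg.symm h1 h3
  · exact RegLE.right _ f g hfgr' hggr' hf hg hfg.symm h2 h1

end SES

section FL

variable {M : Type u} [AddCommGroup M] [Module k M] [Module (MvPolynomial (Fin n) k) M]
  [IsScalarTower k (MvPolynomial (Fin n) k) M] [Module.Finite (MvPolynomial (Fin n) k) M]
  (ℳ : ℤ → Submodule k M) [DirectSum.Decomposition ℳ]
  [SetLike.GradedSMul (GrSyz.stdGr k (Fin n)) ℳ]

include ℳ in
/-- elements of a finite length graded module are killed by a power of the irrelevant ideal -/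
theorem torsion_of_finiteLength (hM : IsFiniteLength (MvPolynomial (Fin n) k) M) (z : M) :
    ∃ s : ℕ, ∀ r ∈ (idealToAS (GrSyz.stdGr k (Fin n))
      (GrSyz.irrel (GrSyz.stdGr k (Fin n)))).toIdeal ^ s, r • z = 0 := by
  haveI : IsArtinian (MvPolynomial (Fin n) k) M :=
    (isFiniteLength_iff_isNoetherian_isArtinian.1 hM).2
  obtain ⟨N, hN⟩ := exists_pieces_eq_bot (asGr (GrSyz.stdGr k (Fin n)))
    (asGr_stdGr_neg k (Fin n)) (asGrM ℳ)
  exact torsion_of_bounded (asGr (GrSyz.stdGr k (Fin n))) (asGr_stdGr_neg k (Fin n))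
    _ (irrel_toIdeal_eq k (Fin n)) (asGrM ℳ) N hN z

theorem s15422 (hM : IsFiniteLength (MvPolynomial (Fin n) k) M) :
    GrSyz.reg (GrSyz.stdGr k (Fin n)) ℳ (GrSyz.irrel (GrSyz.stdGr k (Fin n))).toIdeal =
      GrLC.endDeg (fun n => (ℳ n).toAddSubgroup) := by
  apply reg_eq_of_forall
  intro r
  rw [regLE_torsion_iff _ _ (torsion_of_finiteLength k n ℳ hM), endDeg_le_coe_iff]
  constructor
  · intro h g hg
    have := h g hg
    rw [AddSubgroup.eq_bot_iff_forall] at this ⊢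
    exact this
  · intro h g hg
    have := h g hg
    rw [AddSubgroup.eq_bot_iff_forall] at this ⊢
    exact this

end FL

end Poly

end Groth.Agent.Lib.helper11.KZ20
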