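import Mathlib
import Groth.Prelude.Def_GrLC
import Groth.Prelude.Def_GrSyz
import Groth.Agent.Lib.helper11.KZ20

/-!
# Regularity modulo (quasi-)regular linear forms, in terms of minimal resolutions
-/

set_option autoImplicit false
set_option linter.unusedSectionVars false
set_option linter.unusedVariables false
set_option linter.style.haveILetI false

namespace Groth.Agent.Lib.helper11.KZ21

open DirectSum Groth.Agent.Lib.Helper26.GrProj Groth.Agent.Lib.Helper20.GrKit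
  Groth.Agent.Lib.Helper20.GrLES Groth.Agent.Lib.Helper20.GrConv
  Groth.Agent.Lib.Helper20.HilbDim
  Groth.Agent.Lib.helper11.SG5 Groth.Agent.Lib.helper11.SG7
  Groth.Agent.Lib.helper11.KZ2 Groth.Agent.Lib.helper11.KZ8 Groth.Agent.Lib.helper11.KZ9
  Groth.Agent.Lib.helper11.KZ10 Groth.Agent.Lib.helper11.KZ11 Groth.Agent.Lib.helper11.KZ12
  Groth.Agent.Lib.helper11.KZ16 Groth.Agent.Lib.helper11.KZ18 Groth.Agent.Lib.helper11.KZ19
  Groth.Agent.Lib.helper11.KZ20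
  MvPolynomial

universe u

/-- an infimum of an upward closed set of integers is `≤ r` iff `r` is in the set -/
theorem iInf_le_coe_iff (P : ℤ → Prop) (hP : ∀ r r', P r → r ≤ r' → P r') (r : ℤ) :
    (⨅ (s : ℤ) (_ : P s), ((s : WithTop ℤ) : WithBot (WithTop ℤ))) ≤
      ((r : WithTop ℤ) : WithBot (WithTop ℤ)) ↔ P r := by
  constructor
  · intro h
    by_contra hr
    have h1 : (((r + 1 : ℤ) : WithTop ℤ) : WithBot (WithTop ℤ)) ≤
        ⨅ (s : ℤ) (_ : P s), ((s : WithTop ℤ) : WithBot (WithTop ℤ)) := by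
      refine le_iInf₂ fun s hs => ?_
      rw [WithBot.coe_le_coe, WithTop.coe_le_coe]
      by_contra hlt
      exact hr (hP s r hs (by omega))
    have h2 := le_trans h1 h
    rw [WithBot.coe_le_coe, WithTop.coe_le_coe] at h2
    omega
  · intro h
    exact iInf₂_le (f := fun (s : ℤ) (_ : P s) => ((s : WithTop ℤ) : WithBot (WithTop ℤ))) r h

section General

variable {R : Type u} [CommRing R] [IsNoetherianRing R] {𝒜 : ℤ → AddSubgroup R} [GradedRing 𝒜]
  (a : HomogeneousIdeal 𝒜)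
  {M : Type u} [AddCommGroup M] [Module R M] {ℳ : ℤ → AddSubgroup M}
  [DirectSum.Decomposition ℳ] [SetLike.GradedSMul 𝒜 ℳ]
  {N : Type u} [AddCommGroup N] [Module R N] {𝒩 : ℤ → AddSubgroup N}
  [DirectSum.Decomposition 𝒩] [SetLike.GradedSMul 𝒜 𝒩]
  (ha : a.toIdeal = Ideal.span (⋃ n ∈ Set.Ioi (0 : ℤ), (𝒜 n : Set R)))
  (hhom : a.toIdeal = Ideal.span ((𝒜 1 : AddSubgroup R) : Set R))
  [Module.Finite R M] [Module.Finite R N]
  (x : R) (hx : x ∈ 𝒜 1)
  (hK : ∀ j : ℕ, 1 ≤ j →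
    Subsingleton (LocCoh.H a.toIdeal j (LinearMap.ker (x • (LinearMap.id : M →ₗ[R] M)))))
  (π : M →ₗ[R] N) (hπ : Function.Surjective π) (hπg : GrLC.IsGrHom ℳ 𝒩 π)
  (hker : LinearMap.ker π = LinearMap.range (x • (LinearMap.id : M →ₗ[R] M)))

include ha hhom hx hK hπ hπg hker in
/-- regularity modulo a quasi-regular linear form -/
theorem regLE_quasi_iff (d : ℤ) :
    RegLE a ℳ d ↔ RegLE a 𝒩 d ∧ ∀ g : ℤ, d < g → Van a ℳ 0 g := by
  constructor
  · intro h
    have h0 : ∀ g : ℤ, d < g → Van a ℳ 0 g := fun g hg => h 0 g (by simpa using hg)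
    have hM : ∀ i : ℕ, 0 < i → Van a ℳ i (d - i + 1) := fun i hi => h i _ (by omega)
    refine ⟨?_, h0⟩
    apply regLE_of_weak a hhom d
    · intro g hg
      exact quot_zero a hhom x hx hK π hπ hπg hker d h0 hM g hg
    · intro i hi E'
      obtain ⟨E⟩ := nonempty_starInjRes 𝒜 ℳ
      refine quasi_regular_step a x 1 hx hK π hπ hπg hker E E' i (d - i + 1) (hM i hi E) ?_
      have := h (i + 1) (d - i + 1 - 1) (by push_cast; omega)
      exact this E
  · rintro ⟨hN, h0⟩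
    apply regLE_of_weak a hhom d h0
    intro i hi
    exact lift_reg a ha hhom x hx hK π hπ hπg hker d
      (fun g hg => hN 0 g (by simpa using hg)) (fun i hi => hN i _ (by omega)) i hi

end General

section Poly

variable (k : Type u) [Field k] (n : ℕ)
  {M : Type u} [AddCommGroup M] [Module k M] [Module (MvPolynomial (Fin n) k) M]
  [IsScalarTower k (MvPolynomial (Fin n) k) M] [Module.Finite (MvPolynomial (Fin n) k) M]
  (ℳ : ℤ → Submodule k M) [DirectSum.Decomposition ℳ]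
  [SetLike.GradedSMul (GrSyz.stdGr k (Fin n)) ℳ]
  {N : Type u} [AddCommGroup N] [Module k N] [Module (MvPolynomial (Fin n) k) N]
  [IsScalarTower k (MvPolynomial (Fin n) k) N] [Module.Finite (MvPolynomial (Fin n) k) N]
  (𝒩 : ℤ → Submodule k N) [DirectSum.Decomposition 𝒩]
  [SetLike.GradedSMul (GrSyz.stdGr k (Fin n)) 𝒩]

/-- `reg ≤ r` iff regularity `≤ r` in the sense of local cohomology -/
theorem reg_le_coe_iff (r : ℤ) :
    GrSyz.reg (GrSyz.stdGr k (Fin n)) ℳ (GrSyz.irrel (GrSyz.stdGr k (Fin n))).toIdeal ≤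
      ((r : WithTop ℤ) : WithBot (WithTop ℤ)) ↔
      RegLE (idealToAS (GrSyz.stdGr k (Fin n)) (GrSyz.irrel (GrSyz.stdGr k (Fin n))))
        (asGrM ℳ) r := by
  rw [reg_eq_iInf]
  exact iInf_le_coe_iff _ (fun r r' h hrr' => h.mono _ hrr') r

theorem s15421 (x : MvPolynomial (Fin n) k) (hx : x ∈ GrSyz.stdGr k (Fin n) 1)
    (hq : IsFiniteLength (MvPolynomial (Fin n) k)
      ↥(Submodule.torsionBy (MvPolynomial (Fin n) k) M x))
    (π : M →ₗ[MvPolynomial (Fin n) k] N) (hπ : Function.Surjective π)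
    (hπg : GrLC.IsGrHom ℳ 𝒩 π)
    (hker : LinearMap.ker π =
      LinearMap.range (x • (LinearMap.id : M →ₗ[MvPolynomial (Fin n) k] M)))
    (E : GrLC.StarInjRes (GrSyz.stdGr k (Fin n)) ℳ) :
    GrSyz.reg (GrSyz.stdGr k (Fin n)) ℳ (GrSyz.irrel (GrSyz.stdGr k (Fin n))).toIdeal =
      GrLC.endDeg (E.Hgr (GrSyz.irrel (GrSyz.stdGr k (Fin n))) 0) ⊔
        GrSyz.reg (GrSyz.stdGr k (Fin n)) 𝒩 (GrSyz.irrel (GrSyz.stdGr k (Fin n))).toIdeal := by
  classical
  apply reg_eq_of_forall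
  intro d
  set 𝒜₀ := GrSyz.stdGr k (Fin n) with h𝒜₀
  set a := idealToAS 𝒜₀ (GrSyz.irrel 𝒜₀) with hadef
  have hpos := asGr_stdGr_neg k (Fin n)
  have ha := irrel_toIdeal_eq k (Fin n)
  have hhom := irrel_toIdeal_eq_span_one k (Fin n)
  set K : Submodule (MvPolynomial (Fin n) k) M :=
    LinearMap.ker (x • (LinearMap.id : M →ₗ[MvPolynomial (Fin n) k] M)) with hKdef
  have hKeq : K = Submodule.torsionBy (MvPolynomial (Fin n) k) M x := by
    ext m
    rw [Submodule.mem_torsionBy_iff]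
    rfl
  have hKfl : IsFiniteLength (MvPolynomial (Fin n) k) K := by
    rw [hKeq]
    exact hq
  have hx' : x ∈ asGr 𝒜₀ 1 := hx
  have hKst : ∀ g y, y ∈ K → proj (asGrM ℳ) g y ∈ K :=
    ker_smul_proj_stable (𝒜 := asGr 𝒜₀) (ℳ := asGrM ℳ) x 1 hx'
  letI : DirectSum.Decomposition (subGr (asGrM ℳ) K) := subDecomposition (asGrM ℳ) K hKst
  have hK : ∀ j : ℕ, 1 ≤ j → Subsingleton (LocCoh.H a.toIdeal j K) := fun j hj =>
    subsingleton_H_of_isFiniteLength (asGr 𝒜₀) hpos a ha hhom (subGr (asGrM ℳ) K) hKfl j hj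
  have hπg' : GrLC.IsGrHom (asGrM ℳ) (asGrM 𝒩) π := hπg
  rw [regLE_quasi_iff a ha hhom x hx' hK π hπ hπg' hker d, sup_le_iff, reg_le_coe_iff,
    endDeg_le_coe_iff, and_comm]
  constructor
  · rintro ⟨h0, hN⟩
    exact ⟨fun g hg => (conv E _ 0 g).2 (h0 g hg), hN⟩
  · rintro ⟨h0, hN⟩
    exact ⟨fun g hg => (conv E _ 0 g).1 (h0 g hg), hN⟩

theorem s15425 (ys : List (MvPolynomial (Fin n) k))
    (hys : ∀ y ∈ ys, y ∈ GrSyz.stdGr k (Fin n) 1)
    (hreg : RingTheory.Sequence.IsWeaklyRegular M ys)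
    (π : M →ₗ[MvPolynomial (Fin n) k] N) (hπ : Function.Surjective π)
    (hπg : GrLC.IsGrHom ℳ 𝒩 π)
    (hker : LinearMap.ker π = Ideal.ofList ys • (⊤ : Submodule (MvPolynomial (Fin n) k) M))
    (hN : IsFiniteLength (MvPolynomial (Fin n) k) N) :
    GrSyz.reg (GrSyz.stdGr k (Fin n)) ℳ (GrSyz.irrel (GrSyz.stdGr k (Fin n))).toIdeal =
      GrLC.endDeg (fun n => (𝒩 n).toAddSubgroup) := by
  classical
  rw [← s15422 k n 𝒩 hN]
  apply reg_eq_of_forall
  intro d
  rw [reg_le_coe_iff]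
  have ha := irrel_toIdeal_eq k (Fin n)
  have hhom := irrel_toIdeal_eq_span_one k (Fin n)
  have hπg' : GrLC.IsGrHom (asGrM ℳ) (asGrM 𝒩) π := hπg
  refine regLE_regseq_iff _ ha hhom ys.length M (asGrM ℳ) ys.get
    (fun i => hys _ (List.get_mem ys i)) ?_ N (asGrM 𝒩) π hπ hπg' ?_ d
  · rw [List.ofFn_get]
    exact hreg
  · rw [hker, Ideal.ofList, Set.range_list_get]

end Poly

end Groth.Agent.Lib.helper11.KZ21
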