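import Mathlib

/-!
# Length over a polynomial ring versus dimension over the field, for modules killed by a power
of the ideal of variables
-/

set_option autoImplicit false
set_option linter.unusedSectionVars false
set_option linter.unusedVariables false
set_option linter.style.haveILetI false

namespace Groth.Agent.Lib.helper11.KZ22

open MvPolynomial

universe u v

variable (k : Type u) [Field k] (σ : Type v)

section Killed

variable {N : Type u} [AddCommGroup N] [Module k N] [Module (MvPolynomial σ k) N]
  [IsScalarTower k (MvPolynomial σ k) N]

variable {k σ} in
/-- if the variables kill the module, a polynomial acts through its constant coefficient -/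
theorem smul_eq_constantCoeff (hX : ∀ (i : σ) (z : N), (X i : MvPolynomial σ k) • z = 0)
    (p : MvPolynomial σ k) (z : N) : p • z = constantCoeff p • z := by
  induction p using MvPolynomial.induction_on with
  | C a =>
    rw [constantCoeff_C, ← algebraMap_eq, algebraMap_smul]
  | add p q hp hq =>
    rw [add_smul, hp, hq, map_add, add_smul]
  | mul_X p i _ =>
    rw [mul_smul, hX, smul_zero, map_mul, constantCoeff_X, mul_zero, zero_smul]

variable {k σ} in
/-- the submodule lattices over the polynomial ring and over the field agree -/
noncomputable def subIso (hX : ∀ (i : σ) (z : N), (X i : MvPolynomial σ k) • z = 0) :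
    Submodule (MvPolynomial σ k) N ≃o Submodule k N where
  toFun := Submodule.restrictScalars k
  invFun W :=
    { W with
      smul_mem' := fun p z hz => by
        rw [smul_eq_constantCoeff hX]
        exact W.smul_mem _ hz }
  left_inv := fun P => by ext; rfl
  right_inv := fun W => by ext; rfl
  map_rel_iff' := Iff.rfl

variable {k σ} in
theorem length_eq_of_killed (hX : ∀ (i : σ) (z : N), (X i : MvPolynomial σ k) • z = 0) :
    Module.length (MvPolynomial σ k) N = Module.length k N := by
  apply WithBot.coe_injective
  rw [Module.coe_length, Module.coe_length, Order.krullDim_eq_of_orderIso (subIso hX)]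

end Killed

/-- for a module killed by a power of the ideal of the variables, the length over the polynomial
ring is the length over the field -/
theorem length_eq_of_nilpotent (s : ℕ) : ∀ (N : Type u) [AddCommGroup N] [Module k N]
    [Module (MvPolynomial σ k) N] [IsScalarTower k (MvPolynomial σ k) N],
    (∀ r ∈ (Ideal.span (Set.range (X : σ → MvPolynomial σ k))) ^ s, ∀ z : N, r • z = 0) →
    Module.length (MvPolynomial σ k) N = Module.length k N := by
  induction s with
  | zero =>
    intro N _ _ _ _ h
    haveI : Subsingleton N := by
      refine ⟨fun a b => ?_⟩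
      have h1 : (1 : MvPolynomial σ k) ∈
          (Ideal.span (Set.range (X : σ → MvPolynomial σ k))) ^ 0 := by
        rw [pow_zero, Ideal.one_eq_top]
        exact Submodule.mem_top
      have ha := h 1 h1 a
      have hb := h 1 h1 b
      rw [one_smul] at ha hb
      rw [ha, hb]
    rw [Module.length_eq_zero, Module.length_eq_zero]
  | succ s ih =>
    intro N _ _ _ _ h
    set 𝔪 : Ideal (MvPolynomial σ k) := Ideal.span (Set.range (X : σ → MvPolynomial σ k)) with h𝔪
    let P : Submodule (MvPolynomial σ k) N := 𝔪 • ⊤
    have hP : ∀ r ∈ 𝔪 ^ s, ∀ z : P, r • z = 0 := by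
      intro r hr z
      apply Subtype.ext
      rw [Submodule.coe_smul, Submodule.coe_zero]
      refine Submodule.smul_induction_on (p := fun z => r • z = 0) z.2 ?_ ?_
      · intro a ha n _
        rw [← mul_smul]
        apply h
        rw [pow_succ]
        exact Ideal.mul_mem_mul hr ha
      · intro x y hx hy
        rw [smul_add, hx, hy, add_zero]
    have hQ : ∀ (i : σ) (z : N ⧸ P), (X i : MvPolynomial σ k) • z = 0 := by
      intro i z
      obtain ⟨z, rfl⟩ := P.mkQ_surjective z
      rw [← map_smul, Submodule.mkQ_apply, Submodule.Quotient.mk_eq_zero]
      exact Submodule.smul_mem_smul (Ideal.subset_span ⟨i, rfl⟩) Submodule.mem_top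
    have h1 := Module.length_eq_add_of_exact P.subtype P.mkQ (Submodule.subtype_injective P)
      (Submodule.mkQ_surjective P) (LinearMap.exact_subtype_mkQ P)
    have h2 := Module.length_eq_add_of_exact (P.subtype.restrictScalars k)
      (P.mkQ.restrictScalars k) (Submodule.subtype_injective P)
      (Submodule.mkQ_surjective P) (LinearMap.exact_subtype_mkQ P)
    rw [h1, h2, ih P hP, length_eq_of_killed hQ]

end Groth.Agent.Lib.helper11.KZ22
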