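import Mathlib
import Groth.Prelude.Def_GrLC
import Groth.Prelude.Def_GrSyz
import Groth.Agent.Lib.helper11.KZ21
import Groth.Agent.Lib.helper11.KZ22

/-!
# Cyclic graded modules over polynomial rings: pieces, and a lower bound for the length
-/

set_option autoImplicit false
set_option linter.unusedSectionVars false
set_option linter.unusedVariables false
set_option linter.style.haveILetI false

namespace Groth.Agent.Lib.helper11.KZ23

open DirectSum Groth.Agent.Lib.Helper26.GrProj Groth.Agent.Lib.Helper20.GrKit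
  Groth.Agent.Lib.Helper20.GrLES Groth.Agent.Lib.Helper20.GrConv
  Groth.Agent.Lib.Helper20.HilbDim
  Groth.Agent.Lib.helper11.KZ9
  Groth.Agent.Lib.helper11.KZ10 Groth.Agent.Lib.helper11.KZ12
  Groth.Agent.Lib.helper11.KZ19
  Groth.Agent.Lib.helper11.KZ20 Groth.Agent.Lib.helper11.KZ21 Groth.Agent.Lib.helper11.KZ22
  MvPolynomial

universe u

section Cyclic

variable (k : Type u) [Field k] (n : ℕ)
  {N : Type u} [AddCommGroup N] [Module k N] [Module (MvPolynomial (Fin n) k) N]
  [IsScalarTower k (MvPolynomial (Fin n) k) N]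
  (𝒩 : ℤ → Submodule k N) [DirectSum.Decomposition 𝒩]
  [SetLike.GradedSMul (GrSyz.stdGr k (Fin n)) 𝒩]
  (φ : MvPolynomial (Fin n) k →ₗ[MvPolynomial (Fin n) k] N) (hφ : Function.Surjective φ)
  (hφg : GrLC.IsGrHom (GrSyz.stdGr k (Fin n)) 𝒩 φ)

include hφ hφg in
/-- homogeneous elements of a graded quotient of the ring are images of forms -/
theorem exists_preimage_piece (j : ℤ) (z : N) (hz : z ∈ 𝒩 j) :
    ∃ q ∈ GrSyz.stdGr k (Fin n) j, φ q = z := by
  classical
  obtain ⟨p, rfl⟩ := hφ z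
  have hφg' : GrLC.IsGrHom (asGr (GrSyz.stdGr k (Fin n))) (asGrM 𝒩) φ := hφg
  refine ⟨proj (asGr (GrSyz.stdGr k (Fin n))) j p,
    proj_mem (asGr (GrSyz.stdGr k (Fin n))) j p, ?_⟩
  rw [← proj_hom (asGr (GrSyz.stdGr k (Fin n))) (asGrM 𝒩) φ hφg' j p]
  exact proj_of_mem_same (asGrM 𝒩) hz

include hφ hφg in
theorem piece_neg_eq_bot (j : ℤ) (hj : j < 0) : 𝒩 j = ⊥ := by
  rw [eq_bot_iff]
  intro z hz
  obtain ⟨q, hq, rfl⟩ := exists_preimage_piece k n 𝒩 φ hφ hφg j z hz
  rw [stdGr_neg k (Fin n) j hj, Submodule.mem_bot] at hq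
  rw [hq, map_zero]
  exact Submodule.zero_mem _

include hφ hφg in
theorem piece_succ_eq_bot (j : ℕ) (h : 𝒩 (j : ℤ) = ⊥) : 𝒩 ((j : ℤ) + 1) = ⊥ := by
  classical
  rw [eq_bot_iff]
  intro z hz
  obtain ⟨q, hq, rfl⟩ := exists_preimage_piece k n 𝒩 φ hφ hφg _ z hz
  rw [Submodule.mem_bot]
  have hq' : q ∈ homogeneousSubmodule (Fin n) k (j + 1) := by
    apply (mem_stdGr_natCast k (Fin n) (j + 1) q).1
    push_cast
    exact hq
  have key : ∀ (m : Fin n →₀ ℕ) (c : k), m.degree = j + 1 → φ (monomial m c) = 0 := by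
    intro m c hdeg
    obtain ⟨i, hi⟩ : ∃ i, m i ≠ 0 := by
      by_contra hne
      push Not at hne
      have : m = 0 := Finsupp.ext hne
      subst this
      simp at hdeg
    obtain ⟨m', rfl⟩ : ∃ m', m = m' + Finsupp.single i 1 :=
      ⟨_, (Finsupp.sub_add_single_one_cancel hi).symm⟩
    rw [monomial_add_single, pow_one, mul_comm, ← smul_eq_mul, map_smul]
    have hmem : monomial m' c ∈ GrSyz.stdGr k (Fin n) (j : ℤ) := by
      rw [mem_stdGr_natCast]
      apply isHomogeneous_monomial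
      rw [map_add, Finsupp.degree_single] at hdeg
      omega
    have := hφg _ _ hmem
    rw [h, Submodule.mem_bot] at this
    rw [this, smul_zero]
  rw [q.as_sum, map_sum]
  refine Finset.sum_eq_zero fun m hm => ?_
  apply key
  have := hq' (mem_support_iff.1 hm)
  rw [Finsupp.degree_eq_weight_one]
  exact this

include hφ hφg in
theorem piece_eq_bot_of_le (j : ℕ) (h : 𝒩 (j : ℤ) = ⊥) (j' : ℤ) (hj' : (j : ℤ) ≤ j') :
    𝒩 j' = ⊥ := by
  obtain ⟨t, rfl⟩ : ∃ t : ℕ, j' = (j : ℤ) + t := ⟨(j' - j).toNat, by omega⟩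
  induction t with
  | zero => simpa using h
  | succ t ih =>
    have := piece_succ_eq_bot k n 𝒩 φ hφ hφg (j + t) (by push_cast; exact ih (by omega))
    push_cast at this ⊢
    rw [← add_assoc]
    exact this

end Cyclic

section Lin

variable (k : Type u) [Field k] (n : ℕ)
  {M : Type u} [AddCommGroup M] [Module k M] [Module (MvPolynomial (Fin n) k) M]
  [IsScalarTower k (MvPolynomial (Fin n) k) M]
  (ℳ : ℤ → Submodule k M) [DirectSum.Decomposition ℳ]
  [SetLike.GradedSMul (GrSyz.stdGr k (Fin n)) ℳ]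
  (π : MvPolynomial (Fin n) k →ₗ[MvPolynomial (Fin n) k] M) (hπ : Function.Surjective π)
  (hπg : GrLC.IsGrHom (GrSyz.stdGr k (Fin n)) ℳ π)
  (ys : List (MvPolynomial (Fin n) k)) (hys : ∀ y ∈ ys, y ∈ GrSyz.stdGr k (Fin n) 1)

include hπ hπg hys in
/-- the degree one part of `(ys) M` is spanned by the images of the `ys` -/
theorem proj_one_mem (m : M)
    (hm : m ∈ Ideal.ofList ys • (⊤ : Submodule (MvPolynomial (Fin n) k) M)) :
    proj (asGrM ℳ) 1 m ∈ (Submodule.span k {y | y ∈ ys}).map (π.restrictScalars k) := by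
  classical
  set V := (Submodule.span k {y | y ∈ ys}).map (π.restrictScalars k) with hV
  refine Submodule.smul_induction_on (p := fun m => proj (asGrM ℳ) 1 m ∈ V) hm ?_ ?_
  · intro r hr m' _
    have key : ∀ m' : M, proj (asGrM ℳ) 1 (r • m') ∈ V := by
      refine Submodule.span_induction
        (p := fun r _ => ∀ m' : M, proj (asGrM ℳ) 1 (r • m') ∈ V) ?_ ?_ ?_ ?_ hr
      · intro y hy m'
        have hy' : y ∈ ys := hy
        have hy1 : y ∈ asGr (GrSyz.stdGr k (Fin n)) 1 := hys y hy'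
        rw [proj_smul_of_mem (asGr (GrSyz.stdGr k (Fin n))) (asGrM ℳ) hy1 1 m', sub_self]
        obtain ⟨q, hq, hqm⟩ := exists_preimage_piece k n ℳ π hπ hπg 0 (proj (asGrM ℳ) 0 m')
          (proj_mem (asGrM ℳ) 0 m')
        rw [stdGr_zero, Submodule.mem_span_singleton] at hq
        obtain ⟨c, rfl⟩ := hq
        rw [← hqm, ← map_smul]
        refine ⟨c • y, Submodule.smul_mem _ c (Submodule.subset_span hy'), ?_⟩
        change π (c • y) = π (y • c • (1 : MvPolynomial (Fin n) k))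
        congr 1
        rw [smul_eq_mul, Algebra.smul_def, Algebra.smul_def, mul_one, mul_comm]
      · intro m'
        rw [zero_smul, proj_zero]
        exact Submodule.zero_mem _
      · intro r s _ _ hr hs m'
        rw [add_smul, proj_add]
        exact Submodule.add_mem _ (hr m') (hs m')
      · intro a r _ hr m'
        rw [smul_eq_mul, mul_comm, mul_smul]
        exact hr (a • m')
    exact key m'
  · intro x y hx hy
    rw [proj_add]
    exact Submodule.add_mem _ hx hy

variable (hlin : ∀ x : MvPolynomial (Fin n) k, x ∈ GrSyz.stdGr k (Fin n) 1 → π x = 0 → x = 0)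
  {N : Type u} [AddCommGroup N] [Module k N] [Module (MvPolynomial (Fin n) k) N]
  [IsScalarTower k (MvPolynomial (Fin n) k) N]
  (𝒩 : ℤ → Submodule k N) [DirectSum.Decomposition 𝒩]
  [SetLike.GradedSMul (GrSyz.stdGr k (Fin n)) 𝒩]
  (σ : M →ₗ[MvPolynomial (Fin n) k] N) (hσ : Function.Surjective σ)
  (hσg : GrLC.IsGrHom ℳ 𝒩 σ)
  (hker : LinearMap.ker σ = Ideal.ofList ys • (⊤ : Submodule (MvPolynomial (Fin n) k) M))

include hπ hπg hys hlin hker in
/-- linear forms killed in `N = M/(ys)M` are combinations of the `ys` -/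
theorem mem_span_of_ker (x : MvPolynomial (Fin n) k) (hx : x ∈ GrSyz.stdGr k (Fin n) 1)
    (h : σ (π x) = 0) : x ∈ Submodule.span k {y | y ∈ ys} := by
  classical
  have h1 : π x ∈ Ideal.ofList ys • (⊤ : Submodule (MvPolynomial (Fin n) k) M) := by
    rw [← hker]
    exact h
  have h2 := proj_one_mem k n ℳ π hπ hπg ys hys (π x) h1
  rw [proj_of_mem_same (asGrM ℳ) (hπg 1 x hx)] at h2
  obtain ⟨v, hv, hvx⟩ := h2
  have hv1 : v ∈ GrSyz.stdGr k (Fin n) 1 :=
    (Submodule.span_le.2 (fun y hy => hys y hy)) hv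
  have hvx' : π v = π x := hvx
  have h3 : x - v = 0 := hlin (x - v) (Submodule.sub_mem _ hx hv1) (by
    rw [map_sub, hvx', sub_self])
  rw [sub_eq_zero.1 h3]
  exact hv

include hπ hπg hys hlin hker hσg in
/-- the degree one piece of `N` has dimension at least `n - t` -/
theorem le_finrank_piece_one [Module.Finite k N] :
    n ≤ ys.length + Module.finrank k (𝒩 1) := by
  classical
  let L : (Fin n → k) →ₗ[k] MvPolynomial (Fin n) k :=
    Fintype.linearCombination k (X : Fin n → MvPolynomial (Fin n) k)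
  have hL1 : ∀ c, L c ∈ GrSyz.stdGr k (Fin n) 1 := by
    intro c
    change ∑ i, c i • (X i : MvPolynomial (Fin n) k) ∈ _
    refine Submodule.sum_mem _ fun i _ => Submodule.smul_mem _ _ ?_
    have := (mem_stdGr_natCast k (Fin n) 1 (X i)).2 (isHomogeneous_X k i)
    simpa using this
  have hLinj : Function.Injective L := by
    rw [← LinearMap.ker_eq_bot, LinearMap.ker_eq_bot']
    intro c hc
    funext i
    exact (Fintype.linearIndependent_iff.1 (linearIndependent_X (Fin n) k)) c hc i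
  let θ : (Fin n → k) →ₗ[k] N := (σ.restrictScalars k) ∘ₗ (π.restrictScalars k) ∘ₗ L
  have hθ : ∀ c, θ c = σ (π (L c)) := fun c => rfl
  have hrange : LinearMap.range θ ≤ 𝒩 1 := by
    rintro _ ⟨c, rfl⟩
    rw [hθ]
    exact hσg 1 _ (hπg 1 _ (hL1 c))
  have h1 : Module.finrank k (LinearMap.range θ) ≤ Module.finrank k (𝒩 1) :=
    Submodule.finrank_mono hrange
  haveI : Module.Finite k (Submodule.span k {y | y ∈ ys}) :=
    FiniteDimensional.span_of_finite k (List.finite_toSet ys)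
  let ι : LinearMap.ker θ →ₗ[k] Submodule.span k {y | y ∈ ys} :=
    LinearMap.codRestrict _ (L ∘ₗ (LinearMap.ker θ).subtype) (fun c => by
      have hc : θ c.1 = 0 := c.2
      rw [hθ] at hc
      exact mem_span_of_ker k n ℳ π hπ hπg ys hys hlin σ hker (L c.1) (hL1 c.1) hc)
  have hιinj : Function.Injective ι := by
    intro c c' h
    have h' : L c.1 = L c'.1 := congrArg Subtype.val h
    exact Subtype.ext (hLinj h')
  have h2 : Module.finrank k (LinearMap.ker θ) ≤ ys.length := by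
    refine le_trans (LinearMap.finrank_le_finrank_of_injective hιinj) ?_
    have e : {y | y ∈ ys} = Set.range ys.get := (Set.range_list_get ys).symm
    rw [e]
    have := finrank_range_le_card (R := k) ys.get
    rw [Fintype.card_fin] at this
    exact this
  have h3 := LinearMap.finrank_range_add_finrank_ker θ
  rw [Module.finrank_fin_fun] at h3
  omega

end Lin

section Count

variable (k : Type u) [Field k]
  {N : Type u} [AddCommGroup N] [Module k N]
  (𝒩 : ℤ → Submodule k N) [DirectSum.Decomposition 𝒩]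

/-- the dimensions of finitely many pieces add up to at most the dimension -/
theorem sum_finrank_le [Module.Finite k N] (T : Finset ℤ) :
    ∑ j ∈ T, Module.finrank k (𝒩 j) ≤ Module.finrank k N := by
  classical
  let Ψ : N →ₗ[k] (∀ j : T, 𝒩 j) := LinearMap.pi (fun j =>
    (DirectSum.component k ℤ (fun i => 𝒩 i) j) ∘ₗ (DirectSum.decomposeLinearEquiv 𝒩).toLinearMap)
  have hΨ : Function.Surjective Ψ := by
    intro v
    refine ⟨∑ j : T, (v j : N), ?_⟩
    funext j'
    apply Subtype.ext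
    change ((DirectSum.decompose 𝒩 (∑ j : T, (v j : N))) j' : N) = v j'
    rw [← proj_asGrM 𝒩, proj_sum]
    rw [Finset.sum_eq_single j']
    · exact proj_of_mem_same (asGrM 𝒩) (v j').2
    · intro j _ hne
      exact proj_of_mem_ne (asGrM 𝒩) (v j).2 (fun h => hne (Subtype.ext h))
    · intro h
      exact absurd (Finset.mem_univ j') h
  have h1 := LinearMap.finrank_le_finrank_of_surjective hΨ
  rw [Module.finrank_pi_fintype k] at h1
  rw [← Finset.sum_coe_sort T (fun j => Module.finrank k (𝒩 j))]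
  exact h1

end Count

section Main

variable (k : Type u) [Field k] (n : ℕ)
  {M : Type u} [AddCommGroup M] [Module k M] [Module (MvPolynomial (Fin n) k) M]
  [IsScalarTower k (MvPolynomial (Fin n) k) M] [Module.Finite (MvPolynomial (Fin n) k) M]
  (ℳ : ℤ → Submodule k M) [DirectSum.Decomposition ℳ]
  [SetLike.GradedSMul (GrSyz.stdGr k (Fin n)) ℳ]
  (π : MvPolynomial (Fin n) k →ₗ[MvPolynomial (Fin n) k] M) (hπ : Function.Surjective π)
  (hπg : GrLC.IsGrHom (GrSyz.stdGr k (Fin n)) ℳ π)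
  (hlin : ∀ x : MvPolynomial (Fin n) k, x ∈ GrSyz.stdGr k (Fin n) 1 → π x = 0 → x = 0)
  (ys : List (MvPolynomial (Fin n) k)) (hys : ∀ y ∈ ys, y ∈ GrSyz.stdGr k (Fin n) 1)
  (hreg : RingTheory.Sequence.IsWeaklyRegular M ys)
  {N : Type u} [AddCommGroup N] [Module k N] [Module (MvPolynomial (Fin n) k) N]
  [IsScalarTower k (MvPolynomial (Fin n) k) N]
  (𝒩 : ℤ → Submodule k N) [DirectSum.Decomposition 𝒩]
  [SetLike.GradedSMul (GrSyz.stdGr k (Fin n)) 𝒩]
  (σ : M →ₗ[MvPolynomial (Fin n) k] N) (hσ : Function.Surjective σ)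
  (hσg : GrLC.IsGrHom ℳ 𝒩 σ)
  (hker : LinearMap.ker σ = Ideal.ofList ys • (⊤ : Submodule (MvPolynomial (Fin n) k) M))
  (ℓ : ℕ) (hℓ : Module.length (MvPolynomial (Fin n) k) N = (ℓ : ℕ∞))

include hπ hπg hlin hys hreg hσ hσg hker hℓ in
theorem s15433 :
    GrSyz.reg (GrSyz.stdGr k (Fin n)) ℳ (GrSyz.irrel (GrSyz.stdGr k (Fin n))).toIdeal +
      ((((n : ℤ) - (ys.length : ℤ) : ℤ) : WithTop ℤ) : WithBot (WithTop ℤ)) ≤
      (((ℓ : ℤ) : WithTop ℤ) : WithBot (WithTop ℤ)) := by
  classical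
  haveI : Module.Finite (MvPolynomial (Fin n) k) N := Module.Finite.of_surjective σ hσ
  have hN : IsFiniteLength (MvPolynomial (Fin n) k) N :=
    Module.length_ne_top_iff.1 (by rw [hℓ]; exact ENat.coe_ne_top _)
  rw [s15425 k n ℳ 𝒩 ys hys hreg σ hσ hσg hker hN]
  -- the cyclic presentation of `N`
  let φ : MvPolynomial (Fin n) k →ₗ[MvPolynomial (Fin n) k] N := σ ∘ₗ π
  have hφ : Function.Surjective φ := hσ.comp hπ
  have hφg : GrLC.IsGrHom (GrSyz.stdGr k (Fin n)) 𝒩 φ := fun g x hx => hσg g _ (hπg g x hx)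
  -- uniform torsion
  obtain ⟨s, hs⟩ := torsion_of_finiteLength k n 𝒩 hN (φ 1)
  rw [irrel_eq_span_X] at hs
  have htors : ∀ r ∈ (Ideal.span (Set.range (X : Fin n → MvPolynomial (Fin n) k))) ^ s,
      ∀ z : N, r • z = 0 := by
    intro r hr z
    obtain ⟨p, rfl⟩ := hφ z
    have : φ p = p • φ 1 := by rw [← map_smul, smul_eq_mul, mul_one]
    rw [this, smul_comm, hs r hr, smul_zero]
  have hlen : Module.length k N = (ℓ : ℕ∞) := by
    rw [← length_eq_of_nilpotent k (Fin n) s N htors]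
    exact hℓ
  have hNk : IsFiniteLength k N :=
    Module.length_ne_top_iff.1 (by rw [hlen]; exact ENat.coe_ne_top _)
  haveI : IsNoetherian k N := (isFiniteLength_iff_isNoetherian_isArtinian.1 hNk).1
  haveI : Module.Finite k N := inferInstance
  have hfr : Module.finrank k N = ℓ := by
    rw [Module.length_eq_finrank] at hlen
    exact_mod_cast hlen
  -- pieces vanish in high degrees
  haveI : IsArtinian (MvPolynomial (Fin n) k) N :=
    (isFiniteLength_iff_isNoetherian_isArtinian.1 hN).2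
  obtain ⟨N0, hN0⟩ := exists_pieces_eq_bot (asGr (GrSyz.stdGr k (Fin n)))
    (asGr_stdGr_neg k (Fin n)) (asGrM 𝒩)
  have conv : ∀ g : ℤ, (𝒩 g).toAddSubgroup = ⊥ ↔ 𝒩 g = ⊥ := by
    intro g
    rw [AddSubgroup.eq_bot_iff_forall, Submodule.eq_bot_iff]
    exact Iff.rfl
  have conv' : ∀ g : ℤ, asGrM 𝒩 g = ⊥ ↔ 𝒩 g = ⊥ := by
    intro g
    rw [AddSubgroup.eq_bot_iff_forall, Submodule.eq_bot_iff]
    exact Iff.rfl
  obtain ⟨e, he⟩ : ∃ e, e = GrLC.endDeg (fun n => (𝒩 n).toAddSubgroup) := ⟨_, rfl⟩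
  have hiff : ∀ d : ℤ, e ≤ ((d : WithTop ℤ) : WithBot (WithTop ℤ)) ↔
      ∀ g : ℤ, d < g → 𝒩 g = ⊥ := by
    intro d
    rw [he, endDeg_le_coe_iff]
    exact forall_congr' fun g => forall_congr' fun _ => conv g
  rw [← he]
  clear he
  have hle : e ≤ ((N0 : WithTop ℤ) : WithBot (WithTop ℤ)) :=
    (hiff N0).2 (fun g hg => (conv' g).1 (hN0 g hg.le))
  induction e using WithBot.recBotCoe with
  | bot =>
    rw [WithBot.bot_add]
    exact bot_le
  | coe e =>
    induction e using WithTop.recTopCoe with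
    | top =>
      exfalso
      rw [WithBot.coe_le_coe, top_le_iff] at hle
      exact WithTop.coe_ne_top hle
    | coe e₀ =>
      have hvan : ∀ g : ℤ, e₀ < g → 𝒩 g = ⊥ := (hiff e₀).1 le_rfl
      have hne : ∀ j : ℤ, 0 ≤ j → j ≤ e₀ → 𝒩 j ≠ ⊥ := by
        intro j hj0 hje h
        obtain ⟨j', rfl⟩ : ∃ j' : ℕ, j = j' := ⟨j.toNat, by omega⟩
        have h1 := (hiff ((j' : ℤ) - 1)).2 (fun g hg =>
          piece_eq_bot_of_le k n 𝒩 φ hφ hφg j' h g (by omega))
        rw [WithBot.coe_le_coe, WithTop.coe_le_coe] at h1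
        omega
      have he0 : 0 ≤ e₀ := by
        by_contra hlt
        push Not at hlt
        have h1 := (hiff (e₀ - 1)).2 (fun g hg => by
          by_cases hg' : e₀ < g
          · exact hvan g hg'
          · exact piece_neg_eq_bot k n 𝒩 φ hφ hφg g (by omega))
        rw [WithBot.coe_le_coe, WithTop.coe_le_coe] at h1
        omega
      have h1 := le_finrank_piece_one k n ℳ π hπ hπg ys hys hlin 𝒩 σ hσg hker
      let T0 : Finset ℤ := (Finset.Icc 0 e₀).erase 1
      have hT0 : (1 : ℤ) ∉ T0 := Finset.notMem_erase 1 _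
      have h2 := sum_finrank_le k 𝒩 (insert 1 T0)
      rw [Finset.sum_insert hT0, hfr] at h2
      have h3 : T0.card • 1 ≤ ∑ j ∈ T0, Module.finrank k (𝒩 j) := by
        refine Finset.card_nsmul_le_sum _ _ _ fun j hj => ?_
        have hj' := Finset.mem_Icc.1 (Finset.mem_of_mem_erase hj)
        have hnt : Nontrivial (𝒩 j) := (Submodule.nontrivial_iff_ne_bot).2 (hne j hj'.1 hj'.2)
        exact Nat.succ_le_of_lt (Module.finrank_pos_iff.2 hnt)
      have h4 : (Finset.Icc 0 e₀).card - 1 ≤ T0.card := Finset.pred_card_le_card_erase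
      rw [Int.card_Icc] at h4
      rw [← WithBot.coe_add, ← WithTop.coe_add, WithBot.coe_le_coe, WithTop.coe_le_coe]
      rw [smul_eq_mul, mul_one] at h3
      have h5 : (e₀ + 1 - 0).toNat = e₀.toNat + 1 := by omega
      rw [h5] at h4
      have h6 : (e₀.toNat : ℤ) = e₀ := Int.toNat_of_nonneg he0
      omega

end Main

end Groth.Agent.Lib.helper11.KZ23
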