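import Mathlib
import Groth.Prelude.Def_GrLC
import Groth.Prelude.Def_GrSyz
import Groth.Agent.Lib.helper11.KZ21

/-!
# Local cohomology along the syzygies of a finite graded free resolution
-/

set_option autoImplicit false
set_option linter.unusedSectionVars false
set_option linter.unusedVariables false
set_option linter.style.haveILetI false

namespace Groth.Agent.Lib.helper11.KZ24

open DirectSum Groth.Agent.Lib.Helper26.GrProj Groth.Agent.Lib.Helper20.GrKit
  Groth.Agent.Lib.Helper20.GrLES Groth.Agent.Lib.helper11.KZ1 Groth.Agent.Lib.helper11.KZ2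
  Groth.Agent.Lib.helper11.KZ3 Groth.Agent.Lib.helper11.KZ4 Groth.Agent.Lib.helper11.KZ5
  Groth.Agent.Lib.helper11.KZ6 Groth.Agent.Lib.helper11.KZ8 Groth.Agent.Lib.helper11.KZ10
  Groth.Agent.Lib.helper11.KZ11 Groth.Agent.Lib.helper11.KZ13 Groth.Agent.Lib.helper11.KZ14

universe u

variable {R : Type u} [CommRing R] [IsNoetherianRing R] {𝒜 : ℤ → AddSubgroup R} [GradedRing 𝒜]
  (a : HomogeneousIdeal 𝒜)

/-- the zero module has no local cohomology -/
theorem van_of_subsingleton {T : Type u} [AddCommGroup T] [Module R T] (𝒯 : ℤ → AddSubgroup T)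
    [DirectSum.Decomposition 𝒯] [SetLike.GradedSMul 𝒜 𝒯] [Subsingleton T] (i : ℕ) (g : ℤ) :
    Van a 𝒯 i g := by
  by_cases hi : i = 0
  · subst hi
    apply van_zero_of_piece a g
    rw [AddSubgroup.eq_bot_iff_forall]
    intro v _
    exact Subsingleton.elim _ _
  · exact van_of_torsion a 𝒯
      (fun z => ⟨0, fun r _ => by rw [Subsingleton.elim z 0, smul_zero]⟩) i (by omega) g

/-- vanishing for a finite product -/
theorem van_pi {N : Type u} [AddCommGroup N] [Module R N] (i : ℕ) (g : ℤ) :
    ∀ (n : ℕ) (𝒩 : Fin n → ℤ → AddSubgroup N) [∀ j, DirectSum.Decomposition (𝒩 j)]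
      [∀ j, SetLike.GradedSMul 𝒜 (𝒩 j)], (∀ j, Van a (𝒩 j) i g) → Van a (piGr 𝒩) i g := by
  intro n
  induction n with
  | zero =>
    intro 𝒩 _ _ _
    exact van_of_subsingleton a _ i g
  | succ n ih =>
    intro 𝒩 _ _ h
    have h0 := h 0
    have h1 := ih (fun j => 𝒩 j.succ) (fun j => h j.succ)
    let f : N →ₗ[R] (Fin (n + 1) → N) := LinearMap.single R (fun _ => N) 0
    let π : (Fin (n + 1) → N) →ₗ[R] (Fin n → N) :=
      LinearMap.pi (fun j => LinearMap.proj j.succ)
    refine van_mid a (ℳ' := 𝒩 0) (ℳ'' := piGr (fun j => 𝒩 j.succ)) f π ?_ ?_ ?_ ?_ ?_ i g h0 h1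
    · intro g x hx j
      change (Pi.single (0 : Fin (n + 1)) x : Fin (n + 1) → N) j ∈ 𝒩 j g
      by_cases hj : j = 0
      · subst hj
        rw [Pi.single_eq_same]
        exact hx
      · rw [Pi.single_eq_of_ne hj]
        exact zero_mem _
    · intro g v hv j
      exact hv j.succ
    · intro x x' hxx
      have := congrFun hxx 0
      change (Pi.single (0 : Fin (n + 1)) x : Fin (n + 1) → N) 0 =
        (Pi.single (0 : Fin (n + 1)) x' : Fin (n + 1) → N) 0 at this
      rwa [Pi.single_eq_same, Pi.single_eq_same] at this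
    · intro w
      refine ⟨Fin.cons 0 w, ?_⟩
      funext j
      change (Fin.cons 0 w : Fin (n + 1) → N) j.succ = w j
      rw [Fin.cons_succ]
    · ext v
      constructor
      · intro hv
        refine ⟨v 0, ?_⟩
        funext j
        change (Pi.single (0 : Fin (n + 1)) (v 0) : Fin (n + 1) → N) j = v j
        refine Fin.cases ?_ (fun j' => ?_) j
        · rw [Pi.single_eq_same]
        · rw [Pi.single_eq_of_ne (Fin.succ_ne_zero j')]
          have := congrFun hv j'
          exact this.symm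
      · rintro ⟨x, rfl⟩
        rw [LinearMap.mem_ker]
        funext j
        change (Pi.single (0 : Fin (n + 1)) x : Fin (n + 1) → N) j.succ = 0
        rw [Pi.single_eq_of_ne (Fin.succ_ne_zero j)]

/-- vanishing for a graded free module -/
theorem van_frGr (i : ℕ) (g : ℤ) (n : ℕ) (deg : Fin n → ℤ)
    (h : ∀ b, Van a 𝒜 i (g - deg b)) : Van a (frGr 𝒜 deg) i g := by
  apply van_pi a i g n (fun j => shiftGr 𝒜 (deg j))
  intro j
  exact van_shift a i g (deg j) (h j)

/-- if `H^D(M)_g ≠ 0` for a module with a free resolution of length `ℓ`, `D + ℓ = N`, over a ring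
with `H^j(R) = 0` for `j < N` and `H^N(R)` concentrated in degrees `≤ -N`, then the last term of
the resolution has a generator of degree `≥ g + N` -/
theorem exists_deg_ge (N : ℕ) (hlow : ∀ j : ℕ, j < N → ∀ g : ℤ, Van a 𝒜 j g)
    (htop : RegLE a 𝒜 0) :
    ∀ (ℓ : ℕ) (M : Type u) [AddCommGroup M] [Module R M] (ℳ : ℤ → AddSubgroup M)
      [DirectSum.Decomposition ℳ] [SetLike.GradedSMul 𝒜 ℳ] (F : GrSyz.FreeRes 𝒜 ℳ),
      F.HasLengthLE ℓ → ∀ (D : ℕ) (g : ℤ), D + ℓ = N → ¬ Van a ℳ D g →
      ∃ b : Fin (F.rk ℓ), g + N ≤ F.deg ℓ b := by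
  intro ℓ
  induction ℓ with
  | zero =>
    intro M _ _ ℳ _ _ F hF D g hD hne
    obtain ⟨s1, s2, s3, s4, s5⟩ := ses F
    by_contra hcon
    push Not at hcon
    apply hne
    have hK : Subsingleton (K F) := by
      have hrk : F.rk (0 + 1) = 0 := hF 1 (by omega)
      have hbot : K F = ⊥ := by
        change LinearMap.ker F.augLin = ⊥
        rw [F.exact_zero, eq_bot_iff]
        rintro _ ⟨v, rfl⟩
        haveI : IsEmpty (Fin (F.rk (0 + 1))) := by rw [hrk]; infer_instance
        rw [Subsingleton.elim v 0, map_zero]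
        exact Submodule.zero_mem _
      rw [hbot]
      infer_instance
    have h1 : Van a (frGr 𝒜 (F.deg 0)) D g := by
      apply van_frGr
      intro b
      have := hcon b
      exact htop D (g - F.deg 0 b) (by omega)
    exact van_right a (K F).subtype F.augLin s1 s2 s3 s4 s5 D g h1
      (van_of_subsingleton a (Kgr F) (D + 1) g)
  | succ ℓ ih =>
    intro M _ _ ℳ _ _ F hF D g hD hne
    obtain ⟨s1, s2, s3, s4, s5⟩ := ses F
    have h1 : Van a (frGr 𝒜 (F.deg 0)) D g := by
      apply van_frGr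
      intro b
      exact hlow D (by omega) _
    have h2 : ¬ Van a (Kgr F) (D + 1) g := by
      intro h
      exact hne (van_right a (K F).subtype F.augLin s1 s2 s3 s4 s5 D g h1 h)
    have hF' : (syz F).HasLengthLE ℓ := by
      intro i hi
      exact hF (i + 1) (by omega)
    obtain ⟨b, hb⟩ := ih (K F) (Kgr F) (syz F) hF' (D + 1) g (by omega) h2
    exact ⟨b, hb⟩

end Groth.Agent.Lib.helper11.KZ24
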