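import Mathlib
import Groth.Prelude.Def_GrLC
import Groth.Prelude.Def_GrSyz
import Groth.Agent.Lib.helper11.KZ24
import Groth.Agent.Lib.Helper21.PolyDepth
import Groth.Agent.S0318
import Groth.Agent.S11625
import Groth.Agent.S16323

/-!
# Cohen–Macaulay graded modules over a polynomial ring: the regularity is attained at the last
step of the minimal resolution
-/

set_option autoImplicit false
set_option linter.unusedSectionVars false
set_option linter.unusedVariables false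
set_option linter.style.haveILetI false

namespace Groth.Agent.Lib.helper11.KZ25

open DirectSum Groth.Agent.Lib.Helper26.GrProj Groth.Agent.Lib.Helper20.GrKit
  Groth.Agent.Lib.Helper20.GrLES Groth.Agent.Lib.Helper20.GrConv
  Groth.Agent.Lib.Helper20.HilbDim
  Groth.Agent.Lib.helper11.KZ2 Groth.Agent.Lib.helper11.KZ9
  Groth.Agent.Lib.helper11.KZ10 Groth.Agent.Lib.helper11.KZ12
  Groth.Agent.Lib.helper11.KZ16 Groth.Agent.Lib.helper11.KZ24
  MvPolynomial

universe u

section Bridge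

variable {R : Type u} [CommRing R] [IsNoetherianRing R] {𝒜 : ℤ → AddSubgroup R} [GradedRing 𝒜]
  (a : HomogeneousIdeal 𝒜)
  {M : Type u} [AddCommGroup M] [Module R M] (ℳ : ℤ → AddSubgroup M)
  [DirectSum.Decomposition ℳ] [SetLike.GradedSMul 𝒜 ℳ]

/-- vanishing of ungraded local cohomology gives vanishing of all graded pieces -/
theorem van_of_subsingleton_H (i : ℕ) (h : Subsingleton (LocCoh.H a.toIdeal i M)) (g : ℤ) :
    Van a ℳ i g := by
  intro E
  obtain ⟨e⟩ := bridge_starInjRes E a i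
  haveI : Subsingleton (E.H a i) := e.toEquiv.subsingleton
  rw [AddSubgroup.eq_bot_iff_forall]
  intro w _
  exact Subsingleton.elim _ _

end Bridge

section Poly

variable (k : Type u) [Field k] (n : ℕ)

/-- the polynomial ring has no local cohomology below the number of variables -/
theorem van_poly_low (j : ℕ) (hj : j < n) (g : ℤ) :
    Van (idealToAS (GrSyz.stdGr k (Fin n)) (GrSyz.irrel (GrSyz.stdGr k (Fin n))))
      (asGr (GrSyz.stdGr k (Fin n))) j g := by
  apply van_of_subsingleton_H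
  have hd := Groth.Agent.Lib.Helper21.PolyDepth.idealDepth_irrel_self (k := k) (m := n)
  have hIM : (GrSyz.irrel (GrSyz.stdGr k (Fin n))).toIdeal •
      (⊤ : Submodule (MvPolynomial (Fin n) k) (MvPolynomial (Fin n) k)) ≠ ⊤ := by
    intro h
    unfold LocCoh.idealDepth at hd
    rw [if_pos h] at hd
    exact ENat.top_ne_coe _ hd
  exact ((Groth.Agent.S0318.result _ _ _ hIM n).1 hd).1 j hj

end Poly

section CM

variable (k : Type u) [Field k] [IsAlgClosed k] [CharZero k] (n : ℕ)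
  {M : Type u} [AddCommGroup M] [Module k M] [Module (MvPolynomial (Fin (n + 1)) k) M]
  [IsScalarTower k (MvPolynomial (Fin (n + 1)) k) M]
  [Module.Finite (MvPolynomial (Fin (n + 1)) k) M]
  (ℳ : ℤ → Submodule k M) [DirectSum.Decomposition ℳ]
  [SetLike.GradedSMul (GrSyz.stdGr k (Fin (n + 1))) ℳ]
  (hCM : Module.supportDim (MvPolynomial (Fin (n + 1)) k) M =
    ((LocCoh.idealDepth (GrSyz.irrel (GrSyz.stdGr k (Fin (n + 1)))).toIdeal M : ℕ∞) :
      WithBot ℕ∞))
  (F : GrSyz.FreeRes (GrSyz.stdGr k (Fin (n + 1))) ℳ)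
  (hF : F.IsMinimal (GrSyz.irrel (GrSyz.stdGr k (Fin (n + 1)))).toIdeal)
  (ℓ : ℕ) (hℓ : F.HasLengthLE ℓ) (hℓ' : F.rk ℓ ≠ 0)
  (ρ : ℤ) (hρ : F.IsGenLE ρ) (hρ' : ∃ (i : ℕ) (b : Fin (F.rk i)), F.deg i b = ρ + i)

include hCM hF hℓ hℓ' hρ hρ' in
/-- for a Cohen–Macaulay module the regularity is attained at the last step of the minimal
resolution -/
theorem exists_deg_eq : ∃ b : Fin (F.rk ℓ), F.deg ℓ b = ρ + ℓ := by
  classical
  set 𝔪 := (GrSyz.irrel (GrSyz.stdGr k (Fin (n + 1)))).toIdeal with h𝔪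
  set a := idealToAS (GrSyz.stdGr k (Fin (n + 1)))
    (GrSyz.irrel (GrSyz.stdGr k (Fin (n + 1)))) with ha
  have hAB := Groth.Agent.S16323.result k n M ℳ F hF ℓ hℓ hℓ'
  obtain ⟨D, hD⟩ : ∃ D : ℕ, LocCoh.idealDepth 𝔪 M = D := by
    have : LocCoh.idealDepth 𝔪 M ≠ ⊤ := by
      intro h
      rw [h, add_top] at hAB
      exact ENat.top_ne_coe _ hAB
    exact ⟨_, (ENat.coe_toNat this).symm⟩
  have hDℓ : D + ℓ = n + 1 := by
    rw [hD] at hAB
    have h1 : ((ℓ + D : ℕ) : ℕ∞) = ((n + 1 : ℕ) : ℕ∞) := by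
      push_cast
      exact hAB
    have h2 := ENat.coe_inj.1 h1
    omega
  have hIM : 𝔪 • (⊤ : Submodule (MvPolynomial (Fin (n + 1)) k) M) ≠ ⊤ := by
    intro h
    unfold LocCoh.idealDepth at hD
    rw [if_pos h] at hD
    exact ENat.top_ne_coe _ hD
  have hvan : ∀ i : ℕ, i ≠ D → ∀ g : ℤ, Van a (asGrM ℳ) i g := by
    intro i hi g
    apply van_of_subsingleton_H
    change Subsingleton (LocCoh.H 𝔪 i M)
    rcases Nat.lt_or_gt_of_ne hi with h | h
    · exact ((Groth.Agent.S0318.result _ 𝔪 M hIM D).1 hD).1 i h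
    · apply Groth.Agent.S11625.result
      rw [hCM, hD]
      exact_mod_cast h
  have hreg : RegLE a (asGrM ℳ) ρ := regLE_of_isGenLE' k (n + 1) ℳ F ρ hρ
  have hnreg : ¬ RegLE a (asGrM ℳ) (ρ - 1) := by
    intro h
    have h1 := (isGenLE_iff_regLE k (n + 1) ℳ F hF (ρ - 1)).2 h
    obtain ⟨i, b, hb⟩ := hρ'
    have := h1 i b
    omega
  unfold RegLE at hnreg
  push Not at hnreg
  obtain ⟨i, g, hig, hne⟩ := hnreg
  have hiD : i = D := by
    by_contra hi
    exact hne (hvan i hi g)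
  subst hiD
  have hg : g + i = ρ := by
    by_contra hne'
    exact hne (hreg i g (by omega))
  obtain ⟨b, hb⟩ := exists_deg_ge a (n + 1) (fun j hj g => van_poly_low k (n + 1) j hj g)
    (regLE_poly k (n + 1)) ℓ M (asGrM ℳ) (freeResToAS F) hℓ i g hDℓ hne
  refine ⟨b, ?_⟩
  have h1 := hρ ℓ b
  have h2 : g + ((n + 1 : ℕ) : ℤ) ≤ F.deg ℓ b := hb
  have h3 : (i : ℤ) + (ℓ : ℤ) = ((n + 1 : ℕ) : ℤ) := by exact_mod_cast hDℓ
  omega

end CM

end Groth.Agent.Lib.helper11.KZ25
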