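import Mathlib
import Groth.Prelude.Def_GrLC
import Groth.Prelude.Def_GrSyz
import Groth.Agent.Lib.helper11.KZ25
import Groth.Agent.S15428
import Groth.Agent.S15429

/-!
# Sharpness of the bound for the agreement of Hilbert function and Hilbert polynomial
-/

set_option autoImplicit false
set_option linter.unusedSectionVars false
set_option linter.unusedVariables false
set_option linter.style.haveILetI false

namespace Groth.Agent.Lib.helper11.KZ26

open Polynomial Groth.Agent.S15429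

universe u

theorem descPochhammer_eval_neg_one (n : ℕ) :
    (descPochhammer ℚ n).eval (-1) = (-1) ^ n * (n.factorial : ℚ) := by
  induction n with
  | zero => simp
  | succ n ih =>
    rw [descPochhammer_succ_right, eval_mul, ih, eval_sub, eval_X, eval_natCast,
      Nat.factorial_succ]
    push_cast
    ring

theorem Q_eval_top (n : ℕ) (a : ℤ) : (Q n a).eval ((a - n - 1 : ℤ) : ℚ) = (-1) ^ n := by
  have hfact : (n.factorial : ℚ) ≠ 0 := by exact_mod_cast n.factorial_ne_zero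
  simp only [Q, eval_mul, eval_C, eval_comp, eval_add, eval_X]
  have h : (((a - n - 1 : ℤ) : ℚ)) + ((n : ℚ) - a) = -1 := by
    push_cast
    ring
  rw [h, descPochhammer_eval_neg_one]
  field_simp

/-- the counting argument -/
theorem count_ne (n ℓ : ℕ) (rk : ℕ → ℕ) (deg : ∀ i, Fin (rk i) → ℤ) (ρ : ℤ)
    (hρ : ∀ (i : ℕ) (b : Fin (rk i)), deg i b ≤ ρ + i) (b₀ : Fin (rk ℓ))
    (hb₀ : deg ℓ b₀ = ρ + ℓ) :
    (∑ i ∈ Finset.range (ℓ + 1), (-1 : ℚ) ^ i * ∑ b : Fin (rk i),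
      (((if deg i b ≤ ρ + ℓ - n - 1 then
        ((Nat.choose (n + (ρ + ℓ - n - 1 - deg i b).toNat) n : ℕ) : ℤ) else 0 : ℤ)) : ℚ)) ≠
    (∑ i ∈ Finset.range (ℓ + 1), (-1 : Polynomial ℚ) ^ i * ∑ b : Fin (rk i),
      Q n (deg i b)).eval (((ρ + ℓ - n - 1 : ℤ)) : ℚ) := by
  classical
  set d₀ : ℤ := ρ + ℓ - n - 1 with hd₀
  rw [eval_finsetSum]
  have hR : ∀ i ∈ Finset.range (ℓ + 1),
      ((-1 : Polynomial ℚ) ^ i * ∑ b : Fin (rk i), Q n (deg i b)).eval (d₀ : ℚ) =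
        (-1 : ℚ) ^ i * ∑ b : Fin (rk i), (Q n (deg i b)).eval (d₀ : ℚ) := by
    intro i _
    rw [eval_mul, eval_pow, eval_neg, eval_one, eval_finsetSum]
  rw [Finset.sum_congr rfl hR]
  intro heq
  have hterm : ∀ i ∈ Finset.range (ℓ + 1), ∀ b : Fin (rk i),
      (((if deg i b ≤ d₀ then ((Nat.choose (n + (d₀ - deg i b).toNat) n : ℕ) : ℤ) else 0 : ℤ)) : ℚ)
        - (Q n (deg i b)).eval (d₀ : ℚ) =
        if deg i b = ρ + ℓ then -(-1 : ℚ) ^ n else 0 := by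
    intro i hi b
    have hi' : i ≤ ℓ := Nat.lt_succ_iff.1 (Finset.mem_range.1 hi)
    have hle := hρ i b
    have hle' : deg i b ≤ ρ + ℓ := by
      have : (i : ℤ) ≤ ℓ := by exact_mod_cast hi'
      omega
    by_cases hd : deg i b = ρ + ℓ
    · rw [if_pos hd]
      have hlt : ¬ deg i b ≤ d₀ := by omega
      rw [if_neg hlt]
      have e : d₀ = deg i b - n - 1 := by omega
      rw [e, Q_eval_top]
      push_cast
      ring
    · rw [if_neg hd]
      rw [Q_eval n (deg i b) d₀ (by omega), sub_self]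
  have hdiff : ∑ i ∈ Finset.range (ℓ + 1), (-1 : ℚ) ^ i * ∑ b : Fin (rk i),
      (if deg i b = ρ + ℓ then -(-1 : ℚ) ^ n else 0) = 0 := by
    have : ∀ i ∈ Finset.range (ℓ + 1), (-1 : ℚ) ^ i * ∑ b : Fin (rk i),
        (if deg i b = ρ + ℓ then -(-1 : ℚ) ^ n else 0) =
        (-1 : ℚ) ^ i * ∑ b : Fin (rk i),
          (((if deg i b ≤ d₀ then ((Nat.choose (n + (d₀ - deg i b).toNat) n : ℕ) : ℤ)
            else 0 : ℤ)) : ℚ) -
        (-1 : ℚ) ^ i * ∑ b : Fin (rk i), (Q n (deg i b)).eval (d₀ : ℚ) := by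
      intro i hi
      rw [← mul_sub, ← Finset.sum_sub_distrib]
      congr 1
      exact Finset.sum_congr rfl fun b _ => (hterm i hi b).symm
    rw [Finset.sum_congr rfl this, Finset.sum_sub_distrib, heq, sub_self]
  rw [Finset.sum_range_succ] at hdiff
  have hzero : ∑ i ∈ Finset.range ℓ, (-1 : ℚ) ^ i * ∑ b : Fin (rk i),
      (if deg i b = ρ + ℓ then -(-1 : ℚ) ^ n else 0) = 0 := by
    refine Finset.sum_eq_zero fun i hi => ?_
    have hi' : i < ℓ := Finset.mem_range.1 hi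
    rw [Finset.sum_eq_zero, mul_zero]
    intro b _
    have hle := hρ i b
    have : (i : ℤ) < ℓ := by exact_mod_cast hi'
    rw [if_neg (by omega)]
  rw [hzero, zero_add] at hdiff
  have hpos : 0 < ∑ b : Fin (rk ℓ), (if deg ℓ b = ρ + ℓ then (1 : ℚ) else 0) := by
    apply Finset.sum_pos'
    · intro b _
      split_ifs <;> norm_num
    · exact ⟨b₀, Finset.mem_univ _, by rw [if_pos hb₀]; norm_num⟩
  have hsum : ∑ b : Fin (rk ℓ), (if deg ℓ b = ρ + ℓ then -(-1 : ℚ) ^ n else 0) =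
      -(-1 : ℚ) ^ n * ∑ b : Fin (rk ℓ), (if deg ℓ b = ρ + ℓ then (1 : ℚ) else 0) := by
    rw [Finset.mul_sum]
    refine Finset.sum_congr rfl fun b _ => ?_
    split_ifs <;> simp
  rw [hsum] at hdiff
  have h1 : (-1 : ℚ) ^ ℓ ≠ 0 := pow_ne_zero _ (by norm_num)
  have h2 : (-1 : ℚ) ^ n ≠ 0 := pow_ne_zero _ (by norm_num)
  rcases mul_eq_zero.1 hdiff with h | h
  · exact h1 h
  · rcases mul_eq_zero.1 h with h' | h'
    · exact h2 (neg_eq_zero.1 h')
    · exact (ne_of_gt hpos) h'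

section Main

theorem s16324 (k : Type u) [Field k] [IsAlgClosed k] [CharZero k] (n : ℕ)
    (M : Type u) [AddCommGroup M] [Module k M] [Module (MvPolynomial (Fin (n + 1)) k) M]
    [IsScalarTower k (MvPolynomial (Fin (n + 1)) k) M]
    [Module.Finite (MvPolynomial (Fin (n + 1)) k) M]
    (ℳ : ℤ → Submodule k M) [DirectSum.Decomposition ℳ]
    [SetLike.GradedSMul (GrSyz.stdGr k (Fin (n + 1))) ℳ]
    (hCM : Module.supportDim (MvPolynomial (Fin (n + 1)) k) M =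
      ((LocCoh.idealDepth (GrSyz.irrel (GrSyz.stdGr k (Fin (n + 1)))).toIdeal M : ℕ∞) :
        WithBot ℕ∞))
    (F : GrSyz.FreeRes (GrSyz.stdGr k (Fin (n + 1))) ℳ)
    (hF : F.IsMinimal (GrSyz.irrel (GrSyz.stdGr k (Fin (n + 1)))).toIdeal)
    (ℓ : ℕ) (hℓ : F.HasLengthLE ℓ) (hℓ' : F.rk ℓ ≠ 0)
    (ρ : ℤ) (hρ : F.IsGenLE ρ) (hρ' : ∃ (i : ℕ) (b : Fin (F.rk i)), F.deg i b = ρ + i)
    (P : Polynomial ℚ) (hP : ∃ d₁ : ℤ, ∀ d : ℤ, d₁ ≤ d →
      ((Module.finrank k ↥(ℳ d) : ℤ) : ℚ) = P.eval (d : ℚ)) :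
    ((Module.finrank k ↥(ℳ (ρ + ℓ - n - 1)) : ℤ) : ℚ) ≠
      P.eval ((ρ + ℓ - n - 1 : ℤ) : ℚ) := by
  classical
  obtain ⟨b₀, hb₀⟩ := Groth.Agent.Lib.helper11.KZ25.exists_deg_eq k n ℳ hCM F hF ℓ hℓ hℓ' ρ hρ hρ'
  set P₀ : Polynomial ℚ := ∑ i ∈ Finset.range (ℓ + 1), (-1 : Polynomial ℚ) ^ i *
    ∑ b : Fin (F.rk i), Q n (F.deg i b) with hP₀
  have hH : ∀ d : ℤ, ((Module.finrank k ↥(ℳ d) : ℤ) : ℚ) =
      ∑ i ∈ Finset.range (ℓ + 1), (-1 : ℚ) ^ i * ∑ b : Fin (F.rk i),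
        (((if F.deg i b ≤ d then ((Nat.choose (n + (d - F.deg i b).toNat) n : ℕ) : ℤ)
          else 0 : ℤ)) : ℚ) := by
    intro d
    rw [Groth.Agent.S15428.result k n M ℳ F ℓ hℓ d]
    push_cast
    rfl
  have hHP₀ : ∀ d : ℤ, ρ + ℓ - n ≤ d →
      ((Module.finrank k ↥(ℳ d) : ℤ) : ℚ) = P₀.eval (d : ℚ) := by
    intro d hd
    rw [hH d, hP₀, eval_finsetSum]
    refine Finset.sum_congr rfl fun i hi => ?_
    have hi' : i ≤ ℓ := Nat.lt_succ_iff.1 (Finset.mem_range.1 hi)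
    rw [eval_mul, eval_pow, eval_neg, eval_one, eval_finsetSum]
    congr 1
    refine Finset.sum_congr rfl fun b _ => ?_
    have hle := hρ i b
    have : (i : ℤ) ≤ ℓ := by exact_mod_cast hi'
    rw [Q_eval n _ d (by omega)]
  obtain ⟨d₁, hd₁⟩ := hP
  have hPeq : P = P₀ := by
    apply Polynomial.eq_of_infinite_eval_eq
    have hinf : (Set.Ici (max d₁ (ρ + ℓ - n))).Infinite := Set.Ici_infinite _
    have hinf' := hinf.image (f := fun d : ℤ => (d : ℚ)) (Int.cast_injective.injOn)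
    refine hinf'.mono ?_
    rintro _ ⟨d, hd, rfl⟩
    have hd' : max d₁ (ρ + ℓ - n) ≤ d := hd
    change P.eval (d : ℚ) = P₀.eval (d : ℚ)
    rw [← hd₁ d (le_trans (le_max_left _ _) hd'), hHP₀ d (le_trans (le_max_right _ _) hd')]
  rw [hPeq, hH]
  exact count_ne n ℓ F.rk F.deg ρ hρ b₀ hb₀

end Main

end Groth.Agent.Lib.helper11.KZ26
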