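import Groth.Agent.Lib.helper11.FlatKer

/-!
# Fibrewise surjectivity of `κ ⊗ ker d → ker (κ ⊗ d)` and local freeness of the cokernel (helper11)
-/

set_option autoImplicit false

namespace Groth.Agent.Lib.helper11.KerBC

open TensorProduct Function

section Nat

variable {R S K : Type*} [CommRing R] [CommRing S] [CommRing K] [Algebra R S] [Algebra R K]
  [Algebra S K] [IsScalarTower R S K]
  {X Y : Type*} [AddCommGroup X] [AddCommGroup Y] [Module R X] [Module R Y]

lemma cancel_nat (φ : X →ₗ[R] Y) (z : K ⊗[S] (S ⊗[R] X)) :
    AlgebraTensorModule.cancelBaseChange R S K K Y ((φ.baseChange S).baseChange K z) =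
      φ.baseChange K (AlgebraTensorModule.cancelBaseChange R S K K X z) := by
  induction z using TensorProduct.induction_on with
  | zero => simp
  | tmul c t =>
    induction t using TensorProduct.induction_on with
    | zero => simp
    | tmul s x => simp
    | add a b ha hb =>
      rw [TensorProduct.tmul_add, map_add, map_add, ha, hb, map_add, map_add]
  | add a b ha hb => rw [map_add, map_add, ha, hb, map_add, map_add]

/-- transport of the kernel condition along `κ ⊗_S (S ⊗_R -) ≅ κ ⊗_R -`. -/
theorem ker_le_range_iff {W : Type*} [AddCommGroup W] [Module R W] (j : W →ₗ[R] X)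
    (g : X →ₗ[R] Y) :
    LinearMap.ker ((g.baseChange S).baseChange K) ≤
        LinearMap.range ((j.baseChange S).baseChange K) ↔
      LinearMap.ker (g.baseChange K) ≤ LinearMap.range (j.baseChange K) := by
  constructor
  · intro h x hx
    set eX := AlgebraTensorModule.cancelBaseChange R S K K X
    have h1 : eX.symm x ∈ LinearMap.ker ((g.baseChange S).baseChange K) := by
      rw [LinearMap.mem_ker]
      apply (AlgebraTensorModule.cancelBaseChange R S K K Y).injective
      rw [cancel_nat, LinearEquiv.apply_symm_apply, map_zero]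
      exact hx
    obtain ⟨w, hw⟩ := h h1
    refine ⟨AlgebraTensorModule.cancelBaseChange R S K K W w, ?_⟩
    rw [← cancel_nat, hw, LinearEquiv.apply_symm_apply]
  · intro h x hx
    have h1 : AlgebraTensorModule.cancelBaseChange R S K K X x ∈
        LinearMap.ker (g.baseChange K) := by
      rw [LinearMap.mem_ker, ← cancel_nat]
      rw [LinearMap.mem_ker] at hx
      rw [hx, map_zero]
    obtain ⟨w, hw⟩ := h h1
    refine ⟨(AlgebraTensorModule.cancelBaseChange R S K K W).symm w, ?_⟩
    apply (AlgebraTensorModule.cancelBaseChange R S K K X).injective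
    rw [cancel_nat, LinearEquiv.apply_symm_apply, hw]

end Nat

section Local

variable {S : Type*} [CommRing S]
  {W X₂ X₃ : Type*} [AddCommGroup W] [AddCommGroup X₂] [AddCommGroup X₃]
  [Module S W] [Module S X₂] [Module S X₃]

/-- flat cokernel gives the kernel condition for every base change. -/
theorem ker_le_of_flat_coker (j : W →ₗ[S] X₂) (g : X₂ →ₗ[S] X₃) (hex : Exact j g)
    [Module.Flat S (X₃ ⧸ LinearMap.range g)] (K : Type*) [CommRing K] [Algebra S K] :
    LinearMap.ker (g.baseChange K) ≤ LinearMap.range (j.baseChange K) := by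
  have hex2 : Exact (LinearMap.range g).subtype (LinearMap.range g).mkQ :=
    LinearMap.exact_subtype_mkQ _
  have hBinj : Injective ((LinearMap.range g).subtype.lTensor K) :=
    FlatKer.lTensor_injective_of_flat_coker K hex2 (Submodule.mkQ_surjective _)
      (Submodule.subtype_injective _)
  have hex1 : Exact j g.rangeRestrict := by
    intro m
    rw [← hex m]
    constructor
    · intro hm
      exact congrArg Subtype.val hm
    · intro hm
      apply Subtype.ext
      exact hm
  have hex1' := lTensor_exact K hex1 g.surjective_rangeRestrict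
  intro x hx
  rw [LinearMap.mem_ker, LinearMap.baseChange_eq_ltensor] at hx
  have hcomp : g.lTensor K =
      (LinearMap.range g).subtype.lTensor K ∘ₗ g.rangeRestrict.lTensor K := by
    rw [← LinearMap.lTensor_comp]
    rfl
  rw [hcomp, LinearMap.comp_apply] at hx
  have h0 : g.rangeRestrict.lTensor K x = 0 := hBinj (by rw [hx, map_zero])
  obtain ⟨w, hw⟩ := (hex1' x).mp h0
  exact ⟨w, by rw [LinearMap.baseChange_eq_ltensor]; exact hw⟩

variable [IsLocalRing S]

/-- the kernel condition at the residue field gives a free cokernel. -/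
theorem free_coker_of_ker_le (j : W →ₗ[S] X₂) (g : X₂ →ₗ[S] X₃) (hgj : g ∘ₗ j = 0)
    [Module.Finite S X₂] [Module.Finite S X₃] [Module.Free S X₃]
    (h : LinearMap.ker (g.baseChange (IsLocalRing.ResidueField S)) ≤
      LinearMap.range (j.baseChange (IsLocalRing.ResidueField S))) :
    Module.Free S (X₃ ⧸ LinearMap.range g) := by
  have hex2 : Exact (LinearMap.range g).subtype (LinearMap.range g).mkQ :=
    LinearMap.exact_subtype_mkQ _
  refine Module.free_of_lTensor_residueField_injective (LinearMap.range g).subtype
    (LinearMap.range g).mkQ (Submodule.mkQ_surjective _) hex2 ?_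
  rw [injective_iff_map_eq_zero]
  intro z hz
  obtain ⟨u, rfl⟩ := LinearMap.lTensor_surjective (IsLocalRing.ResidueField S)
    g.surjective_rangeRestrict z
  have hu : u ∈ LinearMap.ker (g.baseChange (IsLocalRing.ResidueField S)) := by
    rw [LinearMap.mem_ker, LinearMap.baseChange_eq_ltensor]
    have hcomp : g.lTensor (IsLocalRing.ResidueField S) =
        (LinearMap.range g).subtype.lTensor (IsLocalRing.ResidueField S) ∘ₗ
          g.rangeRestrict.lTensor (IsLocalRing.ResidueField S) := by
      rw [← LinearMap.lTensor_comp]
      rfl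
    rw [hcomp, LinearMap.comp_apply]
    exact hz
  obtain ⟨w, hw⟩ := h hu
  rw [← hw, LinearMap.baseChange_eq_ltensor, ← LinearMap.comp_apply, ← LinearMap.lTensor_comp]
  have : g.rangeRestrict ∘ₗ j = 0 := by
    ext m
    exact LinearMap.congr_fun hgj m
  rw [this, LinearMap.lTensor_zero, LinearMap.zero_apply]

end Local

end Groth.Agent.Lib.helper11.KerBC
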