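import Groth.Agent.Lib.helper11.KerBC2

/-!
# Consequences of local freeness of the cokernel (helper11)
-/

set_option autoImplicit false

namespace Groth.Agent.Lib.helper11.KerBC

open TensorProduct Function

section Nat

variable {R S K : Type*} [CommRing R] [CommRing S] [CommRing K] [Algebra R S] [Algebra R K]
  [Algebra S K] [IsScalarTower R S K]
  {X Y : Type*} [AddCommGroup X] [AddCommGroup Y] [Module R X] [Module R Y]

theorem injective_baseChange_iff (φ : X →ₗ[R] Y) :
    Injective ((φ.baseChange S).baseChange K) ↔ Injective (φ.baseChange K) := by
  constructor
  · intro h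
    rw [injective_iff_map_eq_zero]
    intro x hx
    have : (AlgebraTensorModule.cancelBaseChange R S K K X).symm x = 0 := by
      apply h
      apply (AlgebraTensorModule.cancelBaseChange R S K K Y).injective
      rw [cancel_nat, LinearEquiv.apply_symm_apply, hx, map_zero, map_zero]
    simpa using this
  · intro h
    rw [injective_iff_map_eq_zero]
    intro x hx
    have : AlgebraTensorModule.cancelBaseChange R S K K X x = 0 := by
      apply h
      rw [← cancel_nat, hx, map_zero, map_zero]
    simpa using this

end Nat

variable {R : Type*} [CommRing R] {M N : Type*} [AddCommGroup M] [AddCommGroup N]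
  [Module R M] [Module R N] (d : M →ₗ[R] N)

lemma exact_ker_rangeRestrict : Exact (LinearMap.ker d).subtype d.rangeRestrict := by
  intro m
  constructor
  · intro hm
    have : m ∈ LinearMap.ker d := by
      rw [LinearMap.mem_ker]
      exact congrArg Subtype.val hm
    exact ⟨⟨m, this⟩, rfl⟩
  · rintro ⟨k, rfl⟩
    apply Subtype.ext
    exact k.2

/-- flatness of the localized image when the localized cokernel is flat. -/
theorem flat_baseChange_range (S : Type*) [CommRing S] [Algebra R S] [Module.Flat R S]
    [Module.Flat R N] (h : Module.Flat S (S ⊗[R] (N ⧸ LinearMap.range d))) :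
    Module.Flat S (S ⊗[R] LinearMap.range d) := by
  have hex : Exact ((LinearMap.range d).subtype.baseChange S)
      ((LinearMap.range d).mkQ.baseChange S) := by
    have := lTensor_exact S (LinearMap.exact_subtype_mkQ (LinearMap.range d))
      (Submodule.mkQ_surjective _)
    intro z
    rw [LinearMap.baseChange_eq_ltensor, LinearMap.baseChange_eq_ltensor]
    exact this z
  have hsurj : Surjective ((LinearMap.range d).mkQ.baseChange S) := by
    rw [LinearMap.baseChange_eq_ltensor]
    exact LinearMap.lTensor_surjective _ (Submodule.mkQ_surjective _)
  have hinj : Injective ((LinearMap.range d).subtype.baseChange S) := by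
    rw [LinearMap.baseChange_eq_ltensor]
    exact Module.Flat.lTensor_preserves_injective_linearMap _ (Submodule.subtype_injective _)
  exact FlatKer.flat_of_exact_of_flat hex hsurj hinj

theorem injective_ker_baseChange (S K : Type*) [CommRing S] [Algebra R S] [Module.Flat R S]
    [CommRing K] [Algebra R K] [Algebra S K] [IsScalarTower R S K]
    (h : Module.Flat S (S ⊗[R] LinearMap.range d)) :
    Injective ((LinearMap.ker d).subtype.baseChange K) := by
  rw [← injective_baseChange_iff (S := S)]
  have hex : Exact ((LinearMap.ker d).subtype.baseChange S) (d.rangeRestrict.baseChange S) := by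
    have := Module.Flat.lTensor_exact S (exact_ker_rangeRestrict d)
    intro z
    rw [LinearMap.baseChange_eq_ltensor, LinearMap.baseChange_eq_ltensor]
    exact this z
  have hsurj : Surjective (d.rangeRestrict.baseChange S) := by
    rw [LinearMap.baseChange_eq_ltensor]
    exact LinearMap.lTensor_surjective _ d.surjective_rangeRestrict
  have hinj : Injective ((LinearMap.ker d).subtype.baseChange S) := by
    rw [LinearMap.baseChange_eq_ltensor]
    exact Module.Flat.lTensor_preserves_injective_linearMap _ (Submodule.subtype_injective _)
  have := FlatKer.lTensor_injective_of_flat_coker K hex hsurj hinj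
  rw [LinearMap.baseChange_eq_ltensor]
  exact this

end Groth.Agent.Lib.helper11.KerBC
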