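import Mathlib
import Groth.Prelude.Def_LCI2
import Groth.Agent.Lib.Helper5.KosPermC
import Groth.Agent.Lib.Helper2.KosChi2

/-!
# Koszul homology with coefficients of `xs ++ ys` when `ys ⊆ (xs)` (helper11)

`H^m(K(xs ++ ys) ⊗ M) ≅ ∏_{j ≤ r} (H^{m+j}(K(xs) ⊗ M))^(r choose j)`, `r = length ys`.
-/

set_option autoImplicit false
universe u v w

open CategoryTheory CategoryTheory.Limits MonoidalCategory CochainComplex

namespace Groth.Agent.Lib.helper11.KosAppend

open Groth.Agent.Lib.Helper5.KosPerm Groth.Agent.Lib.Helper2.KosReg2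

section PiRestrict

variable {R : Type u} [Semiring R] {ι : Type v} {κ : Type w} (φ : ι → Type u)
  [∀ i, AddCommMonoid (φ i)] [∀ i, Module R (φ i)]
  (e : κ → ι) (he : Function.Injective e)
  (htriv : ∀ i, i ∉ Set.range e → Subsingleton (φ i))

include he in
lemma cast_eq (g : (k : κ) → φ (e k)) {k k' : κ} (hk : e k' = e k) :
    (hk ▸ g k' : φ (e k)) = g k := by
  have := he hk
  subst this
  rfl

/-- restriction of a product to a subfamily, the other factors being trivial -/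
noncomputable def piRestrictEquiv : ((i : ι) → φ i) ≃ₗ[R] ((k : κ) → φ (e k)) :=
  LinearEquiv.ofBijective (LinearMap.pi fun k => LinearMap.proj (e k)) (by
    classical
    constructor
    · intro f f' hff
      funext i
      by_cases hi : i ∈ Set.range e
      · obtain ⟨k, rfl⟩ := hi
        exact congrFun hff k
      · haveI := htriv i hi
        exact Subsingleton.elim _ _
    · intro g
      refine ⟨fun i => if h : ∃ k, e k = i then (h.choose_spec ▸ g h.choose) else 0, ?_⟩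
      funext k
      change (if h : ∃ k', e k' = e k then (h.choose_spec ▸ g h.choose) else 0) = g k
      have hex : ∃ k', e k' = e k := ⟨k, rfl⟩
      rw [dif_pos hex]
      exact cast_eq φ e he g hex.choose_spec)

end PiRestrict

section Mult

variable {R : Type u} [CommRing R] (h : ℤ → ModuleCat.{u} R)

/-- product of copies of the `h n` with multiplicities `μ n` -/
abbrev D (μ : ℤ → ℕ) : Type u := (n : ℤ) → Fin (μ n) → h n

/-- `(∏ A) × (∏ B) ≃ ∏ (A × B)` -/
def prodPiEquiv {ι : Type v} (A B : ι → Type u) [∀ i, AddCommGroup (A i)] [∀ i, Module R (A i)]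
    [∀ i, AddCommGroup (B i)] [∀ i, Module R (B i)] :
    (((i : ι) → A i) × ((i : ι) → B i)) ≃ₗ[R] ((i : ι) → A i × B i) where
  toFun p i := (p.1 i, p.2 i)
  invFun f := (fun i => (f i).1, fun i => (f i).2)
  map_add' _ _ := rfl
  map_smul' _ _ := rfl
  left_inv _ := rfl
  right_inv _ := rfl

/-- `C^a × C^b ≃ C^(a+b)` -/
noncomputable def finSumEquiv (C : Type u) [AddCommGroup C] [Module R C] (a b : ℕ) :
    ((Fin a → C) × (Fin b → C)) ≃ₗ[R] (Fin (a + b) → C) :=
  (LinearEquiv.sumArrowLequivProdArrow (Fin a) (Fin b) R C).symm ≪≫ₗ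
    LinearEquiv.funCongrLeft R C finSumFinEquiv.symm

noncomputable def Dadd (μ ν : ℤ → ℕ) : (D h μ × D h ν) ≃ₗ[R] D h (fun n => μ n + ν n) :=
  prodPiEquiv (fun n => Fin (μ n) → h n) (fun n => Fin (ν n) → h n) ≪≫ₗ
    LinearEquiv.piCongrRight fun n => finSumEquiv (h n) (μ n) (ν n)

noncomputable def Dcongr {μ ν : ℤ → ℕ} (hμ : ∀ n, μ n = ν n) : D h μ ≃ₗ[R] D h ν :=
  LinearEquiv.piCongrRight fun n => LinearEquiv.funCongrLeft R (h n) (finCongr (hμ n).symm)

/-- Pascal multiplicities -/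
def mu (s : ℕ) (m n : ℤ) : ℕ := if m ≤ n then s.choose (n - m).toNat else 0

lemma mu_succ (s : ℕ) (m n : ℤ) : mu (s + 1) m n = mu s m n + mu s (m + 1) n := by
  unfold mu
  by_cases h1 : m ≤ n
  · rw [if_pos h1, if_pos h1]
    by_cases h2 : m + 1 ≤ n
    · rw [if_pos h2]
      obtain ⟨k, hk⟩ : ∃ k : ℕ, n - m = (k : ℤ) + 1 := ⟨(n - m - 1).toNat, by omega⟩
      have e1 : (n - m).toNat = k + 1 := by omega
      have e2 : (n - (m + 1)).toNat = k := by omega
      rw [e1, e2, Nat.choose_succ_succ', Nat.add_comm]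
    · rw [if_neg h2]
      have e1 : (n - m).toNat = 0 := by omega
      rw [e1, Nat.choose_zero_right, Nat.choose_zero_right]
  · rw [if_neg h1, if_neg h1, if_neg (by omega)]

lemma mu_zero_of_ne (m n : ℤ) (hn : n ≠ m) : mu 0 m n = 0 := by
  unfold mu
  split_ifs with h1
  · obtain ⟨k, hk⟩ : ∃ k : ℕ, (n - m).toNat = k + 1 := ⟨(n - m).toNat - 1, by omega⟩
    rw [hk, Nat.choose_zero_succ]
  · rfl

lemma mu_self (s : ℕ) (m : ℤ) (j : ℕ) : mu s m (m + (j : ℤ)) = s.choose j := by
  unfold mu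
  rw [if_pos (by omega)]
  congr 1
  omega

lemma mu_eq_zero (s : ℕ) (m n : ℤ) (hn : n ∉ Set.range (fun j : Fin (s + 1) => m + ((j : ℕ) : ℤ))) :
    mu s m n = 0 := by
  unfold mu
  split_ifs with h1
  · apply Nat.choose_eq_zero_of_lt
    by_contra hlt
    apply hn
    refine ⟨⟨(n - m).toNat, by omega⟩, ?_⟩
    change m + (((n - m).toNat : ℕ) : ℤ) = n
    omega
  · rfl

theorem ttpow_equiv : ∀ (s : ℕ) (m : ℤ), Nonempty (TTpow s h m ≃ₗ[R] D h (mu s m)) := by
  intro s
  induction s with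
  | zero =>
    intro m
    have e1 : D h (mu 0 m) ≃ₗ[R] ((_ : Unit) → (Fin (mu 0 m m) → h m)) :=
      piRestrictEquiv (R := R) (fun n => Fin (mu 0 m n) → h n) (fun _ : Unit => m)
        (fun _ _ _ => rfl) (fun n hn => by
          have hne : n ≠ m := fun hh => hn ⟨(), hh.symm⟩
          rw [mu_zero_of_ne m n hne]
          infer_instance)
    have e2 : ((_ : Unit) → (Fin (mu 0 m m) → h m)) ≃ₗ[R] (Fin (mu 0 m m) → h m) :=
      LinearEquiv.funUnique Unit R _
    have h1 : mu 0 m m = 1 := by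
      have := mu_self 0 m 0
      simpa using this
    have e3 : (Fin (mu 0 m m) → h m) ≃ₗ[R] (Fin 1 → h m) :=
      LinearEquiv.funCongrLeft R (h m) (finCongr h1.symm)
    have e4 : (Fin 1 → h m) ≃ₗ[R] h m := LinearEquiv.funUnique (Fin 1) R _
    exact ⟨(e1 ≪≫ₗ e2 ≪≫ₗ e3 ≪≫ₗ e4).symm⟩
  | succ s ih =>
    intro m
    obtain ⟨e1⟩ := ih m
    obtain ⟨e2⟩ := ih (m + 1)
    change Nonempty ((TTpow s h m × TTpow s h (m + 1)) ≃ₗ[R] D h (mu (s + 1) m))
    exact ⟨LinearEquiv.prodCongr e1 e2 ≪≫ₗ Dadd h (mu s m) (mu s (m + 1)) ≪≫ₗ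
      Dcongr h (fun n => (mu_succ s m n).symm)⟩

/-- the final shape -/
theorem ttpow_equiv_pi (s : ℕ) (m : ℤ) :
    Nonempty (TTpow s h m ≃ₗ[R]
      ((j : Fin (s + 1)) → Fin (s.choose j) → h (m + ((j : ℕ) : ℤ)))) := by
  obtain ⟨e1⟩ := ttpow_equiv h s m
  have e2 : D h (mu s m) ≃ₗ[R]
      ((j : Fin (s + 1)) → (Fin (mu s m (m + ((j : ℕ) : ℤ))) → h (m + ((j : ℕ) : ℤ)))) :=
    piRestrictEquiv (R := R) (fun n => Fin (mu s m n) → h n)
      (fun j : Fin (s + 1) => m + ((j : ℕ) : ℤ))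
      (fun j j' hjj => by
        apply Fin.ext
        have : ((j : ℕ) : ℤ) = ((j' : ℕ) : ℤ) := by simpa using hjj
        exact_mod_cast this)
      (fun n hn => by
        rw [mu_eq_zero s m n hn]
        infer_instance)
  have e3 : ((j : Fin (s + 1)) → (Fin (mu s m (m + ((j : ℕ) : ℤ))) → h (m + ((j : ℕ) : ℤ)))) ≃ₗ[R]
      ((j : Fin (s + 1)) → Fin (s.choose j) → h (m + ((j : ℕ) : ℤ))) :=
    LinearEquiv.piCongrRight fun j =>
      LinearEquiv.funCongrLeft R _ (finCongr (mu_self s m j).symm)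
  exact ⟨e1 ≪≫ₗ e2 ≪≫ₗ e3⟩

end Mult

section Main

variable {A : Type u} [CommRing A] (M : ModuleCat.{u} A)

/-- one zero in front -/
theorem homology_cons_zero (l : List A) (n : ℤ) : Nonempty
    ((DRing.tensorCx (Koszul.koszul A (0 :: l)) M).homology n ≃ₗ[A]
      ((DRing.tensorCx (Koszul.koszul A l) M).homology n ×
        (DRing.tensorCx (Koszul.koszul A l) M).homology (n + 1))) := by
  have hk : Koszul.koszul A (0 :: l) = mappingCone ((0 : A) • 𝟙 (Koszul.koszul A l)) := rfl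
  rw [hk]
  have c := Groth.Agent.Lib.Helper2.KosChi2.coneIso (Koszul.koszul A l) 0 M
  have e0 := T0Equiv (DRing.tensorCx (Koszul.koszul A l) M) n (n + 1) rfl
  exact ⟨((HomologicalComplex.homologyFunctor _ _ n).mapIso c).toLinearEquiv ≪≫ₗ e0⟩

/-- the cohomology of the Koszul complex with `s` zeros in front, with coefficients -/
theorem homology_replicate_tensor (l : List A) :
    ∀ (s : ℕ) (n : ℤ), Nonempty
      ((DRing.tensorCx (Koszul.koszul A (List.replicate s 0 ++ l)) M).homology n ≃ₗ[A]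
        TTpow s (fun j => (DRing.tensorCx (Koszul.koszul A l) M).homology j) n) := by
  intro s
  induction s with
  | zero => exact fun n => ⟨LinearEquiv.refl _ _⟩
  | succ s ih =>
    intro n
    obtain ⟨e1⟩ := ih n
    obtain ⟨e2⟩ := ih (n + 1)
    have hl : List.replicate (s + 1) (0 : A) ++ l = 0 :: (List.replicate s 0 ++ l) := rfl
    rw [hl]
    obtain ⟨e0⟩ := homology_cons_zero M (List.replicate s 0 ++ l) n
    change Nonempty (_ ≃ₗ[A]
      (TTpow s (fun j => (DRing.tensorCx (Koszul.koszul A l) M).homology j) n ×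
        TTpow s (fun j => (DRing.tensorCx (Koszul.koszul A l) M).homology j) (n + 1)))
    exact ⟨e0.trans (LinearEquiv.prodCongr e1 e2)⟩

theorem main (xs ys : List A) (hy : ∀ y ∈ ys, y ∈ Ideal.span {a | a ∈ xs}) (m : ℤ) :
    Nonempty ((DRing.tensorCx (Koszul.koszul A (xs ++ ys)) M).homology m ≅
      ModuleCat.of A ((j : Fin (ys.length + 1)) → Fin (ys.length.choose j) →
        (DRing.tensorCx (Koszul.koszul A xs) M).homology (m + j))) := by
  have k1 : KIso (xs ++ ys) (ys ++ xs) := KIso.perm List.perm_append_comm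
  have k2 : KIso (ys ++ xs) (List.replicate ys.length 0 ++ xs) :=
    KIso.replicate_append ys xs hy
  obtain ⟨c⟩ := k1.trans k2
  have c' : DRing.tensorCx (Koszul.koszul A (xs ++ ys)) M ≅
      DRing.tensorCx (Koszul.koszul A (List.replicate ys.length 0 ++ xs)) M :=
    ((tensorRight M).mapHomologicalComplex (ComplexShape.up ℤ)).mapIso c
  obtain ⟨e1⟩ := homology_replicate_tensor M xs ys.length m
  obtain ⟨e2⟩ := ttpow_equiv_pi (fun j => (DRing.tensorCx (Koszul.koszul A xs) M).homology j)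
    ys.length m
  exact ⟨(HomologicalComplex.homologyFunctor _ _ m).mapIso c' ≪≫ (e1 ≪≫ₗ e2).toModuleIso⟩

end Main

end Groth.Agent.Lib.helper11.KosAppend
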