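import Mathlib
import Groth.Prelude.Def_LCI2
import Groth.Agent.Lib.Helper2.KosTor2
import Groth.Agent.Lib.Helper5.KosBCA
import Groth.Agent.Lib.Helper16.KPR5

/-!
# `Tor` of the quotient by a Koszul-regular sequence (helper11)

For a Koszul-regular sequence `l` in `A` (Koszul complex acyclic off degree `0`), the Koszul
complex is a projective resolution of `A/(l)`, so `Tor_{m+1}(A/(l), M) ≅ H^{-(m+1)}(K(l) ⊗ M)`.
If the image of `l` in an `A`-algebra `A'` is again Koszul-regular, `Tor_{m+1}(A/(l), A') = 0`.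
-/

set_option autoImplicit false
universe u

open CategoryTheory CategoryTheory.Limits MonoidalCategory

namespace Groth.Agent.Lib.helper11.KosRegTor

open Groth.Agent.Lib.Helper2.KosTor2 Groth.Agent.Lib.Helper21.ExactRes
  Groth.Agent.Lib.Helper21.TorLES

variable {A : Type u} [CommRing A]

theorem exactAt_koszul (l : List A) (h : LCI.IsKoszulRegularSeq A l) (n : ℤ) (hn : n < 0) :
    (Koszul.koszul A l).ExactAt n := by
  rw [HomologicalComplex.exactAt_iff_isZero_homology]
  exact h n (by omega)

/-- `Tor_{m+1}(A/(l), M) ≅ H^{-(m+1)}(K(l) ⊗ M)` for a Koszul-regular sequence. -/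
theorem tor_koszul (l : List A) (h : LCI.IsKoszulRegularSeq A l) (M : ModuleCat.{u} A) (m : ℕ) :
    Nonempty (((Tor (ModuleCat.{u} A) (m + 1)).obj
        (ModuleCat.of A (A ⧸ Ideal.span {a | a ∈ l}))).obj M ≅
      (DRing.tensorCx (Koszul.koszul A l) M).homology (-((m + 1 : ℕ) : ℤ))) := by
  obtain ⟨eZ⟩ := opcycles_iso l
  have e1 : ((Tor (ModuleCat.{u} A) (m + 1)).obj (ModuleCat.of A
      (A ⧸ Ideal.span {a | a ∈ l}))).obj M ≅
      ((Tor (ModuleCat.{u} A) (m + 1)).obj ((Koszul.koszul A l).opcycles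
        (-((0 : ℕ) : ℤ)))).obj M :=
    ((Tor (ModuleCat.{u} A) (m + 1)).mapIso eZ.symm).app M
  obtain ⟨e2⟩ := tor_iso_homology_left (m + 1) _ M
    (exactData (Koszul.koszul A l) (projective_koszul' l) (exactAt_koszul l h)).toRes
  have e3 := homologyIso (Koszul.koszul A l) (projective_koszul' l) (exactAt_koszul l h) M m
  exact ⟨e1 ≪≫ e2 ≪≫ e3⟩

variable {A' : Type u} [CommRing A'] [Algebra A A']

/-- `A'` with scalars restricted is `A'` with its algebra module structure. -/
noncomputable def asModEquiv :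
    ((ModuleCat.restrictScalars.{u} (algebraMap A A')).obj (ModuleCat.of A' A')) ≃ₗ[A] A' where
  toFun := fun x => x
  invFun := fun x => x
  left_inv := fun _ => rfl
  right_inv := fun _ => rfl
  map_add' := fun _ _ => rfl
  map_smul' := by
    intro a x
    change algebraMap A A' a * (show A' from x) = a • (show A' from x)
    exact (Algebra.smul_def a _).symm

noncomputable def asModIso :
    Groth.Agent.Lib.Helper16.KPR.asMod (algebraMap A A') ≅ ModuleCat.of A A' :=
  (asModEquiv (A := A) (A' := A')).toModuleIso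

/-- `Tor_{m+1}(A/(l), A') = 0` when `l` and its image in `A'` are Koszul-regular. -/
theorem isZero_tor_quot (l : List A) (h : LCI.IsKoszulRegularSeq A l)
    (h' : LCI.IsKoszulRegularSeq A' (l.map (algebraMap A A'))) (m : ℕ) :
    IsZero (((Tor (ModuleCat.{u} A) (m + 1)).obj
      (ModuleCat.of A (A ⧸ Ideal.span {a | a ∈ l}))).obj (ModuleCat.of A A')) := by
  obtain ⟨e⟩ := tor_koszul l h (ModuleCat.of A A') m
  refine IsZero.of_iso ?_ e
  rw [← HomologicalComplex.exactAt_iff_isZero_homology]
  have h1 : ((Groth.Agent.Lib.Helper16.LDer.extCx (algebraMap A A')).obj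
      (Koszul.koszul A l)).ExactAt (-((m + 1 : ℕ) : ℤ)) := by
    rw [HomologicalComplex.exactAt_iff_isZero_homology]
    refine IsZero.of_iso (h' _ (by push_cast; omega))
      ((HomologicalComplex.homologyFunctor _ _ _).mapIso
        (Groth.Agent.Lib.Helper5.KosBC.koszulIso (algebraMap A A') l))
  rw [Groth.Agent.Lib.Helper16.KPR.exactAt_extCx_iff,
    Groth.Agent.Lib.Helper16.KPR.exactAt_tensCx_of_iso asModIso] at h1
  exact h1

end Groth.Agent.Lib.helper11.KosRegTor
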