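import Mathlib
import Groth.Prelude.Def_LCI2
import Groth.Agent.Lib.Helper5.KosLow
import Groth.Agent.Lib.Helper5.KosPermA
import Groth.Agent.Lib.Helper2.KosChi2

/-!
# The Koszul complex of `(x f_1, …, x f_n)` versus that of `(f_1, …, f_n)` (helper11)

Termwise the two complexes are identified, the differential of the first being `x` times that of
the second.  For a non-zero-divisor `x` this computes `H^q(K(x f)) ≅ ker ∂^q / x · im ∂^{q-1}`.
-/

set_option autoImplicit false
universe u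

open CategoryTheory CategoryTheory.Limits CochainComplex

namespace Groth.Agent.Lib.helper11.KosScale

open Groth.Agent.Lib.Helper5.KosLow

variable {A : Type u} [CommRing A]

/-- a termwise identification under which the differential of `K` is `x` times that of `K'` -/
structure ScaledIso (x : A) (K K' : CochainComplex (ModuleCat.{u} A) ℤ) where
  θ : ∀ q : ℤ, K.X q ≃ₗ[A] K'.X q
  comm : ∀ (p q : ℤ) (_ : p + 1 = q) (w : K.X p),
    θ q ((K.d p q).hom w) = x • (K'.d p q).hom (θ p w)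

section Cone

variable {x : A} {K K' : CochainComplex (ModuleCat.{u} A) ℤ} (S : ScaledIso x K K') (f : A)

/-- forward map on cones -/
noncomputable def fwd (q : ℤ) :
    (mappingCone ((x * f) • 𝟙 K)).X q →ₗ[A] (mappingCone (f • 𝟙 K')).X q :=
  cinl (f • 𝟙 K') q (q + 1) rfl ∘ₗ (S.θ (q + 1)).toLinearMap ∘ₗ cfst ((x * f) • 𝟙 K) q (q + 1) rfl +
    cinr (f • 𝟙 K') q ∘ₗ (S.θ q).toLinearMap ∘ₗ csnd ((x * f) • 𝟙 K) q

/-- backward map on cones -/
noncomputable def bwd (q : ℤ) :
    (mappingCone (f • 𝟙 K')).X q →ₗ[A] (mappingCone ((x * f) • 𝟙 K)).X q :=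
  cinl ((x * f) • 𝟙 K) q (q + 1) rfl ∘ₗ (S.θ (q + 1)).symm.toLinearMap ∘ₗ
      cfst (f • 𝟙 K') q (q + 1) rfl +
    cinr ((x * f) • 𝟙 K) q ∘ₗ (S.θ q).symm.toLinearMap ∘ₗ csnd (f • 𝟙 K') q

lemma fwd_apply (q : ℤ) (w : (mappingCone ((x * f) • 𝟙 K)).X q) :
    fwd S f q w = cinl (f • 𝟙 K') q (q + 1) rfl (S.θ (q + 1) (cfst ((x * f) • 𝟙 K) q (q + 1) rfl w)) +
      cinr (f • 𝟙 K') q (S.θ q (csnd ((x * f) • 𝟙 K) q w)) := rfl

lemma bwd_apply (q : ℤ) (v : (mappingCone (f • 𝟙 K')).X q) :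
    bwd S f q v = cinl ((x * f) • 𝟙 K) q (q + 1) rfl
        ((S.θ (q + 1)).symm (cfst (f • 𝟙 K') q (q + 1) rfl v)) +
      cinr ((x * f) • 𝟙 K) q ((S.θ q).symm (csnd (f • 𝟙 K') q v)) := rfl

lemma cfst_fwd (q : ℤ) (w : (mappingCone ((x * f) • 𝟙 K)).X q) :
    cfst (f • 𝟙 K') q (q + 1) rfl (fwd S f q w) =
      S.θ (q + 1) (cfst ((x * f) • 𝟙 K) q (q + 1) rfl w) := by
  rw [fwd_apply, map_add, cfst_cinl, cfst_cinr, add_zero]

lemma csnd_fwd (q : ℤ) (w : (mappingCone ((x * f) • 𝟙 K)).X q) :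
    csnd (f • 𝟙 K') q (fwd S f q w) = S.θ q (csnd ((x * f) • 𝟙 K) q w) := by
  rw [fwd_apply, map_add, csnd_cinl, csnd_cinr, zero_add]

lemma cfst_bwd (q : ℤ) (v : (mappingCone (f • 𝟙 K')).X q) :
    cfst ((x * f) • 𝟙 K) q (q + 1) rfl (bwd S f q v) =
      (S.θ (q + 1)).symm (cfst (f • 𝟙 K') q (q + 1) rfl v) := by
  rw [bwd_apply, map_add, cfst_cinl, cfst_cinr, add_zero]

lemma csnd_bwd (q : ℤ) (v : (mappingCone (f • 𝟙 K')).X q) :
    csnd ((x * f) • 𝟙 K) q (bwd S f q v) = (S.θ q).symm (csnd (f • 𝟙 K') q v) := by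
  rw [bwd_apply, map_add, csnd_cinl, csnd_cinr, zero_add]

lemma ext_cone {L M : CochainComplex (ModuleCat.{u} A) ℤ} (φ : L ⟶ M) (q : ℤ)
    {w w' : (mappingCone φ).X q}
    (h1 : cfst φ q (q + 1) rfl w = cfst φ q (q + 1) rfl w') (h2 : csnd φ q w = csnd φ q w') :
    w = w' := by
  rw [decomp φ q (q + 1) rfl w, decomp φ q (q + 1) rfl w', h1, h2]

/-- the cone of a scaled identification -/
noncomputable def cone : ScaledIso x (mappingCone ((x * f) • 𝟙 K)) (mappingCone (f • 𝟙 K')) where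
  θ q := LinearEquiv.ofLinear (fwd S f q) (bwd S f q)
    (by
      apply LinearMap.ext
      intro v
      apply ext_cone
      · change cfst _ q (q + 1) rfl (fwd S f q (bwd S f q v)) = _
        rw [cfst_fwd, cfst_bwd, LinearEquiv.apply_symm_apply]
        rfl
      · change csnd _ q (fwd S f q (bwd S f q v)) = _
        rw [csnd_fwd, csnd_bwd, LinearEquiv.apply_symm_apply]
        rfl)
    (by
      apply LinearMap.ext
      intro w
      apply ext_cone
      · change cfst _ q (q + 1) rfl (bwd S f q (fwd S f q w)) = _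
        rw [cfst_bwd, cfst_fwd, LinearEquiv.symm_apply_apply]
        rfl
      · change csnd _ q (bwd S f q (fwd S f q w)) = _
        rw [csnd_bwd, csnd_fwd, LinearEquiv.symm_apply_apply]
        rfl)
  comm p q hpq w := by
    subst hpq
    change fwd S f (p + 1) (((mappingCone ((x * f) • 𝟙 K)).d p (p + 1)).hom w) =
      x • ((mappingCone (f • 𝟙 K')).d p (p + 1)).hom (fwd S f p w)
    apply ext_cone
    · rw [cfst_fwd, cfst_d ((x * f) • 𝟙 K) p (p + 1) (p + 1 + 1) rfl rfl, map_neg,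
        S.comm (p + 1) (p + 1 + 1) rfl, map_smul,
        cfst_d (f • 𝟙 K') p (p + 1) (p + 1 + 1) rfl rfl, cfst_fwd, smul_neg]
    · rw [csnd_fwd, csnd_d ((x * f) • 𝟙 K) p (p + 1) rfl, map_add,
        S.comm p (p + 1) rfl, map_smul, csnd_d (f • 𝟙 K') p (p + 1) rfl, cfst_fwd, csnd_fwd,
        Groth.Agent.Lib.Helper5.KosPerm.smul_id_f_apply,
        Groth.Agent.Lib.Helper5.KosPerm.smul_id_f_apply, map_smul, smul_add, smul_smul]

end Cone

/-- the scaled identification of Koszul complexes -/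
noncomputable def koszulScaled (x : A) :
    ∀ l : List A, ScaledIso x (Koszul.koszul A (l.map (fun f => x * f))) (Koszul.koszul A l)
  | [] =>
    { θ := fun _ => LinearEquiv.refl A _
      comm := fun p q hpq w => by
        have h0 : (Koszul.koszul A ([] : List A)).d p q = 0 :=
          HomologicalComplex.single_obj_d _ _ _ _ _
        have h1 : ((Koszul.koszul A ([] : List A)).d p q).hom w = 0 := by rw [h0]; rfl
        change ((Koszul.koszul A ([] : List A)).d p q).hom w =
          x • ((Koszul.koszul A ([] : List A)).d p q).hom w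
        rw [h1, smul_zero] }
  | f :: l => cone (koszulScaled x l) f

section Homology

variable {x : A} {K K' : CochainComplex (ModuleCat.{u} A) ℤ} (S : ScaledIso x K K')
  (hx : ∀ (q : ℤ) (v : K'.X q), x • v = 0 → v = 0)

include hx in
lemma map_ker (q : ℤ) :
    (LinearMap.ker (K.d q (q + 1)).hom).map (S.θ q).toLinearMap =
      LinearMap.ker (K'.d q (q + 1)).hom := by
  ext v'
  rw [Submodule.mem_map, LinearMap.mem_ker]
  constructor
  · rintro ⟨v, hv, rfl⟩
    rw [LinearMap.mem_ker] at hv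
    have := S.comm q (q + 1) rfl v
    rw [hv, map_zero] at this
    exact hx _ _ this.symm
  · intro hv'
    refine ⟨(S.θ q).symm v', ?_, (S.θ q).apply_symm_apply v'⟩
    rw [LinearMap.mem_ker]
    apply (S.θ (q + 1)).injective
    rw [S.comm q (q + 1) rfl, map_zero, LinearEquiv.apply_symm_apply, hv', smul_zero]

include S hx in
/-- `H^q(K) ≅ ker ∂'^q / x · im ∂'^{q-1}` -/
theorem homology_iso (q : ℤ) :
    Nonempty (K.homology q ≅
      ModuleCat.of A (↥(LinearMap.ker (K'.d q (q + 1)).hom) ⧸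
        Submodule.comap (LinearMap.ker (K'.d q (q + 1)).hom).subtype
          (Ideal.span {x} • LinearMap.range (K'.d (q - 1) q).hom))) := by
  have e1 : K.homology q ≅ (K.sc' (q - 1) q (q + 1)).homology :=
    K.homologyIsoSc' (q - 1) q (q + 1) (by simp) (by simp)
  set T := K.sc' (q - 1) q (q + 1) with hT
  have e2 : T.homology ≃ₗ[A] (LinearMap.ker T.g.hom ⧸ LinearMap.range T.moduleCatToCycles) :=
    T.moduleCatHomologyIso.toLinearEquiv
  let fz : ↥(LinearMap.ker (K.d q (q + 1)).hom) ≃ₗ[A] ↥(LinearMap.ker (K'.d q (q + 1)).hom) :=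
    LinearEquiv.ofSubmodules (S.θ q) _ _ (map_ker S hx q)
  have hfz : ∀ z, ((fz z : ↥(LinearMap.ker (K'.d q (q + 1)).hom)) : K'.X q) = S.θ q z.1 :=
    fun z => rfl
  have e3 : (LinearMap.ker T.g.hom ⧸ LinearMap.range T.moduleCatToCycles) ≃ₗ[A]
      (↥(LinearMap.ker (K'.d q (q + 1)).hom) ⧸
        Submodule.comap (LinearMap.ker (K'.d q (q + 1)).hom).subtype
          (Ideal.span {x} • LinearMap.range (K'.d (q - 1) q).hom)) := by
    refine Submodule.Quotient.equiv _ _ fz ?_
    ext z'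
    rw [Submodule.mem_map, Submodule.mem_comap, Submodule.ideal_span_singleton_smul,
      Submodule.mem_smul_pointwise_iff_exists]
    constructor
    · rintro ⟨z, ⟨u, rfl⟩, rfl⟩
      refine ⟨(K'.d (q - 1) q).hom (S.θ (q - 1) u), ⟨_, rfl⟩, ?_⟩
      have := S.comm (q - 1) q (by ring) u
      rw [← this]
      rfl
    · rintro ⟨_, ⟨u', rfl⟩, hu'⟩
      refine ⟨T.moduleCatToCycles ((S.θ (q - 1)).symm u'), ⟨_, rfl⟩, ?_⟩
      apply Subtype.ext
      change S.θ q ((K.d (q - 1) q).hom ((S.θ (q - 1)).symm u')) = _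
      rw [S.comm (q - 1) q (by ring), LinearEquiv.apply_symm_apply]
      exact hu'
  exact ⟨e1 ≪≫ (e2 ≪≫ₗ e3).toModuleIso⟩

end Homology

/-- S15815 -/
theorem main (l : List A) (x : A) (hx : x ∈ nonZeroDivisors A) (q : ℤ) :
    Nonempty ((Koszul.koszul A (l.map (fun f => x * f))).homology q ≅
      ModuleCat.of A (↥(LinearMap.ker ((Koszul.koszul A l).d q (q + 1)).hom) ⧸
        Submodule.comap (LinearMap.ker ((Koszul.koszul A l).d q (q + 1)).hom).subtype
          (Ideal.span {x} • LinearMap.range ((Koszul.koszul A l).d (q - 1) q).hom))) := by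
  refine homology_iso (koszulScaled x l) ?_ q
  intro p v hv
  haveI : Module.Projective A ((Koszul.koszul A l).X p) :=
    Groth.Agent.Lib.Helper2.KosChi2.projective_koszul l p
  have hreg : IsSMulRegular ((Koszul.koszul A l).X p) x :=
    Module.Flat.isSMulRegular_of_nonZeroDivisors hx
  apply hreg
  change x • v = x • 0
  rw [hv, smul_zero]

open TensorProduct in
/-- S15816 -/
theorem main_regular (l : List A) (hl : RingTheory.Sequence.IsWeaklyRegular A l) (x : A)
    (hx : x ∈ nonZeroDivisors A) (q : ℤ) (hq : q < 0) :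
    Nonempty ((Koszul.koszul A (l.map (fun f => x * f))).homology q ≅
      ModuleCat.of A (↥(LinearMap.ker ((Koszul.koszul A l).d q (q + 1)).hom) ⊗[A]
        (A ⧸ Ideal.span {x}))) := by
  obtain ⟨e⟩ := main l x hx q
  set K := Koszul.koszul A l with hK
  set Z := LinearMap.ker (K.d q (q + 1)).hom with hZ
  have hex := Groth.Agent.Lib.Helper2.KosTor2.exactAt_koszul l hl q hq
  rw [K.exactAt_iff' (q - 1) q (q + 1) (by simp) (by simp),
    ShortComplex.moduleCat_exact_iff_range_eq_ker] at hex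
  have hB : LinearMap.range (K.d (q - 1) q).hom = Z := hex
  have hcomap : Submodule.comap Z.subtype (Ideal.span {x} • LinearMap.range (K.d (q - 1) q).hom) =
      Ideal.span {x} • (⊤ : Submodule A ↥Z) := by
    rw [hB]
    have h1 : (Ideal.span {x} • (⊤ : Submodule A ↥Z)).map Z.subtype = Ideal.span {x} • Z := by
      rw [Submodule.map_smul'', Submodule.map_subtype_top]
    rw [← h1, Submodule.comap_map_eq_of_injective Z.injective_subtype]
  have e2 : (↥Z ⧸ Submodule.comap Z.subtype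
      (Ideal.span {x} • LinearMap.range (K.d (q - 1) q).hom)) ≃ₗ[A]
      (↥Z ⊗[A] (A ⧸ Ideal.span {x})) :=
    Submodule.quotEquivOfEq _ _ hcomap ≪≫ₗ
      (TensorProduct.tensorQuotEquivQuotSMul ↥Z (Ideal.span {x})).symm
  exact ⟨e ≪≫ e2.toModuleIso⟩

end Groth.Agent.Lib.helper11.KosScale
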