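import Mathlib
import Groth.Agent.Lib.helper11.LCAnn
import Groth.Agent.Lib.helper11.LCKit2

/-!
# Annihilators of local cohomology of modules locally projective on `D(I)` (helper11)

* `exists_factor_through_free_away` : `M_f` projective ⇒ `f^N • id_M` factors through `R^r`
* `smul_eq_zero_of_factor'` : if `a` kills `H^i_J(R)` and `s • id_M` factors through `R^r` then
  `s * a` kills `H^i_J(M)`
* `exists_pow_le_ann` : S1743
-/

set_option autoImplicit false

namespace Groth.Agent.Lib.helper11.LCAnn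

open CategoryTheory Groth.Agent.Lib.helper11.LCKit

universe u

variable {R : Type u} [CommRing R]

theorem exists_factor_through_free_away [IsNoetherianRing R] (M : Type u) [AddCommGroup M]
    [Module R M] [Module.Finite R M] (f : R)
    [Module.Projective (Localization.Away f) (LocalizedModule (Submonoid.powers f) M)] :
    ∃ (N : ℕ) (r : ℕ) (ψ : M →ₗ[R] (Fin r → R)) (φ : (Fin r → R) →ₗ[R] M),
      φ ∘ₗ ψ = (f ^ N) • LinearMap.id := by
  classical
  haveI : Module.FinitePresentation R M := Module.finitePresentation_of_finite R M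
  let S := Submonoid.powers f
  let Rp := Localization.Away f
  let Mp := LocalizedModule S M
  haveI : Module.Finite Rp Mp := Module.Finite.of_isLocalizedModule S
    (LocalizedModule.mkLinearMap S M)
  obtain ⟨r, b, a, -, -, hba⟩ := Module.Finite.exists_comp_eq_id_of_projective Rp Mp
  let aR : Mp →ₗ[R] (Fin r → Rp) := a.restrictScalars R
  let bR : (Fin r → Rp) →ₗ[R] Mp := b.restrictScalars R
  have hbaR : ∀ x, bR (aR x) = x := fun x => LinearMap.congr_fun hba x
  let mk : M →ₗ[R] Mp := LocalizedModule.mkLinearMap S M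
  let f₁ : (Fin r → R) →ₗ[R] (Fin r → Rp) :=
    LinearMap.pi fun j => Algebra.linearMap R Rp ∘ₗ LinearMap.proj j
  haveI : IsLocalizedModule S f₁ := IsLocalizedModule.pi S _
  obtain ⟨ψ, s₁, h₁⟩ := Module.FinitePresentation.exists_lift_of_isLocalizedModule S f₁
    (aR ∘ₗ mk)
  obtain ⟨φ, s₂, h₂⟩ := Module.FinitePresentation.exists_lift_of_isLocalizedModule S mk
    (bR ∘ₗ f₁)
  have h₃ : mk ∘ₗ (φ ∘ₗ ψ) = mk ∘ₗ (((s₁ : R) * (s₂ : R)) • LinearMap.id) := by
    rw [← LinearMap.comp_assoc, h₂]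
    ext m
    have e1 : f₁ (ψ m) = s₁ • aR (mk m) := LinearMap.congr_fun h₁ m
    simp only [LinearMap.comp_apply, LinearMap.smul_apply, LinearMap.id_apply]
    rw [e1]
    change (s₂ : R) • bR ((s₁ : R) • aR (mk m)) = mk (((s₁ : R) * (s₂ : R)) • m)
    rw [LinearMap.map_smul, hbaR, LinearMap.map_smul, mul_smul, smul_comm]
  obtain ⟨s₃, h₄⟩ := Module.Finite.exists_smul_of_comp_eq_of_isLocalizedModule S mk _ _ h₃
  obtain ⟨n₁, hn₁⟩ := s₁.2
  obtain ⟨n₂, hn₂⟩ := s₂.2
  obtain ⟨n₃, hn₃⟩ := s₃.2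
  refine ⟨n₃ + (n₁ + n₂), r, ψ, (f ^ n₃) • φ, ?_⟩
  rw [LinearMap.smul_comp]
  have h₅ : ((s₃ : R)) • (φ ∘ₗ ψ) = (s₃ : R) • (((s₁ : R) * (s₂ : R)) • LinearMap.id) := h₄
  simp only [← hn₁, ← hn₂, ← hn₃] at h₅
  rw [h₅, smul_smul, pow_add, pow_add]

/-- If `a` kills `H^i_J(R)` and `s • id_M` factors through `R^r`, then `s * a` kills `H^i_J(M)`. -/
theorem smul_eq_zero_of_factor' (J : Ideal R) (i : ℕ) (M : Type u) [AddCommGroup M] [Module R M]
    (s : R) (r : ℕ) (ψ : M →ₗ[R] (Fin r → R)) (φ : (Fin r → R) →ₗ[R] M)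
    (h : φ ∘ₗ ψ = s • LinearMap.id) (a : R) (hR : ∀ z : LocCoh.H J i R, a • z = 0)
    (x : LocCoh.H J i M) : (s * a) • x = 0 := by
  classical
  have hzero : ∀ z : LocCoh.H J i (Fin r → R), a • z = 0 := by
    intro z
    have hid : 𝟙 (ModuleCat.of R (Fin r → R)) =
        ∑ j : Fin r, ModuleCat.ofHom (LinearMap.proj (R := R) (φ := fun _ => R) j) ≫
          ModuleCat.ofHom (LinearMap.single R (fun _ => R) j) := by
      refine ModuleCat.hom_ext (LinearMap.ext fun w => ?_)
      simp only [ModuleCat.hom_id, ModuleCat.hom_sum, ModuleCat.hom_comp, ModuleCat.hom_ofHom,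
        LinearMap.id_apply, LinearMap.sum_apply, LinearMap.comp_apply, LinearMap.proj_apply,
        LinearMap.single_apply]
      exact (Finset.univ_sum_single w).symm
    have hz : z = ((localCohomology J i).map (𝟙 (ModuleCat.of R (Fin r → R)))).hom z := by
      rw [CategoryTheory.Functor.map_id]; rfl
    rw [hz, hid, Functor.map_sum, ModuleCat.hom_sum, LinearMap.sum_apply, Finset.smul_sum]
    apply Finset.sum_eq_zero
    intro j _
    rw [Functor.map_comp, ModuleCat.hom_comp, LinearMap.comp_apply, ← map_smul]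
    have : a • ((localCohomology J i).map (ModuleCat.ofHom (LinearMap.proj (R := R)
        (φ := fun _ => R) j))).hom z = 0 := hR _
    rw [this, map_zero]
  rw [mul_comm, mul_smul, smul_eq_map J i s x]
  have e : s • 𝟙 (ModuleCat.of R M) = ModuleCat.ofHom ψ ≫ ModuleCat.ofHom φ := by
    ext m : 2
    have := LinearMap.congr_fun h m
    simpa using this.symm
  rw [e, Functor.map_comp, ModuleCat.hom_comp, LinearMap.comp_apply, ← map_smul,
    hzero (((localCohomology J i).map (ModuleCat.ofHom ψ)).hom x), map_zero]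

/-- S1743. -/
theorem exists_pow_le_ann [IsNoetherianRing R] (J I : Ideal R) (hJI : J ≤ I) (i n : ℕ)
    (hA : ∀ a ∈ J ^ n, ∀ x : LocCoh.H I i R, a • x = 0) (M : Type u) [AddCommGroup M]
    [Module R M] [Module.Finite R M]
    (hM : ∀ f ∈ I, Module.Projective (Localization.Away f)
      (LocalizedModule (Submonoid.powers f) M)) :
    ∃ m : ℕ, ∀ a ∈ J ^ m, ∀ x : LocCoh.H I i M, a • x = 0 := by
  have hrad : J ≤ (Module.annihilator R (LocCoh.H I i M)).radical := by
    intro a ha
    haveI := hM a (hJI ha)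
    obtain ⟨N, r, ψ, φ, h⟩ := exists_factor_through_free_away M a
    refine ⟨N + n, ?_⟩
    rw [Module.mem_annihilator]
    intro x
    rw [pow_add]
    exact smul_eq_zero_of_factor' I i M (a ^ N) r ψ φ h (a ^ n)
      (hA (a ^ n) (Ideal.pow_mem_pow ha n)) x
  obtain ⟨m, hm⟩ := Ideal.exists_pow_le_of_le_radical_of_fg hrad (IsNoetherian.noetherian J)
  exact ⟨m, fun a ha x => Module.mem_annihilator.1 (hm ha) x⟩

end Groth.Agent.Lib.helper11.LCAnn
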