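import Mathlib

/-!
# Isomorphisms of full lattices in `Kⁿ` are given by matrices (helper11)
-/

set_option autoImplicit false

namespace Groth.Agent.Lib.helper11.LatticeMatrix

universe u

variable {O : Type u} [CommRing O] [IsDomain O] {K : Type u} [Field K] [Algebra O K]
  [IsFractionRing O K] {n : ℕ}

/-- the standard lattice `Oⁿ ⊆ Kⁿ`. -/
abbrev std (O : Type u) [CommRing O] (K : Type u) [Field K] [Algebra O K] (n : ℕ) :
    Submodule O (Fin n → K) :=
  Submodule.pi Set.univ (fun _ : Fin n => (1 : Submodule O K))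

omit [IsDomain O] [IsFractionRing O K] in
theorem single_mem_std (j : Fin n) : (Pi.single j (1 : K) : Fin n → K) ∈ std O K n := by
  rw [Submodule.mem_pi]
  intro i _
  by_cases h : i = j
  · subst h
    rw [Pi.single_eq_same]
    exact Submodule.one_le.mp le_rfl
  · rw [Pi.single_eq_of_ne h]
    exact Submodule.zero_mem _

/-- a linear map between lattices containing `Oⁿ` is multiplication by the matrix of its values
on the standard basis. -/
theorem apply_eq_mulVec (M N : Submodule O (Fin n → K)) (hM : std O K n ≤ M)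
    (φ : M →ₗ[O] N) (x : M) :
    ((φ x : N) : Fin n → K) =
      (Matrix.of fun i j => ((φ ⟨Pi.single j 1, hM (single_mem_std j)⟩ : N) : Fin n → K) i).mulVec
        (x : Fin n → K) := by
  obtain ⟨d, hd⟩ := IsLocalization.exist_integer_multiples_of_finite (nonZeroDivisors O)
    (fun j => (x : Fin n → K) j)
  choose a ha using hd
  have hd0 : algebraMap O K (d : O) ≠ 0 :=
    IsFractionRing.to_map_ne_zero_of_mem_nonZeroDivisors d.2
  have h1 : (d : O) • x = ∑ j, a j • (⟨Pi.single j 1, hM (single_mem_std j)⟩ : M) := by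
    apply Subtype.ext
    funext i
    rw [Submodule.coe_smul, Submodule.coe_sum]
    simp only [Pi.smul_apply, Finset.sum_apply, Submodule.coe_smul]
    rw [Finset.sum_eq_single i]
    · rw [Pi.single_eq_same, Algebra.smul_def (a i), mul_one, ha i]
    · intro j _ hji
      rw [Pi.single_eq_of_ne (Ne.symm hji), smul_zero]
    · intro h
      exact absurd (Finset.mem_univ i) h
  have h2 := congrArg (fun y : M => ((φ y : N) : Fin n → K)) h1
  simp only [map_smul, map_sum, Submodule.coe_smul, Submodule.coe_sum] at h2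
  funext i
  have h3 := congrFun h2 i
  simp only [Pi.smul_apply, Finset.sum_apply] at h3
  rw [Matrix.mulVec, dotProduct]
  simp only [Matrix.of_apply]
  have h4 : algebraMap O K (d : O) * ((φ x : N) : Fin n → K) i =
      algebraMap O K (d : O) * ∑ j, ((φ ⟨Pi.single j 1, hM (single_mem_std j)⟩ : N) : Fin n → K) i *
        (x : Fin n → K) j := by
    rw [← Algebra.smul_def, h3, Finset.mul_sum]
    refine Finset.sum_congr rfl fun j _ => ?_
    rw [Algebra.smul_def, ha j, Algebra.smul_def]
    ring
  exact mul_left_cancel₀ hd0 h4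

/-- **Isomorphisms of lattices** between `Oⁿ` and `Bⁿ` are given by invertible matrices over `B`. -/
theorem main (B : Subalgebra O K) (M N : Submodule O (Fin n → K)) (hM1 : std O K n ≤ M)
    (hM2 : M ≤ Submodule.pi Set.univ (fun _ : Fin n => Subalgebra.toSubmodule B))
    (hN1 : std O K n ≤ N)
    (hN2 : N ≤ Submodule.pi Set.univ (fun _ : Fin n => Subalgebra.toSubmodule B))
    (φ : ↥M ≃ₗ[O] ↥N) :
    ∃ A : Matrix (Fin n) (Fin n) ↥B, IsUnit A ∧ ∀ x : ↥M,
      ((φ x : ↥N) : Fin n → K) = (A.map (algebraMap ↥B K)).mulVec (x : Fin n → K) := by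
  let e : Fin n → M := fun j => ⟨Pi.single j 1, hM1 (single_mem_std j)⟩
  let e' : Fin n → N := fun j => ⟨Pi.single j 1, hN1 (single_mem_std j)⟩
  let AK : Matrix (Fin n) (Fin n) K := Matrix.of fun i j => ((φ (e j) : N) : Fin n → K) i
  let BK : Matrix (Fin n) (Fin n) K := Matrix.of fun i j => ((φ.symm (e' j) : M) : Fin n → K) i
  have hA : ∀ x : M, ((φ x : N) : Fin n → K) = AK.mulVec (x : Fin n → K) :=
    fun x => apply_eq_mulVec M N hM1 φ.toLinearMap x
  have hB : ∀ y : N, ((φ.symm y : M) : Fin n → K) = BK.mulVec (y : Fin n → K) :=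
    fun y => apply_eq_mulVec N M hN1 φ.symm.toLinearMap y
  have hAmem : ∀ i j, AK i j ∈ B := by
    intro i j
    have := hN2 (φ (e j)).2
    rw [Submodule.mem_pi] at this
    exact this i (Set.mem_univ i)
  have hBmem : ∀ i j, BK i j ∈ B := by
    intro i j
    have := hM2 (φ.symm (e' j)).2
    rw [Submodule.mem_pi] at this
    exact this i (Set.mem_univ i)
  let A : Matrix (Fin n) (Fin n) ↥B := Matrix.of fun i j => ⟨AK i j, hAmem i j⟩
  let B' : Matrix (Fin n) (Fin n) ↥B := Matrix.of fun i j => ⟨BK i j, hBmem i j⟩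
  have hAmap : A.map (algebraMap ↥B K) = AK := by
    ext i j
    rfl
  have hBmap : B'.map (algebraMap ↥B K) = BK := by
    ext i j
    rfl
  have hAB : AK * BK = 1 := by
    ext i j
    have h1 : (AK * BK).mulVec (Pi.single j 1) = Pi.single j 1 := by
      rw [← Matrix.mulVec_mulVec]
      have h2 : BK.mulVec (Pi.single j 1) = ((φ.symm (e' j) : M) : Fin n → K) := (hB (e' j)).symm
      rw [h2, ← hA, LinearEquiv.apply_symm_apply]
    have h3 := congrFun h1 i
    rw [Matrix.mulVec_single_one] at h3
    rw [Matrix.one_apply, ← Pi.single_apply]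
    exact h3
  have hinj : Function.Injective (algebraMap ↥B K) := Subtype.val_injective
  have hAB' : A * B' = 1 := by
    apply Matrix.map_injective hinj
    change (A * B').map (algebraMap ↥B K) = (1 : Matrix (Fin n) (Fin n) ↥B).map (algebraMap ↥B K)
    rw [Matrix.map_mul, hAmap, hBmap, hAB]
    ext i j
    by_cases h : i = j
    · subst h
      simp
    · simp [h]
  refine ⟨A, ?_, fun x => ?_⟩
  · exact ⟨⟨A, B', hAB', mul_eq_one_comm.mp hAB'⟩, rfl⟩
  · rw [hAmap]
    exact hA x

end Groth.Agent.Lib.helper11.LatticeMatrix
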