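import Mathlib
import Groth.Agent.Lib.Helper25.LatticeDist

/-!
# `ℓ(M/xM) = rank(M) · ord(x)` for lattices over a one-dimensional Noetherian domain (helper11)

Built on helper25's lattice distance `LatticeDist`.
-/

set_option autoImplicit false

namespace Groth.Agent.Lib.helper11.LatticeMult

open Groth.Agent.Lib.Helper25.LatticeDist
open scoped Pointwise

universe u v w

variable {O : Type u} [CommRing O] [IsDomain O] [IsNoetherianRing O] [Ring.KrullDimLE 1 O]
  {K : Type w} [Field K] [Algebra O K] [IsFractionRing O K]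
  {V : Type v} [AddCommGroup V] [Module K V] [Module O V] [IsScalarTower O K V]

/-- multiplication by `x ≠ 0` as a `K`-linear automorphism of `V`. -/
noncomputable def mulEquiv (x : O) (hx : x ≠ 0) : V ≃ₗ[K] V :=
  LinearEquiv.smulOfNeZero K V (algebraMap O K x)
    (fun h => hx (IsFractionRing.injective O K (by rw [h, map_zero])))

omit [IsNoetherianRing O] [Ring.KrullDimLE 1 O] in
theorem mulEquiv_apply (x : O) (hx : x ≠ 0) (v : V) :
    mulEquiv (K := K) x hx v = x • v := by
  change algebraMap O K x • v = x • v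
  rw [algebraMap_smul]

/-- **`ℓ(M/xM) = dim_K(V) · ord(x)`** for a finitely generated `O`-module `M` embedded as a
lattice in the finite-dimensional `K`-vector space `V`. -/
theorem length_quot_smul [Module.Finite K V] (x : O) (hx : x ≠ 0)
    {M : Type v} [AddCommGroup M] [Module O M] [Module.Finite O M]
    (j : M →ₗ[O] V) (hj : Function.Injective j)
    (hspan : Submodule.span K (Set.range j) = ⊤) :
    Module.length O (M ⧸ (x • (⊤ : Submodule O M))) =
      (Module.finrank K V : ℕ∞) * Ring.ord O x := by
  classical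
  set L : Submodule O V := LinearMap.range j with hLdef
  have hL : Submodule.IsLattice K L :=
    { fg := by
        rw [hLdef, LinearMap.range_eq_map]
        exact Submodule.FG.map j Module.Finite.fg_top
      span_eq_top := by
        rw [hLdef, LinearMap.coe_range]
        exact hspan }
  set φ : V ≃ₗ[K] V := mulEquiv (K := K) x hx with hφ
  set xL : Submodule O V := L.map (φ.toLinearMap.restrictScalars O) with hxL
  have hxLmem : ∀ v, v ∈ xL ↔ ∃ l ∈ L, x • l = v := by
    intro v
    rw [hxL, Submodule.mem_map]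
    constructor
    · rintro ⟨l, hl, rfl⟩
      exact ⟨l, hl, (mulEquiv_apply x hx l).symm⟩
    · rintro ⟨l, hl, rfl⟩
      exact ⟨l, hl, mulEquiv_apply x hx l⟩
  have hle : xL ≤ L := by
    intro v hv
    obtain ⟨l, hl, rfl⟩ := (hxLmem v).mp hv
    exact L.smul_mem x hl
  have hxLlat : Submodule.IsLattice K xL := isLattice_map φ L hL
  -- `χ_L(x) = ℓ(L / xL)`
  have h1 : chi L φ.toLinearMap = ((relLen xL L).toNat : ℤ) := by
    unfold chi Groth.Agent.Lib.Helper25.LatticeDist.dist
    rw [← hxL, inf_eq_right.2 hle, relLen_self]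
    simp
  -- standard lattice
  let b : Module.Basis (Fin (Module.finrank K V)) K V := Module.finBasis K V
  have hφmat : φ.toLinearMap =
      Matrix.toLin b b ((Matrix.diagonal fun _ : Fin (Module.finrank K V) => x).map
        (algebraMap O K)) := by
    have hm : (Matrix.diagonal fun _ : Fin (Module.finrank K V) => x).map (algebraMap O K) =
        algebraMap O K x • (1 : Matrix (Fin (Module.finrank K V)) (Fin (Module.finrank K V)) K) := by
      rw [Matrix.diagonal_map (map_zero _), Matrix.smul_one_eq_diagonal]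
    rw [hm, map_smul, Matrix.toLin_one]
    refine LinearMap.ext fun v => ?_
    rfl
  have h2 : chi (stdLat (A := O) b) φ.toLinearMap =
      ((Module.length O ((Fin (Module.finrank K V) → O) ⧸
        LinearMap.range (Matrix.toLin' (Matrix.diagonal fun _ : Fin (Module.finrank K V) => x)))).toNat : ℤ) := by
    rw [hφmat]
    exact chi_stdLat_int b _
  have h3 := chi_indep hL (isLattice_stdLat (A := O) b) φ
  have h4 := length_coker_diagonal (A := O) (fun _ : Fin (Module.finrank K V) => x)
  rw [Finset.sum_const, Finset.card_univ, Fintype.card_fin, nsmul_eq_mul] at h4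
  have hnz : x ∈ nonZeroDivisors O := mem_nonZeroDivisors_of_ne_zero hx
  have hordfin : Ring.ord O x ≠ ⊤ := Ring.ord_ne_top hnz
  have hrelfin : relLen xL L ≠ ⊤ := relLen_ne_top (K := K) hxLlat hL
  have hkey : relLen xL L = (Module.finrank K V : ℕ∞) * Ring.ord O x := by
    have h5 : ((relLen xL L).toNat : ℤ) =
        (((Module.finrank K V : ℕ∞) * Ring.ord O x).toNat : ℤ) := by
      rw [← h1, h3, h2, h4]
    have h6 : (relLen xL L).toNat = ((Module.finrank K V : ℕ∞) * Ring.ord O x).toNat := by
      exact_mod_cast h5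
    have hprodfin : (Module.finrank K V : ℕ∞) * Ring.ord O x ≠ ⊤ :=
      WithTop.mul_ne_top (ENat.coe_ne_top _) hordfin
    rw [← ENat.coe_toNat hrelfin, ← ENat.coe_toNat hprodfin, h6]
  rw [← hkey]
  -- transport along `M ≃ L`
  let e : M ≃ₗ[O] ↥L := LinearEquiv.ofInjective j hj
  unfold relLen
  apply LinearEquiv.length_eq
  refine Submodule.Quotient.equiv _ _ e ?_
  ext l
  rw [Submodule.mem_map]
  change _ ↔ (l : V) ∈ xL
  constructor
  · rintro ⟨m, hm, rfl⟩
    obtain ⟨m', -, rfl⟩ := (Submodule.mem_smul_pointwise_iff_exists _ _ _).mp hm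
    rw [hxLmem]
    refine ⟨j m', ⟨m', rfl⟩, ?_⟩
    change x • j m' = j (x • m')
    rw [map_smul]
  · intro hl
    obtain ⟨l', ⟨m', rfl⟩, hl'⟩ := (hxLmem _).mp hl
    refine ⟨x • m', Submodule.smul_mem_pointwise_smul m' x ⊤ trivial, ?_⟩
    apply Subtype.ext
    change j (x • m') = (l : V)
    rw [map_smul, hl']

end Groth.Agent.Lib.helper11.LatticeMult
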