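import Mathlib
import Groth.Prelude.Def_PiSp
import Groth.Agent.Lib.helper11.FinEtPts
import Groth.Agent.Lib.helper11.CoverLift
import Groth.Agent.Lib.helper11.FactorField

/-!
# `[n]` on an abelian variety is a Galois cover with group the `n`-torsion points (helper11)
-/

set_option autoImplicit false
set_option linter.style.haveILetI false
universe u
open CategoryTheory CategoryTheory.Limits MonoidalCategory CartesianMonoidalCategory MonObj GrpObj
  AlgebraicGeometry

namespace Groth.Agent.Lib.helper11.MulGalois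

open Groth.Agent.Lib.helper11

section transl

variable {S : Scheme.{u}} (A : Over S) [GrpObj A]

/-- translation by a section -/
noncomputable def transl (a : 𝟙_ (Over S) ⟶ A) : A ⟶ A := 𝟙 A * (toUnit A ≫ a)

theorem comp_transl {T : Over S} (s : T ⟶ A) (a : 𝟙_ (Over S) ⟶ A) :
    s ≫ transl A a = s * (toUnit T ≫ a) := by
  unfold transl
  rw [MonObj.comp_mul, Category.comp_id, ← Category.assoc]
  congr 2
  exact toUnit_unique _ _

theorem unit_comp_transl (a : 𝟙_ (Over S) ⟶ A) : η[A] ≫ transl A a = a := by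
  rw [comp_transl, MonObj.one_eq_one, _root_.one_mul]
  have : toUnit (𝟙_ (Over S)) = 𝟙 _ := toUnit_unique _ _
  rw [this, Category.id_comp]

theorem transl_one : transl A 1 = 𝟙 A := by
  unfold transl
  rw [MonObj.comp_one, _root_.mul_one]

theorem transl_comp (a b : 𝟙_ (Over S) ⟶ A) : transl A a ≫ transl A b = transl A (a * b) := by
  rw [comp_transl]
  unfold transl
  rw [_root_.mul_assoc, MonObj.comp_mul]

variable [IsCommMonObj A]

theorem transl_comp_pow (a : 𝟙_ (Over S) ⟶ A) (n : ℕ) (ha : a ^ n = 1) :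
    transl A a ≫ (𝟙 A ^ n) = 𝟙 A ^ n := by
  rw [MonObj.comp_pow, Category.comp_id]
  unfold transl
  rw [mul_pow, ← MonObj.comp_pow, ha, MonObj.comp_one, _root_.mul_one]

end transl

section main

variable (k : Type u) [Field k] [IsAlgClosed k]
  (A : Over (Spec (CommRingCat.of k))) [GrpObj A] [IsProper A.hom] [GeometricallyIntegral A.hom]

theorem isCommMonObj : IsCommMonObj A := by
  haveI : Subsingleton ↥(Spec (CommRingCat.of k)) :=
    inferInstanceAs (Subsingleton (PrimeSpectrum k))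
  haveI : Flat A.hom := inferInstance
  haveI : LocallyOfFinitePresentation A.hom := inferInstance
  haveI : GeometricallyReduced A.hom := inferInstance
  haveI : GeometricallyConnected A.hom :=
    FactorField.geometricallyConnected_of_geometricallyIrreducible A.hom
  exact RigidOver.isCommMonObj A

variable (n : ℕ) [hF : IsFinite ((𝟙 A) ^ (n : ℤ)).left] [hE : Etale ((𝟙 A) ^ (n : ℤ)).left]

/-- the cover `[n]` -/
noncomputable abbrev Z : FEt.Cat A.left :=
  MorphismProperty.Over.mk ⊤ ((𝟙 A) ^ (n : ℤ)).left ⟨hF, hE⟩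

/-- the automorphism of the cover `[n]` given by translation by an `n`-torsion point -/
noncomputable def translAut (a : 𝟙_ (Over (Spec (CommRingCat.of k))) ⟶ A) (ha : a ^ n = 1) :
    Aut (Z k A n) :=
  haveI := isCommMonObj k A
  MorphismProperty.Over.isoMk
    { hom := (transl A a).left
      inv := (transl A a⁻¹).left
      hom_inv_id := by
        show (transl A a).left ≫ (transl A a⁻¹).left = 𝟙 _
        rw [← Over.comp_left, transl_comp, mul_inv_cancel, transl_one]; rfl
      inv_hom_id := by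
        show (transl A a⁻¹).left ≫ (transl A a).left = 𝟙 _
        rw [← Over.comp_left, transl_comp, inv_mul_cancel, transl_one]; rfl }
    (by
      show (transl A a).left ≫ ((𝟙 A) ^ (n : ℤ)).left = ((𝟙 A) ^ (n : ℤ)).left
      rw [← Over.comp_left, zpow_natCast, transl_comp_pow A a n ha])

theorem translAut_hom_left (a : 𝟙_ (Over (Spec (CommRingCat.of k))) ⟶ A) (ha : a ^ n = 1) :
    (translAut k A n a ha).hom.left = (transl A a).left := rfl

omit hF hE in
/-- an endomorphism of `A` over `[n]` is the translation by the image of the unit -/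
theorem hom_eq_transl [IsFinite (𝟙 A ^ n).left] [Etale (𝟙 A ^ n).left] (θl : A.left ⟶ A.left)
    (hw : θl ≫ (𝟙 A ^ n).left = (𝟙 A ^ n).left) :
    ∃ a : 𝟙_ (Over (Spec (CommRingCat.of k))) ⟶ A, a ^ n = 1 ∧ θl = (transl A a).left ∧
      ∀ b : 𝟙_ (Over (Spec (CommRingCat.of k))) ⟶ A, θl = (transl A b).left → b = a := by
  haveI := isCommMonObj k A
  haveI : Subsingleton ↥(Spec (CommRingCat.of k)) :=
    inferInstanceAs (Subsingleton (PrimeSpectrum k))
  haveI : GeometricallyConnected A.hom :=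
    FactorField.geometricallyConnected_of_geometricallyIrreducible A.hom
  have hA : (𝟙 A ^ n).left ≫ A.hom = A.hom := Over.w _
  have hθA : θl ≫ A.hom = A.hom := by
    have := congrArg (fun t => t ≫ A.hom) hw
    simp only [Category.assoc, hA] at this
    exact this
  let θ' : A ⟶ A := Over.homMk θl hθA
  have hθ' : θ' ≫ (𝟙 A ^ n) = 𝟙 A ^ n := by
    ext1
    rw [Over.comp_left]
    exact hw
  let a : 𝟙_ (Over (Spec (CommRingCat.of k))) ⟶ A := η[A] ≫ θ'
  have ha : a ^ n = 1 := by
    have e1 : a ^ n = a ≫ (𝟙 A ^ n) := by rw [MonObj.comp_pow, Category.comp_id]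
    rw [e1, Category.assoc, hθ', MonObj.comp_pow, Category.comp_id, MonObj.one_eq_one, one_pow]
  have hη : η[A].left ≫ A.hom = 𝟙 _ := Over.w η[A]
  have heq : θ' = transl A a := by
    ext1
    refine CoverLift.lift_unique (𝟙 A ^ n).left A.hom η[A].left hη θ'.left (transl A a).left ?_ ?_
    · rw [← Over.comp_left, ← Over.comp_left, hθ', transl_comp_pow A a n ha]
    · rw [← Over.comp_left, ← Over.comp_left, unit_comp_transl]
  refine ⟨a, ha, ?_, ?_⟩
  · have := congrArg (fun t => t.left) heq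
    exact this
  · intro b hb
    have hb' : θ' = transl A b := by
      ext1
      exact hb
    show b = η[A] ≫ θ'
    rw [hb', unit_comp_transl]

omit hF hE in
/-- translations by `n`-torsion points act transitively on the geometric fibres of `[n]` -/
theorem transitive' [IsFinite (𝟙 A ^ n).left] [Etale (𝟙 A ^ n).left]
    (Ω : Type u) [Field Ω] (s t : Spec (CommRingCat.of Ω) ⟶ A.left)
    (hst0 : s ≫ (𝟙 A ^ n).left = t ≫ (𝟙 A ^ n).left) :
    ∃ a : 𝟙_ (Over (Spec (CommRingCat.of k))) ⟶ A, a ^ n = 1 ∧ s ≫ (transl A a).left = t := by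
  haveI := isCommMonObj k A
  have hA : (𝟙 A ^ n).left ≫ A.hom = A.hom := Over.w _
  let c : Spec (CommRingCat.of Ω) ⟶ Spec (CommRingCat.of k) := s ≫ A.hom
  let T : Over (Spec (CommRingCat.of k)) := Over.mk c
  have htA : t ≫ A.hom = s ≫ A.hom := by
    have := congrArg (fun t => t ≫ A.hom) hst0
    simp only [Category.assoc, hA] at this
    exact this.symm
  let s' : T ⟶ A := Over.homMk s rfl
  let t' : T ⟶ A := Over.homMk t htA
  have hst : s' ≫ (𝟙 A ^ n) = t' ≫ (𝟙 A ^ n) := by
    ext1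
    rw [Over.comp_left, Over.comp_left]
    exact hst0
  let d : T ⟶ A := s'⁻¹ * t'
  have hd : d ≫ (𝟙 A ^ n) = 1 := by
    have e1 : ∀ x : T ⟶ A, x ≫ (𝟙 A ^ n) = x ^ n := fun x => by
      rw [MonObj.comp_pow, Category.comp_id]
    rw [e1, mul_pow, inv_pow, ← e1 s', ← e1 t', hst, inv_mul_cancel]
  -- the kernel
  let N := pullback (𝟙 A ^ n).left η[A].left
  let p : N ⟶ Spec (CommRingCat.of k) := pullback.snd (𝟙 A ^ n).left η[A].left
  haveI : IsFinite p := inferInstanceAs (IsFinite (pullback.snd (𝟙 A ^ n).left η[A].left))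
  haveI : Etale p := inferInstanceAs (Etale (pullback.snd (𝟙 A ^ n).left η[A].left))
  have hdl : d.left ≫ (𝟙 A ^ n).left = c ≫ η[A].left := by
    have := congrArg (fun t => t.left) hd
    simp only [Hom.one_def, Over.comp_left] at this
    exact this
  let dN : Spec (CommRingCat.of Ω) ⟶ N := pullback.lift d.left c hdl
  have hdN1 : dN ≫ pullback.fst (𝟙 A ^ n).left η[A].left = d.left := pullback.lift_fst _ _ _
  have hdN2 : dN ≫ p = c := pullback.lift_snd _ _ _
  obtain ⟨aN, haN1, haN2⟩ := FinEtPts.geomPt_factors k p Ω dN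
  have hη : η[A].left ≫ A.hom = 𝟙 _ := Over.w η[A]
  have hcond : pullback.fst (𝟙 A ^ n).left η[A].left ≫ (𝟙 A ^ n).left = p ≫ η[A].left :=
    pullback.condition
  have hfstA : pullback.fst (𝟙 A ^ n).left η[A].left ≫ A.hom = p := by
    have := congrArg (fun t => t ≫ A.hom) hcond
    simp only [Category.assoc, hA, hη, Category.comp_id] at this
    exact this
  let a : 𝟙_ (Over (Spec (CommRingCat.of k))) ⟶ A :=
    Over.homMk (aN ≫ pullback.fst (𝟙 A ^ n).left η[A].left) (by
      show (aN ≫ pullback.fst (𝟙 A ^ n).left η[A].left) ≫ A.hom = 𝟙 _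
      rw [Category.assoc, hfstA, haN1])
  have ha : a ^ n = 1 := by
    have e1 : a ^ n = a ≫ (𝟙 A ^ n) := by rw [MonObj.comp_pow, Category.comp_id]
    rw [e1]
    ext1
    rw [Over.comp_left]
    show (aN ≫ pullback.fst (𝟙 A ^ n).left η[A].left) ≫ (𝟙 A ^ n).left = _
    rw [Category.assoc, hcond, ← Category.assoc, haN1, Category.id_comp, MonObj.one_eq_one]
  have hda : d = toUnit T ≫ a := by
    ext1
    rw [Over.comp_left]
    show d.left = (toUnit T).left ≫ (aN ≫ pullback.fst (𝟙 A ^ n).left η[A].left)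
    have hT : (toUnit T).left = c := by
      have := Over.w (toUnit T)
      rw [show (𝟙_ (Over (Spec (CommRingCat.of k)))).hom = 𝟙 _ from rfl, Category.comp_id] at this
      exact this
    rw [hT, ← hdN1, haN2, hdN2, Category.assoc]
  refine ⟨a, ha, ?_⟩
  have e2 : s' ≫ transl A a = t' := by
    rw [comp_transl, ← hda]
    show s' * (s'⁻¹ * t') = t'
    rw [mul_inv_cancel_left]
  have := congrArg (fun t => t.left) e2
  exact this

omit hF hE in
/-- **S3718** -/
theorem main :
    ∀ [hF : IsFinite ((𝟙 A) ^ (n : ℤ)).left] [hE : Etale ((𝟙 A) ^ (n : ℤ)).left],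
      PiSp.IsGaloisCover (MorphismProperty.Over.mk ⊤ ((𝟙 A) ^ (n : ℤ)).left ⟨hF, hE⟩ :
        FEt.Cat A.left) ∧
      (∀ θ : Aut (MorphismProperty.Over.mk ⊤ ((𝟙 A) ^ (n : ℤ)).left ⟨hF, hE⟩ : FEt.Cat A.left),
        ∃! a : 𝟙_ (Over (Spec (CommRingCat.of k))) ⟶ A, a ^ (n : ℤ) = 1 ∧
          θ.hom.left = ((𝟙 A) * (toUnit A ≫ a)).left) ∧
      (∀ a : 𝟙_ (Over (Spec (CommRingCat.of k))) ⟶ A, a ^ (n : ℤ) = 1 →
        ∃ θ : Aut (MorphismProperty.Over.mk ⊤ ((𝟙 A) ^ (n : ℤ)).left ⟨hF, hE⟩ : FEt.Cat A.left),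
          θ.hom.left = ((𝟙 A) * (toUnit A ≫ a)).left) := by
  intro hF hE
  have hpow : (𝟙 A : A ⟶ A) ^ (n : ℤ) = 𝟙 A ^ n := zpow_natCast _ _
  haveI : IsFinite (𝟙 A ^ n).left := hpow ▸ hF
  haveI : Etale (𝟙 A ^ n).left := hpow ▸ hE
  haveI : Subsingleton ↥(Spec (CommRingCat.of k)) :=
    inferInstanceAs (Subsingleton (PrimeSpectrum k))
  haveI : IsIntegral A.left := GeometricallyIntegral.isIntegral_of_subsingleton A.hom
  refine ⟨⟨(inferInstance : ConnectedSpace ↥A.left), ?_⟩, ?_, ?_⟩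
  · intro Ω _ _ ξ s t
    rcases s with ⟨s0, hs0⟩
    rcases t with ⟨t0, ht0⟩
    let s1 : Spec (CommRingCat.of Ω) ⟶ A.left := s0
    let t1 : Spec (CommRingCat.of Ω) ⟶ A.left := t0
    have hs : s1 ≫ (𝟙 A ^ n).left = ξ :=
      (congrArg (fun f : A ⟶ A => s1 ≫ f.left) hpow).symm.trans hs0
    have ht : t1 ≫ (𝟙 A ^ n).left = ξ :=
      (congrArg (fun f : A ⟶ A => t1 ≫ f.left) hpow).symm.trans ht0
    obtain ⟨a, ha, h⟩ := transitive' k A n Ω s1 t1 (hs.trans ht.symm)
    refine ⟨translAut k A n a ha, ?_⟩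
    apply Subtype.ext
    show s0 ≫ (translAut k A n a ha).hom.left = t0
    rw [translAut_hom_left]
    exact h
  · have key : ∀ θh : (Z k A n) ⟶ (Z k A n),
        ∃! a : 𝟙_ (Over (Spec (CommRingCat.of k))) ⟶ A, a ^ (n : ℤ) = 1 ∧
          θh.left = ((𝟙 A) * (toUnit A ≫ a)).left := by
      intro θh
      have hw : θh.left ≫ (𝟙 A ^ n).left = (𝟙 A ^ n).left := by
        have := MorphismProperty.Over.w θh
        change θh.left ≫ ((𝟙 A) ^ (n : ℤ)).left = ((𝟙 A) ^ (n : ℤ)).left at this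
        rw [hpow] at this
        exact this
      obtain ⟨a, ha, h1, h2⟩ := hom_eq_transl k A n θh.left hw
      refine ⟨a, ⟨by rw [zpow_natCast]; exact ha, h1⟩, ?_⟩
      rintro b ⟨-, hb2⟩
      exact h2 b hb2
    intro θ
    exact key θ.hom
  · intro a ha
    have ha' : a ^ n = 1 := by rwa [zpow_natCast] at ha
    exact ⟨translAut k A n a ha', rfl⟩

end main

end Groth.Agent.Lib.helper11.MulGalois
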