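import Mathlib

/-!
# Helpers for Noether normalization over a domain (helper11)
-/

set_option autoImplicit false

namespace Groth.Agent.Lib.helper11.NNDomain

open MvPolynomial

/-- Clearing denominators in an integrality relation over `K[X]`, where `K` is a localization
of `R`. -/
theorem exists_smul_isIntegralElem {R K : Type*} [CommRing R] [CommRing K] [Algebra R K]
    (M : Submonoid R) [IsLocalization M K] {σ : Type*} {T : Type*} [CommRing T] [Algebra K T]
    [Algebra R T] [IsScalarTower R K T] (g : MvPolynomial σ K →ₐ[K] T) (t : T)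
    (ht : g.toRingHom.IsIntegralElem t) :
    ∃ c ∈ M, (g.toRingHom.comp (MvPolynomial.map (algebraMap R K))).IsIntegralElem (c • t) := by
  let _ : Algebra (MvPolynomial σ R) (MvPolynomial σ K) := MvPolynomial.algebraMvPolynomial
  have : IsLocalization (M.map (C (σ := σ))) (MvPolynomial σ K) := MvPolynomial.isLocalization M K
  let _ : Algebra (MvPolynomial σ K) T := g.toRingHom.toAlgebra
  let _ : Algebra (MvPolynomial σ R) T :=
    (g.toRingHom.comp (algebraMap (MvPolynomial σ R) (MvPolynomial σ K))).toAlgebra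
  have : IsScalarTower (MvPolynomial σ R) (MvPolynomial σ K) T :=
    IsScalarTower.of_algebraMap_eq fun _ => rfl
  obtain ⟨⟨m, c, hc, rfl⟩, hm⟩ :=
    IsIntegral.exists_multiple_integral_of_isLocalization (M.map (C (σ := σ))) t ht
  refine ⟨c, hc, ?_⟩
  have h1 : c • t = (⟨C c, c, hc, rfl⟩ : M.map (C (σ := σ))) • t := by
    rw [Submonoid.smul_def, Algebra.smul_def, Algebra.smul_def]
    congr 1
    change _ = g (MvPolynomial.map (algebraMap R K) (C c))
    rw [MvPolynomial.map_C, ← MvPolynomial.algebraMap_eq, AlgHom.commutes,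
      ← IsScalarTower.algebraMap_apply]
  rw [h1]
  exact hm

/-- Descending an integrality relation along a map with torsion kernel. -/
theorem isIntegralElem_smul_of_map {R A S T : Type*} [CommRing R] [CommRing A] [Algebra R A]
    [CommRing S] [Algebra R S] [CommRing T] [Algebra R T] (φ : A →ₐ[R] S) (ι : S →ₐ[R] T)
    (M : Submonoid R) (hι : ∀ s : S, ι s = 0 → ∃ c ∈ M, c • s = 0) (s : S)
    (hs : (ι.toRingHom.comp φ.toRingHom).IsIntegralElem (ι s)) :
    ∃ c ∈ M, φ.toRingHom.IsIntegralElem (c • s) := by
  rcases subsingleton_or_nontrivial A with hA | hA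
  · obtain ⟨c, hc, -⟩ := hι 0 (map_zero _)
    have := φ.toRingHom.codomain_trivial
    exact ⟨c, hc, Polynomial.X, Polynomial.monic_X, Subsingleton.elim _ _⟩
  obtain ⟨P, hP, hPs⟩ := hs
  have h1 : ι (Polynomial.eval₂ φ.toRingHom s P) = 0 := by
    have := Polynomial.hom_eval₂ P φ.toRingHom ι.toRingHom s
    rw [← hPs]
    exact this
  obtain ⟨c, hc, hcs⟩ := hι _ h1
  refine ⟨c, hc, ?_⟩
  -- use P * X to guarantee positive degree
  have hPX : (P * Polynomial.X).Monic := hP.mul Polynomial.monic_X
  refine ⟨(P * Polynomial.X).scaleRoots (algebraMap R A c),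
    (Polynomial.monic_scaleRoots_iff _).mpr hPX, ?_⟩
  have h2 : c • s = φ.toRingHom (algebraMap R A c) * s := by
    rw [Algebra.smul_def]
    congr 1
    exact (φ.commutes c).symm
  rw [h2, Polynomial.scaleRoots_eval₂_mul]
  have hdeg : (P * Polynomial.X).natDegree = P.natDegree + 1 := by
    rw [hP.natDegree_mul Polynomial.monic_X, Polynomial.natDegree_X]
  rw [hdeg, pow_succ, mul_assoc, Polynomial.eval₂_mul, Polynomial.eval₂_X]
  have h3 : φ.toRingHom (algebraMap R A c) * (Polynomial.eval₂ φ.toRingHom s P * s) = 0 := by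
    have : φ.toRingHom (algebraMap R A c) = algebraMap R S c := φ.commutes c
    rw [this, ← mul_assoc, ← Algebra.smul_def, hcs, zero_mul]
  rw [h3, mul_zero]

end Groth.Agent.Lib.helper11.NNDomain
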