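import Mathlib

/-!
# "Nearly projective" ⟺ `I` kills `Ext¹(M, -)` (S6966), working directly in `D(R)`.
-/

set_option autoImplicit false
universe u

open CategoryTheory CategoryTheory.Limits Pretriangulated
attribute [local instance] HasDerivedCategory.standard

namespace Groth.Agent.Lib.helper11.NearProj

variable (R : Type u) [CommRing R]

/-- `Hom_{D(R)}(P[0], N[1]) = 0` for `P` projective. -/
theorem hom_shift_one_eq_zero (P N : ModuleCat.{u} R) [Projective P]
    (y : (DerivedCategory.singleFunctor (ModuleCat.{u} R) 0).obj P ⟶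
      ((DerivedCategory.singleFunctor (ModuleCat.{u} R) 0).obj N)⟦(1 : ℤ)⟧) : y = 0 := by
  obtain ⟨e, he⟩ := (Abelian.Ext.homAddEquiv (X := P) (Y := N) (n := 1)).surjective y
  have h0 : e = 0 := Abelian.Ext.eq_zero_of_projective e
  rw [← he, h0, map_zero]

theorem forward (M : Type u) [AddCommGroup M] [Module R M]
    (P : Type u) [AddCommGroup P] [Module R P] [Module.Projective R P]
    (f : M →ₗ[R] P) (g : P →ₗ[R] M) (a : R) (hgf : g ∘ₗ f = a • LinearMap.id)
    (N : ModuleCat.{u} R)
    (x : (DerivedCategory.singleFunctor (ModuleCat.{u} R) 0).obj (ModuleCat.of R M) ⟶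
      ((DerivedCategory.singleFunctor (ModuleCat.{u} R) 0).obj N)⟦(1 : ℤ)⟧) : a • x = 0 := by
  haveI : Projective (ModuleCat.of R P) := (IsProjective.iff_projective P).1 inferInstance
  have h1 : a • x = (a • 𝟙 ((DerivedCategory.singleFunctor (ModuleCat.{u} R) 0).obj
      (ModuleCat.of R M))) ≫ x := by
    rw [Linear.smul_comp, Category.id_comp]
  have h2 : a • 𝟙 ((DerivedCategory.singleFunctor (ModuleCat.{u} R) 0).obj (ModuleCat.of R M)) =
      (DerivedCategory.singleFunctor (ModuleCat.{u} R) 0).map (ModuleCat.ofHom f) ≫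
        (DerivedCategory.singleFunctor (ModuleCat.{u} R) 0).map (ModuleCat.ofHom g) := by
    have e1 : ModuleCat.ofHom (a • LinearMap.id : M →ₗ[R] M) = a • 𝟙 (ModuleCat.of R M) := rfl
    rw [← Functor.map_comp, ← ModuleCat.ofHom_comp, hgf, e1, Functor.map_smul,
      CategoryTheory.Functor.map_id]
  have h3 := hom_shift_one_eq_zero R (ModuleCat.of R P) N
    ((DerivedCategory.singleFunctor (ModuleCat.{u} R) 0).map (ModuleCat.ofHom g) ≫ x)
  rw [h1, h2, Category.assoc, h3, comp_zero]

section

variable {R}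
variable {K F M : Type u} [AddCommGroup K] [Module R K] [AddCommGroup F] [Module R F]
  [AddCommGroup M] [Module R M] (i : K →ₗ[R] F) (π : F →ₗ[R] M)

theorem lift_of_smul_delta_eq_zero (hi : Function.Injective i) (hex : Function.Exact i π)
    (hπ : Function.Surjective π) (a : R)
    (h : ∀ x : (DerivedCategory.singleFunctor (ModuleCat.{u} R) 0).obj (ModuleCat.of R M) ⟶
        ((DerivedCategory.singleFunctor (ModuleCat.{u} R) 0).obj (ModuleCat.of R K))⟦(1 : ℤ)⟧,
        a • x = 0) :
    ∃ f : M →ₗ[R] F, π ∘ₗ f = a • LinearMap.id := by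
  let S : ShortComplex (ModuleCat.{u} R) :=
    ShortComplex.mk (ModuleCat.ofHom i) (ModuleCat.ofHom π) (by
      ext x; exact hex.apply_apply_eq_zero x)
  have hS : S.ShortExact := ModuleCat.shortComplex_shortExact _ hex hi hπ
  have hdist := hS.singleTriangle_distinguished
  have h0 : (a • 𝟙 ((DerivedCategory.singleFunctor (ModuleCat.{u} R) 0).obj (ModuleCat.of R M))) ≫
      hS.singleδ = 0 := by
    rw [Linear.smul_comp, Category.id_comp]
    exact h hS.singleδ
  obtain ⟨g', hg'⟩ := Triangle.coyoneda_exact₃ _ hdist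
    (a • 𝟙 ((DerivedCategory.singleFunctor (ModuleCat.{u} R) 0).obj (ModuleCat.of R M))) h0
  obtain ⟨f', rfl⟩ := (DerivedCategory.singleFunctor (ModuleCat.{u} R) 0).map_surjective g'
  refine ⟨f'.hom, ?_⟩
  have h3 : (DerivedCategory.singleFunctor (ModuleCat.{u} R) 0).map (a • 𝟙 (ModuleCat.of R M)) =
      (DerivedCategory.singleFunctor (ModuleCat.{u} R) 0).map (f' ≫ ModuleCat.ofHom π) := by
    rw [Functor.map_smul, CategoryTheory.Functor.map_id, Functor.map_comp]
    exact hg'
  have h4 := (DerivedCategory.singleFunctor (ModuleCat.{u} R) 0).map_injective h3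
  have := congrArg ModuleCat.Hom.hom h4
  exact this.symm

end

theorem backward (M : Type u) [AddCommGroup M] [Module R M] (a : R)
    (h : ∀ (N : Type u) [AddCommGroup N] [Module R N],
      ∀ x : (DerivedCategory.singleFunctor (ModuleCat.{u} R) 0).obj (ModuleCat.of R M) ⟶
        ((DerivedCategory.singleFunctor (ModuleCat.{u} R) 0).obj (ModuleCat.of R N))⟦(1 : ℤ)⟧,
        a • x = 0) :
    ∃ (P : Type u) (_ : AddCommGroup P) (_ : Module R P) (_ : Module.Projective R P)
        (f : M →ₗ[R] P) (g : P →ₗ[R] M), g ∘ₗ f = a • LinearMap.id := by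
  let π : (M →₀ R) →ₗ[R] M := Finsupp.linearCombination R id
  have hπ : Function.Surjective π := Finsupp.linearCombination_id_surjective R M
  obtain ⟨f, hf⟩ := lift_of_smul_delta_eq_zero (LinearMap.ker π).subtype π
    (Submodule.injective_subtype _) (LinearMap.exact_subtype_ker_map π) hπ a
    (h ↥(LinearMap.ker π))
  exact ⟨M →₀ R, inferInstance, inferInstance, inferInstance, f, π, hf⟩

end Groth.Agent.Lib.helper11.NearProj
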