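import Mathlib
import Groth.Prelude.Def_AssocGrMod
import Groth.Agent.Lib.Helper17.LocalFlat

/-!
# Local criterion of flatness for a nilpotent ideal, graded form (S16454)
-/

set_option autoImplicit false
universe u

open TensorProduct

namespace Groth.Agent.Lib.helper11.NilFlatGr

variable {A : Type u} [CommRing A] (I : Ideal A) (M : Type u) [AddCommGroup M] [Module A M]

/-- the map `I^(k+1) ⊗ M → I ⊗ M`. -/
noncomputable def φ (k : ℕ) : ↥(I ^ (k + 1)) ⊗[A] M →ₗ[A] ↥I ⊗[A] M :=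
  LinearMap.rTensor M (Submodule.inclusion (Ideal.pow_le_self (Nat.succ_ne_zero k)))

lemma φ_tmul (k : ℕ) (a : ↥(I ^ (k + 1))) (x : M) :
    φ I M k (a ⊗ₜ x) = (⟨a.1, Ideal.pow_le_self (Nat.succ_ne_zero k) a.2⟩ : ↥I) ⊗ₜ x := rfl

lemma φ_zero_surjective : Function.Surjective (φ I M 0) := by
  apply LinearMap.rTensor_surjective
  intro a
  exact ⟨⟨a.1, by rw [zero_add, pow_one]; exact a.2⟩, rfl⟩

/-- the inclusion `I^(k+2) → I^(k+1)`. -/
noncomputable def incl (k : ℕ) : ↥(I ^ (k + 1 + 1)) →ₗ[A] ↥(I ^ (k + 1)) :=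
  Submodule.inclusion (Ideal.pow_le_pow_right (Nat.le_succ _))

lemma φ_comp_incl (k : ℕ) (v : ↥(I ^ (k + 1 + 1)) ⊗[A] M) :
    φ I M k (LinearMap.rTensor M (incl I k) v) = φ I M (k + 1) v := by
  induction v using TensorProduct.induction_on with
  | zero => simp
  | add x y hx hy => rw [map_add, map_add, map_add, hx, hy]
  | tmul a x => rfl

/-- elements of `I^(k+1) ⊗ IM` map into the image of `I^(k+2) ⊗ M`. -/
lemma φ_lTensor_mem (k : ℕ) (w : ↥(I ^ (k + 1)) ⊗[A] ↥(I • (⊤ : Submodule A M))) :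
    φ I M k (LinearMap.lTensor ↥(I ^ (k + 1)) (I • (⊤ : Submodule A M)).subtype w) ∈
      LinearMap.range (φ I M (k + 1)) := by
  induction w using TensorProduct.induction_on with
  | zero => simp
  | add x y hx hy => rw [map_add, map_add]; exact Submodule.add_mem _ hx hy
  | tmul a y =>
    rw [LinearMap.lTensor_tmul, Submodule.subtype_apply]
    obtain ⟨y, hy⟩ := y
    change φ I M k (a ⊗ₜ y) ∈ _
    refine Submodule.smul_induction_on hy ?_ ?_
    · intro b hb m _
      refine ⟨(⟨b * a.1, ?_⟩ : ↥(I ^ (k + 1 + 1))) ⊗ₜ m, ?_⟩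
      · rw [pow_succ']
        exact Ideal.mul_mem_mul hb a.2
      · rw [φ_tmul, φ_tmul, TensorProduct.tmul_smul, TensorProduct.smul_tmul']
        rfl
    · intro y1 y2 h1 h2
      rw [TensorProduct.tmul_add, map_add]
      exact Submodule.add_mem _ h1 h2


omit [CommRing A] [AddCommGroup M] [Module A M] in
lemma exists_fin_repr {A : Type*} [CommRing A] {P M : Type*} [AddCommGroup P] [Module A P]
    [AddCommGroup M] [Module A M] (z : P ⊗[A] M) :
    ∃ (k : ℕ) (a : Fin k → P) (x : Fin k → M), z = ∑ i, a i ⊗ₜ[A] x i := by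
  induction z using TensorProduct.induction_on with
  | zero => exact ⟨0, Fin.elim0, Fin.elim0, by simp⟩
  | tmul a x => exact ⟨1, fun _ => a, fun _ => x, by simp⟩
  | add y z hy hz =>
    obtain ⟨k1, a1, x1, rfl⟩ := hy
    obtain ⟨k2, a2, x2, rfl⟩ := hz
    refine ⟨k1 + k2, Fin.append a1 a2, Fin.append x1 x2, ?_⟩
    rw [Fin.sum_univ_add]
    simp

/-- multiplication map `I^(k+1) ⊗ M → M`. -/
noncomputable def μ (k : ℕ) : ↥(I ^ (k + 1)) ⊗[A] M →ₗ[A] M :=
  (TensorProduct.lid A M).toLinearMap ∘ₗ LinearMap.rTensor M (I ^ (k + 1)).subtype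

lemma μ_tmul (k : ℕ) (a : ↥(I ^ (k + 1))) (x : M) : μ I M k (a ⊗ₜ x) = (a : A) • x := by
  simp [μ]

lemma lid_rTensor_φ (k : ℕ) (z' : ↥(I ^ (k + 1)) ⊗[A] M) :
    TensorProduct.lid A M (LinearMap.rTensor M I.subtype (φ I M k z')) = μ I M k z' := by
  induction z' using TensorProduct.induction_on with
  | zero => simp
  | add x y hx hy => rw [map_add, map_add, map_add, map_add, hx, hy]
  | tmul a x => rw [φ_tmul, μ_tmul]; simp

open AssocGr in
/-- the map `I^(k+1) ⊗ M → gr_{k+1} ⊗ M/IM`. -/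
noncomputable def q (k : ℕ) : ↥(I ^ (k + 1)) ⊗[A] M →ₗ[A]
    ↥(AssocGr.gr (FiltBl.IdealFiltration.adic I) (k + 1)) ⊗[A] (M ⧸ (I • (⊤ : Submodule A M))) :=
  TensorProduct.map (AssocGr.inDeg (FiltBl.IdealFiltration.adic I) (k + 1))
    (Submodule.mkQ (I • (⊤ : Submodule A M)))

section

variable (hinj : ∀ (n k : ℕ) (a : Fin k → ↥((FiltBl.IdealFiltration.adic I).F n))
      (x : Fin k → ↥((Rees.powFilt I M).N 0)),
      (∑ i, (AssocGr.inDeg (FiltBl.IdealFiltration.adic I) n (a i) :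
          AssocGr.GrRing (FiltBl.IdealFiltration.adic I)) •
        (AssocGr.inDegM (Rees.powFilt I M) 0 (x i) : AssocGr.GrMod (Rees.powFilt I M))) = 0 →
      (∑ i, (AssocGr.inDeg (FiltBl.IdealFiltration.adic I) n (a i)) ⊗ₜ[A]
          (Submodule.Quotient.mk (x i : M)) :
        ↥(AssocGr.gr (FiltBl.IdealFiltration.adic I) n) ⊗[A] (M ⧸ (I • (⊤ : Submodule A M)))) = 0)

include hinj in
lemma q_eq_zero (k : ℕ) (z' : ↥(I ^ (k + 1)) ⊗[A] M) (hz : μ I M k z' = 0) : q I M k z' = 0 := by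
  obtain ⟨K, a, x, rfl⟩ := exists_fin_repr z'
  have hx0 : ∀ j, x j ∈ (Rees.powFilt I M).N 0 := fun j => by
    change x j ∈ I ^ 0 • (⊤ : Submodule A M)
    rw [pow_zero, Ideal.one_eq_top, Submodule.top_smul]
    trivial
  have h := hinj (k + 1) K a (fun j => ⟨x j, hx0 j⟩) ?_
  · rw [map_sum]
    exact h
  · simp_rw [AssocGr.inDeg_smul_inDegM]
    rw [← AddSubmonoidClass.coe_finset_sum, ← map_sum, ZeroMemClass.coe_eq_zero,
      AssocGr.inDegM_eq_zero_iff]
    rw [map_sum] at hz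
    simp_rw [μ_tmul] at hz
    rw [Submodule.coe_sum]
    simp only []
    rw [hz]
    exact Submodule.zero_mem _

include hinj in
lemma mem_range_φ (k : ℕ) : ∀ z : ↥I ⊗[A] M, LinearMap.rTensor M I.subtype z = 0 →
    z ∈ LinearMap.range (φ I M k) := by
  induction k with
  | zero => intro z _; exact φ_zero_surjective I M z
  | succ k IH =>
    intro z hz
    obtain ⟨z', rfl⟩ := IH z hz
    have hμ : μ I M k z' = 0 := by
      rw [← lid_rTensor_φ, hz, map_zero]
    have hq := q_eq_zero I M hinj k z' hμ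
    have hker : z' ∈ LinearMap.ker (q I M k) := hq
    have hex1 : Function.Exact (incl I k) (AssocGr.inDeg (FiltBl.IdealFiltration.adic I) (k + 1)) := by
      intro a
      rw [AssocGr.inDeg_eq_zero_iff]
      constructor
      · intro ha
        exact ⟨⟨a.1, ha⟩, rfl⟩
      · rintro ⟨b, rfl⟩
        exact b.2
    have hex2 : Function.Exact (I • (⊤ : Submodule A M)).subtype
        (Submodule.mkQ (I • (⊤ : Submodule A M))) := LinearMap.exact_subtype_mkQ _
    rw [q, TensorProduct.map_ker hex1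
      (AssocGr.inDeg_surjective (FiltBl.IdealFiltration.adic I) (k + 1)) hex2
      (Submodule.mkQ_surjective _)] at hker
    obtain ⟨u, ⟨w, rfl⟩, v, ⟨v', rfl⟩, rfl⟩ := Submodule.mem_sup.1 hker
    rw [map_add]
    refine Submodule.add_mem _ (φ_lTensor_mem I M k w) ?_
    exact ⟨v', (φ_comp_incl I M k v').symm⟩

include hinj in
theorem injective_rTensor (hI : IsNilpotent I) :
    Function.Injective (LinearMap.rTensor M I.subtype) := by
  rw [injective_iff_map_eq_zero]
  intro z hz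
  obtain ⟨n, hn⟩ := hI
  obtain ⟨z', rfl⟩ := mem_range_φ I M hinj n z hz
  have hbot : I ^ (n + 1) = ⊥ := by rw [pow_succ, hn, zero_mul]; rfl
  haveI : Subsingleton ↥(I ^ (n + 1)) := by
    rw [hbot]; infer_instance
  rw [Subsingleton.elim z' 0, map_zero]

include hinj in
theorem main (hI : IsNilpotent I)
    (hflat : Module.Flat (A ⧸ I) (M ⧸ (I • (⊤ : Submodule A M)))) : Module.Flat A M := by
  haveI : Module.Flat (A ⧸ I) ((A ⧸ I) ⊗[A] M) :=
    Module.Flat.of_linearEquiv
      (Groth.Agent.Lib.Helper17.LocalFlat.quotLin I (TensorProduct.quotTensorEquivQuotSMul M I))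
  exact Groth.Agent.Lib.Helper17.LocalFlat.flat_of_nilpotent M hI (injective_rTensor I M hinj hI)

end

end Groth.Agent.Lib.helper11.NilFlatGr
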