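import Mathlib

/-!
# The branches `t`, `e` of `B[[x, y]]/(xy - π)` behave like prime elements (helper11)
-/

set_option autoImplicit false

namespace Groth.Agent.Lib.helper11.NodeAlgPrime

open MvPowerSeries

universe u

section Abstract

variable {N : Type*} [CommRing N]

/-- abstract automorphism lemma. -/
theorem aut_lemma (t e : N) (σ : N ≃+* N) (hσ : Associated (σ (t * e)) (t * e))
    (ht1 : ∀ a b : N, t ∣ a * b → t ∣ a ∨ t ∣ b) (he1 : ∀ a b : N, e ∣ a * b → e ∣ a ∨ e ∣ b)
    (ht2 : ∀ a : N, t * a = 0 → a = 0) (ht3 : ¬ t ∣ e) :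
    (∃ α β : Nˣ, σ t = (α : N) * t ∧ σ e = (β : N) * e) ∨
      (∃ α β : Nˣ, σ t = (α : N) * e ∧ σ e = (β : N) * t) := by
  obtain ⟨u, hu⟩ := hσ
  -- `σ t * σ e * u = t * e`
  rw [map_mul] at hu
  have hτ : σ.symm t * σ.symm e = t * e * σ.symm (u : N) := by
    have := congrArg σ.symm hu
    simpa [map_mul] using this.symm
  -- divisibility facts
  have h1 : t ∣ σ t ∨ t ∣ σ e := by
    have : t ∣ σ t * σ e * (u : N) := ⟨e, hu⟩
    rcases ht1 _ _ this with h | h
    · exact ht1 _ _ h
    · -- `t ∣ u`, so `t` is a unit, so `t ∣ anything`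
      exact Or.inl ((isUnit_of_dvd_unit h u.isUnit).dvd)
  have h2 : σ t ∣ t ∨ σ t ∣ e := by
    have : t ∣ σ.symm t * σ.symm e := ⟨e * σ.symm (u : N), by rw [hτ, mul_assoc]⟩
    have h' : t ∣ σ.symm t ∨ t ∣ σ.symm e := ht1 _ _ this
    rcases h' with h | h
    · left
      have := map_dvd σ h
      simpa using this
    · right
      have := map_dvd σ h
      simpa using this
  have h3 : σ e ∣ t ∨ σ e ∣ e := by
    have : e ∣ σ.symm t * σ.symm e := ⟨t * σ.symm (u : N), by rw [hτ]; ring⟩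
    have h' : e ∣ σ.symm t ∨ e ∣ σ.symm e := he1 _ _ this
    rcases h' with h | h
    · left
      have := map_dvd σ h
      simpa using this
    · right
      have := map_dvd σ h
      simpa using this
  -- unit extraction: `t ∣ x`, `x ∣ t` gives `x = α t` with `α` a unit
  have hunit : ∀ x : N, t ∣ x → x ∣ t → ∃ α : Nˣ, x = (α : N) * t := by
    intro x hx1 hx2
    obtain ⟨a, ha⟩ := hx1
    obtain ⟨c, hc⟩ := hx2
    have : t * (1 - a * c) = 0 := by
      have : t = t * a * c := by rw [← ha]; exact hc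
      linear_combination this
    have hac : a * c = 1 := by
      have := ht2 _ this
      linear_combination -this
    exact ⟨⟨a, c, hac, by rw [mul_comm]; exact hac⟩, by rw [ha]; exact mul_comm _ _⟩
  by_cases hcase : t ∣ σ t
  · left
    have hdiv : σ t ∣ t := by
      rcases h2 with h | h
      · exact h
      · exact absurd (hcase.trans h) ht3
    obtain ⟨α, hα⟩ := hunit _ hcase hdiv
    refine ⟨α, α⁻¹ * u⁻¹, hα, ?_⟩
    -- `α t σ e u = t e`
    rw [hα] at hu
    have : t * ((α : N) * σ e * (u : N) - e) = 0 := by linear_combination hu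
    have h5 := ht2 _ this
    have h6 : (α : N) * σ e * (u : N) = e := by linear_combination h5
    have e1 : ((α⁻¹ : Nˣ) : N) * (α : N) = 1 := by simp
    have e2 : ((u⁻¹ : Nˣ) : N) * (u : N) = 1 := by simp
    have h7 : σ e = ((α⁻¹ : Nˣ) : N) * ((u⁻¹ : Nˣ) : N) * ((α : N) * σ e * (u : N)) := by
      linear_combination (-(σ e) * ((u⁻¹ : Nˣ) : N) * (u : N)) * e1 - (σ e) * e2
    rw [h6] at h7
    push_cast
    exact h7
  · right
    have hte : t ∣ σ e := h1.resolve_left hcase
    have hdiv : σ e ∣ t := by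
      rcases h3 with h | h
      · exact h
      · exact absurd (hte.trans h) ht3
    obtain ⟨β, hβ⟩ := hunit _ hte hdiv
    refine ⟨β⁻¹ * u⁻¹, β, ?_, hβ⟩
    rw [hβ] at hu
    have : t * (σ t * (β : N) * (u : N) - e) = 0 := by linear_combination hu
    have h5 := ht2 _ this
    have h6 : σ t * (β : N) * (u : N) = e := by linear_combination h5
    have e1 : ((β⁻¹ : Nˣ) : N) * (β : N) = 1 := by simp
    have e2 : ((u⁻¹ : Nˣ) : N) * (u : N) = 1 := by simp
    have h7 : σ t = ((β⁻¹ : Nˣ) : N) * ((u⁻¹ : Nˣ) : N) * (σ t * (β : N) * (u : N)) := by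
      linear_combination (-(σ t) * ((u⁻¹ : Nˣ) : N) * (u : N)) * e1 - (σ t) * e2
    rw [h6] at h7
    push_cast
    exact h7

end Abstract

section PowerSeries

variable {B : Type u} [CommRing B] {ι : Type*}

/-- `X i` behaves like a prime element in power series over a ring without zero divisors. -/
theorem X_dvd_mul {k : Type*} [CommRing k] [NoZeroDivisors k] (i : ι)
    (a b : MvPowerSeries ι k) (h : (X i : MvPowerSeries ι k) ∣ a * b) :
    (X i : MvPowerSeries ι k) ∣ a ∨ (X i : MvPowerSeries ι k) ∣ b := by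
  classical
  have key : ∀ φ : MvPowerSeries ι k,
      (X i : MvPowerSeries ι k) ∣ φ ↔ 1 ≤ φ.weightedOrder (Pi.single i 1) := by
    intro φ
    rw [X_dvd_iff]
    constructor
    · intro H
      have := nat_le_weightedOrder (w := (Pi.single i 1 : ι → ℕ)) (f := φ) (n := 1) (by
        intro d hd
        rw [Finsupp.weight_single_one_apply] at hd
        exact H d (by omega))
      simpa using this
    · intro H m hm
      apply coeff_eq_zero_of_lt_weightedOrder (w := (Pi.single i 1 : ι → ℕ))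
      rw [Finsupp.weight_single_one_apply, hm]
      exact lt_of_lt_of_le (by simp) H
  rw [key, weightedOrder_mul] at h
  rw [key, key]
  by_contra hcon
  push_neg at hcon
  obtain ⟨h1, h2⟩ := hcon
  have h1' : a.weightedOrder (Pi.single i 1) = 0 := by
    rwa [ENat.lt_one_iff_eq_zero] at h1
  have h2' : b.weightedOrder (Pi.single i 1) = 0 := by
    rwa [ENat.lt_one_iff_eq_zero] at h2
  rw [h1', h2'] at h
  simp at h

variable (π : B) (i j : ι)

theorem coeff_dvd_of_eq {φ c d : MvPowerSeries ι B} (h : φ = X i * c + C π * d)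
    (m : ι →₀ ℕ) (hm : m i = 0) : π ∣ coeff m φ := by
  rw [h, map_add, coeff_C_mul, X_dvd_iff.mp (dvd_mul_right (X i) c) m hm, zero_add]
  exact dvd_mul_right _ _

theorem exists_eq_of_coeff_dvd {φ : MvPowerSeries ι B}
    (H : ∀ m : ι →₀ ℕ, m i = 0 → π ∣ coeff m φ) :
    ∃ c d : MvPowerSeries ι B, φ = X i * c + C π * d := by
  classical
  let d : MvPowerSeries ι B := fun m => if h : m i = 0 then Classical.choose (H m h) else 0
  have hd : ∀ m (h : m i = 0), coeff m φ = π * coeff m d := by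
    intro m h
    rw [coeff_apply d m]
    show _ = π * (if h : m i = 0 then Classical.choose (H m h) else 0)
    rw [dif_pos h]
    exact Classical.choose_spec (H m h)
  have hdvd : (X i : MvPowerSeries ι B) ∣ φ - C π * d := by
    rw [X_dvd_iff]
    intro m hm
    rw [map_sub, coeff_C_mul, hd m hm, sub_self]
  obtain ⟨c, hc⟩ := hdvd
  exact ⟨c, d, by rw [← hc]; ring⟩

/-- primality of the ideal `(X i, π)`, in coefficient form. -/
theorem coeff_dvd_mul (hπ : Prime π) (a b : MvPowerSeries ι B)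
    (H : ∀ m : ι →₀ ℕ, m i = 0 → π ∣ coeff m (a * b)) :
    (∀ m : ι →₀ ℕ, m i = 0 → π ∣ coeff m a) ∨ (∀ m : ι →₀ ℕ, m i = 0 → π ∣ coeff m b) := by
  haveI : (Ideal.span {π}).IsPrime := (Ideal.span_singleton_prime hπ.ne_zero).mpr hπ
  let ψ : MvPowerSeries ι B →+* MvPowerSeries ι (B ⧸ Ideal.span {π}) :=
    MvPowerSeries.map (Ideal.Quotient.mk (Ideal.span {π}))
  have key : ∀ φ : MvPowerSeries ι B,
      (∀ m : ι →₀ ℕ, m i = 0 → π ∣ coeff m φ) ↔ (X i : MvPowerSeries ι (B ⧸ Ideal.span {π})) ∣ ψ φ := by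
    intro φ
    rw [X_dvd_iff]
    refine forall_congr' fun m => forall_congr' fun _ => ?_
    rw [coeff_map, Ideal.Quotient.eq_zero_iff_mem, Ideal.mem_span_singleton]
  rw [key, map_mul] at H
  rw [key, key]
  exact X_dvd_mul i _ _ H

variable {π i j}

/-- divisibility by the class of `X i` in `B[[x]]/(X i X j - π)`. -/
theorem mk_X_dvd_iff (hij : i ≠ j) (φ : MvPowerSeries ι B) :
    Ideal.Quotient.mk (Ideal.span {(X i * X j - C π : MvPowerSeries ι B)}) (X i) ∣
      Ideal.Quotient.mk (Ideal.span {(X i * X j - C π : MvPowerSeries ι B)}) φ ↔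
    ∀ m : ι →₀ ℕ, m i = 0 → π ∣ coeff m φ := by
  constructor
  · rintro ⟨c, hc⟩
    obtain ⟨c, rfl⟩ := Ideal.Quotient.mk_surjective c
    rw [← map_mul, Ideal.Quotient.eq, Ideal.mem_span_singleton'] at hc
    obtain ⟨d, hd⟩ := hc
    exact coeff_dvd_of_eq π i (c := c + X j * d) (d := -d) (by linear_combination -hd)
  · intro H
    obtain ⟨c, d, rfl⟩ := exists_eq_of_coeff_dvd π i H
    have hπ : Ideal.Quotient.mk (Ideal.span {(X i * X j - C π : MvPowerSeries ι B)}) (C π) =
        Ideal.Quotient.mk _ (X i) * Ideal.Quotient.mk _ (X j) := by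
      rw [← map_mul, eq_comm, Ideal.Quotient.eq]
      exact Ideal.subset_span rfl
    refine ⟨Ideal.Quotient.mk _ c + Ideal.Quotient.mk _ (X j) * Ideal.Quotient.mk _ d, ?_⟩
    rw [map_add, map_mul, map_mul, hπ]
    ring

theorem mk_X_dvd_mul (hπ : Prime π) (hij : i ≠ j)
    (a b : MvPowerSeries ι B ⧸ Ideal.span {(X i * X j - C π : MvPowerSeries ι B)})
    (h : Ideal.Quotient.mk _ (X i) ∣ a * b) :
    Ideal.Quotient.mk _ (X i) ∣ a ∨ Ideal.Quotient.mk _ (X i) ∣ b := by
  obtain ⟨a, rfl⟩ := Ideal.Quotient.mk_surjective a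
  obtain ⟨b, rfl⟩ := Ideal.Quotient.mk_surjective b
  rw [← map_mul, mk_X_dvd_iff hij] at h
  rw [mk_X_dvd_iff hij, mk_X_dvd_iff hij]
  exact coeff_dvd_mul π i hπ a b h

theorem mk_X_mul_eq_zero [IsDomain B] (hπ : π ≠ 0) (hij : i ≠ j)
    (a : MvPowerSeries ι B ⧸ Ideal.span {(X i * X j - C π : MvPowerSeries ι B)})
    (h : Ideal.Quotient.mk _ (X i) * a = 0) : a = 0 := by
  obtain ⟨a, rfl⟩ := Ideal.Quotient.mk_surjective a
  rw [← map_mul, Ideal.Quotient.eq_zero_iff_mem, Ideal.mem_span_singleton'] at h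
  obtain ⟨b, hb⟩ := h
  -- `b (X i X j - π) = X i a`
  have hdvd : (X i : MvPowerSeries ι B) ∣ b := by
    rw [X_dvd_iff]
    intro m hm
    have h1 : coeff m (C π * b) = 0 := by
      have h2 : C π * b = X i * (X j * b - a) := by linear_combination -hb
      rw [h2]
      exact X_dvd_iff.mp (dvd_mul_right _ _) m hm
    rw [coeff_C_mul] at h1
    exact (mul_eq_zero.mp h1).resolve_left hπ
  obtain ⟨b', rfl⟩ := hdvd
  have h3 : (X i : MvPowerSeries ι B) * (a - b' * (X i * X j - C π)) = 0 := by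
    linear_combination -hb
  have hX : (X i : MvPowerSeries ι B) ≠ 0 := by
    intro h0
    have := coeff_index_single_self_X (R := B) i
    rw [h0] at this
    simp at this
  have h4 := (mul_eq_zero.mp h3).resolve_left hX
  rw [Ideal.Quotient.eq_zero_iff_mem, Ideal.mem_span_singleton']
  exact ⟨b', by linear_combination -h4⟩

theorem not_mk_X_dvd (hπ : ¬ IsUnit π) (hij : i ≠ j) :
    ¬ Ideal.Quotient.mk (Ideal.span {(X i * X j - C π : MvPowerSeries ι B)}) (X i) ∣
      Ideal.Quotient.mk _ (X j) := by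
  classical
  rw [mk_X_dvd_iff hij]
  intro H
  have := H (Finsupp.single j 1) (by simp [Finsupp.single_apply, hij.symm])
  rw [coeff_index_single_self_X] at this
  exact hπ (isUnit_of_dvd_one this)

end PowerSeries

end Groth.Agent.Lib.helper11.NodeAlgPrime
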