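import Mathlib
import Groth.Prelude.Def_W4c2arithlefschetzNode
import Groth.Agent.Lib.helper11.NodeAlgPrime

/-!
# Fixed-point ideals of automorphisms of `B[[t, e]]/(te - π)` (helper11)
-/

set_option autoImplicit false

namespace Groth.Agent.Lib.helper11.NodeAlgFix

open MvPowerSeries ArLef

universe u

variable {B : Type u} [CommRing B]

/-- a power series in two variables without constant term lies in `(X 0, X 1)`. -/
theorem exists_eq_X_mul_add (ψ : MvPowerSeries (Fin 2) B) (h0 : coeff 0 ψ = 0) :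
    ∃ φ₁ φ₂ : MvPowerSeries (Fin 2) B, ψ = X 0 * φ₁ + X 1 * φ₂ := by
  classical
  let ψ₂ : MvPowerSeries (Fin 2) B := fun m => if m 0 = 0 then coeff m ψ else 0
  have hψ₂ : ∀ m, coeff m ψ₂ = if m 0 = 0 then coeff m ψ else 0 := fun m => coeff_apply ψ₂ m
  have h1 : (X 0 : MvPowerSeries (Fin 2) B) ∣ ψ - ψ₂ := by
    rw [X_dvd_iff]
    intro m hm
    rw [map_sub, hψ₂, if_pos hm, sub_self]
  have h2 : (X 1 : MvPowerSeries (Fin 2) B) ∣ ψ₂ := by
    rw [X_dvd_iff]
    intro m hm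
    rw [hψ₂]
    split_ifs with h
    · have : m = 0 := by
        ext i
        fin_cases i
        · exact h
        · exact hm
      rw [this, h0]
    · rfl
  obtain ⟨φ₁, hφ₁⟩ := h1
  obtain ⟨φ₂, hφ₂⟩ := h2
  exact ⟨φ₁, φ₂, by rw [← hφ₁, ← hφ₂]; ring⟩

variable (π : B)

/-- decomposition of elements of the node algebra. -/
theorem exists_decomp (r : NodeAlg B π) :
    ∃ (b : B) (r₁ r₂ : NodeAlg B π),
      r = algebraMap B (NodeAlg B π) b + NodeAlg.t π * r₁ + NodeAlg.e π * r₂ := by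
  obtain ⟨φ, rfl⟩ := Ideal.Quotient.mk_surjective r
  obtain ⟨φ₁, φ₂, h⟩ := exists_eq_X_mul_add (φ - C (coeff 0 φ)) (by
    rw [map_sub]
    simp)
  refine ⟨coeff 0 φ, Ideal.Quotient.mk _ φ₁, Ideal.Quotient.mk _ φ₂, ?_⟩
  have : φ = C (coeff 0 φ) + X 0 * φ₁ + X 1 * φ₂ := by linear_combination h
  conv_lhs => rw [this]
  rw [map_add, map_add, map_mul, map_mul]
  rfl

variable {π}

variable [IsDomain B] [IsLocalRing B] [IsNoetherianRing B]

theorem nontrivial_nodeAlg (hπ : ¬ IsUnit π) : Nontrivial (NodeAlg B π) := by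
  by_contra hcon
  rw [not_nontrivial_iff_subsingleton] at hcon
  have h01 : (0 : Fin 2) ≠ 1 := by decide
  apply NodeAlgPrime.not_mk_X_dvd hπ h01
  exact ⟨0, Subsingleton.elim _ _⟩

theorem isLocalRing_nodeAlg (hπ : ¬ IsUnit π) : IsLocalRing (NodeAlg B π) := by
  haveI := nontrivial_nodeAlg hπ
  exact IsLocalRing.of_surjective' (Ideal.Quotient.mk _) Ideal.Quotient.mk_surjective

theorem t_not_isUnit (hπ : ¬ IsUnit π) : ¬ IsUnit (NodeAlg.t π) := by
  intro h
  have h01 : (0 : Fin 2) ≠ 1 := by decide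
  exact NodeAlgPrime.not_mk_X_dvd hπ h01 h.dvd

theorem e_not_isUnit (hπ : ¬ IsUnit π) : ¬ IsUnit (NodeAlg.e π) := by
  intro h
  have h10 : (1 : Fin 2) ≠ 0 := by decide
  have := NodeAlgPrime.not_mk_X_dvd (B := B) (ι := Fin 2) (i := 1) (j := 0) hπ h10
  rw [mul_comm] at this
  exact this h.dvd

/-- the fixed-point ideal of a `B`-algebra automorphism of the node algebra is generated by
`σ t - t` and `σ e - e`. -/
theorem fixIdeal_eq (hπ : ¬ IsUnit π) (σ : NodeAlg B π ≃ₐ[B] NodeAlg B π) :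
    fixIdeal σ = Ideal.span {σ (NodeAlg.t π) - NodeAlg.t π, σ (NodeAlg.e π) - NodeAlg.e π} := by
  haveI := isLocalRing_nodeAlg hπ
  apply le_antisymm
  · set F := fixIdeal σ with hF
    set G : Ideal (NodeAlg B π) :=
      Ideal.span {σ (NodeAlg.t π) - NodeAlg.t π, σ (NodeAlg.e π) - NodeAlg.e π} with hG
    have hFG : (F : Submodule (NodeAlg B π) (NodeAlg B π)).FG := IsNoetherian.noetherian F
    have hm : Ideal.span ({NodeAlg.t π, NodeAlg.e π} : Set (NodeAlg B π)) ≤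
        Ideal.jacobson ⊥ := by
      rw [IsLocalRing.jacobson_eq_maximalIdeal ⊥ bot_ne_top, Ideal.span_le]
      rintro x (rfl | rfl)
      · exact t_not_isUnit hπ
      · exact e_not_isUnit hπ
    refine Submodule.le_of_le_smul_of_le_jacobson_bot hFG hm ?_
    rw [hF, fixIdeal, Ideal.span_le]
    rintro _ ⟨r, rfl⟩
    obtain ⟨b, r₁, r₂, rfl⟩ := exists_decomp π r
    have hrw : σ (algebraMap B (NodeAlg B π) b + NodeAlg.t π * r₁ + NodeAlg.e π * r₂) -
        (algebraMap B (NodeAlg B π) b + NodeAlg.t π * r₁ + NodeAlg.e π * r₂) =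
        ((σ (NodeAlg.t π) - NodeAlg.t π) * σ r₁ + (σ (NodeAlg.e π) - NodeAlg.e π) * σ r₂) +
          (NodeAlg.t π * (σ r₁ - r₁) + NodeAlg.e π * (σ r₂ - r₂)) := by
      rw [map_add, map_add, map_mul, map_mul, σ.commutes]
      ring
    show σ _ - _ ∈ _
    rw [hrw]
    apply Submodule.add_mem_sup
    · apply Ideal.add_mem
      · exact Ideal.mul_mem_right _ _ (Ideal.subset_span (Set.mem_insert _ _))
      · exact Ideal.mul_mem_right _ _ (Ideal.subset_span (Set.mem_insert_of_mem _ rfl))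
    · apply Submodule.add_mem
      · exact Submodule.smul_mem_smul (Ideal.subset_span (Set.mem_insert _ _))
          (Ideal.subset_span ⟨r₁, rfl⟩)
      · exact Submodule.smul_mem_smul (Ideal.subset_span (Set.mem_insert_of_mem _ rfl))
          (Ideal.subset_span ⟨r₂, rfl⟩)
  · rw [Ideal.span_le]
    rintro x (rfl | rfl)
    · exact Ideal.subset_span ⟨NodeAlg.t π, rfl⟩
    · exact Ideal.subset_span ⟨NodeAlg.e π, rfl⟩

omit [IsLocalRing B] [IsNoetherianRing B] in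
theorem t_mul_eq_zero (hπ : π ≠ 0) (a : NodeAlg B π) (h : NodeAlg.t π * a = 0) : a = 0 :=
  NodeAlgPrime.mk_X_mul_eq_zero hπ (by decide : (0 : Fin 2) ≠ 1) a h

omit [IsLocalRing B] [IsNoetherianRing B] in
theorem e_mul_eq_zero (hπ : π ≠ 0) (a : NodeAlg B π) (h : NodeAlg.e π * a = 0) : a = 0 := by
  have := NodeAlgPrime.mk_X_mul_eq_zero (B := B) (ι := Fin 2) (i := 1) (j := 0) hπ (by decide)
  rw [mul_comm] at this
  exact this a h

omit [IsLocalRing B] [IsNoetherianRing B] in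
theorem t_dvd_mul (hπ : Prime π) (a b : NodeAlg B π) (h : NodeAlg.t π ∣ a * b) :
    NodeAlg.t π ∣ a ∨ NodeAlg.t π ∣ b :=
  NodeAlgPrime.mk_X_dvd_mul hπ (by decide : (0 : Fin 2) ≠ 1) a b h

omit [IsLocalRing B] [IsNoetherianRing B] in
theorem e_dvd_mul (hπ : Prime π) (a b : NodeAlg B π) (h : NodeAlg.e π ∣ a * b) :
    NodeAlg.e π ∣ a ∨ NodeAlg.e π ∣ b := by
  have := NodeAlgPrime.mk_X_dvd_mul (B := B) (ι := Fin 2) (i := 1) (j := 0) hπ (by decide)
  rw [mul_comm] at this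
  exact this a b h

omit [IsDomain B] [IsLocalRing B] [IsNoetherianRing B] in
theorem not_t_dvd_e (hπ : ¬ IsUnit π) : ¬ NodeAlg.t π ∣ NodeAlg.e π :=
  NodeAlgPrime.not_mk_X_dvd hπ (by decide : (0 : Fin 2) ≠ 1)

omit [IsDomain B] [IsLocalRing B] [IsNoetherianRing B] in
theorem not_e_dvd_t (hπ : ¬ IsUnit π) : ¬ NodeAlg.e π ∣ NodeAlg.t π := by
  have := NodeAlgPrime.not_mk_X_dvd (B := B) (ι := Fin 2) (i := 1) (j := 0) hπ (by decide)
  rw [mul_comm] at this
  exact this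

omit [IsDomain B] [IsLocalRing B] [IsNoetherianRing B] in
theorem t_mul_e : NodeAlg.t π * NodeAlg.e π = algebraMap B (NodeAlg B π) π := by
  show Ideal.Quotient.mk _ (MvPowerSeries.X 0) * Ideal.Quotient.mk _ (MvPowerSeries.X 1) =
    Ideal.Quotient.mk _ (MvPowerSeries.C π)
  rw [← map_mul, Ideal.Quotient.eq]
  exact Ideal.subset_span rfl

omit [IsLocalRing B] [IsNoetherianRing B] in
/-- if `σ t = a t'`, `σ e = b e'` where `t' e' = t e`, then `a b = 1`. -/
theorem mul_eq_one_of_commutes (hπ : π ≠ 0) (σ : NodeAlg B π ≃ₐ[B] NodeAlg B π)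
    (a b : NodeAlg B π)
    (h : σ (NodeAlg.t π) * σ (NodeAlg.e π) = a * b * (NodeAlg.t π * NodeAlg.e π)) :
    a * b = 1 := by
  have h1 : σ (NodeAlg.t π) * σ (NodeAlg.e π) = NodeAlg.t π * NodeAlg.e π := by
    rw [← map_mul, t_mul_e, σ.commutes]
  rw [h1] at h
  have h2 : NodeAlg.t π * (NodeAlg.e π * (a * b - 1)) = 0 := by linear_combination -h
  have h3 := e_mul_eq_zero hπ _ (t_mul_eq_zero hπ _ h2)
  linear_combination h3

end Groth.Agent.Lib.helper11.NodeAlgFix
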