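import Mathlib
import Groth.Agent.Lib.helper11.NodeAlgFix
import Groth.Agent.Lib.helper11.LengthMulAdd

/-!
# Fixed-point ideals of ring automorphisms of `B[[t, e]]/(te - π)`, lengths (helper11)
-/

set_option autoImplicit false

namespace Groth.Agent.Lib.helper11.NodeAlgFix2

open MvPowerSeries ArLef

universe u

section General

variable {A : Type u} [CommRing A]

/-- `length A/(e^n, h) = n * length A/(e, h)` if `e` is regular modulo `h`. -/
theorem length_pow (e h : A) (hreg : ∀ a : A, h ∣ e * a → h ∣ a) (n : ℕ) :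
    Module.length A (A ⧸ Ideal.span ({e ^ n, h} : Set A)) =
      n * Module.length A (A ⧸ Ideal.span ({e, h} : Set A)) := by
  induction n with
  | zero =>
    have : Ideal.span ({e ^ 0, h} : Set A) = ⊤ := by
      rw [Ideal.eq_top_iff_one]
      exact Ideal.subset_span (by simp)
    rw [this]
    simp only [Nat.cast_zero, zero_mul]
    rw [Module.length_eq_zero_iff]
    exact Submodule.Quotient.subsingleton_iff.mpr (by simp)
  | succ n ih =>
    rw [pow_succ', LengthMulAdd.length_mul_add e h (e ^ n) hreg, ih]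
    push_cast
    ring

end General

variable {B : Type u} [CommRing B] {π : B}
variable [IsDomain B] [IsLocalRing B] [IsNoetherianRing B]

/-- the maximal ideal of the node algebra is `(t, e)`. -/
theorem maximalIdeal_eq (hπ : Prime π) (hmax : IsLocalRing.maximalIdeal B = Ideal.span {π}) :
    haveI := NodeAlgFix.isLocalRing_nodeAlg (B := B) hπ.not_unit
    IsLocalRing.maximalIdeal (NodeAlg B π) =
      Ideal.span ({NodeAlg.t π, NodeAlg.e π} : Set (NodeAlg B π)) := by
  haveI := NodeAlgFix.isLocalRing_nodeAlg (B := B) hπ.not_unit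
  apply le_antisymm
  · intro r hr
    obtain ⟨b, r₁, r₂, rfl⟩ := NodeAlgFix.exists_decomp π r
    have hm : NodeAlg.t π * r₁ + NodeAlg.e π * r₂ ∈
        Ideal.span ({NodeAlg.t π, NodeAlg.e π} : Set (NodeAlg B π)) :=
      Ideal.add_mem _ (Ideal.mul_mem_right _ _ (Ideal.subset_span (Set.mem_insert _ _)))
        (Ideal.mul_mem_right _ _ (Ideal.subset_span (Set.mem_insert_of_mem _ rfl)))
    have hm' : NodeAlg.t π * r₁ + NodeAlg.e π * r₂ ∈ IsLocalRing.maximalIdeal (NodeAlg B π) := by
      apply Ideal.add_mem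
      · exact Ideal.mul_mem_right _ _ (NodeAlgFix.t_not_isUnit hπ.not_unit)
      · exact Ideal.mul_mem_right _ _ (NodeAlgFix.e_not_isUnit hπ.not_unit)
    have hb : algebraMap B (NodeAlg B π) b ∈ IsLocalRing.maximalIdeal (NodeAlg B π) := by
      have := Ideal.sub_mem _ hr hm'
      convert this using 1
      ring
    have hb' : b ∈ IsLocalRing.maximalIdeal B := by
      by_contra hcon
      have : IsUnit b := by
        rwa [IsLocalRing.mem_maximalIdeal, mem_nonunits_iff, not_not] at hcon
      exact hb (this.map (algebraMap B (NodeAlg B π)))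
    rw [hmax, Ideal.mem_span_singleton] at hb'
    obtain ⟨c, rfl⟩ := hb'
    rw [add_assoc]
    refine Ideal.add_mem _ ?_ hm
    rw [map_mul, ← NodeAlgFix.t_mul_e, mul_assoc]
    exact Ideal.mul_mem_right _ _ (Ideal.subset_span (Set.mem_insert _ _))
  · rw [Ideal.span_le]
    rintro x (rfl | rfl)
    · exact NodeAlgFix.t_not_isUnit hπ.not_unit
    · exact NodeAlgFix.e_not_isUnit hπ.not_unit

theorem length_quot_span_t_e (hπ : Prime π)
    (hmax : IsLocalRing.maximalIdeal B = Ideal.span {π}) :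
    Module.length (NodeAlg B π)
      (NodeAlg B π ⧸ Ideal.span ({NodeAlg.t π, NodeAlg.e π} : Set (NodeAlg B π))) = 1 := by
  haveI := NodeAlgFix.isLocalRing_nodeAlg (B := B) hπ.not_unit
  rw [← maximalIdeal_eq hπ hmax]
  rw [Module.length_eq_one_iff]
  exact isSimpleModule_iff_quot_maximal.mpr
    ⟨IsLocalRing.maximalIdeal _, inferInstance, ⟨LinearEquiv.refl _ _⟩⟩

/-- the fixed-point ideal of a ring automorphism moving `B` by `π^j`. -/
theorem fixIdeal_eq_ring (hπ : ¬ IsUnit π) (j : ℕ) (γ : B) (hγ : IsUnit γ)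
    (σ : NodeAlg B π ≃+* NodeAlg B π)
    (hσB : ∀ b : B, σ (algebraMap B (NodeAlg B π) b) - algebraMap B (NodeAlg B π) b ∈
      Ideal.span ({algebraMap B (NodeAlg B π) (π ^ j)} : Set (NodeAlg B π)))
    (hσπ : σ (algebraMap B (NodeAlg B π) π) = algebraMap B (NodeAlg B π) (π + γ * π ^ j)) :
    fixIdeal σ = Ideal.span {σ (NodeAlg.t π) - NodeAlg.t π, σ (NodeAlg.e π) - NodeAlg.e π,
      algebraMap B (NodeAlg B π) (π ^ j)} := by
  haveI := NodeAlgFix.isLocalRing_nodeAlg hπ
  apply le_antisymm
  · set F := fixIdeal σ with hF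
    set G : Ideal (NodeAlg B π) :=
      Ideal.span {σ (NodeAlg.t π) - NodeAlg.t π, σ (NodeAlg.e π) - NodeAlg.e π,
        algebraMap B (NodeAlg B π) (π ^ j)} with hG
    have hFG : (F : Submodule (NodeAlg B π) (NodeAlg B π)).FG := IsNoetherian.noetherian F
    have hm : Ideal.span ({NodeAlg.t π, NodeAlg.e π} : Set (NodeAlg B π)) ≤
        Ideal.jacobson ⊥ := by
      rw [IsLocalRing.jacobson_eq_maximalIdeal ⊥ bot_ne_top, Ideal.span_le]
      rintro x (rfl | rfl)
      · exact NodeAlgFix.t_not_isUnit hπ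
      · exact NodeAlgFix.e_not_isUnit hπ
    refine Submodule.le_of_le_smul_of_le_jacobson_bot hFG hm ?_
    rw [hF, fixIdeal, Ideal.span_le]
    rintro _ ⟨r, rfl⟩
    obtain ⟨b, r₁, r₂, rfl⟩ := NodeAlgFix.exists_decomp π r
    have hrw : σ (algebraMap B (NodeAlg B π) b + NodeAlg.t π * r₁ + NodeAlg.e π * r₂) -
        (algebraMap B (NodeAlg B π) b + NodeAlg.t π * r₁ + NodeAlg.e π * r₂) =
        ((σ (algebraMap B (NodeAlg B π) b) - algebraMap B (NodeAlg B π) b) +
          (σ (NodeAlg.t π) - NodeAlg.t π) * σ r₁ + (σ (NodeAlg.e π) - NodeAlg.e π) * σ r₂) +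
          (NodeAlg.t π * (σ r₁ - r₁) + NodeAlg.e π * (σ r₂ - r₂)) := by
      rw [map_add, map_add, map_mul, map_mul]
      ring
    show σ _ - _ ∈ _
    rw [hrw]
    apply Submodule.add_mem_sup
    · apply Ideal.add_mem
      · apply Ideal.add_mem
        · have hle : Ideal.span ({algebraMap B (NodeAlg B π) (π ^ j)} : Set (NodeAlg B π)) ≤ G := by
            rw [Ideal.span_le, Set.singleton_subset_iff]
            exact Ideal.subset_span (by simp)
          exact hle (hσB b)
        · exact Ideal.mul_mem_right _ _ (Ideal.subset_span (by simp))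
      · exact Ideal.mul_mem_right _ _ (Ideal.subset_span (by simp))
    · apply Submodule.add_mem
      · exact Submodule.smul_mem_smul (Ideal.subset_span (Set.mem_insert _ _))
          (Ideal.subset_span ⟨r₁, rfl⟩)
      · exact Submodule.smul_mem_smul (Ideal.subset_span (Set.mem_insert_of_mem _ rfl))
          (Ideal.subset_span ⟨r₂, rfl⟩)
  · rw [Ideal.span_le]
    rintro x (rfl | rfl | rfl)
    · exact Ideal.subset_span ⟨NodeAlg.t π, rfl⟩
    · exact Ideal.subset_span ⟨NodeAlg.e π, rfl⟩
    · -- `σ π - π = γ π^j`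
      have h1 : σ (algebraMap B (NodeAlg B π) π) - algebraMap B (NodeAlg B π) π ∈ fixIdeal σ :=
        Ideal.subset_span ⟨_, rfl⟩
      rw [hσπ, map_add, add_sub_cancel_left, map_mul] at h1
      obtain ⟨γ', hγ'⟩ := hγ.exists_left_inv
      have h2 := Ideal.mul_mem_left (fixIdeal σ) (algebraMap B (NodeAlg B π) γ') h1
      rw [← mul_assoc, ← map_mul, hγ', map_one, one_mul] at h2
      exact h2

omit [IsLocalRing B] [IsNoetherianRing B] in
/-- a divisor of `t^a e^b` is a unit or divisible by `t` or `e`. -/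
theorem isUnit_or_dvd_of_dvd_pow_mul_pow (hπ : Prime π) (g : NodeAlg B π) (a b : ℕ)
    (h : g ∣ NodeAlg.t π ^ a * NodeAlg.e π ^ b) :
    IsUnit g ∨ NodeAlg.t π ∣ g ∨ NodeAlg.e π ∣ g := by
  induction a generalizing b with
  | zero =>
    induction b with
    | zero =>
      left
      rw [pow_zero, pow_zero, one_mul] at h
      exact isUnit_of_dvd_one h
    | succ b ih =>
      obtain ⟨c, hc⟩ := h
      rw [pow_zero, one_mul] at hc
      have h1 : NodeAlg.e π ∣ g * c := ⟨NodeAlg.e π ^ b, by rw [← hc, pow_succ']⟩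
      rcases NodeAlgFix.e_dvd_mul hπ _ _ h1 with h2 | ⟨c', rfl⟩
      · exact Or.inr (Or.inr h2)
      · apply ih
        rw [pow_zero, one_mul]
        refine ⟨c', ?_⟩
        have : NodeAlg.e π * (NodeAlg.e π ^ b - g * c') = 0 := by
          rw [pow_succ'] at hc
          linear_combination hc
        have := NodeAlgFix.e_mul_eq_zero hπ.ne_zero _ this
        linear_combination this
  | succ a ih =>
    obtain ⟨c, hc⟩ := h
    have h1 : NodeAlg.t π ∣ g * c :=
      ⟨NodeAlg.t π ^ a * NodeAlg.e π ^ b, by rw [← hc, pow_succ']; ring⟩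
    rcases NodeAlgFix.t_dvd_mul hπ _ _ h1 with h2 | ⟨c', rfl⟩
    · exact Or.inr (Or.inl h2)
    · apply ih b
      refine ⟨c', ?_⟩
      have : NodeAlg.t π * (NodeAlg.t π ^ a * NodeAlg.e π ^ b - g * c') = 0 := by
        rw [pow_succ'] at hc
        linear_combination hc
      have := NodeAlgFix.t_mul_eq_zero hπ.ne_zero _ this
      linear_combination this

end Groth.Agent.Lib.helper11.NodeAlgFix2
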