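import Mathlib
import Groth.Agent.Lib.helper11.ExtExactPair
import Groth.Agent.Lib.helper11.NodeAlgFix

/-!
# `Ext^1` between the branches of a node (helper11)
-/

set_option autoImplicit false

namespace Groth.Agent.Lib.helper11.NodeExt

open CategoryTheory Abelian MvPowerSeries

universe u

section Compat

variable {k : Type u} [Field k] {A : Type u} [CommRing A] [Algebra k A]

theorem algebraMap_smul_ext {X Y : ModuleCat.{u} A} {n : ℕ} (c : k) (e : Ext X Y n) :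
    (algebraMap k A c) • e = c • e := by
  rw [Ext.smul_eq_comp_mk₀, Ext.smul_eq_comp_mk₀]
  congr 2

end Compat

section Node

variable (k : Type u) [Field k]

local notation "P" => MvPowerSeries (Fin 2) k
local notation "I₀" => Ideal.span {(X (0 : Fin 2) : MvPowerSeries (Fin 2) k) * X (1 : Fin 2)}

theorem hab : (Ideal.Quotient.mk I₀ (X 0)) * (Ideal.Quotient.mk I₀ (X 1)) = 0 := by
  rw [← map_mul, Ideal.Quotient.eq_zero_iff_mem]
  exact Ideal.subset_span rfl

theorem hann (s : P ⧸ I₀) (hs : s * (Ideal.Quotient.mk I₀ (X 1)) = 0) :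
    s ∈ Ideal.span {Ideal.Quotient.mk I₀ (X 0)} := by
  obtain ⟨φ, rfl⟩ := Ideal.Quotient.mk_surjective s
  rw [← map_mul, Ideal.Quotient.eq_zero_iff_mem] at hs
  obtain ⟨ψ, hψ⟩ := Ideal.mem_span_singleton'.mp hs
  have h1 : (φ - ψ * X 0) * X (1 : Fin 2) = 0 := by linear_combination -hψ
  have hX1 : (X (1 : Fin 2) : P) ≠ 0 := by
    intro h
    have h' := congrArg (coeff (Finsupp.single (1 : Fin 2) 1)) h
    rw [coeff_index_single_self_X, map_zero] at h'
    exact one_ne_zero h'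
  have h2 : φ = ψ * X 0 := by
    rcases mul_eq_zero.mp h1 with h | h
    · exact sub_eq_zero.mp h
    · exact absurd h hX1
  rw [h2, map_mul]
  exact Ideal.mul_mem_left _ _ (Ideal.mem_span_singleton_self _)

theorem finrank_ext :
    Module.finrank k (Ext
      (ModuleCat.of (P ⧸ I₀) ((P ⧸ I₀) ⧸ Ideal.span {Ideal.Quotient.mk I₀ (X 1)}))
      (ModuleCat.of (P ⧸ I₀) ((P ⧸ I₀) ⧸ Ideal.span {Ideal.Quotient.mk I₀ (X 0)})) 1) = 1 := by
  set Φ := ExtExactPair.Φ (Ideal.Quotient.mk I₀ (X 0)) (Ideal.Quotient.mk I₀ (X 1)) (hab k)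
    (hann k) with hΦ
  have hsurj := ExtExactPair.Φ_surjective (Ideal.Quotient.mk I₀ (X 0))
    (Ideal.Quotient.mk I₀ (X 1)) (hab k) (hann k)
  have hker := ExtExactPair.ker_Φ (Ideal.Quotient.mk I₀ (X 0))
    (Ideal.Quotient.mk I₀ (X 1)) (hab k) (hann k)
  have hmem : ∀ t : P ⧸ I₀, Φ t = 0 ↔
      t ∈ Ideal.span {Ideal.Quotient.mk I₀ (X 0)} ⊔ Ideal.span {Ideal.Quotient.mk I₀ (X 1)} := by
    intro t
    rw [← hker, LinearMap.mem_ker]
  have hnz : Φ 1 ≠ 0 := by
    intro h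
    rw [hmem] at h
    obtain ⟨z, hz, w, hw, hzw⟩ := Submodule.mem_sup.mp h
    obtain ⟨u, rfl⟩ := Ideal.mem_span_singleton'.mp hz
    obtain ⟨r, rfl⟩ := Ideal.mem_span_singleton'.mp hw
    obtain ⟨u', rfl⟩ := Ideal.Quotient.mk_surjective u
    obtain ⟨r', rfl⟩ := Ideal.Quotient.mk_surjective r
    rw [← map_mul, ← map_mul, ← map_add, ← map_one (Ideal.Quotient.mk I₀), Ideal.Quotient.eq] at hzw
    obtain ⟨v, hv⟩ := Ideal.mem_span_singleton'.mp hzw
    have h1 := congrArg (constantCoeff (σ := Fin 2) (R := k)) hv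
    simp at h1
  rw [finrank_eq_one_iff_of_nonzero' (Φ 1) hnz]
  intro w
  obtain ⟨t, rfl⟩ := hsurj w
  obtain ⟨φ, rfl⟩ := Ideal.Quotient.mk_surjective t
  obtain ⟨φ₁, φ₂, h⟩ := NodeAlgFix.exists_eq_X_mul_add (φ - C (coeff 0 φ)) (by
    rw [map_sub]
    simp)
  refine ⟨coeff 0 φ, ?_⟩
  have hdec : φ = C (coeff 0 φ) + X 0 * φ₁ + X 1 * φ₂ := by linear_combination h
  have h0 : Φ (Ideal.Quotient.mk I₀ (X 0 * φ₁ + X 1 * φ₂)) = 0 := by
    rw [hmem, map_add, map_mul, map_mul]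
    exact Ideal.add_mem _
      (Ideal.mem_sup_left (Ideal.mul_mem_right _ _ (Ideal.mem_span_singleton_self _)))
      (Ideal.mem_sup_right (Ideal.mul_mem_right _ _ (Ideal.mem_span_singleton_self _)))
  have h1 : Ideal.Quotient.mk I₀ φ = algebraMap k (P ⧸ I₀) (coeff 0 φ) • 1 +
      Ideal.Quotient.mk I₀ (X 0 * φ₁ + X 1 * φ₂) := by
    conv_lhs => rw [hdec, add_assoc, map_add]
    congr 1
    rw [smul_eq_mul, mul_one]
    rfl
  rw [h1, map_add, h0, add_zero, map_smul, algebraMap_smul_ext]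

end Node

end Groth.Agent.Lib.helper11.NodeExt
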