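import Mathlib
import Groth.Agent.Lib.helper11.LengthMulAdd
import Groth.Agent.Lib.helper11.NodeAlgFix2

/-!
# Length computations with two "prime-like" elements `t`, `e` (helper11)
-/

set_option autoImplicit false

namespace Groth.Agent.Lib.helper11.NodeLen

universe u

variable {A : Type u} [CommRing A]

/-- `p` divides a product only if it divides a factor, and is a nonzerodivisor. -/
structure PrimeLike (p : A) : Prop where
  dvd_mul : ∀ x y : A, p ∣ x * y → p ∣ x ∨ p ∣ y
  reg : ∀ x : A, p * x = 0 → x = 0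

theorem PrimeLike.cancel {p : A} (hp : PrimeLike p) {x y : A} (h : p * x = p * y) : x = y := by
  have := hp.reg (x - y) (by linear_combination h)
  linear_combination this

/-- if `p ∤ g` then `p` is regular modulo `g`. -/
theorem PrimeLike.reg_mod {p : A} (hp : PrimeLike p) {g : A} (hg : ¬ p ∣ g) (x : A)
    (h : g ∣ p * x) : g ∣ x := by
  obtain ⟨y, hy⟩ := h
  have h1 : p ∣ g * y := ⟨x, hy.symm⟩
  obtain ⟨y', rfl⟩ := (hp.dvd_mul _ _ h1).resolve_left hg
  exact ⟨y', hp.cancel (by rw [hy]; ring)⟩

theorem reg_pow {p g : A} (h : ∀ x : A, g ∣ p * x → g ∣ x) (n : ℕ) (x : A)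
    (hx : g ∣ p ^ n * x) : g ∣ x := by
  induction n with
  | zero => simpa using hx
  | succ n ih =>
    apply ih
    apply h
    rw [← mul_assoc, ← pow_succ']
    exact hx

theorem mem_span_triple {p q r x : A} :
    x ∈ Ideal.span ({p, q, r} : Set A) ↔ ∃ u v w : A, u * p + v * q + w * r = x := by
  rw [Ideal.mem_span_insert]
  constructor
  · rintro ⟨u, z, hz, rfl⟩
    obtain ⟨v, w, rfl⟩ := Ideal.mem_span_pair.mp hz
    exact ⟨u, v, w, by ring⟩
  · rintro ⟨u, v, w, rfl⟩
    exact ⟨u, v * q + w * r, Ideal.mem_span_pair.mpr ⟨v, w, rfl⟩, by ring⟩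

/-- `length A/I = length A/(I + (t)) + length A/(I : t)`. -/
theorem length_eq_sup_add_colon (I : Ideal A) (t : A) :
    Module.length A (A ⧸ I) =
      Module.length A (A ⧸ (I ⊔ Ideal.span {t})) + Module.length A (A ⧸ I.colon {t}) := by
  have hle1 : I.colon {t} ≤ Submodule.comap (LinearMap.mulLeft A t) I := by
    intro x hx
    rw [Submodule.mem_colon_singleton] at hx
    show t * x ∈ I
    rw [mul_comm]
    exact hx
  have hle2 : I ≤ Submodule.comap (LinearMap.id : A →ₗ[A] A) (I ⊔ Ideal.span {t}) :=
    fun x hx => Ideal.mem_sup_left hx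
  let ι : (A ⧸ I.colon {t}) →ₗ[A] (A ⧸ I) := Submodule.mapQ _ _ (LinearMap.mulLeft A t) hle1
  let π : (A ⧸ I) →ₗ[A] (A ⧸ (I ⊔ Ideal.span {t})) := Submodule.mapQ _ _ LinearMap.id hle2
  have hι : ∀ a : A, ι (Submodule.Quotient.mk a) = Submodule.Quotient.mk (t * a) := fun a => rfl
  have hπ : ∀ a : A, π (Submodule.Quotient.mk a) = Submodule.Quotient.mk a := fun a => rfl
  have hinj : Function.Injective ι := by
    rw [← LinearMap.ker_eq_bot, LinearMap.ker_eq_bot']
    intro x hx
    obtain ⟨a, rfl⟩ := Submodule.Quotient.mk_surjective _ x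
    rw [hι, Submodule.Quotient.mk_eq_zero] at hx
    rw [Submodule.Quotient.mk_eq_zero, Submodule.mem_colon_singleton]
    show a * t ∈ I
    rw [mul_comm]
    exact hx
  have hsurj : Function.Surjective π := by
    intro y
    obtain ⟨a, rfl⟩ := Submodule.Quotient.mk_surjective _ y
    exact ⟨Submodule.Quotient.mk a, hπ a⟩
  have hexact : Function.Exact ι π := by
    intro y
    obtain ⟨a, rfl⟩ := Submodule.Quotient.mk_surjective _ y
    rw [hπ, Submodule.Quotient.mk_eq_zero]
    constructor
    · intro ha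
      obtain ⟨i, hi, z, hz, rfl⟩ := Submodule.mem_sup.mp ha
      obtain ⟨c, rfl⟩ := Ideal.mem_span_singleton'.mp hz
      refine ⟨Submodule.Quotient.mk c, ?_⟩
      rw [hι, Submodule.Quotient.eq]
      have : t * c - (i + c * t) = -i := by ring
      rw [this]
      exact I.neg_mem hi
    · rintro ⟨x, hx⟩
      obtain ⟨b, rfl⟩ := Submodule.Quotient.mk_surjective _ x
      rw [hι, Submodule.Quotient.eq] at hx
      have : a = -(t * b - a) + b * t := by ring
      rw [this]
      exact Ideal.add_mem _ (Ideal.mem_sup_left (I.neg_mem hx))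
        (Ideal.mem_sup_right (Ideal.mul_mem_left _ _ (Ideal.subset_span rfl)))
  rw [Module.length_eq_add_of_exact ι π hinj hsurj hexact, add_comm]

/-- colon of `D · (x, y, z)` by a nonzerodivisor `D`. -/
theorem colon_span_triple {D x y z : A} (hD : ∀ w : A, D * w = 0 → w = 0) :
    (Ideal.span ({D * x, D * y, D * z} : Set A)).colon {D} = Ideal.span ({x, y, z} : Set A) := by
  ext w
  rw [Submodule.mem_colon_singleton, mem_span_triple, mem_span_triple]
  constructor
  · rintro ⟨u, v, s, h⟩
    refine ⟨u, v, s, ?_⟩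
    have : D * (u * x + v * y + s * z - w) = 0 := by
      rw [smul_eq_mul] at h
      linear_combination h
    have := hD _ this
    linear_combination this
  · rintro ⟨u, v, s, rfl⟩
    exact ⟨u, v, s, by rw [smul_eq_mul]; ring⟩

theorem PrimeLike.dvd_of_dvd_mul {p : A} (hp : PrimeLike p) {g : A} (hg : ¬ p ∣ g) (x : A)
    (h : p ∣ g * x) : p ∣ x :=
  (hp.dvd_mul _ _ h).resolve_left hg

theorem length_span_one_left (a : A) :
    Module.length A (A ⧸ Ideal.span ({1, a} : Set A)) = 0 := by
  have : Ideal.span ({1, a} : Set A) = ⊤ := by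
    rw [Ideal.eq_top_iff_one]
    exact Ideal.subset_span (by simp)
  rw [this, Module.length_eq_zero_iff]
  exact Submodule.Quotient.subsingleton_iff.mpr (by simp)

section Main

variable {t e : A} (ht : PrimeLike t) (he : PrimeLike e) (hte : ¬ t ∣ e)
  (hlen : Module.length A (A ⧸ Ideal.span ({t, e} : Set A)) = 1)

include ht he hte hlen in
/-- the main length computation. -/
theorem length_main (a b α γ : A) (hα : IsUnit α) (hγ : IsUnit γ) (m n : ℕ)
    (hrel : a + α * b = γ * (t ^ m * e ^ n)) (hea : ¬ e ∣ a) (htb : ¬ t ∣ b) :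
    Module.length A (A ⧸ Ideal.span ({a * t, b * e, t ^ (m + 1) * e ^ (n + 1)} : Set A)) =
      1 + ((m + 1 : ℕ) : ℕ∞) * Module.length A (A ⧸ Ideal.span ({t, b} : Set A)) +
        ((n + 1 : ℕ) : ℕ∞) * Module.length A (A ⧸ Ideal.span ({e, a} : Set A)) := by
  obtain ⟨α', hα'⟩ := hα.exists_left_inv
  obtain ⟨γ', hγ'⟩ := hγ.exists_left_inv
  set J := Ideal.span ({a * t, b * e, t ^ (m + 1) * e ^ (n + 1)} : Set A) with hJ
  have hlen' : Module.length A (A ⧸ Ideal.span ({e, t} : Set A)) = 1 := by
    rw [Set.pair_comm]; exact hlen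
  -- Step 2
  have h2 : J ⊔ Ideal.span {t} = Ideal.span ({b * e, t} : Set A) := by
    apply le_antisymm
    · rw [sup_le_iff, hJ, Ideal.span_le, Ideal.span_le]
      refine ⟨?_, ?_⟩
      · rintro x (rfl | rfl | rfl)
        · exact Ideal.mul_mem_left _ _ (Ideal.subset_span (by simp))
        · exact Ideal.subset_span (by simp)
        · have : t ^ (m + 1) * e ^ (n + 1) = (t ^ m * e ^ (n + 1)) * t := by ring
          rw [this]
          exact Ideal.mul_mem_left _ _ (Ideal.subset_span (by simp))
      · rintro x rfl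
        exact Ideal.subset_span (by simp)
    · rw [Ideal.span_le]
      rintro x (rfl | rfl)
      · exact Ideal.mem_sup_left (Ideal.subset_span (by simp))
      · exact Ideal.mem_sup_right (Ideal.subset_span rfl)
  have h2' : Module.length A (A ⧸ (J ⊔ Ideal.span {t})) =
      Module.length A (A ⧸ Ideal.span ({t, b} : Set A)) + 1 := by
    rw [h2, LengthMulAdd.length_mul_add b t e (ht.dvd_of_dvd_mul htb), hlen',
      Set.pair_comm b t]
  -- Step 3
  have h3 : J.colon {t} = Ideal.span ({e * b, a} : Set A) := by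
    ext x
    rw [Submodule.mem_colon_singleton, hJ, mem_span_triple, Ideal.mem_span_pair, smul_eq_mul]
    constructor
    · rintro ⟨u, v, w, h⟩
      have h1 : t ∣ (b * e) * v :=
        ⟨x - u * a - w * (t ^ m * e ^ (n + 1)), by rw [pow_succ'] at h; linear_combination h⟩
      have h2 : t ∣ v := by
        rcases ht.dvd_mul _ _ h1 with h3 | h3
        · rcases ht.dvd_mul _ _ h3 with h4 | h4
          · exact absurd h4 htb
          · exact absurd h4 hte
        · exact h3
      obtain ⟨v', rfl⟩ := h2
      have hx : x = u * a + v' * (b * e) + w * (t ^ m * e ^ (n + 1)) := by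
        apply ht.cancel
        rw [pow_succ'] at h
        linear_combination -h
      refine ⟨v' + w * γ' * α, u + w * e * γ', ?_⟩
      rw [hx, pow_succ]
      linear_combination (w * e * γ') * hrel + (w * e * t ^ m * e ^ n) * hγ'
    · rintro ⟨u, v, h⟩
      exact ⟨v, u * t, 0, by rw [← h]; ring⟩
  -- Step 4
  have h4 : Module.length A (A ⧸ Ideal.span ({e * b, a} : Set A)) =
      Module.length A (A ⧸ Ideal.span ({e, a} : Set A)) +
        Module.length A (A ⧸ Ideal.span ({b, a} : Set A)) :=
    LengthMulAdd.length_mul_add e a b (he.reg_mod hea)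
  -- Step 5
  have h5 : Ideal.span ({b, a} : Set A) = Ideal.span ({t ^ m * e ^ n, a} : Set A) := by
    apply le_antisymm
    · rw [Ideal.span_le]
      rintro x (rfl | rfl)
      · rw [SetLike.mem_coe, Ideal.mem_span_pair]
        exact ⟨α' * γ, -α', by linear_combination (x) * hα' - α' * hrel⟩
      · exact Ideal.subset_span (by simp)
    · rw [Ideal.span_le]
      rintro x (rfl | rfl)
      · rw [SetLike.mem_coe, Ideal.mem_span_pair]
        exact ⟨γ' * α, γ', by linear_combination γ' * hrel + (t ^ m * e ^ n) * hγ'⟩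
      · exact Ideal.subset_span (by simp)
  -- Step 6
  have hta : 1 ≤ m → ¬ t ∣ a := by
    intro hm hta
    apply htb
    have h1 : t ∣ α * b := by
      have : α * b = γ * (t ^ m * e ^ n) - a := by linear_combination hrel
      rw [this]
      apply dvd_sub _ hta
      obtain ⟨m', rfl⟩ : ∃ m', m = m' + 1 := ⟨m - 1, by omega⟩
      exact ⟨γ * (t ^ m' * e ^ n), by ring⟩
    have : b = α' * (α * b) := by linear_combination (-b) * hα'
    rw [this]
    exact Dvd.dvd.mul_left h1 _
  have h6reg : ∀ x : A, a ∣ t ^ m * x → a ∣ x := by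
    intro x hx
    by_cases hm : 1 ≤ m
    · exact reg_pow (ht.reg_mod (hta hm)) m x hx
    · have : m = 0 := by omega
      subst this
      simpa using hx
  have h6 : Module.length A (A ⧸ Ideal.span ({t ^ m * e ^ n, a} : Set A)) =
      Module.length A (A ⧸ Ideal.span ({t ^ m, a} : Set A)) +
        Module.length A (A ⧸ Ideal.span ({e ^ n, a} : Set A)) :=
    LengthMulAdd.length_mul_add (t ^ m) a (e ^ n) h6reg
  have h7 : Module.length A (A ⧸ Ideal.span ({t ^ m, a} : Set A)) =
      (m : ℕ∞) * Module.length A (A ⧸ Ideal.span ({t, b} : Set A)) := by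
    by_cases hm : 1 ≤ m
    · have hspan : Ideal.span ({t, a} : Set A) = Ideal.span ({t, b} : Set A) := by
        obtain ⟨m', rfl⟩ : ∃ m', m = m' + 1 := ⟨m - 1, by omega⟩
        apply le_antisymm
        · rw [Ideal.span_le]
          rintro x (rfl | rfl)
          · exact Ideal.subset_span (by simp)
          · rw [SetLike.mem_coe, Ideal.mem_span_pair]
            exact ⟨γ * (t ^ m' * e ^ n), -α, by linear_combination -hrel⟩
        · rw [Ideal.span_le]
          rintro x (rfl | rfl)
          · exact Ideal.subset_span (by simp)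
          · rw [SetLike.mem_coe, Ideal.mem_span_pair]
            exact ⟨α' * γ * (t ^ m' * e ^ n), -α', by linear_combination (x) * hα' - α' * hrel⟩
      rw [NodeAlgFix2.length_pow t a (ht.reg_mod (hta hm)) m, hspan]
    · have : m = 0 := by omega
      subst this
      rw [pow_zero, length_span_one_left]
      simp
  have h8 : Module.length A (A ⧸ Ideal.span ({e ^ n, a} : Set A)) =
      (n : ℕ∞) * Module.length A (A ⧸ Ideal.span ({e, a} : Set A)) :=
    NodeAlgFix2.length_pow e a (he.reg_mod hea) n
  rw [length_eq_sup_add_colon J t, h2', h3, h4, h5, h6, h7, h8]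
  push_cast
  ring

end Main

end Groth.Agent.Lib.helper11.NodeLen
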