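import Mathlib
import Groth.Agent.Lib.helper11.NodeLen

/-!
# Node algebra: branch-stabilizing ring automorphisms (helper11)
-/

set_option autoImplicit false

namespace Groth.Agent.Lib.helper11.NodeLen2

open MvPowerSeries ArLef NodeLen

universe u

variable {B : Type u} [CommRing B] {π : B} [IsDomain B]

theorem primeLike_t (hπ : Prime π) : PrimeLike (NodeAlg.t π) :=
  ⟨NodeAlgFix.t_dvd_mul hπ, NodeAlgFix.t_mul_eq_zero hπ.ne_zero⟩

theorem primeLike_e (hπ : Prime π) : PrimeLike (NodeAlg.e π) :=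
  ⟨NodeAlgFix.e_dvd_mul hπ, NodeAlgFix.e_mul_eq_zero hπ.ne_zero⟩

theorem primeLike_pow_mul_pow (hπ : Prime π) (i₁ i₂ : ℕ) (w : NodeAlg B π)
    (h : NodeAlg.t π ^ i₁ * NodeAlg.e π ^ i₂ * w = 0) : w = 0 := by
  induction i₁ with
  | zero =>
    induction i₂ with
    | zero => simpa using h
    | succ i ih =>
      apply ih
      apply (primeLike_e hπ).reg
      rw [pow_zero, one_mul] at h ⊢
      rw [← mul_assoc, ← pow_succ']
      exact h
  | succ i ih =>
    apply ih
    apply (primeLike_t hπ).reg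
    rw [← mul_assoc, ← mul_assoc, ← pow_succ']
    exact h

variable [IsLocalRing B] [IsNoetherianRing B]

/-- the fixed ideal and the unit relation in the branch-stabilizing case. -/
theorem fixIdeal_stab (hπ : Prime π) (k : ℕ) (γ : B) (hγ : IsUnit γ)
    (σ : NodeAlg B π ≃+* NodeAlg B π)
    (hσB : ∀ b : B, σ (algebraMap B (NodeAlg B π) b) - algebraMap B (NodeAlg B π) b ∈
      Ideal.span ({algebraMap B (NodeAlg B π) (π ^ (k + 1))} : Set (NodeAlg B π)))
    (hσπ : σ (algebraMap B (NodeAlg B π) π) = algebraMap B (NodeAlg B π) (π + γ * π ^ (k + 1)))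
    (α β : NodeAlg B π) (ht : σ (NodeAlg.t π) = α * NodeAlg.t π)
    (he : σ (NodeAlg.e π) = β * NodeAlg.e π) :
    fixIdeal σ = Ideal.span {(α - 1) * NodeAlg.t π, (β - 1) * NodeAlg.e π,
      NodeAlg.t π ^ (k + 1) * NodeAlg.e π ^ (k + 1)} ∧
    (α - 1) + α * (β - 1) =
      algebraMap B (NodeAlg B π) γ * (NodeAlg.t π ^ k * NodeAlg.e π ^ k) := by
  have hP : algebraMap B (NodeAlg B π) π = NodeAlg.t π * NodeAlg.e π := NodeAlgFix.t_mul_e.symm
  constructor
  · rw [NodeAlgFix2.fixIdeal_eq_ring hπ.not_unit (k + 1) γ hγ σ hσB hσπ, ht, he, map_pow, hP,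
      mul_pow]
    have h1 : α * NodeAlg.t π - NodeAlg.t π = (α - 1) * NodeAlg.t π := by ring
    have h2 : β * NodeAlg.e π - NodeAlg.e π = (β - 1) * NodeAlg.e π := by ring
    rw [h1, h2]
  · have h1 : σ (NodeAlg.t π * NodeAlg.e π) = α * β * (NodeAlg.t π * NodeAlg.e π) := by
      rw [map_mul, ht, he]; ring
    rw [← hP, hσπ, map_add, map_mul, map_pow, hP] at h1
    have h2 : NodeAlg.t π * (NodeAlg.e π * (α * β - (1 + algebraMap B (NodeAlg B π) γ *
        (NodeAlg.t π * NodeAlg.e π) ^ k))) = 0 := by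
      rw [pow_succ] at h1
      linear_combination -h1
    have h3 := NodeAlgFix.e_mul_eq_zero hπ.ne_zero _ (NodeAlgFix.t_mul_eq_zero hπ.ne_zero _ h2)
    rw [← mul_pow]
    linear_combination h3

end Groth.Agent.Lib.helper11.NodeLen2
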