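import Mathlib
import Groth.Agent.Lib.helper11.NodeLen

/-!
# A second length computation with prime-like elements (helper11)
-/

set_option autoImplicit false

namespace Groth.Agent.Lib.helper11.NodeLen

universe u

variable {A : Type u} [CommRing A]

section Main

variable {t e : A} (ht : PrimeLike t) (hte : ¬ t ∣ e)
  (hlen : Module.length A (A ⧸ Ideal.span ({t, e} : Set A)) = 1)

include ht hte hlen in
theorem length_main' (a b α γ : A) (hα : IsUnit α) (m : ℕ)
    (hrel : e * a + α * b = γ * t ^ m) (htb : ¬ t ∣ b) :
    Module.length A (A ⧸ Ideal.span ({t * a, b, t ^ (m + 1)} : Set A)) + (m : ℕ∞) =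
      ((m + 1 : ℕ) : ℕ∞) * Module.length A (A ⧸ Ideal.span ({t, b} : Set A)) := by
  obtain ⟨α', hα'⟩ := hα.exists_left_inv
  set J := Ideal.span ({t * a, b, t ^ (m + 1)} : Set A) with hJ
  have hlen' : Module.length A (A ⧸ Ideal.span ({e, t} : Set A)) = 1 := by
    rw [Set.pair_comm]; exact hlen
  have hb : b = α' * (γ * t ^ m - e * a) := by linear_combination (-b) * hα' + α' * hrel
  -- Step 2
  have h2 : J ⊔ Ideal.span {t} = Ideal.span ({t, b} : Set A) := by
    apply le_antisymm
    · rw [sup_le_iff, hJ, Ideal.span_le, Ideal.span_le]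
      refine ⟨?_, ?_⟩
      · rintro x (rfl | rfl | rfl)
        · exact Ideal.mul_mem_right _ _ (Ideal.subset_span (by simp))
        · exact Ideal.subset_span (by simp)
        · rw [pow_succ]
          exact Ideal.mul_mem_left _ _ (Ideal.subset_span (by simp))
      · rintro x rfl
        exact Ideal.subset_span (by simp)
    · rw [Ideal.span_le]
      rintro x (rfl | rfl)
      · exact Ideal.mem_sup_right (Ideal.subset_span rfl)
      · exact Ideal.mem_sup_left (Ideal.subset_span (by simp))
  -- Step 3
  have h3 : J.colon {t} = Ideal.span ({t ^ m, a} : Set A) := by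
    ext x
    rw [Submodule.mem_colon_singleton, hJ, mem_span_triple, Ideal.mem_span_pair, smul_eq_mul]
    constructor
    · rintro ⟨u, v, w, h⟩
      have h1 : t ∣ b * v :=
        ⟨x - u * a - w * t ^ m, by rw [pow_succ'] at h; linear_combination h⟩
      obtain ⟨v', rfl⟩ := ht.dvd_of_dvd_mul htb _ h1
      have hx : x = u * a + v' * b + w * t ^ m := by
        apply ht.cancel
        rw [pow_succ'] at h
        linear_combination -h
      refine ⟨w + v' * α' * γ, u - v' * α' * e, ?_⟩
      rw [hx]
      linear_combination (-v') * hb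
    · rintro ⟨u, v, h⟩
      exact ⟨v, 0, u, by rw [← h, pow_succ]; ring⟩
  rw [length_eq_sup_add_colon J t, h2, h3]
  by_cases hm : 1 ≤ m
  · have hta : ¬ t ∣ a := by
      intro hta
      apply htb
      rw [hb]
      apply Dvd.dvd.mul_left
      apply dvd_sub
      · obtain ⟨m', rfl⟩ : ∃ m', m = m' + 1 := ⟨m - 1, by omega⟩
        exact ⟨γ * t ^ m', by ring⟩
      · exact Dvd.dvd.mul_left hta _
    have hspan : Ideal.span ({t, b} : Set A) = Ideal.span ({e * a, t} : Set A) := by
      obtain ⟨m', rfl⟩ : ∃ m', m = m' + 1 := ⟨m - 1, by omega⟩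
      apply le_antisymm
      · rw [Ideal.span_le]
        rintro x (rfl | rfl)
        · exact Ideal.subset_span (by simp)
        · rw [SetLike.mem_coe, Ideal.mem_span_pair]
          exact ⟨-α', α' * γ * t ^ m', by linear_combination -hb⟩
      · rw [Ideal.span_le]
        rintro x (rfl | rfl)
        · rw [SetLike.mem_coe, Ideal.mem_span_pair]
          exact ⟨γ * t ^ m', -α, by linear_combination -hrel⟩
        · exact Ideal.subset_span (by simp)
    rw [NodeAlgFix2.length_pow t a (ht.reg_mod hta) m, hspan,
      LengthMulAdd.length_mul_add e t a (ht.dvd_of_dvd_mul hte), hlen', Set.pair_comm a t]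
    push_cast
    ring
  · have : m = 0 := by omega
    subst this
    rw [pow_zero, length_span_one_left]
    simp

end Main

end Groth.Agent.Lib.helper11.NodeLen
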