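import Mathlib
import Groth.Agent.Lib.helper11.NodeAlgFix2

/-!
# The node `k[[t, e]]/(te)` (helper11)
-/

set_option autoImplicit false

namespace Groth.Agent.Lib.helper11.NodeZero

open MvPowerSeries ArLef

universe u

section General

variable {A : Type u} [CommRing A]

/-- `length A/(I₁ ⊓ I₂) + length A/(I₁ ⊔ I₂) = length A/I₁ + length A/I₂`. -/
theorem length_inf_add_sup (I₁ I₂ : Ideal A) :
    Module.length A (A ⧸ (I₁ ⊓ I₂)) + Module.length A (A ⧸ (I₁ ⊔ I₂)) =
      Module.length A (A ⧸ I₁) + Module.length A (A ⧸ I₂) := by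
  let f₁ : (A ⧸ (I₁ ⊓ I₂)) →ₗ[A] (A ⧸ I₁) :=
    Submodule.mapQ _ _ LinearMap.id (fun x hx => hx.1)
  let f₂ : (A ⧸ (I₁ ⊓ I₂)) →ₗ[A] (A ⧸ I₂) :=
    Submodule.mapQ _ _ LinearMap.id (fun x hx => hx.2)
  let g₁ : (A ⧸ I₁) →ₗ[A] (A ⧸ (I₁ ⊔ I₂)) :=
    Submodule.mapQ _ _ LinearMap.id (fun x hx => Ideal.mem_sup_left hx)
  let g₂ : (A ⧸ I₂) →ₗ[A] (A ⧸ (I₁ ⊔ I₂)) :=
    Submodule.mapQ _ _ LinearMap.id (fun x hx => Ideal.mem_sup_right hx)
  let ι : (A ⧸ (I₁ ⊓ I₂)) →ₗ[A] (A ⧸ I₁) × (A ⧸ I₂) := f₁.prod f₂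
  let p : (A ⧸ I₁) × (A ⧸ I₂) →ₗ[A] (A ⧸ (I₁ ⊔ I₂)) := g₁.coprod (-g₂)
  have hι : ∀ a : A, ι (Submodule.Quotient.mk a) =
      (Submodule.Quotient.mk a, Submodule.Quotient.mk a) := fun a => rfl
  have hp : ∀ a b : A, p (Submodule.Quotient.mk a, Submodule.Quotient.mk b) =
      Submodule.Quotient.mk (a - b) := by
    intro a b
    show (g₁.coprod (-g₂)) (_, _) = _
    rw [LinearMap.coprod_apply, LinearMap.neg_apply, ← sub_eq_add_neg]
    rfl
  have hinj : Function.Injective ι := by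
    rw [← LinearMap.ker_eq_bot, LinearMap.ker_eq_bot']
    intro x hx
    obtain ⟨a, rfl⟩ := Submodule.Quotient.mk_surjective _ x
    rw [hι, Prod.mk_eq_zero, Submodule.Quotient.mk_eq_zero, Submodule.Quotient.mk_eq_zero] at hx
    rw [Submodule.Quotient.mk_eq_zero]
    exact hx
  have hsurj : Function.Surjective p := by
    intro y
    obtain ⟨a, rfl⟩ := Submodule.Quotient.mk_surjective _ y
    exact ⟨(Submodule.Quotient.mk a, Submodule.Quotient.mk 0), by rw [hp, sub_zero]⟩
  have hexact : Function.Exact ι p := by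
    rintro ⟨u, v⟩
    obtain ⟨a, rfl⟩ := Submodule.Quotient.mk_surjective _ u
    obtain ⟨b, rfl⟩ := Submodule.Quotient.mk_surjective _ v
    rw [hp, Submodule.Quotient.mk_eq_zero]
    constructor
    · intro hab
      obtain ⟨i, hi, z, hz, hiz⟩ := Submodule.mem_sup.mp hab
      refine ⟨Submodule.Quotient.mk (a - i), ?_⟩
      rw [hι, Prod.mk.injEq, Submodule.Quotient.eq, Submodule.Quotient.eq]
      refine ⟨?_, ?_⟩
      · have : a - i - a = -i := by ring
        rw [this]; exact I₁.neg_mem hi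
      · have : a - i - b = z := by linear_combination -hiz
        rw [this]; exact hz
    · rintro ⟨x, hx⟩
      obtain ⟨c, rfl⟩ := Submodule.Quotient.mk_surjective _ x
      rw [hι, Prod.mk.injEq, Submodule.Quotient.eq, Submodule.Quotient.eq] at hx
      have : a - b = -(c - a) + (c - b) := by ring
      rw [this]
      exact Ideal.add_mem _ (Ideal.mem_sup_left (I₁.neg_mem hx.1)) (Ideal.mem_sup_right hx.2)
  rw [← Module.length_prod (R := A) (M := A ⧸ I₁) (N := A ⧸ I₂),
    Module.length_eq_add_of_exact ι p hinj hsurj hexact]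

end General

variable {B : Type u} [CommRing B] [IsDomain B]

/-- in `B[[x,y]]/(xy)`: `t p = e q` forces `e q = 0`. -/
theorem e_mul_eq_zero_of_eq (p q : NodeAlg B 0) (h : NodeAlg.t (0 : B) * p = NodeAlg.e (0 : B) * q) :
    NodeAlg.e (0 : B) * q = 0 := by
  classical
  obtain ⟨P, rfl⟩ := Ideal.Quotient.mk_surjective p
  obtain ⟨Q, rfl⟩ := Ideal.Quotient.mk_surjective q
  have h' : Ideal.Quotient.mk (Ideal.span {(X 0 * X 1 - C (0 : B) : MvPowerSeries (Fin 2) B)})
      (X 0 * P) = Ideal.Quotient.mk _ (X 1 * Q) := by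
    rw [map_mul, map_mul]; exact h
  rw [Ideal.Quotient.eq, Ideal.mem_span_singleton'] at h'
  obtain ⟨R, hR⟩ := h'
  rw [map_zero, sub_zero] at hR
  have h1 : (X 0 : MvPowerSeries (Fin 2) B) ∣ X 1 * Q := ⟨P - R * X 1, by linear_combination hR⟩
  have h2 : ¬ (X 0 : MvPowerSeries (Fin 2) B) ∣ X 1 := by
    rw [X_dvd_iff]
    intro H
    have := H (Finsupp.single 1 1) (by simp)
    rw [coeff_index_single_self_X] at this
    exact one_ne_zero this
  obtain ⟨Q', rfl⟩ := (NodeAlgPrime.X_dvd_mul 0 _ _ h1).resolve_left h2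
  show Ideal.Quotient.mk _ (X 1) * Ideal.Quotient.mk _ (X 0 * Q') = 0
  rw [← map_mul, Ideal.Quotient.eq_zero_iff_mem, Ideal.mem_span_singleton']
  exact ⟨Q', by rw [map_zero, sub_zero]; ring⟩

/-- the key intersection. -/
theorem inf_eq (a b : NodeAlg B 0) :
    (Ideal.span ({a * NodeAlg.t (0 : B), b * NodeAlg.e (0 : B)} : Set (NodeAlg B 0)) ⊔
        Ideal.span {NodeAlg.t (0 : B)}) ⊓
      (Ideal.span ({a * NodeAlg.t (0 : B), b * NodeAlg.e (0 : B)} : Set (NodeAlg B 0)) ⊔
        Ideal.span {NodeAlg.e (0 : B)}) =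
      Ideal.span ({a * NodeAlg.t (0 : B), b * NodeAlg.e (0 : B)} : Set (NodeAlg B 0)) := by
  apply le_antisymm
  · rintro x ⟨hx1, hx2⟩
    have h1 : x ∈ Ideal.span ({NodeAlg.t (0 : B), b * NodeAlg.e (0 : B)} : Set (NodeAlg B 0)) := by
      refine (sup_le ?_ ?_ : _ ≤ Ideal.span
        ({NodeAlg.t (0 : B), b * NodeAlg.e (0 : B)} : Set (NodeAlg B 0))) hx1
      · rw [Ideal.span_le]
        rintro y (rfl | rfl)
        · exact Ideal.mul_mem_left _ _ (Ideal.subset_span (by simp))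
        · exact Ideal.subset_span (by simp)
      · rw [Ideal.span_le, Set.singleton_subset_iff]
        exact Ideal.subset_span (by simp)
    have h2 : x ∈ Ideal.span ({a * NodeAlg.t (0 : B), NodeAlg.e (0 : B)} : Set (NodeAlg B 0)) := by
      refine (sup_le ?_ ?_ : _ ≤ Ideal.span
        ({a * NodeAlg.t (0 : B), NodeAlg.e (0 : B)} : Set (NodeAlg B 0))) hx2
      · rw [Ideal.span_le]
        rintro y (rfl | rfl)
        · exact Ideal.subset_span (by simp)
        · exact Ideal.mul_mem_left _ _ (Ideal.subset_span (by simp))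
      · rw [Ideal.span_le, Set.singleton_subset_iff]
        exact Ideal.subset_span (by simp)
    obtain ⟨u, v, huv⟩ := Ideal.mem_span_pair.mp h1
    obtain ⟨u', v', huv'⟩ := Ideal.mem_span_pair.mp h2
    have h3 : NodeAlg.t (0 : B) * (u - u' * a) = NodeAlg.e (0 : B) * (v' - v * b) := by
      linear_combination huv - huv'
    have h4 := e_mul_eq_zero_of_eq _ _ h3
    rw [h4] at h3
    rw [Ideal.mem_span_pair]
    exact ⟨u', v, by linear_combination huv - h3⟩
  · exact le_inf le_sup_left le_sup_left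

variable [IsLocalRing B] [IsNoetherianRing B]

/-- the maximal ideal of the node algebra is `(t, e)` (version assuming only `π` non-unit). -/
theorem maximalIdeal_eq' {π : B} (hπ : ¬ IsUnit π)
    (hmax : IsLocalRing.maximalIdeal B = Ideal.span {π}) :
    haveI := NodeAlgFix.isLocalRing_nodeAlg (B := B) hπ
    IsLocalRing.maximalIdeal (NodeAlg B π) =
      Ideal.span ({NodeAlg.t π, NodeAlg.e π} : Set (NodeAlg B π)) := by
  haveI := NodeAlgFix.isLocalRing_nodeAlg (B := B) hπ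
  apply le_antisymm
  · intro r hr
    obtain ⟨b, r₁, r₂, rfl⟩ := NodeAlgFix.exists_decomp π r
    have hm : NodeAlg.t π * r₁ + NodeAlg.e π * r₂ ∈
        Ideal.span ({NodeAlg.t π, NodeAlg.e π} : Set (NodeAlg B π)) :=
      Ideal.add_mem _ (Ideal.mul_mem_right _ _ (Ideal.subset_span (Set.mem_insert _ _)))
        (Ideal.mul_mem_right _ _ (Ideal.subset_span (Set.mem_insert_of_mem _ rfl)))
    have hm' : NodeAlg.t π * r₁ + NodeAlg.e π * r₂ ∈ IsLocalRing.maximalIdeal (NodeAlg B π) := by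
      apply Ideal.add_mem
      · exact Ideal.mul_mem_right _ _ (NodeAlgFix.t_not_isUnit hπ)
      · exact Ideal.mul_mem_right _ _ (NodeAlgFix.e_not_isUnit hπ)
    have hb : algebraMap B (NodeAlg B π) b ∈ IsLocalRing.maximalIdeal (NodeAlg B π) := by
      have := Ideal.sub_mem _ hr hm'
      convert this using 1
      ring
    have hb' : b ∈ IsLocalRing.maximalIdeal B := by
      by_contra hcon
      have : IsUnit b := by
        rwa [IsLocalRing.mem_maximalIdeal, mem_nonunits_iff, not_not] at hcon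
      exact hb (this.map (algebraMap B (NodeAlg B π)))
    rw [hmax, Ideal.mem_span_singleton] at hb'
    obtain ⟨c, rfl⟩ := hb'
    rw [add_assoc]
    refine Ideal.add_mem _ ?_ hm
    rw [map_mul, ← NodeAlgFix.t_mul_e, mul_assoc]
    exact Ideal.mul_mem_right _ _ (Ideal.subset_span (Set.mem_insert _ _))
  · rw [Ideal.span_le]
    rintro x (rfl | rfl)
    · exact NodeAlgFix.t_not_isUnit hπ
    · exact NodeAlgFix.e_not_isUnit hπ

theorem length_quot_span_t_e' {π : B} (hπ : ¬ IsUnit π)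
    (hmax : IsLocalRing.maximalIdeal B = Ideal.span {π}) :
    Module.length (NodeAlg B π)
      (NodeAlg B π ⧸ Ideal.span ({NodeAlg.t π, NodeAlg.e π} : Set (NodeAlg B π))) = 1 := by
  haveI := NodeAlgFix.isLocalRing_nodeAlg (B := B) hπ
  rw [← maximalIdeal_eq' hπ hmax]
  rw [Module.length_eq_one_iff]
  exact isSimpleModule_iff_quot_maximal.mpr
    ⟨IsLocalRing.maximalIdeal _, inferInstance, ⟨LinearEquiv.refl _ _⟩⟩

end Groth.Agent.Lib.helper11.NodeZero
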