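import Mathlib
import Groth.Prelude.Def_AssocGrMod
import Groth.Prelude.Def_EGA4b

/-!
# Normal flatness: piecewise flat ⟺ `gr` flat (S16455)
-/

set_option autoImplicit false
universe u

open DirectSum

namespace Groth.Agent.Lib.helper11.NormFlatGr

variable {A : Type u} [CommRing A] (I : Ideal A) (M : Type u) [AddCommGroup M] [Module A M]

/-- the piece `I^n M / I (I^n M)`. -/
abbrev Q (n : ℕ) : Type u :=
  ↥((Rees.powFilt I M).N n) ⧸ (I • (⊤ : Submodule A ↥((Rees.powFilt I M).N n)))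

lemma N_eq (n : ℕ) : (Rees.powFilt I M).N n = I ^ n • (⊤ : Submodule A M) := rfl

/-- `I^n M → gr`, `A`-linear. -/
noncomputable def ψ₀ (n : ℕ) :
    ↥((Rees.powFilt I M).N n) →ₗ[A] AssocGr.GrMod (Rees.powFilt I M) where
  toFun x := (AssocGr.inDegM (Rees.powFilt I M) n x : AssocGr.GrMod (Rees.powFilt I M))
  map_add' x y := by rw [map_add]; rfl
  map_smul' a x := AssocGr.coe_inDegM_smul (Rees.powFilt I M) n a x

lemma ψ₀_apply (n : ℕ) (x : ↥((Rees.powFilt I M).N n)) :
    ψ₀ I M n x = (AssocGr.inDegM (Rees.powFilt I M) n x : AssocGr.GrMod (Rees.powFilt I M)) := rfl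

lemma ψ₀_eq_zero_iff (n : ℕ) (x : ↥((Rees.powFilt I M).N n)) :
    ψ₀ I M n x = 0 ↔ (x : M) ∈ (Rees.powFilt I M).N (n + 1) := by
  rw [ψ₀_apply, ZeroMemClass.coe_eq_zero, AssocGr.inDegM_eq_zero_iff]

lemma ker_ψ₀ (n : ℕ) : LinearMap.ker (ψ₀ I M n) =
    I • (⊤ : Submodule A ↥((Rees.powFilt I M).N n)) := by
  have hmap : (I • (⊤ : Submodule A ↥((Rees.powFilt I M).N n))).map
      ((Rees.powFilt I M).N n).subtype = (Rees.powFilt I M).N (n + 1) := by
    rw [Submodule.map_smul'', Submodule.map_subtype_top, N_eq, N_eq, pow_succ', mul_smul]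
  ext x
  rw [LinearMap.mem_ker, ψ₀_eq_zero_iff, ← hmap]
  constructor
  · rintro ⟨y, hy, hyx⟩
    have : y = x := Subtype.ext hyx
    rwa [← this]
  · intro hx
    exact ⟨x, hx, rfl⟩

/-- the piece map `Q n → gr`, `A`-linear. -/
noncomputable def ψA (n : ℕ) : Q I M n →ₗ[A] AssocGr.GrMod (Rees.powFilt I M) :=
  Submodule.liftQ _ (ψ₀ I M n) (ker_ψ₀ I M n).ge

lemma ψA_mk (n : ℕ) (x : ↥((Rees.powFilt I M).N n)) :
    ψA I M n (Submodule.Quotient.mk x) = ψ₀ I M n x := rfl

lemma ψA_injective (n : ℕ) : Function.Injective (ψA I M n) := by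
  rw [← LinearMap.ker_eq_bot]
  exact Submodule.ker_liftQ_eq_bot _ _ _ (ker_ψ₀ I M n).le

/-- the piece map `Q n → gr`, `A/I`-linear. -/
noncomputable def ψ (n : ℕ) : Q I M n →ₗ[A ⧸ I] AssocGr.GrMod (Rees.powFilt I M) :=
  LinearMap.extendScalarsOfSurjective Ideal.Quotient.mk_surjective (ψA I M n)

lemma ψ_apply (n : ℕ) (q : Q I M n) : ψ I M n q = ψA I M n q := rfl

lemma ψ_mem (n : ℕ) (q : Q I M n) : ψ I M n q ∈ AssocGr.grM (Rees.powFilt I M) n := by
  obtain ⟨x, rfl⟩ := Submodule.Quotient.mk_surjective _ q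
  exact SetLike.coe_mem _

lemma exists_ψ_eq (n : ℕ) (y : AssocGr.GrMod (Rees.powFilt I M))
    (hy : y ∈ AssocGr.grM (Rees.powFilt I M) n) : ∃ q, ψ I M n q = y := by
  obtain ⟨x, hx⟩ := AssocGr.inDegM_surjective (Rees.powFilt I M) n ⟨y, hy⟩
  exact ⟨Submodule.Quotient.mk x, congrArg Subtype.val hx⟩

/-- the comparison map. -/
noncomputable def Φ : (⨁ n, Q I M n) →ₗ[A ⧸ I] AssocGr.GrMod (Rees.powFilt I M) :=
  DirectSum.toModule (A ⧸ I) ℕ _ (ψ I M)

lemma decompose_Φ (d : ⨁ n, Q I M n) (n : ℕ) :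
    ((decompose (AssocGr.grM (Rees.powFilt I M)) (Φ I M d)) n : AssocGr.GrMod (Rees.powFilt I M)) =
      ψ I M n (d n) := by
  induction d using DirectSum.induction_on with
  | zero => simp
  | of m q =>
    have h1 : Φ I M (DirectSum.of _ m q) = ψ I M m q := DirectSum.toModule_lof _ _ _
    rw [h1]
    by_cases h : m = n
    · subst h
      rw [DirectSum.decompose_of_mem_same _ (ψ_mem I M m q), DirectSum.of_eq_same]
    · rw [DirectSum.decompose_of_mem_ne _ (ψ_mem I M m q) h, DirectSum.of_eq_of_ne _ _ _ (Ne.symm h),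
        map_zero]
  | add x y hx hy =>
    rw [map_add, DirectSum.decompose_add, DirectSum.add_apply, DirectSum.add_apply, map_add,
      ← hx, ← hy]
    rfl

lemma Φ_bijective : Function.Bijective (Φ I M) := by
  classical
  constructor
  · rw [injective_iff_map_eq_zero]
    intro d hd
    refine DFinsupp.ext fun n => ?_
    have := decompose_Φ I M d n
    rw [hd, DirectSum.decompose_zero, DirectSum.zero_apply] at this
    exact ψA_injective I M n (by rw [← ψ_apply, ← this]; simp)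
  · intro y
    rw [← DirectSum.sum_support_decompose (AssocGr.grM (Rees.powFilt I M)) y]
    refine Submodule.sum_mem (LinearMap.range (Φ I M)) fun n _ => ?_
    obtain ⟨q, hq⟩ := exists_ψ_eq I M n _ (SetLike.coe_mem
      ((decompose (AssocGr.grM (Rees.powFilt I M)) y) n))
    exact ⟨DirectSum.of _ n q, by rw [← hq]; exact DirectSum.toModule_lof _ _ _⟩

theorem main : EGA4.IsNormallyFlat I M ↔
    Module.Flat (A ⧸ I) (AssocGr.GrMod (Rees.powFilt I M)) := by
  let e : (⨁ n, Q I M n) ≃ₗ[A ⧸ I] AssocGr.GrMod (Rees.powFilt I M) :=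
    LinearEquiv.ofBijective (Φ I M) (Φ_bijective I M)
  rw [← Module.Flat.equiv_iff e, Module.Flat.directSum_iff]
  rfl

end Groth.Agent.Lib.helper11.NormFlatGr
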