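import Mathlib
import Groth.Agent.Lib.helper11.ExtDual1
import Groth.Agent.Lib.helper11.TorsionlessExt
import Groth.Agent.Lib.helper11.TorsionlessReflexive
import Groth.Agent.Lib.helper11.ExtLocEquiv
import Groth.Agent.Lib.helper11.GorDualLoc

/-!
# `Ext¹(M, M) ≅ Hom(M⁻¹, O / M⁻¹)` for an overring `M` of a one-dimensional Gorenstein local
domain `O` (helper11)
-/

set_option autoImplicit false

namespace Groth.Agent.Lib.helper11.OverringExt

open CategoryTheory Abelian Module

universe u

section Key

variable {O : Type u} [CommRing O] [IsDomain O] {K : Type u} [Field K] [Algebra O K]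
  [IsFractionRing O K]

/-- `O`-linear maps from a torsion-free rank-one module to `K` commute with multiplication by
elements of `K`. -/
theorem map_eq_mul {P : Type*} [AddCommGroup P] [Module O P] (j g : P →ₗ[O] K)
    (hj : Function.Injective j) (m : K) (p p' : P) (h : j p' = m * j p) : g p' = m * g p := by
  obtain ⟨a, b, hb, rfl⟩ := IsFractionRing.div_surjective (A := O) m
  have hb0 : algebraMap O K b ≠ 0 :=
    IsFractionRing.to_map_ne_zero_of_mem_nonZeroDivisors hb
  have h1 : b • p' = a • p := by
    apply hj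
    rw [map_smul, map_smul, h, Algebra.smul_def, Algebra.smul_def]
    field_simp
  have h2 := congrArg g h1
  rw [map_smul, map_smul, Algebra.smul_def, Algebra.smul_def] at h2
  field_simp
  rw [mul_comm, h2]

end Key

section Setup

variable (O : Type u) [CommRing O] [IsDomain O] (K : Type u) [Field K] [Algebra O K]
  [IsFractionRing O K] (M : Subalgebra O K)

/-- `M⁻¹ = (O : M)` inside `K`. -/
abbrev C : Submodule O K := (1 : Submodule O K) / Subalgebra.toSubmodule M

/-- `M⁻¹` as an ideal of `O`. -/
abbrev cond : Submodule O O := Submodule.comap (Algebra.linearMap O K) (C O K M)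

variable {O K M}

theorem mem_C_iff (κ : K) : κ ∈ C O K M ↔ ∀ m ∈ M, ∃ a : O, algebraMap O K a = κ * m := by
  rw [Submodule.mem_div_iff_forall_mul_mem]
  refine forall₂_congr fun m _ => ?_
  rw [Submodule.mem_one]

theorem C_le_one : C O K M ≤ 1 := by
  intro κ hκ
  obtain ⟨a, ha⟩ := (mem_C_iff κ).mp hκ 1 M.one_mem
  rw [Submodule.mem_one]
  exact ⟨a, by rw [ha, mul_one]⟩

theorem mul_mem_C {κ m : K} (hκ : κ ∈ C O K M) (hm : m ∈ M) : m * κ ∈ C O K M := by
  rw [mem_C_iff] at hκ ⊢
  intro m' hm'
  obtain ⟨a, ha⟩ := hκ (m * m') (M.mul_mem hm hm')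
  exact ⟨a, by rw [ha]; ring⟩

theorem algebraMap_injective' : Function.Injective (Algebra.linearMap O K) :=
  IsFractionRing.injective O K

/-- `𝔠 ≃ M⁻¹`. -/
noncomputable def condEquiv : cond O K M ≃ₗ[O] C O K M :=
  (Submodule.equivMapOfInjective (Algebra.linearMap O K) algebraMap_injective' (cond O K M)).trans
    (LinearEquiv.ofEq _ _ (Submodule.map_comap_eq_self (by
      rw [← Submodule.one_eq_range]
      exact C_le_one)))

theorem condEquiv_apply (a : cond O K M) : (condEquiv a : K) = algebraMap O K a := rfl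

/-- multiplication by `κ ∈ M⁻¹` as a functional on `M`. -/
noncomputable def mulFunctional (κ : K) (hκ : κ ∈ C O K M) : Dual O M :=
  (LinearEquiv.ofInjective (Algebra.linearMap O K) algebraMap_injective').symm.toLinearMap ∘ₗ
    LinearMap.codRestrict (LinearMap.range (Algebra.linearMap O K))
      (LinearMap.mulLeft O κ ∘ₗ M.val.toLinearMap) (fun m => by
        obtain ⟨a, ha⟩ := (mem_C_iff κ).mp hκ m m.2
        exact ⟨a, ha⟩)

theorem algebraMap_mulFunctional (κ : K) (hκ : κ ∈ C O K M) (m : M) :
    algebraMap O K (mulFunctional κ hκ m) = κ * m := by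
  have := (LinearEquiv.ofInjective (Algebra.linearMap O K) algebraMap_injective').apply_symm_apply
    (LinearMap.codRestrict (LinearMap.range (Algebra.linearMap O K))
      (LinearMap.mulLeft O κ ∘ₗ M.val.toLinearMap) (fun m => by
        obtain ⟨a, ha⟩ := (mem_C_iff κ).mp hκ m m.2
        exact ⟨a, ha⟩) m)
  exact congrArg Subtype.val this

/-- functionals on `M` are multiplications. -/
theorem algebraMap_dual_apply (φ : Dual O M) (m : M) :
    algebraMap O K (φ m) = m * algebraMap O K (φ 1) :=
  map_eq_mul M.val.toLinearMap (Algebra.linearMap O K ∘ₗ φ) Subtype.val_injective m 1 m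
    (by simp)

theorem dual_one_mem (φ : Dual O M) : φ 1 ∈ cond O K M := by
  change algebraMap O K (φ 1) ∈ C O K M
  rw [mem_C_iff]
  intro m hm
  exact ⟨φ ⟨m, hm⟩, by rw [algebraMap_dual_apply φ ⟨m, hm⟩, mul_comm]⟩

/-- `M* ≃ 𝔠`, `φ ↦ φ 1`. -/
noncomputable def dualEquiv : Dual O M ≃ₗ[O] cond O K M :=
  LinearEquiv.ofBijective
    (LinearMap.codRestrict (cond O K M) (LinearMap.applyₗ (1 : M)) dual_one_mem) (by
    constructor
    · rw [injective_iff_map_eq_zero]
      intro φ hφ
      have h1 : φ 1 = 0 := congrArg Subtype.val hφ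
      refine LinearMap.ext fun m => ?_
      apply IsFractionRing.injective O K
      rw [algebraMap_dual_apply, h1, map_zero, mul_zero, LinearMap.zero_apply, map_zero]
    · rintro ⟨a, ha⟩
      refine ⟨mulFunctional (algebraMap O K a) ha, Subtype.ext ?_⟩
      apply IsFractionRing.injective O K
      change algebraMap O K (mulFunctional (algebraMap O K a) ha 1) = _
      rw [algebraMap_mulFunctional]
      simp)

end Setup

section Main

variable (O : Type u) [CommRing O] [IsDomain O] [hG : LocCoh.IsGorensteinLocalRing O]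
  (hdim : ringKrullDim O = 1) (K : Type u) [Field K] [Algebra O K] [IsFractionRing O K]
  (hfin : Module.Finite O ↥(integralClosure O K)) (M : Subalgebra O K)
  (hM : M ≤ integralClosure O K)

include hfin hM in
theorem finite_M : Module.Finite O M := by
  haveI : IsNoetherian O ↥(integralClosure O K) := isNoetherian_of_isNoetherianRing_of_finite O _
  exact Module.Finite.of_injective (Subalgebra.inclusion hM).toLinearMap
    (Subalgebra.inclusion_injective hM)

variable {O K M}

theorem exists_ne_zero_mem_cond [Module.Finite O M] : ∃ b : O, b ≠ 0 ∧ b ∈ cond O K M := by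
  have hfg : (Subalgebra.toSubmodule M).FG :=
    Module.Finite.iff_fg.mp (inferInstanceAs (Module.Finite O M))
  obtain ⟨a, ha, h⟩ := FractionalIdeal.isFractional_of_fg (S := nonZeroDivisors O) hfg
  refine ⟨a, nonZeroDivisors.ne_zero ha, ?_⟩
  change algebraMap O K a ∈ C O K M
  rw [mem_C_iff]
  intro m hm
  obtain ⟨y, hy⟩ := h m hm
  exact ⟨y, by rw [hy, Algebra.smul_def]⟩

theorem eval_injective [Module.Finite O M] : Function.Injective (Dual.eval O M) := by
  rw [injective_iff_map_eq_zero]
  intro m hm
  obtain ⟨b, hb0, hb⟩ := exists_ne_zero_mem_cond (O := O) (K := K) (M := M)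
  have h1 : mulFunctional (algebraMap O K b) hb m = 0 :=
    LinearMap.congr_fun hm (mulFunctional (algebraMap O K b) hb)
  have h2 := algebraMap_mulFunctional (algebraMap O K b) hb m
  rw [h1, map_zero] at h2
  have hb' : algebraMap O K b ≠ 0 := by
    intro h
    exact hb0 (IsFractionRing.injective O K (by rw [h, map_zero]))
  rcases mul_eq_zero.mp h2.symm with h | h
  · exact absurd h hb'
  · exact Subtype.ext h

/-- every functional on `M⁻¹` has values in `𝔠`. -/
theorem dual_C_mem (g : C O K M →ₗ[O] O) (c : C O K M) : g c ∈ cond O K M := by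
  change algebraMap O K (g c) ∈ C O K M
  rw [mem_C_iff]
  intro m hm
  refine ⟨g ⟨m * c, mul_mem_C c.2 hm⟩, ?_⟩
  rw [mul_comm (algebraMap O K (g c))]
  exact map_eq_mul (C O K M).subtype (Algebra.linearMap O K ∘ₗ g) (C O K M).injective_subtype
    m c ⟨m * c, mul_mem_C c.2 hm⟩ rfl

include hdim in
theorem main [Module.Finite O M] :
    Nonempty (Ext (ModuleCat.of O ↥M) (ModuleCat.of O ↥M) 1 ≃+
      (↥(C O K M) →ₗ[O] (O ⧸ cond O K M))) := by
  haveI : LocCoh.IsGorensteinRing O :=
    ((Groth.Agent.S0345.result O).mp hG.exists_hasInjectiveDimensionLT).1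
  have hd : ringKrullDim O ≤ 1 := hdim.le
  have hinj : Function.Injective (Dual.eval O M) := eval_injective
  haveI : Module.IsReflexive O M := TorsionlessReflexive.isReflexive_of_injective O M hd hinj
  haveI : Module.Finite O (Dual O M) := Groth.Agent.Lib.Helper21.EvalLoc.finite_dual M
  have hN : Subsingleton (Ext (ModuleCat.of O M) (ModuleCat.of O O) 1) :=
    TorsionlessExt.ext_one_subsingleton O hd M hinj
  have hM' : Subsingleton (Ext (ModuleCat.of O (Dual O M)) (ModuleCat.of O O) 1) :=
    TorsionlessExt.ext_one_subsingleton O hd (Dual O M)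
      (TorsionlessReflexive.eval_dual_injective O M)
  obtain ⟨e₁⟩ := ExtDual1.nonempty_ext_one_addEquiv (R := O) M M hN hM'
  -- transport along `M* ≃ C` and `M* ≃ 𝔠`
  let iC : ModuleCat.of O (Dual O M) ≅ ModuleCat.of O (C O K M) :=
    ((dualEquiv (O := O) (K := K) (M := M)).trans condEquiv).toModuleIso
  let ic : ModuleCat.of O (Dual O M) ≅ ModuleCat.of O (cond O K M) :=
    (dualEquiv (O := O) (K := K) (M := M)).toModuleIso
  let e₂ : Ext (ModuleCat.of O (Dual O M)) (ModuleCat.of O (Dual O M)) 1 ≃+
      Ext (ModuleCat.of O (C O K M)) (ModuleCat.of O (cond O K M)) 1 :=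
    ((GorHull.extCongr _ 1 iC).trans (ExtLocEquiv.extCongrRight _ 1 ic)).toAddEquiv
  -- the connecting map
  let i : cond O K M →ₗ[O] O := (cond O K M).subtype
  let π : O →ₗ[O] O ⧸ cond O K M := (cond O K M).mkQ
  have hi : Function.Injective i := (cond O K M).injective_subtype
  have hπ : Function.Surjective π := Submodule.mkQ_surjective _
  have hex : Function.Exact i π := by
    rw [LinearMap.exact_iff, Submodule.ker_mkQ, Submodule.range_subtype]
  have hCO : Subsingleton (Ext (ModuleCat.of O (C O K M)) (ModuleCat.of O O) 1) :=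
    (GorHull.extCongr (ModuleCat.of O O) 1 iC).symm.toEquiv.subsingleton
  have hbij : Function.Bijective (ExtDual1.coDelta i π hi hπ hex (C O K M)) := by
    refine ⟨?_, ExtDual1.coDelta_surjective i π hi hπ hex _ hCO⟩
    rw [injective_iff_map_eq_zero]
    intro ψ hψ
    obtain ⟨g, rfl⟩ := (ExtDual1.coDelta_eq_zero_iff i π hi hπ hex _ ψ).mp hψ
    refine LinearMap.ext fun c => ?_
    simp only [LinearMap.coe_comp, Function.comp_apply, LinearMap.zero_apply]
    exact (Submodule.Quotient.mk_eq_zero _).mpr (dual_C_mem g c)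
  let e₃ := AddEquiv.ofBijective _ hbij
  exact ⟨e₁.trans (e₂.trans e₃.symm)⟩

end Main

end Groth.Agent.Lib.helper11.OverringExt
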