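import Groth.Agent.Lib.helper11.PSDual

/-!
# Value-set duality in statement form (S19528, S15022)
-/

set_option autoImplicit false
universe u
open CategoryTheory PowerSeries
open Groth.Agent.Lib.helper11.PSFrac

namespace Groth.Agent.Lib.helper11.PSDualApp

variable {k : Type u} [Field k] (A : Subalgebra k (PowerSeries k))

/-- Statement-form of the value-set duality for `(ω : M)`, with the conductor
description as a hypothesis. -/
theorem main (hA : Module.Finite ↥A (PowerSeries k)) (c : ℕ) (hc0 : c ≠ 0)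
    (hcond : ∀ f : PowerSeries k, (∀ g : PowerSeries k, g * f ∈ A) ↔ (c : ℕ∞) ≤ order f)
    (ω : Submodule ↥A (PowerSeries k)) (hω1 : (1 : PowerSeries k) ∈ ω) (hωfg : ω.FG)
    (hωinj : HasInjectiveDimensionLT (ModuleCat.of ↥A ↥ω) 2)
    (M : Submodule ↥A (PowerSeries k)) (hMfg : M.FG) (hM1 : (1 : PowerSeries k) ∈ M) (n : ℕ) :
    (∃ u : PowerSeries k, order u = n ∧ ∀ m ∈ M, u * m ∈ ω) ↔
      (c ≤ n ∨ ¬ ∃ m ∈ M, order m = ((c - 1 - n : ℕ) : ℕ∞)) := by
  haveI := hA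
  have hc : ∀ f : PowerSeries k, (X : PowerSeries k) ^ c * f ∈ A := by
    intro f
    have h := (hcond ((X : PowerSeries k) ^ c * f)).mpr ?_
    · simpa using h 1
    · refine le_trans ?_ (PowerSeries.le_order_mul _ _)
      rw [PowerSeries.order_X_pow]
      exact le_self_add
  have hcondEq : ∀ f : PowerSeries k, (∀ g : PowerSeries k, g * f ∈ A) → (c : ℕ∞) ≤ order f :=
    fun f h => (hcond f).mp h
  have key := PSDual.vset_colon A c hc hc0 hcondEq ω hω1 hωfg hωinj M hMfg hM1 n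
  constructor
  · rintro ⟨u, hu, huM⟩
    exact key.mp ⟨u, huM, hu⟩
  · intro h
    obtain ⟨u, huM, hu⟩ := key.mpr h
    exact ⟨u, hu, huM⟩

/-- The case `M = A·1`. -/
theorem main_one (hA : Module.Finite ↥A (PowerSeries k)) (c : ℕ) (hc0 : c ≠ 0)
    (hcond : ∀ f : PowerSeries k, (∀ g : PowerSeries k, g * f ∈ A) ↔ (c : ℕ∞) ≤ order f)
    (Γ : Set ℕ) (hΓ : ∀ n : ℕ, n ∈ Γ ↔ ∃ f ∈ A, order f = n)
    (ω : Submodule ↥A (PowerSeries k)) (hω1 : (1 : PowerSeries k) ∈ ω) (hωfg : ω.FG)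
    (hωinj : HasInjectiveDimensionLT (ModuleCat.of ↥A ↥ω) 2) (n : ℕ) :
    (∃ f ∈ ω, order f = n) ↔ (c ≤ n ∨ c - 1 - n ∉ Γ) := by
  have hmem : ∀ m : PowerSeries k, m ∈ Submodule.span ↥A {(1 : PowerSeries k)} ↔ m ∈ A := by
    intro m
    rw [Submodule.mem_span_singleton]
    constructor
    · rintro ⟨a, rfl⟩
      rw [Algebra.smul_def, mul_one]
      exact a.2
    · intro hm
      exact ⟨⟨m, hm⟩, by rw [Algebra.smul_def, mul_one]; rfl⟩
  have key := main A hA c hc0 hcond ω hω1 hωfg hωinj (Submodule.span ↥A {(1 : PowerSeries k)})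
    (Submodule.fg_span_singleton _) (Submodule.mem_span_singleton_self _) n
  have hL : (∃ f ∈ ω, order f = n) ↔
      (∃ u : PowerSeries k, order u = n ∧
        ∀ m ∈ Submodule.span ↥A {(1 : PowerSeries k)}, u * m ∈ ω) := by
    constructor
    · rintro ⟨f, hf, hfn⟩
      refine ⟨f, hfn, fun m hm => ?_⟩
      have hmA := (hmem m).mp hm
      have : f * m = (⟨m, hmA⟩ : ↥A) • f := by
        rw [Algebra.smul_def, mul_comm]; rfl
      rw [this]
      exact ω.smul_mem _ hf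
    · rintro ⟨u, hu, huM⟩
      refine ⟨u, ?_, hu⟩
      simpa using huM 1 (Submodule.mem_span_singleton_self _)
  have hR : (¬ ∃ m ∈ Submodule.span ↥A {(1 : PowerSeries k)},
      order m = ((c - 1 - n : ℕ) : ℕ∞)) ↔ c - 1 - n ∉ Γ := by
    rw [hΓ]
    constructor
    · rintro h ⟨f, hf, hfn⟩
      exact h ⟨f, (hmem f).mpr hf, hfn⟩
    · rintro h ⟨m, hm, hmn⟩
      exact h ⟨m, (hmem m).mp hm, hmn⟩
  rw [hL, key, hR]

end Groth.Agent.Lib.helper11.PSDualApp
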