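import Mathlib
import Groth.Prelude.Def_W4c2arithlefschetzNode
import Groth.Agent.Lib.helper11.NodeLen

/-!
# Fixed-point ideals of automorphisms of `B[[t]]` (helper11)
-/

set_option autoImplicit false

namespace Groth.Agent.Lib.helper11.PSFix

open PowerSeries ArLef NodeLen

universe u

variable {B : Type u} [CommRing B]

theorem C_dvd_iff (π : B) (φ : PowerSeries B) :
    (C π : PowerSeries B) ∣ φ ↔ ∀ n, π ∣ coeff n φ := by
  constructor
  · rintro ⟨c, rfl⟩ n
    rw [coeff_C_mul]
    exact dvd_mul_right _ _
  · intro H
    refine ⟨PowerSeries.mk fun n => Classical.choose (H n), ?_⟩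
    ext n
    rw [coeff_C_mul, coeff_mk]
    exact Classical.choose_spec (H n)

theorem C_dvd_iff_map (π : B) (φ : PowerSeries B) :
    (C π : PowerSeries B) ∣ φ ↔ PowerSeries.map (Ideal.Quotient.mk (Ideal.span {π})) φ = 0 := by
  rw [C_dvd_iff]
  constructor
  · intro H
    ext n
    rw [coeff_map, map_zero, Ideal.Quotient.eq_zero_iff_mem, Ideal.mem_span_singleton]
    exact H n
  · intro H n
    have := congrArg (coeff n) H
    rwa [coeff_map, map_zero, Ideal.Quotient.eq_zero_iff_mem, Ideal.mem_span_singleton] at this

theorem primeLike_C [IsDomain B] {π : B} (hπ : Prime π) : PrimeLike (C π : PowerSeries B) := by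
  haveI : (Ideal.span {π}).IsPrime := (Ideal.span_singleton_prime hπ.ne_zero).mpr hπ
  refine ⟨?_, ?_⟩
  · intro x y h
    rw [C_dvd_iff_map, map_mul, mul_eq_zero] at h
    rw [C_dvd_iff_map, C_dvd_iff_map]
    exact h
  · intro x h
    rcases mul_eq_zero.mp h with h1 | h1
    · exfalso
      have := congrArg (coeff 0) h1
      simp at this
      exact hπ.ne_zero this
    · exact h1

variable [IsDomain B] [IsLocalRing B] [IsNoetherianRing B]

omit [IsDomain B] in
/-- the fixed-point ideal of a ring automorphism of `B[[t]]` moving `B` by `π^j`. -/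
theorem fixIdeal_eq_ps {π : B} (j : ℕ) (γ : B) (hγ : IsUnit γ)
    (σ : PowerSeries B ≃+* PowerSeries B)
    (hσB : ∀ b : B, σ (algebraMap B (PowerSeries B) b) - algebraMap B (PowerSeries B) b ∈
      Ideal.span ({algebraMap B (PowerSeries B) (π ^ j)} : Set (PowerSeries B)))
    (hσπ : σ (algebraMap B (PowerSeries B) π) = algebraMap B (PowerSeries B) (π + γ * π ^ j)) :
    fixIdeal σ = Ideal.span {σ (X : PowerSeries B) - X, algebraMap B (PowerSeries B) (π ^ j)} := by
  apply le_antisymm
  · set F := fixIdeal σ with hF
    set G : Ideal (PowerSeries B) :=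
      Ideal.span {σ (X : PowerSeries B) - X, algebraMap B (PowerSeries B) (π ^ j)} with hG
    have hFG : (F : Submodule (PowerSeries B) (PowerSeries B)).FG := IsNoetherian.noetherian F
    have hm : Ideal.span ({(X : PowerSeries B)} : Set (PowerSeries B)) ≤ Ideal.jacobson ⊥ := by
      rw [IsLocalRing.jacobson_eq_maximalIdeal ⊥ bot_ne_top, Ideal.span_le,
        Set.singleton_subset_iff]
      show ¬ IsUnit (X : PowerSeries B)
      intro h
      have := PowerSeries.isUnit_constantCoeff _ h
      simp at this
    refine Submodule.le_of_le_smul_of_le_jacobson_bot hFG hm ?_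
    rw [hF, fixIdeal, Ideal.span_le]
    rintro _ ⟨r, rfl⟩
    obtain ⟨b, r₁, rfl⟩ : ∃ (b : B) (r₁ : PowerSeries B),
        r = algebraMap B (PowerSeries B) b + X * r₁ :=
      ⟨constantCoeff r, PowerSeries.mk fun p => coeff (p + 1) r, by
        rw [add_comm]; exact eq_X_mul_shift_add_const r⟩
    have hrw : σ (algebraMap B (PowerSeries B) b + X * r₁) -
        (algebraMap B (PowerSeries B) b + X * r₁) =
        ((σ (algebraMap B (PowerSeries B) b) - algebraMap B (PowerSeries B) b) +
          (σ (X : PowerSeries B) - X) * σ r₁) + (X : PowerSeries B) * (σ r₁ - r₁) := by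
      rw [map_add, map_mul]
      ring
    show σ _ - _ ∈ _
    rw [hrw]
    apply Submodule.add_mem_sup
    · apply Ideal.add_mem
      · have hle : Ideal.span ({algebraMap B (PowerSeries B) (π ^ j)} : Set (PowerSeries B)) ≤ G := by
          rw [Ideal.span_le, Set.singleton_subset_iff]
          exact Ideal.subset_span (by simp)
        exact hle (hσB b)
      · exact Ideal.mul_mem_right _ _ (Ideal.subset_span (by simp))
    · exact Submodule.smul_mem_smul (Ideal.subset_span rfl) (Ideal.subset_span ⟨r₁, rfl⟩)
  · rw [Ideal.span_le]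
    rintro x (rfl | rfl)
    · exact Ideal.subset_span ⟨X, rfl⟩
    · have h1 : σ (algebraMap B (PowerSeries B) π) - algebraMap B (PowerSeries B) π ∈ fixIdeal σ :=
        Ideal.subset_span ⟨_, rfl⟩
      rw [hσπ, map_add, add_sub_cancel_left, map_mul] at h1
      obtain ⟨γ', hγ'⟩ := hγ.exists_left_inv
      have h2 := Ideal.mul_mem_left (fixIdeal σ) (algebraMap B (PowerSeries B) γ') h1
      rw [← mul_assoc, ← map_mul, hγ', map_one, one_mul] at h2
      exact h2

omit [IsDomain B] [IsNoetherianRing B] in
/-- kernel of reduction to the residue field. -/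
theorem ker_map_residue {π : B} (hmax : IsLocalRing.maximalIdeal B = Ideal.span {π}) :
    RingHom.ker (PowerSeries.map (IsLocalRing.residue B)) = Ideal.span {(C π : PowerSeries B)} := by
  ext φ
  rw [RingHom.mem_ker, Ideal.mem_span_singleton, C_dvd_iff]
  constructor
  · intro H n
    have := congrArg (coeff n) H
    rw [coeff_map, map_zero, IsLocalRing.residue_eq_zero_iff, hmax,
      Ideal.mem_span_singleton] at this
    exact this
  · intro H
    ext n
    rw [coeff_map, map_zero, IsLocalRing.residue_eq_zero_iff, hmax, Ideal.mem_span_singleton]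
    exact H n

omit [IsDomain B] [IsNoetherianRing B] in
/-- comparing lengths over `B[[t]]` and `k[[t]]`. -/
theorem length_quot_span_C_eq {π : B} (hmax : IsLocalRing.maximalIdeal B = Ideal.span {π})
    (f : PowerSeries B) :
    Module.length (PowerSeries B) (PowerSeries B ⧸ Ideal.span ({C π, f} : Set (PowerSeries B))) =
      Module.length (PowerSeries (IsLocalRing.ResidueField B))
        (PowerSeries (IsLocalRing.ResidueField B) ⧸
          Ideal.span ({PowerSeries.map (IsLocalRing.residue B) f} :
            Set (PowerSeries (IsLocalRing.ResidueField B)))) := by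
  let φ : PowerSeries B →+* PowerSeries (IsLocalRing.ResidueField B) :=
    PowerSeries.map (IsLocalRing.residue B)
  have hφ : Function.Surjective φ :=
    PowerSeries.map_surjective _ IsLocalRing.residue_surjective
  letI : Algebra (PowerSeries B) (PowerSeries (IsLocalRing.ResidueField B)) := φ.toAlgebra
  rw [← Module.length_eq_of_surjective (S := PowerSeries B)
    (R := PowerSeries (IsLocalRing.ResidueField B)) hφ]
  apply LinearEquiv.length_eq
  let J : Ideal (PowerSeries (IsLocalRing.ResidueField B)) := Ideal.span {φ f}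
  let g : PowerSeries B →ₗ[PowerSeries B] (PowerSeries (IsLocalRing.ResidueField B) ⧸ J) :=
    (Submodule.mkQ J).restrictScalars (PowerSeries B) ∘ₗ
      (Algebra.linearMap (PowerSeries B) (PowerSeries (IsLocalRing.ResidueField B)))
  have hg : ∀ x, g x = Ideal.Quotient.mk J (φ x) := fun x => rfl
  have hgs : Function.Surjective g := by
    intro y
    obtain ⟨y, rfl⟩ := Ideal.Quotient.mk_surjective y
    obtain ⟨x, rfl⟩ := hφ y
    exact ⟨x, rfl⟩
  have hker : LinearMap.ker g = Ideal.span ({C π, f} : Set (PowerSeries B)) := by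
    ext x
    rw [LinearMap.mem_ker, hg, Ideal.Quotient.eq_zero_iff_mem]
    have h1 : φ x ∈ J ↔ x ∈ Ideal.comap φ (Ideal.map φ (Ideal.span {f})) := by
      rw [Ideal.mem_comap, Ideal.map_span, Set.image_singleton]
    rw [h1, Ideal.comap_map_of_surjective φ hφ, ← RingHom.ker_eq_comap_bot,
      show RingHom.ker φ = Ideal.span {(C π : PowerSeries B)} from ker_map_residue hmax,
      ← Ideal.span_union, Set.union_comm]
    rfl
  exact (Submodule.quotEquivOfEq _ _ hker.symm).trans (g.quotKerEquivOfSurjective hgs)

end Groth.Agent.Lib.helper11.PSFix
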