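import Mathlib
import Groth.Agent.Lib.helper11.PSFix

/-!
# colon of a pair (helper11)
-/

set_option autoImplicit false

namespace Groth.Agent.Lib.helper11.NodeLen

universe u

variable {A : Type u} [CommRing A]

/-- colon of `D · (x, y)` by a nonzerodivisor `D`. -/
theorem colon_span_pair {D x y : A} (hD : ∀ w : A, D * w = 0 → w = 0) :
    (Ideal.span ({D * x, D * y} : Set A)).colon {D} = Ideal.span ({x, y} : Set A) := by
  ext w
  rw [Submodule.mem_colon_singleton, Ideal.mem_span_pair, Ideal.mem_span_pair]
  constructor
  · rintro ⟨u, v, h⟩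
    refine ⟨u, v, ?_⟩
    have : D * (u * x + v * y - w) = 0 := by
      rw [smul_eq_mul] at h
      linear_combination h
    have := hD _ this
    linear_combination this
  · rintro ⟨u, v, rfl⟩
    exact ⟨u, v, by rw [smul_eq_mul]; ring⟩

end Groth.Agent.Lib.helper11.NodeLen
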