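import Mathlib
import Groth.Agent.Lib.helper11.LatticeMult
import Groth.Agent.Lib.helper11.OneDimNorm
import Groth.Agent.Lib.helper11.CanonFrac

/-!
# Number of generators of torsion-free modules over curve singularities (helper11)

`μ(M) ≤ rank(M) · ℓ(B/mB)` for a finitely generated torsion-free module over a one-dimensional
Noetherian local domain with infinite residue field and finite normalisation `B`.
-/

set_option autoImplicit false

namespace Groth.Agent.Lib.helper11.TFGen

open IsLocalRing TensorProduct
open scoped Pointwise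

universe u

section Nakayama

variable (O : Type u) [CommRing O] [IsLocalRing O] (M : Type u) [AddCommGroup M] [Module O M]
  [Module.Finite O M]

/-- `μ(M) ≤ ℓ(M/mM)`. -/
theorem spanFinrank_top_le_length :
    ((⊤ : Submodule O M).spanFinrank : ℕ∞) ≤
      Module.length O (M ⧸ maximalIdeal O • (⊤ : Submodule O M)) := by
  classical
  letI : Module (ResidueField O) (M ⧸ maximalIdeal O • (⊤ : Submodule O M)) :=
    inferInstanceAs (Module (O ⧸ maximalIdeal O) (M ⧸ maximalIdeal O • (⊤ : Submodule O M)))
  haveI : IsScalarTower O (ResidueField O) (M ⧸ maximalIdeal O • (⊤ : Submodule O M)) :=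
    inferInstanceAs (IsScalarTower O (O ⧸ maximalIdeal O)
      (M ⧸ maximalIdeal O • (⊤ : Submodule O M)))
  haveI : Module.Finite (ResidueField O) (M ⧸ maximalIdeal O • (⊤ : Submodule O M)) :=
    Module.Finite.of_restrictScalars_finite O _ _
  rw [Module.length_eq_of_surjective (S := O) (R := ResidueField O)
    (M := M ⧸ maximalIdeal O • (⊤ : Submodule O M)) Ideal.Quotient.mk_surjective,
    Module.length_eq_finrank]
  set r := Module.finrank (ResidueField O) (M ⧸ maximalIdeal O • (⊤ : Submodule O M)) with hr
  let b : Module.Basis (Fin r) (ResidueField O) (M ⧸ maximalIdeal O • (⊤ : Submodule O M)) :=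
    Module.finBasis _ _
  choose f hf using fun i => Submodule.mkQ_surjective (maximalIdeal O • (⊤ : Submodule O M)) (b i)
  have hspan : Submodule.span O (Set.range f) = ⊤ := by
    rw [← IsLocalRing.map_mkQ_eq_top, Submodule.map_span, ← Set.range_comp]
    have : (⇑(Submodule.mkQ (maximalIdeal O • (⊤ : Submodule O M))) ∘ f) = b := funext hf
    rw [this]
    have h2 := Submodule.restrictScalars_span O (ResidueField O)
      (Ideal.Quotient.mk_surjective (I := maximalIdeal O)) (Set.range b)
    rw [← h2, b.span_eq, Submodule.restrictScalars_top]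
  have hle : (Submodule.span O (Set.range f)).spanFinrank ≤ r := by
    have h3 := Submodule.spanFinrank_span_le_ncard_of_finite (R := O) (Set.finite_range f)
    refine h3.trans ?_
    have : Set.range f = ((Finset.univ.image f : Finset M) : Set M) := by simp
    rw [this, Set.ncard_coe_finset]
    exact Finset.card_image_le.trans (by simp)
  rw [hspan] at hle
  exact_mod_cast hle

end Nakayama

section Main

variable (O : Type u) [CommRing O] [IsDomain O] [IsNoetherianRing O] [IsLocalRing O]
  (K : Type u) [Field K] [Algebra O K] [IsFractionRing O K]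

omit [IsNoetherianRing O] [IsLocalRing O] in
/-- the localisation map `M → K ⊗ M` of a torsion-free module is injective and spans. -/
theorem mk_injective (M : Type u) [AddCommGroup M] [Module O M] [NoZeroSMulDivisors O M] :
    Function.Injective (TensorProduct.mk O K M 1) := by
  rw [← LinearMap.ker_eq_bot, LinearMap.ker_eq_bot']
  intro m hm
  obtain ⟨s, hs⟩ := (IsLocalizedModule.eq_zero_iff (nonZeroDivisors O)
    (TensorProduct.mk O K M 1)).mp hm
  have hs' : (s : O) • m = 0 := hs
  exact (smul_eq_zero.mp hs').resolve_left (nonZeroDivisors.ne_zero s.2)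

omit [IsDomain O] [IsNoetherianRing O] [IsLocalRing O] [IsFractionRing O K] in
theorem span_range_mk (M : Type u) [AddCommGroup M] [Module O M] :
    Submodule.span K (Set.range (TensorProduct.mk O K M 1)) = ⊤ := by
  rw [eq_top_iff]
  rintro t -
  induction t using TensorProduct.induction_on with
  | zero => exact Submodule.zero_mem _
  | tmul c m =>
    have : c ⊗ₜ[O] m = c • ((1 : K) ⊗ₜ[O] m) := by
      rw [TensorProduct.smul_tmul', smul_eq_mul, mul_one]
    rw [this]
    exact Submodule.smul_mem _ c (Submodule.subset_span ⟨m, rfl⟩)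
  | add a b ha hb => exact Submodule.add_mem _ ha hb

/-- **`μ(M) ≤ rank(M) · ℓ(B/mB)`**. -/
theorem main [Infinite (ResidueField O)] (hdim : ringKrullDim O = 1)
    (hfin : Module.Finite O ↥(integralClosure O K))
    (M : Type u) [AddCommGroup M] [Module O M] [Module.Finite O M] [NoZeroSMulDivisors O M]
    (n : ℕ) (hn : Module.finrank K (TensorProduct O K M) = n) :
    ((⊤ : Submodule O M).spanFinrank : ℕ∞) ≤
      (n : ℕ∞) * Module.length O (↥(integralClosure O K) ⧸
        (maximalIdeal O) • (⊤ : Submodule O ↥(integralClosure O K))) := by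
  haveI : Ring.KrullDimLE 1 O := Ring.krullDimLE_iff.mpr hdim.le
  -- the element `x₀`
  set W : Submodule O K := Submodule.map (Algebra.linearMap O K) (maximalIdeal O) with hW
  obtain ⟨a, ham, ha0⟩ := Groth.Agent.Lib.helper11.CanonFrac.exists_mem_maximalIdeal_ne_zero hdim
  have hW0 : W ≠ ⊥ := by
    intro h
    have h1 : algebraMap O K a ∈ W := ⟨a, ham, rfl⟩
    rw [h, Submodule.mem_bot] at h1
    exact ha0 (IsFractionRing.injective O K (by rw [h1, map_zero]))
  have hWfg : W.FG := Submodule.FG.map _ (IsNoetherian.noetherian (maximalIdeal O))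
  obtain ⟨x, hxW, hx0, hx⟩ :=
    Groth.Agent.Lib.helper11.OneDimNorm.exists_generator hdim hfin W hW0 hWfg
  obtain ⟨x₀, hx₀m, rfl⟩ := hxW
  have hx₀0 : x₀ ≠ 0 := by
    rintro rfl
    exact hx0 (map_zero _)
  -- (A)
  have hA : Module.length O (M ⧸ (x₀ • (⊤ : Submodule O M))) = (n : ℕ∞) * Ring.ord O x₀ := by
    rw [← hn]
    exact Groth.Agent.Lib.helper11.LatticeMult.length_quot_smul (K := K)
      (V := TensorProduct O K M) x₀ hx₀0 (TensorProduct.mk O K M 1)
      (mk_injective O K M) (span_range_mk O K M)
  -- (B)
  have hB : Module.length O (↥(integralClosure O K) ⧸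
      (x₀ • (⊤ : Submodule O ↥(integralClosure O K)))) = Ring.ord O x₀ := by
    have h := Groth.Agent.Lib.helper11.LatticeMult.length_quot_smul (K := K) (V := K) x₀ hx₀0
      (M := ↥(integralClosure O K)) (integralClosure O K).val.toLinearMap
      Subtype.val_injective (by
        rw [eq_top_iff]
        intro c _
        have h1 : (1 : K) ∈ Submodule.span K
            (Set.range ((integralClosure O K).val.toLinearMap)) :=
          Submodule.subset_span ⟨1, rfl⟩
        have h2 := Submodule.smul_mem _ c h1
        rwa [smul_eq_mul, mul_one] at h2)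
    rw [Module.finrank_self, Nat.cast_one, one_mul] at h
    exact h
  -- (C)
  have hC : (maximalIdeal O) • (⊤ : Submodule O ↥(integralClosure O K)) =
      x₀ • (⊤ : Submodule O ↥(integralClosure O K)) := by
    apply le_antisymm
    · rw [Submodule.smul_le]
      intro r hr b _
      have hmem : (algebraMap O K x₀)⁻¹ * algebraMap O K r ∈ integralClosure O K :=
        hx _ ⟨r, hr, rfl⟩
      have : r • b = x₀ • (⟨(algebraMap O K x₀)⁻¹ * algebraMap O K r, hmem⟩ * b) := by
        apply Subtype.ext
        have hne : algebraMap O K x₀ ≠ 0 := hx0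
        change r • (b : K) = x₀ • (((algebraMap O K x₀)⁻¹ * algebraMap O K r) * (b : K))
        rw [Algebra.smul_def, Algebra.smul_def]
        field_simp
      rw [this]
      exact Submodule.smul_mem_pointwise_smul _ x₀ ⊤ trivial
    · intro b hb
      obtain ⟨b', -, rfl⟩ := (Submodule.mem_smul_pointwise_iff_exists _ _ _).mp hb
      exact Submodule.smul_mem_smul hx₀m trivial
  -- (D)
  have hD : Module.length O (M ⧸ maximalIdeal O • (⊤ : Submodule O M)) ≤
      Module.length O (M ⧸ (x₀ • (⊤ : Submodule O M))) := by
    have hle : x₀ • (⊤ : Submodule O M) ≤ maximalIdeal O • (⊤ : Submodule O M) := by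
      intro y hy
      obtain ⟨y', -, rfl⟩ := (Submodule.mem_smul_pointwise_iff_exists _ _ _).mp hy
      exact Submodule.smul_mem_smul hx₀m trivial
    exact Module.length_le_of_surjective (Submodule.factor hle) (Submodule.factor_surjective hle)
  calc ((⊤ : Submodule O M).spanFinrank : ℕ∞)
      ≤ Module.length O (M ⧸ maximalIdeal O • (⊤ : Submodule O M)) :=
        spanFinrank_top_le_length O M
    _ ≤ Module.length O (M ⧸ (x₀ • (⊤ : Submodule O M))) := hD
    _ = (n : ℕ∞) * Ring.ord O x₀ := hA
    _ = _ := by rw [hC, hB]

end Main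

end Groth.Agent.Lib.helper11.TFGen
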