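import Mathlib
import Groth.Agent.Lib.helper11.PSGaps
import Groth.Agent.Lib.helper11.PSRing
import Groth.Agent.Lib.helper11.TFGen

/-!
# Rank one torsion-free modules over subalgebras of `k⟦X⟧` (helper11)

* `mem_of_vset`: successive approximation inside a `k`-subspace of `k⟦X⟧`;
* `exists_conductor`: a finite birational subalgebra `A ⊆ k⟦X⟧` contains some `X^c k⟦X⟧`;
* `mem_of_add_le`: the conductor of a `Γ`-stable set is at most `δ(Γ) + δ(ΓN)`;
* `exists_injective_to_ring`: a rank one torsion-free module embeds into the ring;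
* `main`: normal form `X^{2δ} k⟦X⟧ ⊆ M' ⊆ k⟦X⟧`, `dim k⟦X⟧/M' = δ`.
-/

set_option autoImplicit false

namespace Groth.Agent.Lib.helper11.PSRankOne

open PowerSeries

universe u

variable {k : Type u} [Field k]

/-- successive approximation: if `S` contains everything of order `≥ c` and elements of every order
in `[c', c)`, then it contains everything of order `≥ c'`. -/
theorem mem_of_vset (S : Submodule k (PowerSeries k)) (c c' : ℕ)
    (hS : ∀ f : PowerSeries k, (c : ℕ∞) ≤ order f → f ∈ S)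
    (h : ∀ n : ℕ, c' ≤ n → n < c → ∃ g ∈ S, order g = (n : ℕ∞))
    {f : PowerSeries k} (hf : (c' : ℕ∞) ≤ order f) : f ∈ S := by
  have key : ∀ m : ℕ, ∀ j : ℕ, j + m = c → c' ≤ j → ∀ f : PowerSeries k,
      (j : ℕ∞) ≤ order f → f ∈ S := by
    intro m
    induction m with
    | zero =>
      intro j hj _ f hf
      apply hS
      rw [Nat.add_zero] at hj
      rwa [← hj]
    | succ m ih =>
      intro j hj hj' f hf
      obtain ⟨g, hgS, hg⟩ := h j hj' (by omega)
      have hg0 : g ≠ 0 := by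
        intro h0
        rw [h0, order_zero] at hg
        exact ENat.top_ne_coe _ hg
      have hb : coeff j g ≠ 0 := by
        have := coeff_order hg0
        rwa [hg, ENat.toNat_coe] at this
      set lam : k := coeff j f / coeff j g with hlam
      have hf' : ((j + 1 : ℕ) : ℕ∞) ≤ order (f - lam • g) := by
        apply le_order
        intro i hi
        have hi' : i < j + 1 := by exact_mod_cast hi
        rw [map_sub, coeff_smul]
        rcases Nat.lt_succ_iff_lt_or_eq.mp hi' with hlt | heq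
        · rw [coeff_of_lt_order i (lt_of_lt_of_le (by exact_mod_cast hlt) hf),
            coeff_of_lt_order i (by rw [hg]; exact_mod_cast hlt), smul_zero, sub_zero]
        · rw [heq, hlam, smul_eq_mul, div_mul_cancel₀ _ hb, sub_self]
      have := ih (j + 1) (by omega) (by omega) _ hf'
      have h2 : f = (f - lam • g) + lam • g := by ring
      rw [h2]
      exact S.add_mem this (S.smul_mem _ hgS)
  by_cases hcc : c ≤ c'
  · exact hS f (le_trans (by exact_mod_cast hcc) hf)
  · push Not at hcc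
    exact key (c - c') c' (by omega) le_rfl f hf

/-- the conductor of a stable set: if `Γ + ΓN ⊆ ΓN` then every `n ≥ #Γᶜ + #ΓNᶜ` lies in `ΓN`. -/
theorem mem_of_add_le (Γ ΓN : Set ℕ) (hΓfin : Γᶜ.Finite) (hNfin : ΓNᶜ.Finite)
    (hadd : ∀ s ∈ Γ, ∀ t ∈ ΓN, s + t ∈ ΓN) (n : ℕ) (hn : Γᶜ.ncard + ΓNᶜ.ncard ≤ n) :
    n ∈ ΓN := by
  classical
  by_contra hn'
  have hIic : (Set.Iic n).ncard = n + 1 := by
    have : Set.Iic n = ↑(Finset.range (n + 1)) := by
      ext j; simp [Nat.lt_succ_iff]
    rw [this, Set.ncard_coe_finset, Finset.card_range]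
  have hfin : (Set.Iic n).Finite := Set.finite_Iic n
  have h1 := Set.ncard_inter_add_ncard_diff_eq_ncard (Set.Iic n) Γ hfin
  have h2 : (Set.Iic n \ Γ).ncard ≤ Γᶜ.ncard :=
    Set.ncard_le_ncard (fun x hx => hx.2) hΓfin
  have h3 : (Set.Iic n ∩ Γ).ncard ≤ ΓNᶜ.ncard := by
    apply Set.ncard_le_ncard_of_injOn (fun s => n - s) _ _ hNfin
    · rintro s ⟨hs1, hs2⟩ hmem
      apply hn'
      have := hadd s hs2 (n - s) hmem
      rw [Set.mem_Iic] at hs1
      rwa [Nat.add_sub_cancel' hs1] at this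
    · rintro a ⟨ha, _⟩ b ⟨hb, _⟩ hab
      rw [Set.mem_Iic] at ha hb
      simp only at hab
      omega
  omega


/-- a finite birational subalgebra of `k⟦X⟧` contains `X^c k⟦X⟧` for some `c`. -/
theorem exists_conductor (A : Subalgebra k (PowerSeries k))
    (hA : Module.Finite ↥A (PowerSeries k))
    (hbir : ∀ f : PowerSeries k, ∃ a ∈ A, a ≠ 0 ∧ a * f ∈ A) :
    ∃ c : ℕ, ∀ f : PowerSeries k, X ^ c * f ∈ A := by
  classical
  obtain ⟨s, hs⟩ := hA.fg_top
  choose a haA ha0 haf using hbir
  set d : PowerSeries k := ∏ p ∈ s, a p with hd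
  have hdA : d ∈ A := Subalgebra.prod_mem A (fun p _ => haA p)
  have hd0 : d ≠ 0 := Finset.prod_ne_zero_iff.mpr (fun p _ => ha0 p)
  have hdp : ∀ p ∈ s, d * p ∈ A := by
    intro p hp
    rw [hd, ← Finset.mul_prod_erase s a hp]
    have : (a p * ∏ x ∈ s.erase p, a x) * p = (∏ x ∈ s.erase p, a x) * (a p * p) := by ring
    rw [this]
    exact A.mul_mem (Subalgebra.prod_mem A (fun q _ => haA q)) (haf p)
  have hdf : ∀ f : PowerSeries k, d * f ∈ A := by
    intro f
    have hf : f ∈ Submodule.span ↥A (s : Set (PowerSeries k)) := by rw [hs]; trivial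
    induction hf using Submodule.span_induction with
    | mem x hx => exact hdp x hx
    | zero => rw [mul_zero]; exact A.zero_mem
    | add x y _ _ hx hy => rw [mul_add]; exact A.add_mem hx hy
    | smul b x _ hx =>
      have : d * (b • x) = (b : PowerSeries k) * (d * x) := by
        rw [Algebra.smul_def]
        change d * ((b : PowerSeries k) * x) = _
        ring
      rw [this]
      exact A.mul_mem b.2 hx
  obtain ⟨u, hu⟩ := isUnit_divided_by_X_pow_order hd0
  refine ⟨(order d).toNat, fun f => ?_⟩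
  have hdu : d = X ^ (order d).toNat * (u : PowerSeries k) := by
    rw [hu]; exact (X_pow_order_mul_divXPowOrder (f := d)).symm
  have : X ^ (order d).toNat * f = d * (((u⁻¹ : (PowerSeries k)ˣ) : PowerSeries k) * f) := by
    have huu : (u : PowerSeries k) * ((u⁻¹ : (PowerSeries k)ˣ) : PowerSeries k) = 1 :=
      Units.mul_inv u
    conv_rhs => rw [hdu]
    calc X ^ (order d).toNat * f = X ^ (order d).toNat * (((u : PowerSeries k) *
          ((u⁻¹ : (PowerSeries k)ˣ) : PowerSeries k)) * f) := by rw [huu, one_mul]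
      _ = _ := by ring
  rw [this]
  exact hdf _


/-- a finitely generated torsion-free module of rank one over a domain embeds into the ring. -/
theorem exists_injective_to_ring (O : Type u) [CommRing O] [IsDomain O] (M : Type u)
    [AddCommGroup M] [Module O M] [Module.Finite O M] [NoZeroSMulDivisors O M]
    (hrk : Module.finrank (FractionRing O) (TensorProduct O (FractionRing O) M) = 1) :
    ∃ ψ : M →ₗ[O] O, Function.Injective ψ := by
  classical
  have hinj := Groth.Agent.Lib.helper11.TFGen.mk_injective O (FractionRing O) M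
  haveI : Module.Finite (FractionRing O) (TensorProduct O (FractionRing O) M) := inferInstance
  have e : TensorProduct O (FractionRing O) M ≃ₗ[FractionRing O] FractionRing O :=
    LinearEquiv.ofFinrankEq _ _ (by rw [hrk, Module.finrank_self])
  let φ : M →ₗ[O] FractionRing O :=
    (e.restrictScalars O).toLinearMap ∘ₗ (TensorProduct.mk O (FractionRing O) M 1)
  have hφ : Function.Injective φ := (e.restrictScalars O).injective.comp hinj
  have hfg : (LinearMap.range φ).FG := by
    rw [LinearMap.range_eq_map]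
    exact (Module.Finite.fg_top).map φ
  obtain ⟨a, ha, hint⟩ := FractionalIdeal.isFractional_of_fg (S := nonZeroDivisors O) hfg
  let L : O →ₗ[O] FractionRing O := Algebra.linearMap O (FractionRing O)
  have hL : Function.Injective L := IsFractionRing.injective O (FractionRing O)
  let eL := LinearEquiv.ofInjective L hL
  let φ' : M →ₗ[O] LinearMap.range L := LinearMap.codRestrict (LinearMap.range L) (a • φ)
    (fun m => by
      obtain ⟨r, hr⟩ := hint (φ m) ⟨m, rfl⟩
      exact ⟨r, hr⟩)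
  refine ⟨eL.symm.toLinearMap ∘ₗ φ', eL.symm.injective.comp ?_⟩
  intro x y hxy
  have h1 : a • φ x = a • φ y := congrArg Subtype.val hxy
  exact hφ (smul_right_injective _ (nonZeroDivisors.ne_zero ha) h1)

/-- a nonzero `A`-submodule of `k⟦X⟧` is isomorphic to one containing `1`. -/
theorem exists_submodule_one_mem (A : Subalgebra k (PowerSeries k))
    (N₀ : Submodule ↥A (PowerSeries k)) (hN₀ : N₀ ≠ ⊥) :
    ∃ N : Submodule ↥A (PowerSeries k), (1 : PowerSeries k) ∈ N ∧ Nonempty (↥N₀ ≃ₗ[↥A] ↥N) := by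
  classical
  obtain ⟨g₀, hg₀N, hg₀0⟩ := Submodule.exists_mem_ne_zero_of_ne_bot hN₀
  have hS : ∃ n : ℕ, ∃ g ∈ N₀, g ≠ 0 ∧ order g = (n : ℕ∞) := by
    refine ⟨(order g₀).toNat, g₀, hg₀N, hg₀0, ?_⟩
    rw [ENat.coe_toNat]
    exact fun h => hg₀0 (order_eq_top.mp h)
  obtain ⟨m₀, hm₀N, hm₀0, hm₀v⟩ := Nat.find_spec hS
  have hmin : ∀ g ∈ N₀, g ≠ 0 → ((Nat.find hS : ℕ) : ℕ∞) ≤ order g := by
    intro g hg hg0
    have hgo : order g = ((order g).toNat : ℕ∞) := by
      rw [ENat.coe_toNat]
      exact fun h => hg0 (order_eq_top.mp h)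
    have := Nat.find_min' hS ⟨g, hg, hg0, hgo⟩
    rw [hgo]
    exact_mod_cast this
  let μ : PowerSeries k →ₗ[↥A] PowerSeries k := LinearMap.mulLeft ↥A m₀
  refine ⟨N₀.comap μ, ?_, ?_⟩
  · change m₀ * 1 ∈ N₀
    rwa [mul_one]
  · let r : ↥(N₀.comap μ) →ₗ[↥A] ↥N₀ := μ.restrict (p := N₀.comap μ) (q := N₀) (fun x hx => hx)
    have hr : Function.Bijective r := by
      constructor
      · intro x y hxy
        have h1 : m₀ * (x : PowerSeries k) = m₀ * (y : PowerSeries k) := congrArg Subtype.val hxy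
        exact Subtype.ext (mul_left_cancel₀ hm₀0 h1)
      · rintro ⟨g, hg⟩
        by_cases hg0 : g = 0
        · refine ⟨0, ?_⟩
          apply Subtype.ext
          change m₀ * 0 = g
          rw [mul_zero, hg0]
        · have hle := hmin g hg hg0
          have hy : (((order m₀).toNat + 0 : ℕ) : ℕ∞) ≤ order g := by
            rw [hm₀v, ENat.toNat_coe, Nat.add_zero]
            exact hle
          obtain ⟨q, -, hq⟩ := Groth.Agent.Lib.helper11.PSRing.exists_mul_eq
            (⊤ : Subalgebra k (PowerSeries k)) 0 (fun _ => Algebra.mem_top) hm₀0 hy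
          refine ⟨⟨q, ?_⟩, ?_⟩
          · change m₀ * q ∈ N₀
            rw [← hq]; exact hg
          · apply Subtype.ext
            change m₀ * q = g
            exact hq.symm
    exact ⟨(LinearEquiv.ofBijective r hr).symm⟩


/-- **Normal form of rank one torsion-free modules**: every finitely generated torsion-free module of
rank one over a finite birational subalgebra `A ⊆ k⟦X⟧` with `δ` gaps is isomorphic to some
`M' ⊆ k⟦X⟧` with `X^{2δ} k⟦X⟧ ⊆ M'` and `dim k⟦X⟧/M' = δ`. -/
theorem main (A : Subalgebra k (PowerSeries k)) (hA : Module.Finite ↥A (PowerSeries k))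
    (hbir : ∀ f : PowerSeries k, ∃ a ∈ A, a ≠ 0 ∧ a * f ∈ A)
    (Γ : Set ℕ) (hΓ : ∀ n : ℕ, n ∈ Γ ↔ ∃ f ∈ A, PowerSeries.order f = n)
    (M : Type u) [AddCommGroup M] [Module ↥A M] [Module.Finite ↥A M] [NoZeroSMulDivisors ↥A M]
    (hrk : Module.finrank (FractionRing ↥A) (TensorProduct ↥A (FractionRing ↥A) M) = 1) :
    ∃ M' : Submodule ↥A (PowerSeries k),
      (Ideal.span {(PowerSeries.X : PowerSeries k) ^ (2 * Γᶜ.ncard)}).restrictScalars ↥A ≤ M' ∧
      Nonempty (M ≃ₗ[↥A] ↥M') ∧
      Module.finrank k (PowerSeries k ⧸ M'.restrictScalars k) = Γᶜ.ncard := by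
  classical
  obtain ⟨c, hc⟩ := exists_conductor A hA hbir
  obtain ⟨ψ, hψ⟩ := exists_injective_to_ring ↥A M hrk
  let ρ : M →ₗ[↥A] PowerSeries k := (Algebra.linearMap ↥A (PowerSeries k)) ∘ₗ ψ
  have hρ : Function.Injective ρ := Subtype.val_injective.comp hψ
  let e₀ : M ≃ₗ[↥A] ↥(LinearMap.range ρ) := LinearEquiv.ofInjective ρ hρ
  have hN₀ : LinearMap.range ρ ≠ ⊥ := by
    intro h
    have hsub : Subsingleton M := by
      refine ⟨fun x y => hρ ?_⟩
      have hx : ρ x ∈ LinearMap.range ρ := ⟨x, rfl⟩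
      have hy : ρ y ∈ LinearMap.range ρ := ⟨y, rfl⟩
      rw [h, Submodule.mem_bot] at hx hy
      rw [hx, hy]
    have : Module.finrank (FractionRing ↥A) (TensorProduct ↥A (FractionRing ↥A) M) = 0 :=
      Module.finrank_zero_of_subsingleton
    omega
  obtain ⟨N, hN1, ⟨e₁⟩⟩ := exists_submodule_one_mem A (LinearMap.range ρ) hN₀
  set ΓN : Set ℕ := {n | ∃ f ∈ N, order f = (n : ℕ∞)} with hΓN
  have hAN : ∀ f ∈ A, f ∈ N := by
    intro f hf
    have : f = (⟨f, hf⟩ : ↥A) • (1 : PowerSeries k) := by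
      change f = f * 1
      rw [mul_one]
    rw [this]
    exact N.smul_mem _ hN1
  have hcN : ∀ f : PowerSeries k, X ^ c * f ∈ N.restrictScalars k := fun f => hAN _ (hc f)
  obtain ⟨hΓfin, -, -⟩ := Groth.Agent.Lib.helper11.PSGaps.main (Subalgebra.toSubmodule A) c hc Γ hΓ
  obtain ⟨hNfin, -, -⟩ := Groth.Agent.Lib.helper11.PSGaps.main (N.restrictScalars k) c hcN ΓN
    (fun n => Iff.rfl)
  have hsub : ΓNᶜ ⊆ Γᶜ := by
    apply Set.compl_subset_compl.mpr
    intro n hn
    rw [hΓ] at hn
    obtain ⟨f, hf, hfn⟩ := hn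
    exact ⟨f, hAN f hf, hfn⟩
  have hle : ΓNᶜ.ncard ≤ Γᶜ.ncard := Set.ncard_le_ncard hsub hΓfin
  have hadd : ∀ s ∈ Γ, ∀ t ∈ ΓN, s + t ∈ ΓN := by
    intro s hs t ht
    rw [hΓ] at hs
    obtain ⟨a, haA, has⟩ := hs
    obtain ⟨g, hgN, hgt⟩ := ht
    refine ⟨a * g, ?_, ?_⟩
    · have : a * g = (⟨a, haA⟩ : ↥A) • g := rfl
      rw [this]
      exact N.smul_mem _ hgN
    · rw [order_mul, has, hgt]
      push_cast
      rfl
  have hcond : ∀ f : PowerSeries k, ((Γᶜ.ncard + ΓNᶜ.ncard : ℕ) : ℕ∞) ≤ order f → f ∈ N := by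
    intro f hf
    exact mem_of_vset (N.restrictScalars k) c (Γᶜ.ncard + ΓNᶜ.ncard)
      (fun g hg => hAN g (Groth.Agent.Lib.helper11.PSRing.mem_of_le_order A c hc hg))
      (fun n hn _ => mem_of_add_le Γ ΓN hΓfin hNfin hadd n hn) hf
  set δ := Γᶜ.ncard with hδ
  set d := ΓNᶜ.ncard with hd
  let μ : PowerSeries k →ₗ[↥A] PowerSeries k := LinearMap.mulLeft ↥A (X ^ (δ - d))
  have hμ : Function.Injective μ := mul_right_injective₀ (pow_ne_zero _ X_ne_zero)
  refine ⟨N.map μ, ?_, ⟨e₀.trans (e₁.trans (Submodule.equivMapOfInjective μ hμ N))⟩, ?_⟩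
  · intro f hf
    rw [Submodule.restrictScalars_mem, Ideal.mem_span_singleton] at hf
    obtain ⟨g, rfl⟩ := hf
    refine ⟨X ^ (δ + d) * g, hcond _ ?_, ?_⟩
    · rw [order_mul, order_X_pow]
      exact le_self_add
    · change X ^ (δ - d) * (X ^ (δ + d) * g) = X ^ (2 * δ) * g
      rw [← mul_assoc, ← pow_add]
      congr 2
      omega
  · set ΓM' : Set ℕ := {m | ∃ j ∈ ΓN, m = (δ - d) + j} with hΓM'
    have hv : ∀ m : ℕ, m ∈ ΓM' ↔ ∃ f ∈ (N.map μ).restrictScalars k, order f = (m : ℕ∞) := by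
      intro m
      constructor
      · rintro ⟨j, ⟨g, hgN, hgj⟩, rfl⟩
        refine ⟨X ^ (δ - d) * g, ⟨g, hgN, rfl⟩, ?_⟩
        rw [order_mul, order_X_pow, hgj]
        push_cast
        rfl
      · rintro ⟨f, ⟨g, hgN, rfl⟩, hfm⟩
        change order (X ^ (δ - d) * g) = (m : ℕ∞) at hfm
        rw [order_mul, order_X_pow] at hfm
        have hg0 : order g ≠ ⊤ := by
          intro h
          rw [h, add_top] at hfm
          exact ENat.top_ne_coe _ hfm
        have hgo : order g = ((order g).toNat : ℕ∞) := (ENat.coe_toNat hg0).symm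
        refine ⟨(order g).toNat, ⟨g, hgN, hgo⟩, ?_⟩
        rw [hgo] at hfm
        exact_mod_cast hfm.symm
    have hcM : ∀ f : PowerSeries k, X ^ (c + (δ - d)) * f ∈ (N.map μ).restrictScalars k := by
      intro f
      refine ⟨X ^ c * f, hcN f, ?_⟩
      change X ^ (δ - d) * (X ^ c * f) = _
      rw [← mul_assoc, ← pow_add, add_comm]
    obtain ⟨-, -, hdim⟩ := Groth.Agent.Lib.helper11.PSGaps.main ((N.map μ).restrictScalars k)
      (c + (δ - d)) hcM ΓM' hv
    rw [hdim]
    have hcompl : ΓM'ᶜ = Set.Iio (δ - d) ∪ (fun j => (δ - d) + j) '' ΓNᶜ := by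
      ext m
      simp only [Set.mem_compl_iff, Set.mem_union, Set.mem_Iio, Set.mem_image]
      constructor
      · intro hm
        by_cases hlt : m < δ - d
        · exact Or.inl hlt
        · right
          refine ⟨m - (δ - d), ?_, by omega⟩
          intro hj
          exact hm ⟨m - (δ - d), hj, by omega⟩
      · rintro (hlt | ⟨j, hj, rfl⟩)
        · rintro ⟨j, -, rfl⟩
          omega
        · rintro ⟨j', hj', hjj⟩
          have : j = j' := by omega
          exact hj (this ▸ hj')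
    have hIio : (Set.Iio (δ - d)).ncard = δ - d := by
      have : Set.Iio (δ - d) = ↑(Finset.range (δ - d)) := by
        ext j; simp
      rw [this, Set.ncard_coe_finset, Finset.card_range]
    rw [hcompl, Set.ncard_union_eq ?_ (Set.finite_Iio _) (hNfin.image _), hIio,
      Set.ncard_image_of_injective _ (add_right_injective (δ - d))]
    · omega
    · rw [Set.disjoint_left]
      rintro m hm ⟨j, -, rfl⟩
      rw [Set.mem_Iio] at hm
      have hm' : (δ - d) + j < δ - d := hm
      omega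

end Groth.Agent.Lib.helper11.PSRankOne
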