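import Mathlib
import Groth.Agent.Lib.helper11.PSRankOne

/-!
# Multipliers between submodules of `k⟦X⟧` and their value sets (helper11)

`top_le_of_vset`: if `k⟦X⟧` is finite over the subalgebra `A` and the `A`-submodule `N` has elements
of every order `≥ c'`, then `N` contains everything of order `≥ c'` (Nakayama; no closedness used).
-/

set_option autoImplicit false

namespace Groth.Agent.Lib.helper11.PSMult

open PowerSeries

universe u

variable {k : Type u} [Field k]

/-- `k⟦X⟧` is not a finite `k`-module. -/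
theorem not_finite_powerSeries : ¬ Module.Finite k (PowerSeries k) := by
  intro h
  haveI := h
  have : Module.Finite k (Polynomial k) :=
    Module.Finite.of_injective (Polynomial.coeToPowerSeries.algHom k).toLinearMap
      (fun x y hxy => Polynomial.coe_injective k (by simpa using hxy))
  exact Polynomial.not_finite this

/-- a subalgebra over which `k⟦X⟧` is finite contains a nonzero element of positive order. -/
theorem exists_pos_order (A : Subalgebra k (PowerSeries k))
    (hA : Module.Finite ↥A (PowerSeries k)) :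
    ∃ a ∈ A, a ≠ 0 ∧ constantCoeff a = 0 := by
  by_contra hcon
  push Not at hcon
  have hbot : A = ⊥ := by
    rw [eq_bot_iff]
    intro f hf
    rw [Algebra.mem_bot]
    refine ⟨constantCoeff f, ?_⟩
    have hC : (algebraMap k (PowerSeries k)) (constantCoeff f) ∈ A := A.algebraMap_mem _
    have h0 := hcon (f - algebraMap k (PowerSeries k) (constantCoeff f)) (A.sub_mem hf hC)
    by_contra hne
    apply h0
    · intro h
      exact hne (sub_eq_zero.mp h).symm
    · rw [map_sub]
      change constantCoeff f - constantCoeff (C (constantCoeff f)) = 0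
      rw [constantCoeff_C, sub_self]
  subst hbot
  haveI := hA
  haveI : Module.Finite k ↥(⊥ : Subalgebra k (PowerSeries k)) := Subalgebra.finite_bot
  exact not_finite_powerSeries
    (Module.Finite.trans ↥(⊥ : Subalgebra k (PowerSeries k)) (PowerSeries k))

/-- Nakayama: a submodule with elements of every order `≥ c'` contains everything of order
`≥ c'`. -/
theorem top_le_of_vset (A : Subalgebra k (PowerSeries k)) (hA : Module.Finite ↥A (PowerSeries k))
    (N : Submodule ↥A (PowerSeries k)) (c' : ℕ)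
    (h : ∀ n : ℕ, c' ≤ n → ∃ g ∈ N, order g = (n : ℕ∞))
    {f : PowerSeries k} (hf : (c' : ℕ∞) ≤ order f) : f ∈ N := by
  classical
  obtain ⟨a, haA, ha0, hac⟩ := exists_pos_order A hA
  -- `T = X^c' k⟦X⟧`
  let μ : PowerSeries k →ₗ[↥A] PowerSeries k := LinearMap.mulLeft ↥A (X ^ c')
  set T : Submodule ↥A (PowerSeries k) := (⊤ : Submodule ↥A (PowerSeries k)).map μ with hT
  have hTfg : T.FG := (hA.fg_top).map μ
  have hmemT : ∀ g : PowerSeries k, g ∈ T ↔ (c' : ℕ∞) ≤ order g := by
    intro g
    constructor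
    · rintro ⟨q, -, rfl⟩
      change (c' : ℕ∞) ≤ order (X ^ c' * q)
      rw [order_mul, order_X_pow]
      exact le_self_add
    · intro hg
      have hdvd : X ^ c' ∣ g := by
        rw [X_pow_dvd_iff]
        intro m hm
        exact coeff_of_lt_order m (lt_of_lt_of_le (by exact_mod_cast hm) hg)
      obtain ⟨q, rfl⟩ := hdvd
      exact ⟨q, trivial, rfl⟩
  let ν : PowerSeries k →ₗ[↥A] PowerSeries k := LinearMap.mulLeft ↥A a
  -- `T ≤ N ⊔ a T`
  have hstep : ∀ g ∈ T, ∃ n ∈ N, ∃ t ∈ T, g = n + a * t := by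
    intro g hg
    have hgS : g ∈ (N ⊔ T.map ν).restrictScalars k := by
      apply Groth.Agent.Lib.helper11.PSRankOne.mem_of_vset ((N ⊔ T.map ν).restrictScalars k)
        ((order a).toNat + c') c' _ _ ((hmemT g).mp hg)
      · intro y hy
        have hy' : (((order a).toNat + 0 : ℕ) : ℕ∞) ≤ order y := by
          refine le_trans ?_ hy
          exact_mod_cast Nat.le_add_right _ _
        obtain ⟨q, -, hq⟩ := Groth.Agent.Lib.helper11.PSRing.exists_mul_eq
          (⊤ : Subalgebra k (PowerSeries k)) 0 (fun _ => Algebra.mem_top) ha0 hy'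
        have hqT : q ∈ T := by
          rw [hmemT]
          have hao : order a = ((order a).toNat : ℕ∞) := by
            rw [ENat.coe_toNat]
            exact fun h => ha0 (order_eq_top.mp h)
          rw [hq, order_mul, hao, ENat.toNat_coe] at hy
          push_cast at hy
          exact (ENat.add_le_add_iff_left (ENat.coe_ne_top _)).mp hy
        rw [Submodule.restrictScalars_mem]
        apply Submodule.mem_sup_right
        exact ⟨q, hqT, hq.symm⟩
      · intro n hn _
        obtain ⟨g', hg'N, hg'⟩ := h n hn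
        exact ⟨g', Submodule.mem_sup_left hg'N, hg'⟩
    rw [Submodule.restrictScalars_mem, Submodule.mem_sup] at hgS
    obtain ⟨n, hn, z, ⟨t, ht, rfl⟩, hsum⟩ := hgS
    exact ⟨n, hn, t, ht, hsum.symm⟩
  -- Nakayama in `k⟦X⟧ ⧸ N`
  let a' : ↥A := ⟨a, haA⟩
  have hW : T.map N.mkQ ≤ (Ideal.span {a'}) • T.map N.mkQ := by
    rintro w ⟨g, hg, rfl⟩
    obtain ⟨n, hn, t, ht, rfl⟩ := hstep g hg
    have : N.mkQ (n + a * t) = a' • N.mkQ t := by
      have hn0 : N.mkQ n = 0 := by
        rw [← LinearMap.mem_ker, Submodule.ker_mkQ]; exact hn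
      rw [map_add, hn0, zero_add]
      rfl
    rw [this]
    exact Submodule.smul_mem_smul (Ideal.mem_span_singleton_self a')
      (Submodule.mem_map_of_mem ht)
  obtain ⟨r, hr1, hr⟩ := Submodule.exists_sub_one_mem_and_smul_eq_zero_of_fg_of_le_smul
    (Ideal.span {a'}) (T.map N.mkQ) (hTfg.map _) hW
  -- `r` is a unit of `k⟦X⟧`
  have hrc : constantCoeff (r : PowerSeries k) = 1 := by
    obtain ⟨y, hy⟩ := Ideal.mem_span_singleton.mp hr1
    have h1 : (r : PowerSeries k) = 1 + a * (y : PowerSeries k) := by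
      have := congrArg (Subtype.val) hy
      have h2 : (r : PowerSeries k) - 1 = a * (y : PowerSeries k) := this
      rw [← h2]; ring
    rw [h1, map_add, map_mul, hac, zero_mul, add_zero, map_one]
  have hru : IsUnit (r : PowerSeries k) := by
    rw [isUnit_iff_constantCoeff, hrc]
    exact isUnit_one
  obtain ⟨ru, hru'⟩ := hru
  have hfT : ((ru⁻¹ : (PowerSeries k)ˣ) : PowerSeries k) * f ∈ T := by
    rw [hmemT, order_mul]
    exact le_trans hf le_add_self
  have hzero := hr _ (Submodule.mem_map_of_mem (f := N.mkQ) hfT)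
  rw [← map_smul, ← LinearMap.mem_ker, Submodule.ker_mkQ] at hzero
  have : r • (((ru⁻¹ : (PowerSeries k)ˣ) : PowerSeries k) * f) = f := by
    change (r : PowerSeries k) * (((ru⁻¹ : (PowerSeries k)ˣ) : PowerSeries k) * f) = f
    rw [← hru', ← mul_assoc, Units.mul_inv, one_mul]
  rwa [this] at hzero


/-- value sets of multipliers `(N : M)`: orders of multipliers shift `Γ(M)` into `Γ(N)`, and the
multipliers have the same conductor as `{n | n + Γ(M) ⊆ Γ(N)}`. -/
theorem main (A : Subalgebra k (PowerSeries k)) (hA : Module.Finite ↥A (PowerSeries k))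
    (M N : Submodule ↥A (PowerSeries k)) (hM1 : (1 : PowerSeries k) ∈ M)
    (ΓM ΓN : Set ℕ) (hΓM : ∀ n : ℕ, n ∈ ΓM ↔ ∃ f ∈ M, PowerSeries.order f = n)
    (hΓN : ∀ n : ℕ, n ∈ ΓN ↔ ∃ f ∈ N, PowerSeries.order f = n) :
    (∀ n : ℕ, (∃ u : PowerSeries k, PowerSeries.order u = n ∧ ∀ m ∈ M, u * m ∈ N) →
        ∀ a ∈ ΓM, n + a ∈ ΓN) ∧
      ∀ c' : ℕ, (∀ n : ℕ, c' ≤ n → ∃ u : PowerSeries k, PowerSeries.order u = n ∧
          ∀ m ∈ M, u * m ∈ N) ↔ (∀ n : ℕ, c' ≤ n → ∀ a ∈ ΓM, n + a ∈ ΓN) := by
  have part1 : ∀ n : ℕ, (∃ u : PowerSeries k, PowerSeries.order u = n ∧ ∀ m ∈ M, u * m ∈ N) →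
      ∀ a ∈ ΓM, n + a ∈ ΓN := by
    rintro n ⟨u, hu, huM⟩ a ha
    rw [hΓM] at ha
    obtain ⟨m, hm, hma⟩ := ha
    rw [hΓN]
    refine ⟨u * m, huM m hm, ?_⟩
    rw [order_mul, hu, hma]
    push_cast
    rfl
  refine ⟨part1, fun c' => ⟨fun h n hn => part1 n (h n hn), fun h n hn => ?_⟩⟩
  have h0 : (0 : ℕ) ∈ ΓM := by
    rw [hΓM]
    exact ⟨1, hM1, by rw [order_one]; rfl⟩
  have hall : ∀ j : ℕ, c' ≤ j → ∃ g ∈ N, order g = (j : ℕ∞) := by
    intro j hj
    have := h j hj 0 h0
    rwa [add_zero, hΓN] at this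
  refine ⟨X ^ n, order_X_pow n, fun m _ => ?_⟩
  apply top_le_of_vset A hA N c' hall
  rw [order_mul, order_X_pow]
  exact le_trans (by exact_mod_cast hn) le_self_add

end Groth.Agent.Lib.helper11.PSMult
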