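import Mathlib
import Groth.Prelude.Def_DRing2
import Groth.Agent.Lib.Helper8.Perf2
import Groth.Agent.Lib.helper11.RegularRingPD

/-!
# Perfect modules over regular rings (helper11)
-/

set_option autoImplicit false

namespace Groth.Agent.Lib.helper11.PerfectRegular

open CategoryTheory Limits DerivedCategory

universe u

attribute [local instance] HasDerivedCategory.standard

variable {R : Type u} [CommRing R]

/-- A finite projective module is perfect. -/
theorem isPerfectModule_of_finite_projective (P : Type u) [AddCommGroup P] [Module R P]
    [Module.Finite R P] [Module.Projective R P] : DRing.IsPerfectModule R P := by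
  let E : DRing.Cx R :=
    (HomologicalComplex.single (ModuleCat.{u} R) (ComplexShape.up ℤ) 0).obj (ModuleCat.of R P)
  refine ⟨E, 0, 0, ?_, ?_, ⟨((singleFunctorIsoCompQ (ModuleCat.{u} R) 0).app _).symm⟩⟩
  · intro i hi
    exact HomologicalComplex.isZero_single_obj_X _ _ _ _ (by omega)
  · intro i
    by_cases hi : i = 0
    · subst hi
      let e : E.X 0 ≅ ModuleCat.of R P := HomologicalComplex.singleObjXSelf _ _ _
      exact ⟨Module.Finite.equiv e.toLinearEquiv.symm,
        Module.Projective.of_equiv e.toLinearEquiv.symm⟩
    · have hz : IsZero (E.X i) := HomologicalComplex.isZero_single_obj_X _ _ _ _ hi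
      haveI : Subsingleton (E.X i) := ModuleCat.subsingleton_of_isZero hz
      exact ⟨inferInstance, inferInstance⟩

/-- A finite module of finite projective dimension over a Noetherian ring is perfect. -/
theorem isPerfectModule_of_hasProjectiveDimensionLT [IsNoetherianRing R] (n : ℕ) :
    ∀ (M : Type u) [AddCommGroup M] [Module R M] [Module.Finite R M],
      HasProjectiveDimensionLT (ModuleCat.of R M) (n + 1) → DRing.IsPerfectModule R M := by
  induction n with
  | zero =>
    intro M _ _ _ h
    rw [zero_add, ← projective_iff_hasProjectiveDimensionLT_one,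
      ← IsProjective.iff_projective] at h
    exact isPerfectModule_of_finite_projective M
  | succ n ih =>
    intro M _ _ _ h
    rcases Module.exists_finite_presentation R M with ⟨P, _, _, _, _, f, surjf⟩
    let S := f.shortComplexKer
    have hS : S.ShortExact := LinearMap.shortExact_shortComplexKer surjf
    have proj : Projective S.X₂ := ModuleCat.projective_of_categoryTheory_projective S.X₂
    have hK : HasProjectiveDimensionLT (ModuleCat.of R (LinearMap.ker f)) (n + 1) :=
      (hS.hasProjectiveDimensionLT_X₃_iff n proj).mp h
    have h1 : DRing.IsPerfectModule R (LinearMap.ker f) := ih _ hK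
    have h2 : DRing.IsPerfectModule R P := isPerfectModule_of_finite_projective P
    exact (Groth.Agent.Lib.Helper8.Perf.isPerfect_two_of_three _
      hS.singleTriangle_distinguished).1 h1 h2

/-- Homology of a short complex of modules with finite middle term over a Noetherian ring. -/
theorem finite_homology [IsNoetherianRing R] (S : ShortComplex (ModuleCat.{u} R))
    [Module.Finite R S.X₂] : Module.Finite R S.homology := by
  let e := S.moduleCatHomologyIso
  have : Module.Finite R S.moduleCatLeftHomologyData.H := by
    show Module.Finite R (LinearMap.ker S.g.hom ⧸ LinearMap.range S.moduleCatToCycles)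
    infer_instance
  exact Module.Finite.equiv e.toLinearEquiv.symm

/-- Cohomology of the image in `D(R)` of a complex. -/
noncomputable def hdIso (E : DRing.Cx R) (i : ℤ) :
    (homologyFunctor (ModuleCat.{u} R) i).obj (DRing.toD E) ≅ E.homology i :=
  (homologyFunctorFactors (ModuleCat.{u} R) i).app E

/-- A perfect module over a Noetherian ring is finite. -/
theorem finite_of_isPerfectModule [IsNoetherianRing R] (M : Type u) [AddCommGroup M] [Module R M]
    (h : DRing.IsPerfectModule R M) : Module.Finite R M := by
  obtain ⟨E, a, b, -, h2, ⟨e⟩⟩ := h
  haveI : Module.Finite R (E.X 0) := (h2 0).1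
  haveI : Module.Finite R (E.sc 0).X₂ := (h2 0).1
  have h3 : Module.Finite R (E.homology 0) := finite_homology (E.sc 0)
  let e1 : E.homology 0 ≅ ModuleCat.of R M :=
    (hdIso E 0).symm ≪≫ (homologyFunctor (ModuleCat.{u} R) 0).mapIso e ≪≫
      (singleFunctorCompHomologyFunctorIso (ModuleCat.{u} R) 0).app (ModuleCat.of R M)
  exact Module.Finite.equiv e1.toLinearEquiv

end Groth.Agent.Lib.helper11.PerfectRegular
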