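import Mathlib
import Groth.Agent.Lib.helper11.ExtShift
import Groth.Agent.Lib.helper11.GlDimRegular
import Groth.Agent.Lib.helper19.RegularLocal

/-!
# Vanishing of `Ext^2` and `Tor_1` over a planar curve singularity (helper11)

`S` regular local of dimension two, `R = S/(f)`.  A finite `R`-module `M` with a regular element
has an `S`-presentation `0 → S^b → S^a → M → 0`; reducing it modulo `f` gives
`R^b → R^a → M → 0` whose kernel `K₂` on the left is killed by `Ann M` and inherits the regular
element.
-/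

set_option autoImplicit false

namespace Groth.Agent.Lib.helper11.PlanarExt

open CategoryTheory Limits Abelian IsLocalRing

universe u

section Pres

variable {S : Type u} [CommRing S] [IsNoetherianRing S] [IsLocalRing S]

/-- A finite module of projective dimension `≤ 1` over a Noetherian local ring has a
presentation `0 → S^b → S^a → X → 0`. -/
theorem exists_presentation (X : Type u) [AddCommGroup X] [Module S X] [Module.Finite S X]
    (hpd : HasProjectiveDimensionLT (ModuleCat.of S X) 2) :
    ∃ (a b : ℕ) (p : (Fin a → S) →ₗ[S] X) (φ : (Fin b → S) →ₗ[S] (Fin a → S)),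
      Function.Surjective p ∧ Function.Injective φ ∧ LinearMap.range φ = LinearMap.ker p := by
  obtain ⟨a, p, hp⟩ := Module.Finite.exists_fin' S X
  have hS := ExtShift.sc_shortExact (LinearMap.ker p).subtype p
    (Submodule.subtype_injective _) hp (LinearMap.exact_subtype_ker_map p)
  haveI hFp : Projective (ModuleCat.of S (Fin a → S)) :=
    (IsProjective.iff_projective (R := S) (P := Fin a → S)).mp inferInstance
  have hF1 : HasProjectiveDimensionLT (ModuleCat.of S (Fin a → S)) 1 := inferInstance
  have hK : HasProjectiveDimensionLT (ModuleCat.of S (LinearMap.ker p)) 1 :=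
    hS.hasProjectiveDimensionLT_X₁ 1 hF1 hpd
  have hKp : Projective (ModuleCat.of S (LinearMap.ker p)) :=
    projective_iff_hasProjectiveDimensionLT_one.mpr hK
  haveI : Module.Projective S (LinearMap.ker p) :=
    (IsProjective.iff_projective (R := S) (P := LinearMap.ker p)).mpr hKp
  haveI : Module.Free S (LinearMap.ker p) := Module.free_of_flat_of_isLocalRing
  let e : LinearMap.ker p ≃ₗ[S] (Fin (Module.finrank S (LinearMap.ker p)) → S) :=
    (Module.finBasis S (LinearMap.ker p)).equivFun
  refine ⟨a, _, p, (LinearMap.ker p).subtype ∘ₗ e.symm.toLinearMap, hp, ?_, ?_⟩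
  · exact (Submodule.subtype_injective _).comp e.symm.injective
  · rw [LinearMap.range_comp, LinearEquiv.range, Submodule.map_top, Submodule.range_subtype]

end Pres

section PD

variable {S : Type u} [CommRing S] [IsRegularLocalRing S]

/-- Over a two-dimensional regular local ring a finite module with a regular element in the
maximal ideal has projective dimension `≤ 1`. -/
theorem hasProjectiveDimensionLT_two (hS : ringKrullDim S = 2) (X : Type u) [AddCommGroup X]
    [Module S X] [Module.Finite S X] (x : S) (hx : x ∈ maximalIdeal S)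
    (hreg : IsSMulRegular X x) : HasProjectiveDimensionLT (ModuleCat.of S X) 2 := by
  have h3 : HasProjectiveDimensionLT (ModuleCat.of S (QuotSMulTop x X)) 3 :=
    GlDimRegular.hasProjectiveDimensionLT_of_isRegularLocalRing 2 hS _
  have h := ModuleCat.projectiveDimension_quotSMulTop_eq_succ_of_isSMulRegular
    (ModuleCat.of S X) x hreg hx
  have h2 : projectiveDimension (ModuleCat.of S (QuotSMulTop x X)) ≤ (2 : ℕ) :=
    (projectiveDimension_le_iff _ 2).mpr h3
  rw [h] at h2
  have h1 : projectiveDimension (ModuleCat.of S X) ≤ (1 : ℕ) := by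
    have : ((2 : ℕ) : WithBot ℕ∞) = ((1 : ℕ) : WithBot ℕ∞) + 1 := by norm_num
    rw [this] at h2
    exact ENat.WithBot.add_le_add_one_right_iff.mp h2
  exact (projectiveDimension_le_iff _ 1).mp h1

end PD

section Reduce

variable {S R : Type u} [CommRing S] [CommRing R] [IsDomain S] (π : S →+* R)
  (hπ : Function.Surjective π) (f : S) (hf : f ≠ 0) (hker : RingHom.ker π = Ideal.span {f})
  {M : Type u} [AddCommGroup M] [Module R M] [Module S M]
  (hsm : ∀ (s : S) (m : M), s • m = π s • m)
  {a b : ℕ} (p : (Fin a → S) →ₗ[S] M) (φ : (Fin b → S) →ₗ[S] (Fin a → S))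
  (hp : Function.Surjective p) (hφ : Function.Injective φ)
  (hrange : LinearMap.range φ = LinearMap.ker p)

/-- coordinatewise reduction. -/
def πv {n : ℕ} : (Fin n → S) →ₛₗ[π] (Fin n → R) where
  toFun y i := π (y i)
  map_add' y z := by ext i; simp
  map_smul' s y := by ext i; simp

omit [IsDomain S] in
theorem πv_apply {n : ℕ} (y : Fin n → S) (i : Fin n) : πv π y i = π (y i) := rfl

include hπ in
omit [IsDomain S] in
theorem πv_surjective {n : ℕ} (v : Fin n → R) : ∃ y : Fin n → S, πv π y = v := by
  choose y hy using fun i => hπ (v i)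
  exact ⟨y, funext hy⟩

include hker in
omit [IsDomain S] in
theorem πv_eq_zero_iff {n : ℕ} (y : Fin n → S) : πv π y = 0 ↔ ∃ u : Fin n → S, y = f • u := by
  constructor
  · intro h
    have h1 : ∀ i, ∃ u, u * f = y i := by
      intro i
      have : y i ∈ RingHom.ker π := by
        rw [RingHom.mem_ker]
        exact congrFun h i
      rw [hker] at this
      exact Ideal.mem_span_singleton'.mp this
    choose u hu using h1
    refine ⟨u, funext fun i => ?_⟩
    rw [Pi.smul_apply, smul_eq_mul, mul_comm, hu]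
  · rintro ⟨u, rfl⟩
    ext i
    have : π f = 0 := by
      rw [← RingHom.mem_ker, hker]
      exact Ideal.mem_span_singleton_self f
    simp [πv_apply, this]

/-- the reduced presentation map `R^a → M`. -/
noncomputable def pbar : (Fin a → R) →ₗ[R] M :=
  Fintype.linearCombination R (fun i => p (fun j => if i = j then 1 else 0))

/-- the reduced relation map `R^b → R^a`. -/
noncomputable def φbar : (Fin b → R) →ₗ[R] (Fin a → R) :=
  Fintype.linearCombination R (fun j => πv π (φ (fun k => if j = k then 1 else 0)))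

include hsm in
omit [IsDomain S] in
theorem pbar_πv (y : Fin a → S) : pbar (R := R) p (πv π y) = p y := by
  unfold pbar
  rw [Fintype.linearCombination_apply, LinearMap.pi_apply_eq_sum_univ p y]
  refine Finset.sum_congr rfl fun i _ => ?_
  rw [πv_apply, hsm]

omit [IsDomain S] in
theorem φbar_πv (z : Fin b → S) : φbar π φ (πv π z) = πv π (φ z) := by
  unfold φbar
  rw [Fintype.linearCombination_apply, LinearMap.pi_apply_eq_sum_univ φ z, map_sum]
  refine Finset.sum_congr rfl fun j _ => ?_
  rw [πv_apply, LinearMap.map_smulₛₗ]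

include hπ hsm hp in
omit [IsDomain S] in
theorem pbar_surjective : Function.Surjective (pbar (R := R) p) := by
  intro m
  obtain ⟨y, rfl⟩ := hp m
  exact ⟨πv π y, pbar_πv π hsm p y⟩

include hπ hsm hrange in
omit [IsDomain S] in
theorem range_φbar : LinearMap.range (φbar π φ) = LinearMap.ker (pbar (R := R) p) := by
  apply le_antisymm
  · rintro _ ⟨w, rfl⟩
    obtain ⟨z, rfl⟩ := πv_surjective π hπ w
    rw [LinearMap.mem_ker, φbar_πv, pbar_πv π hsm]
    have : φ z ∈ LinearMap.ker p := by rw [← hrange]; exact ⟨z, rfl⟩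
    exact this
  · intro v hv
    obtain ⟨y, rfl⟩ := πv_surjective π hπ v
    rw [LinearMap.mem_ker, pbar_πv π hsm] at hv
    have : y ∈ LinearMap.range φ := by rw [hrange]; exact hv
    obtain ⟨z, rfl⟩ := this
    exact ⟨πv π z, φbar_πv π φ z⟩

include hπ hf hker hsm hφ hrange in
/-- structure of elements of `ker φbar`. -/
theorem exists_of_mem_ker (w : Fin b → R) (hw : φbar π φ w = 0) :
    ∃ (z : Fin b → S) (u : Fin a → S), πv π z = w ∧ φ z = f • u ∧
      (p u = 0 → w = 0) := by
  obtain ⟨z, rfl⟩ := πv_surjective π hπ w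
  rw [φbar_πv] at hw
  obtain ⟨u, hu⟩ := (πv_eq_zero_iff π f hker _).mp hw
  refine ⟨z, u, rfl, hu, fun hpu => ?_⟩
  have : u ∈ LinearMap.range φ := by rw [hrange]; exact hpu
  obtain ⟨t, rfl⟩ := this
  have h1 : φ z = φ (f • t) := by rw [hu, map_smul]
  have h2 : z = f • t := hφ h1
  rw [(πv_eq_zero_iff π f hker z).mpr ⟨t, h2⟩]

include hπ hf hker hsm hφ hrange in
/-- for `w ∈ ker φbar` with lifts as above and `r = π s`: `r • w = 0` as soon as `r • p u = 0`. -/
theorem smul_eq_zero_of_mem_ker (w : Fin b → R) (hw : φbar π φ w = 0) :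
    ∃ m : M, (∀ r : R, r • m = 0 → r • w = 0) ∧ (∀ r : R, r • w = 0 → r • m = 0) := by
  obtain ⟨z, u, hz, hu, -⟩ := exists_of_mem_ker π hπ f hf hker hsm p φ hφ hrange w hw
  refine ⟨p u, fun r hr => ?_, fun r hr => ?_⟩
  · obtain ⟨s, rfl⟩ := hπ r
    have h1 : p (s • u) = 0 := by rw [map_smul, hsm]; exact hr
    have : s • u ∈ LinearMap.range φ := by rw [hrange]; exact h1
    obtain ⟨t, ht⟩ := this
    have h2 : φ (s • z) = φ (f • t) := by
      rw [map_smul, hu, map_smul, ht, smul_comm]
    have h3 : s • z = f • t := hφ h2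
    rw [← hz, ← LinearMap.map_smulₛₗ, (πv_eq_zero_iff π f hker _).mpr ⟨t, h3⟩]
  · obtain ⟨s, rfl⟩ := hπ r
    rw [← hz, ← LinearMap.map_smulₛₗ] at hr
    obtain ⟨t, ht⟩ := (πv_eq_zero_iff π f hker _).mp hr
    have h1 : f • (s • u) = f • φ t := by
      rw [smul_comm, ← hu, ← map_smul, ht, map_smul]
    have h2 : s • u = φ t := by
      funext i
      have := congrFun h1 i
      simp only [Pi.smul_apply, smul_eq_mul] at this
      exact mul_left_cancel₀ hf this
    have h3 : s • u ∈ LinearMap.ker p := by rw [← hrange]; exact ⟨t, h2.symm⟩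
    rw [LinearMap.mem_ker, map_smul, hsm] at h3
    exact h3

end Reduce

section Chase

variable {R : Type u} [CommRing R] {M N : Type u} [AddCommGroup M] [Module R M] [AddCommGroup N]
  [Module R N] {a b : ℕ} (pbar : (Fin a → R) →ₗ[R] M) (φbar : (Fin b → R) →ₗ[R] (Fin a → R))
  (hp : Function.Surjective pbar) (hex : LinearMap.range φbar = LinearMap.ker pbar)

/-- the corestriction `R^b → ker pbar`. -/
noncomputable def qbar : (Fin b → R) →ₗ[R] LinearMap.ker pbar :=
  φbar.codRestrict (LinearMap.ker pbar) (fun z => by rw [← hex]; exact ⟨z, rfl⟩)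

theorem qbar_surjective : Function.Surjective (qbar pbar φbar hex) := by
  rintro ⟨k, hk⟩
  rw [← hex] at hk
  obtain ⟨z, rfl⟩ := hk
  exact ⟨z, rfl⟩

theorem subtype_comp_qbar : (LinearMap.ker pbar).subtype ∘ₗ qbar pbar φbar hex = φbar := rfl

theorem exact_subtype_qbar :
    Function.Exact (LinearMap.ker φbar).subtype (qbar pbar φbar hex) := by
  intro z
  constructor
  · intro h
    exact ⟨⟨z, congrArg Subtype.val h⟩, rfl⟩
  · rintro ⟨⟨_, hw⟩, rfl⟩
    exact Subtype.ext hw

include hp hex in
/-- `Ext^2(M, N) = 0` when `Hom(ker φbar, N) = 0`. -/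
theorem ext_two_subsingleton (hhom : ∀ ψ : LinearMap.ker φbar →ₗ[R] N, ψ = 0) :
    Subsingleton (Ext (ModuleCat.of R M) (ModuleCat.of R N) 2) := by
  obtain ⟨e₁⟩ := ExtShift.ext_succ_equiv (LinearMap.ker pbar).subtype pbar
    (Submodule.subtype_injective _) hp (LinearMap.exact_subtype_ker_map pbar) N 0
  have hδ := ExtShift.deltaLin_surjective (LinearMap.ker φbar).subtype (qbar pbar φbar hex)
    (Submodule.subtype_injective _) (qbar_surjective pbar φbar hex)
    (exact_subtype_qbar pbar φbar hex) N
  haveI : Subsingleton (Ext (ModuleCat.of R (LinearMap.ker pbar)) (ModuleCat.of R N) 1) := by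
    refine ⟨fun x y => ?_⟩
    obtain ⟨ψ, rfl⟩ := hδ x
    obtain ⟨ψ', rfl⟩ := hδ y
    rw [hhom ψ, hhom ψ']
  exact e₁.symm.toEquiv.subsingleton

end Chase

section Main

variable {S : Type u} [CommRing S] [IsRegularLocalRing S] (hS : ringKrullDim S = 2) (f : S)
  (hf : f ≠ 0) {R : Type u} [CommRing R] [IsLocalRing R] (π : S →+* R)
  (hπ : Function.Surjective π) (hker : RingHom.ker π = Ideal.span {f})
  (M : Type u) [AddCommGroup M] [Module R M] [Module.Finite R M]
  (x : R) (hx : x ∈ maximalIdeal R) (hxM : IsSMulRegular M x)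

include hS hf hπ hker hx hxM in
/-- the reduced presentation `R^b → R^a → M → 0` with annihilator control on `ker φbar`. -/
theorem exists_data : ∃ (a b : ℕ) (pbar : (Fin a → R) →ₗ[R] M)
    (φbar : (Fin b → R) →ₗ[R] (Fin a → R)),
    Function.Surjective pbar ∧ LinearMap.range φbar = LinearMap.ker pbar ∧
    ∀ w : Fin b → R, φbar w = 0 → ∃ m : M, (∀ r : R, r • m = 0 → r • w = 0) ∧
      (∀ r : R, r • w = 0 → r • m = 0) := by
  haveI : IsDomain S := Groth.Agent.Lib.helper19.isDomain_of_isRegularLocalRing S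
  letI : Module S M := Module.compHom M π
  have hsm : ∀ (s : S) (m : M), s • m = π s • m := fun _ _ => rfl
  letI : Algebra S R := π.toAlgebra
  haveI : IsScalarTower S R M := ⟨fun s r m => by
    change (π s * r) • m = π s • (r • m)
    rw [mul_smul]⟩
  haveI : Module.Finite S R := Module.Finite.of_surjective (Algebra.linearMap S R) hπ
  haveI : Module.Finite S M := Module.Finite.trans R M
  obtain ⟨xt, rfl⟩ := hπ x
  have hxt : xt ∈ maximalIdeal S := by
    rw [mem_maximalIdeal, mem_nonunits_iff]
    intro hu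
    exact (mem_nonunits_iff.mp ((mem_maximalIdeal _).mp hx)) (hu.map π)
  have hreg : IsSMulRegular M xt := hxM
  have hpd := hasProjectiveDimensionLT_two hS M xt hxt hreg
  obtain ⟨a, b, p, φ, hp, hφ, hrange⟩ := exists_presentation M hpd
  exact ⟨a, b, pbar p, φbar π φ, pbar_surjective π hπ hsm p hp, range_φbar π hπ hsm p φ hrange,
    fun w hw => smul_eq_zero_of_mem_ker π hπ f hf hker hsm p φ hφ hrange w hw⟩

variable (I J : Ideal R) (n : ℕ) (hIJ : maximalIdeal R ^ n ≤ I ⊔ J)
  (N : Type u) [AddCommGroup N] [Module R N]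
  (hI : I ≤ Module.annihilator R M) (hJ : J ≤ Module.annihilator R N)
  (y : R) (hy : y ∈ maximalIdeal R) (hyN : IsSMulRegular N y)

include hS hf hπ hker hx hxM hIJ hI hJ hy hyN in
/-- **S13992**. -/
theorem ext_two : Subsingleton (Ext (ModuleCat.of R M) (ModuleCat.of R N) 2) := by
  obtain ⟨a, b, pbar, φbar, hp, hex, hdata⟩ := exists_data hS f hf π hπ hker M x hx hxM
  apply ext_two_subsingleton pbar φbar hp hex
  intro ψ
  apply LinearMap.ext
  intro w
  obtain ⟨m, h1, -⟩ := hdata w.1 w.2
  have hkill : ∀ r ∈ maximalIdeal R ^ n, r • ψ w = 0 := by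
    intro r hr
    obtain ⟨c, hc, d, hd, rfl⟩ := Submodule.mem_sup.mp (hIJ hr)
    have hcw : c • w = 0 := by
      apply Subtype.ext
      exact h1 c (Module.mem_annihilator.mp (hI hc) m)
    rw [add_smul, ← map_smul, hcw, map_zero, Module.mem_annihilator.mp (hJ hd), add_zero]
  have h2 := hkill (y ^ n) (Ideal.pow_mem_pow hy n)
  apply hyN.pow n
  change y ^ n • ψ w = y ^ n • (0 : LinearMap.ker φbar →ₗ[R] N) w
  rw [h2, LinearMap.zero_apply, smul_zero]

end Main

end Groth.Agent.Lib.helper11.PlanarExt
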