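import Mathlib
import Groth.Agent.Lib.helper11.PlanarExt
import Groth.Agent.Lib.Helper21.TorLES

/-!
# Vanishing of `Tor_1(M, Hom(N, R))` over a planar curve singularity (helper11)

Same setting as `PlanarExt`.  With the reduced presentation `R^b --φbar--> R^a --pbar--> M → 0`
and `D = Hom_R(N, R)`, the natural map `Θ_P : P ⊗ D → Hom(N, P)` is injective for `P` finite free
and natural in `P`, so `ker (φbar ⊗ D)` embeds in `Hom(N, ker φbar)`, which vanishes
(`ker φbar` elementwise has the annihilators of elements of `M`, `N` is killed by `J`,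
`M` by `I`, `I + J ⊇ m^n`, and `M` has a regular element in `m`).
-/

set_option autoImplicit false

namespace Groth.Agent.Lib.helper11.PlanarTor

open CategoryTheory Limits IsLocalRing TensorProduct

universe u

section Theta

variable {R : Type u} [CommRing R] (N : Type u) [AddCommGroup N] [Module R N]

/-- `Θ_P : P ⊗ Hom(N, R) → Hom(N, P)`, `v ⊗ λ ↦ (ν ↦ λ ν • v)`. -/
noncomputable def Θ (P : Type u) [AddCommGroup P] [Module R P] :
    P ⊗[R] Module.Dual R N →ₗ[R] (N →ₗ[R] P) :=
  dualTensorHom R N P ∘ₗ (TensorProduct.comm R P (Module.Dual R N)).toLinearMap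

variable {N}

@[simp]
theorem Θ_tmul (P : Type u) [AddCommGroup P] [Module R P] (v : P) (l : Module.Dual R N)
    (ν : N) : Θ N P (v ⊗ₜ l) ν = l ν • v := by
  simp [Θ]

theorem Θ_natural {P Q : Type u} [AddCommGroup P] [Module R P] [AddCommGroup Q] [Module R Q]
    (g : P →ₗ[R] Q) (ζ : P ⊗[R] Module.Dual R N) :
    Θ N Q (LinearMap.rTensor (Module.Dual R N) g ζ) = g ∘ₗ Θ N P ζ := by
  induction ζ using TensorProduct.induction_on with
  | zero => simp
  | add x y hx hy => simp only [map_add, hx, hy, LinearMap.comp_add]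
  | tmul v l =>
    apply LinearMap.ext
    intro ν
    simp

theorem Θ_leftInverse (b : ℕ) (ζ : (Fin b → R) ⊗[R] Module.Dual R N) :
    ∑ j : Fin b, (Pi.single j (1 : R) : Fin b → R) ⊗ₜ[R]
      ((LinearMap.proj j : (Fin b → R) →ₗ[R] R) ∘ₗ Θ N (Fin b → R) ζ) = ζ := by
  induction ζ using TensorProduct.induction_on with
  | zero => simp
  | add x y hx hy =>
    conv_rhs => rw [← hx, ← hy]
    rw [← Finset.sum_add_distrib]
    refine Finset.sum_congr rfl fun j _ => ?_
    rw [map_add, LinearMap.comp_add, TensorProduct.tmul_add]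
  | tmul v l =>
    have h1 : ∀ j : Fin b, ((LinearMap.proj j : (Fin b → R) →ₗ[R] R) ∘ₗ
        Θ N (Fin b → R) (v ⊗ₜ l)) = v j • l := by
      intro j
      apply LinearMap.ext
      intro ν
      simp [mul_comm]
    have h2 : ∀ j : Fin b, (Pi.single j (1 : R) : Fin b → R) ⊗ₜ[R] (v j • l) =
        (v j • (Pi.single j (1 : R) : Fin b → R)) ⊗ₜ[R] l := by
      intro j
      rw [TensorProduct.tmul_smul, TensorProduct.smul_tmul']
    simp only [h1, h2]
    rw [← TensorProduct.sum_tmul]
    congr 1
    ext i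
    simp [Pi.single_apply]

theorem Θ_injective (b : ℕ) : Function.Injective (Θ (R := R) N (Fin b → R)) := by
  intro ζ ζ' h
  rw [← Θ_leftInverse b ζ, ← Θ_leftInverse b ζ', h]

end Theta

section Chase

variable {R : Type u} [CommRing R] {M N : Type u} [AddCommGroup M] [Module R M] [AddCommGroup N]
  [Module R N] {a b : ℕ} (pbar : (Fin a → R) →ₗ[R] M) (φbar : (Fin b → R) →ₗ[R] (Fin a → R))
  (hp : Function.Surjective pbar) (hex : LinearMap.range φbar = LinearMap.ker pbar)

/-- `φbar ⊗ Hom(N,R)` is injective when `Hom(N, ker φbar) = 0`. -/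
theorem rTensor_φbar_injective
    (hhom : ∀ h : N →ₗ[R] (Fin b → R), (∀ ν, φbar (h ν) = 0) → h = 0) :
    Function.Injective (LinearMap.rTensor (Module.Dual R N) φbar) := by
  rw [injective_iff_map_eq_zero]
  intro ζ hζ
  apply Θ_injective b
  rw [map_zero]
  apply hhom
  intro ν
  have := Θ_natural φbar ζ
  rw [hζ, map_zero] at this
  have h2 := LinearMap.congr_fun this ν
  simpa using h2.symm

include hex in
theorem rTensor_subtype_injective
    (hhom : ∀ h : N →ₗ[R] (Fin b → R), (∀ ν, φbar (h ν) = 0) → h = 0) :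
    Function.Injective (LinearMap.rTensor (Module.Dual R N) (LinearMap.ker pbar).subtype) := by
  rw [injective_iff_map_eq_zero]
  intro ξ hξ
  obtain ⟨ζ, rfl⟩ := LinearMap.rTensor_surjective (Module.Dual R N)
    (PlanarExt.qbar_surjective pbar φbar hex) ξ
  rw [← LinearMap.comp_apply, ← LinearMap.rTensor_comp, PlanarExt.subtype_comp_qbar] at hξ
  rw [(injective_iff_map_eq_zero _).mp (rTensor_φbar_injective φbar hhom) ζ hξ, map_zero]

include hp hex in
/-- `Tor_1(M, Hom(N,R)) = 0` when `Hom(N, ker φbar) = 0`. -/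
theorem tor_one_isZero
    (hhom : ∀ h : N →ₗ[R] (Fin b → R), (∀ ν, φbar (h ν) = 0) → h = 0) :
    IsZero (((Tor (ModuleCat.{u} R) 1).obj (ModuleCat.of R M)).obj
      (ModuleCat.of R (Module.Dual R N))) := by
  have hS := ExtShift.sc_shortExact (LinearMap.ker pbar).subtype pbar
    (Submodule.subtype_injective _) hp (LinearMap.exact_subtype_ker_map pbar)
  haveI : Module.Flat R (ModuleCat.of R (Fin a → R)) := (inferInstance : Module.Flat R (Fin a → R))
  exact (Groth.Agent.Lib.Helper21.TorLES.isZero_tor_one_iff_of_flat _ _ _ hS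
    (ModuleCat.of R (Module.Dual R N))).mpr (rTensor_subtype_injective pbar φbar hex hhom)

end Chase

section Main

variable {S : Type u} [CommRing S] [IsRegularLocalRing S] (hS : ringKrullDim S = 2) (f : S)
  (hf : f ≠ 0) {R : Type u} [CommRing R] [IsLocalRing R] (π : S →+* R)
  (hπ : Function.Surjective π) (hker : RingHom.ker π = Ideal.span {f})
  (M : Type u) [AddCommGroup M] [Module R M] [Module.Finite R M]
  (x : R) (hx : x ∈ maximalIdeal R) (hxM : IsSMulRegular M x)
  (I J : Ideal R) (n : ℕ) (hIJ : maximalIdeal R ^ n ≤ I ⊔ J)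
  (N : Type u) [AddCommGroup N] [Module R N]
  (hI : I ≤ Module.annihilator R M) (hJ : J ≤ Module.annihilator R N)

include hS hf hπ hker hx hxM hIJ hI hJ in
/-- **S13994**. -/
theorem tor_one : IsZero (((Tor (ModuleCat.{u} R) 1).obj (ModuleCat.of R M)).obj
    (ModuleCat.of R (Module.Dual R N))) := by
  obtain ⟨a, b, pbar, φbar, hp, hex, hdata⟩ :=
    PlanarExt.exists_data hS f hf π hπ hker M x hx hxM
  apply tor_one_isZero pbar φbar hp hex
  intro h hh
  apply LinearMap.ext
  intro ν
  obtain ⟨m, h1, h2⟩ := hdata (h ν) (hh ν)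
  have hkill : ∀ r ∈ maximalIdeal R ^ n, r • h ν = 0 := by
    intro r hr
    obtain ⟨c, hc, d, hd, rfl⟩ := Submodule.mem_sup.mp (hIJ hr)
    have hcw : c • h ν = 0 := h1 c (Module.mem_annihilator.mp (hI hc) m)
    rw [add_smul, hcw, ← map_smul, Module.mem_annihilator.mp (hJ hd), map_zero, add_zero]
  have h3 := h2 _ (hkill (x ^ n) (Ideal.pow_mem_pow hx n))
  have hm : m = 0 := by
    apply hxM.pow n
    change x ^ n • m = x ^ n • 0
    rw [h3, smul_zero]
  have := h1 1 (by rw [hm, smul_zero])
  rw [one_smul] at this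
  rw [this, LinearMap.zero_apply]

end Main

end Groth.Agent.Lib.helper11.PlanarTor
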