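import Mathlib
import Groth.Agent.Lib.helper11.ABFormula
import Groth.Agent.Lib.helper11.GlDimRegular
import Groth.Agent.Lib.helper11.RegularDim
import Groth.Agent.Lib.helper19.RegularLocal

/-!
# Regular local rings of dimension two: height one primes are principal (helper11)
-/

set_option autoImplicit false

namespace Groth.Agent.Lib.helper11.RegDim2

open CategoryTheory Abelian IsLocalRing RingTheory.Sequence
open Groth.Agent.Lib.Helper21.DepthKit

universe u

variable {A : Type u} [CommRing A] [IsRegularLocalRing A]

/-- a nonzero free ideal of a domain is principal. -/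
theorem exists_span_singleton_of_free [IsDomain A] (p : Ideal A) (hfree : Module.Free A p) :
    ∃ f : A, p = Ideal.span {f} := by
  classical
  obtain ⟨⟨ι, b⟩⟩ := hfree
  by_cases hι : IsEmpty ι
  · refine ⟨0, ?_⟩
    have : Subsingleton p := by
      refine ⟨fun x y => ?_⟩
      have hx := b.repr.map_eq_zero_iff.mp (Subsingleton.elim (b.repr x) 0)
      have hy := b.repr.map_eq_zero_iff.mp (Subsingleton.elim (b.repr y) 0)
      rw [hx, hy]
    rw [Ideal.span_singleton_eq_bot.mpr rfl, eq_bot_iff]
    intro x hx
    have := Subsingleton.elim (⟨x, hx⟩ : p) 0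
    rw [Submodule.mem_bot]
    exact congrArg Subtype.val this
  · rw [not_isEmpty_iff] at hι
    obtain ⟨i⟩ := hι
    have hsub : ∀ j : ι, j = i := by
      intro j
      by_contra hji
      have hli := b.linearIndependent
      have h1 : ((b j : A)) • b i + (-(b i : A)) • b j = 0 := by
        apply Subtype.ext
        simp only [Submodule.coe_add, Submodule.coe_smul, smul_eq_mul, neg_mul,
          Submodule.coe_zero]
        ring
      have h2 := linearIndependent_iff'.mp hli {i, j}
        (fun k => if k = i then (b j : A) else -(b i : A)) (by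
          rw [Finset.sum_pair (Ne.symm hji)]
          simp only [if_true, if_neg hji]
          exact h1) i (by simp)
      simp only [if_true] at h2
      have : b j = 0 := Subtype.ext h2
      exact b.ne_zero j this
    refine ⟨(b i : A), ?_⟩
    apply le_antisymm
    · intro x hx
      haveI : Unique ι := ⟨⟨i⟩, hsub⟩
      have hx' : x = (b.repr ⟨x, hx⟩ i) * (b i : A) := by
        have := congrArg Subtype.val (b.sum_repr ⟨x, hx⟩)
        rw [Fintype.sum_unique, hsub default] at this
        simpa using this.symm
      rw [hx']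
      exact Ideal.mul_mem_left _ _ (Ideal.subset_span rfl)
    · rw [Ideal.span_le, Set.singleton_subset_iff]
      exact (b i).2

/-- in a regular local ring of dimension two, height one primes are principal. -/
theorem exists_span_singleton_of_height_one (hdim : ringKrullDim A = 2) (p : Ideal A)
    [hp : p.IsPrime] (hht : p.height = 1) : ∃ f : A, p = Ideal.span {f} := by
  haveI : IsDomain A := Groth.Agent.Lib.helper19.isDomain_of_isRegularLocalRing A
  -- `dim A/p = 1`
  have hdimq : ringKrullDim (A ⧸ p) = 1 := by
    have h := Groth.Agent.Lib.helper11.RegularDim.ringKrullDim_eq_height_add p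
    rw [hdim, hht] at h
    have h0 : (0 : WithBot ℕ∞) ≤ ringKrullDim (A ⧸ p) := ringKrullDim_nonneg_of_nontrivial
    generalize ringKrullDim (A ⧸ p) = z at h h0
    induction z with
    | bot => simp at h0
    | coe z =>
      have h' : ((2 : ℕ∞) : WithBot ℕ∞) = (((1 : ℕ∞) + z : ℕ∞) : WithBot ℕ∞) := by
        push_cast
        exact h
      have h'' : (2 : ℕ∞) = 1 + z := WithBot.coe_injective h'
      have hz : z = 1 := by
        induction z with
        | top => simp at h''
        | coe n =>
          have : (2 : ℕ) = 1 + n := by exact_mod_cast h''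
          have : n = 1 := by omega
          rw [this]
          rfl
      rw [hz]
      rfl
  -- `depth A = 2`
  have hdepthA : LocCoh.depth A A = 2 := by
    have h1 := Groth.Agent.Lib.helper11.RegularDim.depth_self (R := A)
    rw [hdim] at h1
    have h2 : ((LocCoh.depth A A : ℕ∞) : WithBot ℕ∞) = ((2 : ℕ∞) : WithBot ℕ∞) := h1
    exact WithBot.coe_injective h2
  -- `depth A/p ≥ 1`
  have hpm : p ≠ maximalIdeal A := by
    intro h
    have h1 : (maximalIdeal A).height = 2 := by
      have := IsLocalRing.maximalIdeal_height_eq_ringKrullDim (R := A)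
      rw [hdim] at this
      have h2 : (((maximalIdeal A).height : ℕ∞) : WithBot ℕ∞) = ((2 : ℕ∞) : WithBot ℕ∞) := this
      exact WithBot.coe_injective h2
    rw [← h, hht] at h1
    norm_num at h1
  obtain ⟨x, hxm, hxp⟩ : ∃ x ∈ maximalIdeal A, x ∉ p := by
    by_contra hcon
    push Not at hcon
    exact hpm (le_antisymm (le_maximalIdeal hp.ne_top) hcon)
  haveI : Nontrivial (A ⧸ p) := Ideal.Quotient.nontrivial_iff.mpr hp.ne_top
  have hxreg : IsSMulRegular (A ⧸ p) x := by
    rw [isSMulRegular_iff_right_eq_zero_of_smul]
    intro m hm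
    obtain ⟨a, rfl⟩ := Ideal.Quotient.mk_surjective m
    rw [← Ideal.Quotient.mk_eq_mk, ← Submodule.Quotient.mk_smul, Submodule.Quotient.mk_eq_zero,
      smul_eq_mul] at hm
    rw [← Ideal.Quotient.mk_eq_mk, Submodule.Quotient.mk_eq_zero]
    exact (hp.mem_or_mem hm).resolve_left hxp
  have hdepth1 : (1 : ℕ∞) ≤ LocCoh.depth A (A ⧸ p) := by
    have := (natCast_le_depth_iff (A := A) (M := A ⧸ p) 1).mpr ⟨[x], rfl, by simpa using hxm, by
      rw [isWeaklyRegular_cons_iff]
      exact ⟨hxreg, IsWeaklyRegular.nil _ _⟩⟩
    exact_mod_cast this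
  -- projective dimension `≤ 1`
  have hpd3 := Groth.Agent.Lib.helper11.GlDimRegular.hasProjectiveDimensionLT_of_isRegularLocalRing
    2 (by exact_mod_cast hdim) (ModuleCat.of A (A ⧸ p))
  have hpd2 : HasProjectiveDimensionLT (ModuleCat.of A (A ⧸ p)) 2 := by
    by_contra hnot
    have hAB := Groth.Agent.Lib.helper11.ABFormula.depth_eq_add_depth (A ⧸ p) 2 hpd3 hnot
    rw [hdepthA] at hAB
    have h3 : (3 : ℕ∞) ≤ ((2 : ℕ) : ℕ∞) + LocCoh.depth A (A ⧸ p) := by
      calc (3 : ℕ∞) = ((2 : ℕ) : ℕ∞) + 1 := by norm_num
        _ ≤ ((2 : ℕ) : ℕ∞) + LocCoh.depth A (A ⧸ p) := by gcongr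
    rw [← hAB] at h3
    norm_num at h3
  -- `p` is projective, hence free
  let S : ShortComplex (ModuleCat.{u} A) :=
    ShortComplex.mk (ModuleCat.ofHom p.subtype) (ModuleCat.ofHom (Submodule.mkQ p)) (by
      ext y
      exact (Submodule.Quotient.mk_eq_zero p).mpr y.2)
  have hS : S.ShortExact := by
    apply ModuleCat.shortComplex_shortExact
    · intro a
      constructor
      · intro ha
        have : a ∈ p := by
          rw [← Submodule.Quotient.mk_eq_zero]
          exact ha
        exact ⟨⟨a, this⟩, rfl⟩
      · rintro ⟨y, rfl⟩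
        exact (Submodule.Quotient.mk_eq_zero p).mpr y.2
    · exact Subtype.val_injective
    · exact Submodule.mkQ_surjective _
  haveI : Projective S.X₂ := by
    show Projective (ModuleCat.of A A)
    exact (IsProjective.iff_projective A).mp inferInstance
  have hp1 : HasProjectiveDimensionLT S.X₁ 1 :=
    hS.hasProjectiveDimensionLT_X₁ 1 inferInstance hpd2
  have hproj : Projective (ModuleCat.of A p) := projective_iff_hasProjectiveDimensionLT_one.mpr hp1
  haveI : Module.Projective A p := (IsProjective.iff_projective p).mpr hproj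
  haveI : Module.Free A p := Module.free_of_flat_of_isLocalRing
  exact exists_span_singleton_of_free p inferInstance

omit [IsRegularLocalRing A] in
/-- a finite intersection of pairwise incomparable principal primes is principal. -/
theorem exists_inf_eq_span (S : Finset (Ideal A)) :
    (∀ q ∈ S, q.IsPrime ∧ ∃ f, q = Ideal.span {f}) →
    (∀ q ∈ S, ∀ q' ∈ S, q' ≤ q → q' = q) → ∃ g, S.inf id = Ideal.span {g} := by
  classical
  induction S using Finset.induction_on with
  | empty =>
    intro _ _
    exact ⟨1, by rw [Finset.inf_empty, Ideal.span_singleton_one]⟩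
  | insert q S' hq ih =>
    intro hS hanti
    obtain ⟨g, hg⟩ := ih (fun q' hq' => hS q' (Finset.mem_insert_of_mem hq'))
      (fun q₁ h₁ q₂ h₂ => hanti q₁ (Finset.mem_insert_of_mem h₁) q₂ (Finset.mem_insert_of_mem h₂))
    obtain ⟨hqp, f, hf⟩ := hS q (Finset.mem_insert_self q S')
    have hgq : g ∉ q := by
      intro hgq
      have h1 : S'.inf id ≤ q := by
        rw [hg, Ideal.span_le, Set.singleton_subset_iff]
        exact hgq
      obtain ⟨q', hq', hle⟩ := hqp.inf_le'.mp h1
      have := hanti q (Finset.mem_insert_self q S') q' (Finset.mem_insert_of_mem hq') hle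
      exact hq (this ▸ hq')
    refine ⟨f * g, ?_⟩
    rw [Finset.inf_insert, id, hg]
    apply le_antisymm
    · rintro x ⟨hxq, hxg⟩
      obtain ⟨a, rfl⟩ := Ideal.mem_span_singleton'.mp hxg
      have haq : a ∈ q := (hqp.mem_or_mem hxq).resolve_right hgq
      rw [hf] at haq
      obtain ⟨b, rfl⟩ := Ideal.mem_span_singleton'.mp haq
      rw [Ideal.mem_span_singleton']
      exact ⟨b, by ring⟩
    · rw [Ideal.span_le, Set.singleton_subset_iff]
      constructor
      · show f * g ∈ q
        rw [hf]
        exact Ideal.mul_mem_right _ _ (Ideal.subset_span rfl)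
      · exact Ideal.mul_mem_left _ _ (Ideal.subset_span rfl)

/-- ideals with reduced quotient in a two-dimensional regular local ring. -/
theorem main (hdim : ringKrullDim A = 2) (I : Ideal A) (hI : I ≤ maximalIdeal A)
    [IsReduced (A ⧸ I)] :
    I = ⊥ ∨ I = maximalIdeal A ∨ ∃ f ∈ maximalIdeal A, f ≠ 0 ∧ I = Ideal.span {f} := by
  classical
  haveI : IsDomain A := Groth.Agent.Lib.helper19.isDomain_of_isRegularLocalRing A
  by_cases hI0 : I = ⊥
  · exact Or.inl hI0
  by_cases hIm : I = maximalIdeal A
  · exact Or.inr (Or.inl hIm)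
  right; right
  have hrad : I.IsRadical := (Ideal.isRadical_iff_quotient_reduced I).mpr inferInstance
  have hI_eq : sInf I.minimalPrimes = I := by rw [Ideal.sInf_minimalPrimes, hrad.radical]
  have hfin : I.minimalPrimes.Finite := Ideal.finite_minimalPrimes_of_isNoetherianRing A I
  have hmht : (maximalIdeal A).height = 2 := by
    have := IsLocalRing.maximalIdeal_height_eq_ringKrullDim (R := A)
    rw [hdim] at this
    have h2 : (((maximalIdeal A).height : ℕ∞) : WithBot ℕ∞) = ((2 : ℕ∞) : WithBot ℕ∞) := this
    exact WithBot.coe_injective h2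
  -- every minimal prime has height one
  have hht : ∀ q ∈ I.minimalPrimes, q.IsPrime ∧ ∃ f, q = Ideal.span {f} := by
    intro q hq
    haveI hqp : q.IsPrime := hq.1.1
    refine ⟨hqp, ?_⟩
    have hq0 : q ≠ ⊥ := by
      intro h
      apply hI0
      rw [eq_bot_iff, ← h]
      exact hq.1.2
    have hqm : q ≠ maximalIdeal A := by
      intro h
      apply hIm
      rw [← hI_eq]
      apply le_antisymm
      · exact sInf_le (h ▸ hq)
      · apply le_sInf
        intro q' hq'
        haveI : q'.IsPrime := hq'.1.1
        have h1 : q' ≤ maximalIdeal A := le_maximalIdeal hq'.1.1.ne_top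
        have h2 : q ≤ q' := hq.2 ⟨hq'.1.1, hq'.1.2⟩ (h ▸ h1)
        rw [← h]
        exact h2
    have hlt : q < maximalIdeal A := lt_of_le_of_ne (le_maximalIdeal hqp.ne_top) hqm
    have h1 : q.height < 2 := by
      rw [← hmht]
      exact Ideal.height_strict_mono_of_isPrime_of_isPrime hlt
    have h2 : q.height ≠ 0 := by
      rw [Ne, Ideal.height_eq_zero_iff_eq_bot]
      exact hq0
    have h3 : q.height = 1 := by
      generalize q.height = n at h1 h2
      induction n with
      | top => simp at h1
      | coe n =>
        have h1' : n < 2 := by exact_mod_cast h1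
        have h2' : n ≠ 0 := by exact_mod_cast h2
        have : n = 1 := by omega
        rw [this]
        rfl
    exact exists_span_singleton_of_height_one hdim q h3
  obtain ⟨g, hg⟩ := exists_inf_eq_span hfin.toFinset
    (fun q hq => hht q (hfin.mem_toFinset.mp hq))
    (fun q hq q' hq' hle => by
      have h1 := hfin.mem_toFinset.mp hq
      have h2 := hfin.mem_toFinset.mp hq'
      exact le_antisymm hle (h1.2 h2.1 hle))
  have hIg : I = Ideal.span {g} := by
    rw [← hg, Finset.inf_id_eq_sInf, hfin.coe_toFinset]
    exact hI_eq.symm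
  refine ⟨g, ?_, ?_, hIg⟩
  · apply hI
    rw [hIg]
    exact Ideal.subset_span rfl
  · intro h
    apply hI0
    rw [hIg, h, Ideal.span_singleton_eq_bot]

end Groth.Agent.Lib.helper11.RegDim2
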