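import Mathlib
import Groth.Agent.Lib.helper11.RegDim2

/-!
# Regular local rings of dimension two are factorial; intersection numbers are additive (helper11)
-/

set_option autoImplicit false

namespace Groth.Agent.Lib.helper11.RegDim2UFD

open IsLocalRing

universe u

variable {A : Type u} [CommRing A] [IsRegularLocalRing A]

/-- a regular local ring of dimension two is a UFD. -/
theorem ufd (hdim : ringKrullDim A = 2) :
    letI : IsDomain A := Groth.Agent.Lib.helper19.isDomain_of_isRegularLocalRing A
    UniqueFactorizationMonoid A := by
  letI : IsDomain A := Groth.Agent.Lib.helper19.isDomain_of_isRegularLocalRing A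
  refine UniqueFactorizationMonoid.of_forall_isPrincipal_of_height_eq_one ?_
  intro p hp hht
  obtain ⟨f, hf⟩ := RegDim2.exists_span_singleton_of_height_one hdim p hht
  exact ⟨f, hf⟩

/-- in a regular local ring of dimension two, `g ∣ f * a` and `f, g` relatively prime imply
`g ∣ a`. -/
theorem dvd_of_dvd_mul (hdim : ringKrullDim A = 2) {f g a : A} (hfg : IsRelPrime f g)
    (h : g ∣ f * a) : g ∣ a := by
  letI : IsDomain A := Groth.Agent.Lib.helper19.isDomain_of_isRegularLocalRing A
  haveI : UniqueFactorizationMonoid A := ufd hdim
  exact hfg.symm.dvd_of_dvd_mul_left h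

end Groth.Agent.Lib.helper11.RegDim2UFD
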