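import Mathlib
import Groth.Prelude.Def_SGA2

/-!
# Reduction of `SGA2.relCodim` to codimension one (helper11)
-/

set_option autoImplicit false

namespace Groth.Agent.Lib.helper11.RelCodimOne

universe u

theorem exists_codim_one {A : Type u} [CommRing A] (I : Ideal A) (p : PrimeSpectrum A)
    (hp : ¬ I ≤ p.asIdeal) (c : ℕ) (hc : SGA2.relCodim I p = c) :
    ∃ (k : ℕ) (q' : PrimeSpectrum A) (hpq' : p ≤ q'), c = k + 1 ∧ ¬ I ≤ q'.asIdeal ∧
      SGA2.relCodim I q' = 1 ∧ Order.height (⟨q', hpq'⟩ : Set.Ici p) = k := by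
  have hne : Nonempty {q : PrimeSpectrum A // p ≤ q ∧ I ≤ q.asIdeal} := by
    by_contra hempty
    rw [not_nonempty_iff] at hempty
    unfold SGA2.relCodim at hc
    rw [iInf_of_empty] at hc
    exact ENat.top_ne_coe c hc
  obtain ⟨⟨q, hpq, hIq⟩, hq⟩ := ENat.exists_eq_iInf
    (fun q : {q : PrimeSpectrum A // p ≤ q ∧ I ≤ q.asIdeal} =>
      Order.height (⟨q.1, q.2.1⟩ : Set.Ici p))
  have hqc : Order.height (⟨q, hpq⟩ : Set.Ici p) = c := hq.trans hc
  have hpq_ne : p ≠ q := fun h => hp (h ▸ hIq)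
  have hlt : (⟨p, Set.self_mem_Ici⟩ : Set.Ici p) < ⟨q, hpq⟩ :=
    lt_of_le_of_ne hpq (fun h => hpq_ne (congrArg Subtype.val h))
  have hc0 : c ≠ 0 := by
    intro h0
    rw [h0] at hqc
    have hmin : IsMin (⟨q, hpq⟩ : Set.Ici p) := Order.height_eq_zero.mp (by simpa using hqc)
    exact absurd (hmin hlt.le) (not_le_of_gt hlt)
  obtain ⟨k, rfl⟩ := Nat.exists_eq_succ_of_ne_zero hc0
  obtain ⟨-, ⟨y, hyq, hy⟩, hall⟩ := Order.height_eq_coe_add_one_iff.mp (by simpa using hqc)
  refine ⟨k, y.1, y.2, rfl, ?_, ?_, hy⟩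
  · intro hIy
    have hle : SGA2.relCodim I p ≤ Order.height (⟨y.1, y.2⟩ : Set.Ici p) :=
      iInf_le (fun q : {q : PrimeSpectrum A // p ≤ q ∧ I ≤ q.asIdeal} =>
        Order.height (⟨q.1, q.2.1⟩ : Set.Ici p)) ⟨y.1, y.2, hIy⟩
    rw [hc, hy] at hle
    have : k + 1 ≤ k := by exact_mod_cast hle
    omega
  · apply le_antisymm
    · have hyq' : y.1 ≤ q := hyq.le
      refine (iInf_le (fun t : {t : PrimeSpectrum A // y.1 ≤ t ∧ I ≤ t.asIdeal} =>
        Order.height (⟨t.1, t.2.1⟩ : Set.Ici y.1)) ⟨q, hyq', hIq⟩).trans ?_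
      rw [show (1 : ℕ∞) = ((1 : ℕ) : ℕ∞) from rfl, Order.height_le_coe_iff]
      intro t ht
      have htp : p ≤ t.1 := le_trans y.2 t.2
      have hty : t.1 = y.1 := by
        by_contra hne
        have hyt : y < (⟨t.1, htp⟩ : Set.Ici p) :=
          lt_of_le_of_ne t.2 (fun h => hne (congrArg Subtype.val h).symm)
        have h1 := Order.height_add_one_le hyt
        have h2 := hall ⟨t.1, htp⟩ ht
        rw [hy] at h1
        have h3 : ((k + 1 : ℕ) : ℕ∞) ≤ k := by
          push_cast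
          exact h1.trans h2
        have : k + 1 ≤ k := by exact_mod_cast h3
        omega
      have htb : t = ⊥ := Subtype.ext hty
      rw [htb, Order.height_bot]
      norm_num
    · refine le_iInf fun t => ?_
      have hne : t.1 ≠ y.1 := fun h => by
        apply absurd t.2.2
        rw [h]
        intro hIy
        have hle : SGA2.relCodim I p ≤ Order.height (⟨y.1, y.2⟩ : Set.Ici p) :=
          iInf_le (fun q : {q : PrimeSpectrum A // p ≤ q ∧ I ≤ q.asIdeal} =>
            Order.height (⟨q.1, q.2.1⟩ : Set.Ici p)) ⟨y.1, y.2, hIy⟩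
        rw [hc, hy] at hle
        have : k + 1 ≤ k := by exact_mod_cast hle
        omega
      have hlt' : (⊥ : Set.Ici y.1) < ⟨t.1, t.2.1⟩ :=
        lt_of_le_of_ne bot_le (fun h => hne (congrArg Subtype.val h).symm)
      exact Order.one_le_iff_ne_zero.mpr (Order.height_pos_of_bot_lt hlt').ne'

end Groth.Agent.Lib.helper11.RelCodimOne
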