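import Mathlib
import Groth.Agent.Lib.helper11.RnExt3
import Groth.Agent.Lib.helper11.PSDual

/-!
# Length of `Ext¹` over `R_n` for monomial modules, in terms of exponent sets (helper11)
-/

set_option autoImplicit false

namespace Groth.Agent.Lib.helper11.RnExt4

open PowerSeries CategoryTheory Abelian
open Groth.Agent.Lib.helper11.RnExt1 Groth.Agent.Lib.helper11.RnExt2
  Groth.Agent.Lib.helper11.RnExt3 Groth.Agent.Lib.helper11.PSDual

universe u

variable {k : Type u} [Field k] (n : ℕ) (A : Subalgebra k (PowerSeries k))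
  (hmono : ∀ f : PowerSeries k, f ∈ A ↔ ∀ m : ℕ, coeff m f ≠ 0 → (m = 0 ∨ n ≤ m))

section Monomial

include hmono

theorem hc2 (f : PowerSeries k) : X ^ (2 * n) * f ∈ A := by
  have : X ^ (2 * n) * f = X ^ n * (X ^ n * f) := by
    rw [← mul_assoc, ← pow_add, two_mul]
  rw [this]
  exact hc n A hmono _

/-- colength of a monomial submodule = number of missing exponents. -/
theorem colength_monomial (S : Submodule ↥A (PowerSeries k)) (E : Set ℕ)
    (hS : ∀ f : PowerSeries k, f ∈ S ↔ ∀ m : ℕ, coeff m f ≠ 0 → m ∈ E)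
    (hE : ∀ m : ℕ, 2 * n ≤ m → m ∈ E) :
    Eᶜ.Finite ∧ Module.length ↥A (PowerSeries k ⧸ S) = ((Eᶜ.ncard : ℕ) : ℕ∞) := by
  have hXS : ∀ f : PowerSeries k, X ^ (2 * n) * f ∈ S := by
    intro f
    rw [hS]
    intro m hm
    apply hE
    by_contra h
    rw [coeff_X_pow_mul', if_neg h] at hm
    exact hm rfl
  have hv : vset A S = E := by
    ext m
    constructor
    · rintro ⟨f, hf, hfm⟩
      have hf0 : f ≠ 0 := by
        intro h
        rw [h, order_zero] at hfm
        exact ENat.top_ne_coe _ hfm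
      have := coeff_order hf0
      rw [hfm, ENat.toNat_coe] at this
      exact (hS f).mp hf m this
    · intro hm
      refine ⟨X ^ m, ?_, order_X_pow m⟩
      rw [hS]
      intro j hj
      rw [coeff_X_pow] at hj
      by_cases h : j = m
      · rw [h]; exact hm
      · rw [if_neg h] at hj
        exact absurd rfl hj
  have := colength A (2 * n) (hc2 n A hmono) S hXS
  rwa [hv] at this

end Monomial

section Sets

variable {s : ℕ} (β : Fin s → ℕ) (N : Submodule ↥A (PowerSeries k)) (E : Set ℕ)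
  (hNE : ∀ f : PowerSeries k, f ∈ N ↔ ∀ m : ℕ, coeff m f ≠ 0 → m ∈ E)

/-- exponents of `X^n N`. -/
def EX : Set ℕ := {m | n ≤ m ∧ m - n ∈ E}

/-- exponents of `W = (N : k⟦X⟧)`. -/
def EW : Set ℕ := {m | ∀ m' : ℕ, m ≤ m' → m' ∈ E}

/-- exponents of `N'`. -/
def E' : Set ℕ := {m | m ∈ E ∧ ∀ j, m + β j ∈ E}

include hNE

theorem mem_XN_iff (f : PowerSeries k) :
    f ∈ XN n A N ↔ ∀ m : ℕ, coeff m f ≠ 0 → m ∈ EX n E := by
  constructor
  · rintro ⟨ν, hν, rfl⟩ m hm
    change coeff m (X ^ n * ν) ≠ 0 at hm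
    rw [coeff_X_pow_mul'] at hm
    by_cases h : n ≤ m
    · rw [if_pos h] at hm
      exact ⟨h, (hNE ν).mp hν _ hm⟩
    · rw [if_neg h] at hm
      exact absurd rfl hm
  · intro h
    have hdvd : X ^ n ∣ f := by
      rw [X_pow_dvd_iff]
      intro m hm
      by_contra hne
      have := (h m hne).1
      omega
    obtain ⟨ν, rfl⟩ := hdvd
    refine ⟨ν, ?_, rfl⟩
    apply (hNE ν).mpr
    intro j hj
    have h1 : coeff (j + n) (X ^ n * ν) ≠ 0 := by
      rw [coeff_X_pow_mul', if_pos (Nat.le_add_left n j), Nat.add_sub_cancel]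
      exact hj
    have := (h (j + n) h1).2
    rwa [Nat.add_sub_cancel] at this

theorem mem_W_iff (f : PowerSeries k) :
    f ∈ W A N ↔ ∀ m : ℕ, coeff m f ≠ 0 → m ∈ EW E := by
  constructor
  · intro hf m hm m' hmm'
    have hf0 : f ≠ 0 := by
      intro h
      rw [h, map_zero] at hm
      exact hm rfl
    have hord : order f ≤ m := order_le m hm
    have hm₀ : (order f).toNat ≤ m := by
      have h1 : ((order f).toNat : ℕ∞) = order f := ENat.coe_toNat (fun h => hf0 (order_eq_top.mp h))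
      rw [← h1] at hord
      exact_mod_cast hord
    have hmem := hf (X ^ (m' - (order f).toNat))
    apply (hNE _).mp hmem m'
    rw [coeff_mul_X_pow', if_pos (Nat.sub_le _ _)]
    have : m' - (m' - (order f).toNat) = (order f).toNat := by omega
    rw [this]
    exact coeff_order hf0
  · intro h p
    rw [hNE]
    intro j hj
    rw [coeff_mul] at hj
    obtain ⟨⟨a, b⟩, hab, hne⟩ := Finset.exists_ne_zero_of_sum_ne_zero hj
    have hab' : a + b = j := Finset.HasAntidiagonal.mem_antidiagonal.mp hab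
    have ha : coeff a f ≠ 0 := left_ne_zero_of_mul hne
    exact h a ha j (by omega)

theorem mem_N'_iff (f : PowerSeries k) :
    f ∈ N' A β N ↔ ∀ m : ℕ, coeff m f ≠ 0 → m ∈ E' β E := by
  rw [mem_N']
  constructor
  · rintro ⟨hf, hf'⟩ m hm
    refine ⟨(hNE f).mp hf m hm, fun j => ?_⟩
    apply (hNE _).mp (hf' j)
    rw [coeff_mul_X_pow', if_pos (Nat.le_add_left _ _), Nat.add_sub_cancel]
    exact hm
  · intro h
    refine ⟨(hNE f).mpr fun m hm => (h m hm).1, fun j => ?_⟩
    rw [hNE]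
    intro d hd
    rw [coeff_mul_X_pow'] at hd
    by_cases hle : β j ≤ d
    · rw [if_pos hle] at hd
      have := (h _ hd).2 j
      rwa [Nat.sub_add_cancel hle] at this
    · rw [if_neg hle] at hd
      exact absurd rfl hd

end Sets

section Main

variable {s : ℕ} (β : Fin s → ℕ) (hβinj : Function.Injective β)
  (hβ : ∀ j, 0 < β j ∧ β j < n)
  (M : Submodule ↥A (PowerSeries k))
  (hM : ∀ f : PowerSeries k, f ∈ M ↔
    ∀ m : ℕ, m < n → coeff m f ≠ 0 → (m = 0 ∨ ∃ j, m = β j))
  (N : Submodule ↥A (PowerSeries k)) (E : Set ℕ)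
  (hNE : ∀ f : PowerSeries k, f ∈ N ↔ ∀ m : ℕ, coeff m f ≠ 0 → m ∈ E)
  (hE : ∀ m : ℕ, n ≤ m → m ∈ E)

include hmono hβinj hβ hM hNE hE in
/-- the length of `Ext¹(M, N)` in terms of exponent sets. -/
theorem length_ext_monomial :
    Module.length ↥A (Ext (ModuleCat.of ↥A ↥M) (ModuleCat.of ↥A ↥N) 1) +
        s * (((EW E)ᶜ.ncard : ℕ) : ℕ∞) + (((E' β E)ᶜ.ncard : ℕ) : ℕ∞) =
      s * (((EX n E)ᶜ.ncard : ℕ) : ℕ∞) + ((Eᶜ.ncard : ℕ) : ℕ∞) := by
  have hN : ∀ f : PowerSeries k, X ^ n * f ∈ N := by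
    intro f
    rw [hNE]
    intro m hm
    apply hE
    by_contra h
    rw [coeff_X_pow_mul', if_neg h] at hm
    exact hm rfl
  have key := length_identity n A hmono β hβinj hβ M hM N hN
  have h1 := (colength_monomial n A hmono (W A N) (EW E) (mem_W_iff A N E hNE)
    (fun m hm m' hmm' => hE m' (by omega))).2
  have h2 := (colength_monomial n A hmono (N' A β N) (E' β E) (mem_N'_iff A β N E hNE)
    (fun m hm => ⟨hE m (by omega), fun j => hE _ (by omega)⟩)).2
  have h3 := (colength_monomial n A hmono (XN n A N) (EX n E) (mem_XN_iff n A N E hNE)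
    (fun m hm => ⟨by omega, hE _ (by omega)⟩)).2
  have h4 := (colength_monomial n A hmono N E hNE (fun m hm => hE m (by omega))).2
  rw [h1, h2, h3, h4] at key
  exact key

end Main

end Groth.Agent.Lib.helper11.RnExt4
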