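import Mathlib
import Groth.Agent.Lib.helper11.RnExt4

/-!
# Monomial modules over `R_n` as spans (helper11)
-/

set_option autoImplicit false

namespace Groth.Agent.Lib.helper11.RnExt5

open PowerSeries
open Groth.Agent.Lib.helper11.RnExt1

universe u

variable {k : Type u} [Field k] (n : ℕ) (A : Subalgebra k (PowerSeries k))
  (hmono : ∀ f : PowerSeries k, f ∈ A ↔ ∀ m : ℕ, coeff m f ≠ 0 → (m = 0 ∨ n ≤ m))

include hmono

/-- `a = a₀ + X^n g` for `a ∈ A`. -/
theorem decomp {a : PowerSeries k} (ha : a ∈ A) : ∃ g : PowerSeries k, a = C (coeff 0 a) + X ^ n * g := by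
  have hC : (C (coeff 0 a) : PowerSeries k) ∈ A := A.algebraMap_mem _
  have h0 : coeff 0 (a - C (coeff 0 a)) = 0 := by
    rw [map_sub, coeff_zero_C, sub_self]
  obtain ⟨g, hg⟩ := dvd_of_constantCoeff_eq_zero n A hmono (A.sub_mem ha hC) h0
  exact ⟨g, by rw [← hg]; ring⟩

/-- low coefficients of `a • f`. -/
theorem coeff_smul_of_lt (a : ↥A) (f : PowerSeries k) {m : ℕ} (hm : m < n) :
    coeff m (a • f) = coeff 0 (a : PowerSeries k) * coeff m f := by
  obtain ⟨g, hg⟩ := decomp n A hmono a.2
  change coeff m ((a : PowerSeries k) * f) = _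
  conv_lhs => rw [hg]
  rw [add_mul, map_add, coeff_C_mul, mul_assoc, coeff_X_pow_mul', if_neg (by omega), add_zero]

/-- membership in the span of monomials. -/
theorem mem_span_iff (S : Set ℕ) (h0 : 0 ∈ S) (f : PowerSeries k) :
    f ∈ Submodule.span ↥A ((fun a : ℕ => (X : PowerSeries k) ^ a) '' S) ↔
      ∀ m : ℕ, m < n → coeff m f ≠ 0 → m ∈ S := by
  classical
  constructor
  · intro hf
    induction hf using Submodule.span_induction with
    | mem x hx =>
      obtain ⟨a, ha, rfl⟩ := hx
      intro m _ hm
      change coeff m (X ^ a) ≠ 0 at hm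
      rw [coeff_X_pow] at hm
      by_cases h : m = a
      · rw [h]; exact ha
      · rw [if_neg h] at hm
        exact absurd rfl hm
    | zero =>
      intro m _ hm
      rw [map_zero] at hm
      exact absurd rfl hm
    | add x y _ _ hx hy =>
      intro m hm hne
      rw [map_add] at hne
      by_cases h : coeff m x = 0
      · rw [h, zero_add] at hne
        exact hy m hm hne
      · exact hx m hm h
    | smul a x _ hx =>
      intro m hm hne
      rw [coeff_smul_of_lt n A hmono a x hm] at hne
      exact hx m hm (right_ne_zero_of_mul hne)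
  · intro h
    set F : Finset ℕ := (Finset.range n).filter (· ∈ S) with hF
    set r : PowerSeries k := f - ∑ a ∈ F, C (coeff a f) * X ^ a with hr
    have hcoef : ∀ m, m < n → coeff m r = 0 := by
      intro m hm
      rw [hr, map_sub, map_sum]
      simp only [coeff_C_mul, coeff_X_pow]
      by_cases hmS : m ∈ S
      · rw [Finset.sum_eq_single m]
        · rw [if_pos rfl, mul_one, sub_self]
        · intro b _ hb
          rw [if_neg (fun h => hb h.symm), mul_zero]
        · intro hmF
          exfalso
          apply hmF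
          rw [hF, Finset.mem_filter, Finset.mem_range]
          exact ⟨hm, hmS⟩
      · have hf0 : coeff m f = 0 := by
          by_contra hne
          exact hmS (h m hm hne)
        rw [hf0, zero_sub, neg_eq_zero]
        apply Finset.sum_eq_zero
        intro b hb
        rw [hF, Finset.mem_filter] at hb
        have hne : ¬ m = b := fun h => hmS (by rw [h]; exact hb.2)
        rw [if_neg hne, mul_zero]
    obtain ⟨g, hg⟩ := X_pow_dvd_iff.mpr hcoef
    have hfeq : f = ∑ a ∈ F, C (coeff a f) * X ^ a + X ^ n * g := by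
      rw [← hg, hr]; ring
    rw [hfeq]
    refine Submodule.add_mem _ (Submodule.sum_mem _ fun a ha => ?_) ?_
    · rw [hF, Finset.mem_filter] at ha
      have : C (coeff a f) * X ^ a =
          (⟨C (coeff a f), A.algebraMap_mem _⟩ : ↥A) • ((X : PowerSeries k) ^ a) := rfl
      rw [this]
      exact Submodule.smul_mem _ _ (Submodule.subset_span ⟨a, ha.2, rfl⟩)
    · have : X ^ n * g = (⟨X ^ n * g, hc n A hmono g⟩ : ↥A) • ((X : PowerSeries k) ^ 0) := by
        change X ^ n * g = X ^ n * g * X ^ 0
        rw [pow_zero, mul_one]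
      rw [this]
      exact Submodule.smul_mem _ _ (Submodule.subset_span ⟨0, h0, rfl⟩)

/-- `A`-linear endomorphisms of `k⟦X⟧` are multiplications. -/
theorem map_eq_mul (φ : PowerSeries k →ₗ[↥A] PowerSeries k) (p : PowerSeries k) :
    φ p = φ 1 * p := by
  have hX : (X : PowerSeries k) ^ n ∈ A := by
    have := hc n A hmono 1
    rwa [mul_one] at this
  have h1 : (⟨X ^ n * p, hc n A hmono p⟩ : ↥A) • (1 : PowerSeries k) =
      (⟨X ^ n, hX⟩ : ↥A) • p := by
    change X ^ n * p * 1 = X ^ n * p
    rw [mul_one]
  have h2 := congrArg φ h1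
  rw [map_smul, map_smul] at h2
  change X ^ n * p * φ 1 = X ^ n * φ p at h2
  have h3 : X ^ n * φ p = X ^ n * (φ 1 * p) := by rw [← h2]; ring
  exact mul_left_cancel₀ (pow_ne_zero n X_ne_zero) h3

end Groth.Agent.Lib.helper11.RnExt5
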