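import Mathlib
import Groth.Agent.Lib.helper11.RnExt5

/-!
# `Ext¹(M_i, M_i)` over the cubical ring `R_n` (helper11)
-/

set_option autoImplicit false

namespace Groth.Agent.Lib.helper11.RnCase1

open PowerSeries CategoryTheory Abelian
open Groth.Agent.Lib.helper11.RnExt1 Groth.Agent.Lib.helper11.RnExt4
  Groth.Agent.Lib.helper11.RnExt5

universe u

section Count

theorem ncard_compl_eq (E : Set ℕ) (F : Finset ℕ) (h : ∀ m, m ∈ F ↔ m ∉ E) :
    Eᶜ.ncard = F.card := by
  have : Eᶜ = ↑F := by
    ext m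
    simp [h]
  rw [this, Set.ncard_coe_finset]

theorem ncard_compl_EX (n : ℕ) (E : Set ℕ) (hfin : Eᶜ.Finite) :
    (EX n E)ᶜ.ncard = n + Eᶜ.ncard := by
  have hcompl : (EX n E)ᶜ = Set.Iio n ∪ (fun j => n + j) '' Eᶜ := by
    ext m
    simp only [EX, Set.mem_compl_iff, Set.mem_setOf_eq, Set.mem_union, Set.mem_Iio, Set.mem_image]
    constructor
    · intro hm
      by_cases hlt : m < n
      · exact Or.inl hlt
      · right
        refine ⟨m - n, fun h => hm ⟨by omega, h⟩, by omega⟩
    · rintro (hlt | ⟨j, hj, rfl⟩)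
      · rintro ⟨h, -⟩
        omega
      · rintro ⟨-, h⟩
        rw [Nat.add_sub_cancel_left] at h
        exact hj h
  have hIio : (Set.Iio n).ncard = n := by
    have : Set.Iio n = ↑(Finset.range n) := by
      ext j; simp
    rw [this, Set.ncard_coe_finset, Finset.card_range]
  rw [hcompl, Set.ncard_union_eq ?_ (Set.finite_Iio _) (hfin.image _), hIio,
    Set.ncard_image_of_injective _ (add_right_injective n)]
  rw [Set.disjoint_left]
  rintro m hm ⟨j, -, rfl⟩
  rw [Set.mem_Iio] at hm
  have hm' : n + j < n := hm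
  omega

end Count

variable {k : Type u} [Field k]

theorem main (n : ℕ) (A : Subalgebra k (PowerSeries k))
    (hmono : ∀ f : PowerSeries k, f ∈ A ↔ ∀ m : ℕ, coeff m f ≠ 0 → (m = 0 ∨ n ≤ m))
    (i : ℕ) (hi : i + 2 ≤ n) :
    Module.length ↥A (Ext
      (ModuleCat.of ↥A ↥(Submodule.span ↥A ((fun a : ℕ => (X : PowerSeries k) ^ a) '' Set.Iic i)))
      (ModuleCat.of ↥A ↥(Submodule.span ↥A ((fun a : ℕ => (X : PowerSeries k) ^ a) '' Set.Iic i)))
      1) = ((i * (n - 2 - i) : ℕ) : ℕ∞) := by
  classical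
  obtain ⟨t, rfl⟩ := Nat.exists_eq_add_of_le hi
  have ht : i + 2 + t - 2 - i = t := by omega
  rw [ht]
  set M := Submodule.span ↥A ((fun a : ℕ => (X : PowerSeries k) ^ a) '' Set.Iic i) with hMdef
  let β : Fin i → ℕ := fun j => (j : ℕ) + 1
  have hβinj : Function.Injective β := by
    intro a b h
    apply Fin.ext
    have : (a : ℕ) + 1 = (b : ℕ) + 1 := h
    omega
  have hβ : ∀ j, 0 < β j ∧ β j < i + 2 + t := by
    intro j
    have := j.2
    change 0 < (j : ℕ) + 1 ∧ (j : ℕ) + 1 < i + 2 + t
    omega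
  have hM : ∀ f : PowerSeries k, f ∈ M ↔
      ∀ m : ℕ, m < i + 2 + t → coeff m f ≠ 0 → (m = 0 ∨ ∃ j, m = β j) := by
    intro f
    rw [hMdef, mem_span_iff (i + 2 + t) A hmono (Set.Iic i) (Set.mem_Iic.mpr (Nat.zero_le i)) f]
    constructor
    · intro h m hm hne
      have hmi : m ≤ i := h m hm hne
      by_cases h0 : m = 0
      · exact Or.inl h0
      · exact Or.inr ⟨⟨m - 1, by omega⟩, by change m = m - 1 + 1; omega⟩
    · intro h m hm hne
      rcases h m hm hne with h0 | ⟨j, hj⟩
      · rw [h0]; exact Set.mem_Iic.mpr (Nat.zero_le i)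
      · have := j.2
        change m = (j : ℕ) + 1 at hj
        exact Set.mem_Iic.mpr (by omega)
  set E : Set ℕ := {m | m ≤ i ∨ i + 2 + t ≤ m} with hEdef
  have hNE : ∀ f : PowerSeries k, f ∈ M ↔ ∀ m : ℕ, coeff m f ≠ 0 → m ∈ E := by
    intro f
    rw [hMdef, mem_span_iff (i + 2 + t) A hmono (Set.Iic i) (Set.mem_Iic.mpr (Nat.zero_le i)) f]
    constructor
    · intro h m hne
      by_cases hm : m < i + 2 + t
      · exact Or.inl (h m hm hne)
      · exact Or.inr (by omega)
    · intro h m hm hne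
      rcases h m hne with h1 | h1
      · exact h1
      · omega
  have hE : ∀ m : ℕ, i + 2 + t ≤ m → m ∈ E := fun m hm => Or.inr hm
  have key := length_ext_monomial (i + 2 + t) A hmono β hβinj hβ M hM M E hNE hE
  -- counts
  have c1 : Eᶜ.ncard = t + 1 := by
    rw [ncard_compl_eq E (Finset.Ioo i (i + 2 + t)) (fun m => by
      rw [Finset.mem_Ioo, hEdef, Set.mem_setOf_eq]; omega), Nat.card_Ioo]
    omega
  have hEfin : Eᶜ.Finite := by
    apply Set.Finite.subset (Set.finite_Iio (i + 2 + t))
    intro m hm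
    rw [Set.mem_compl_iff, hEdef, Set.mem_setOf_eq] at hm
    rw [Set.mem_Iio]
    omega
  have c2 : (EX (i + 2 + t) E)ᶜ.ncard = (i + 2 + t) + (t + 1) := by
    rw [ncard_compl_EX _ _ hEfin, c1]
  have c3 : (EW E)ᶜ.ncard = i + 2 + t := by
    rw [ncard_compl_eq (EW E) (Finset.range (i + 2 + t)) (fun m => by
      rw [Finset.mem_range, EW, Set.mem_setOf_eq]
      constructor
      · intro hm hall
        by_cases hmi : m ≤ i
        · have := hall (i + 1) (by omega)
          rw [hEdef, Set.mem_setOf_eq] at this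
          omega
        · have := hall m le_rfl
          rw [hEdef, Set.mem_setOf_eq] at this
          omega
      · intro hm
        by_contra hge
        apply hm
        intro m' hm'
        exact Or.inr (by omega)), Finset.card_range]
  have c4 : (E' β E)ᶜ.ncard = i + 1 + t := by
    rw [ncard_compl_eq (E' β E) (Finset.Ioo 0 (i + 2 + t)) (fun m => by
      rw [Finset.mem_Ioo, E', Set.mem_setOf_eq]
      constructor
      · rintro ⟨h0, hlt⟩ ⟨hmE, hall⟩
        rw [hEdef, Set.mem_setOf_eq] at hmE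
        have hmi : m ≤ i := by omega
        have := hall ⟨i - m, by omega⟩
        rw [hEdef, Set.mem_setOf_eq] at this
        change m + ((i - m) + 1) ≤ i ∨ i + 2 + t ≤ m + ((i - m) + 1) at this
        omega
      · intro hm
        by_contra hcon
        apply hm
        have hcases : m = 0 ∨ i + 2 + t ≤ m := by omega
        rcases hcases with h0 | hge
        · refine ⟨Or.inl (by omega), fun j => Or.inl ?_⟩
          have := j.2
          change m + ((j : ℕ) + 1) ≤ i
          omega
        · exact ⟨Or.inr hge, fun j => Or.inr (by omega)⟩), Nat.card_Ioo]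
    omega
  rw [c1, c2, c3, c4] at key
  -- arithmetic
  have hfin : Module.length ↥A (Ext (ModuleCat.of ↥A ↥M) (ModuleCat.of ↥A ↥M) 1) ≠ ⊤ := by
    intro htop
    rw [htop] at key
    simp only [top_add] at key
    exact ENat.top_ne_coe _ (by exact_mod_cast key)
  obtain ⟨l, hl⟩ := ENat.ne_top_iff_exists.mp hfin
  rw [← hl] at key ⊢
  have key' : l + i * (i + 2 + t) + (i + 1 + t) = i * ((i + 2 + t) + (t + 1)) + (t + 1) := by
    exact_mod_cast key
  have : l = i * t := by nlinarith
  rw [this]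

end Groth.Agent.Lib.helper11.RnCase1
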