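import Mathlib
import Groth.Agent.Lib.helper11.RnCase1

/-!
# `Ext¹(R_{n-i}, R_{n-i})` over the cubical ring `R_n` (helper11)
-/

set_option autoImplicit false

namespace Groth.Agent.Lib.helper11.RnCase2

open PowerSeries CategoryTheory Abelian
open Groth.Agent.Lib.helper11.RnExt1 Groth.Agent.Lib.helper11.RnExt4
  Groth.Agent.Lib.helper11.RnExt5 Groth.Agent.Lib.helper11.RnCase1

universe u

variable {k : Type u} [Field k]

theorem main (n : ℕ) (A : Subalgebra k (PowerSeries k))
    (hmono : ∀ f : PowerSeries k, f ∈ A ↔ ∀ m : ℕ, coeff m f ≠ 0 → (m = 0 ∨ n ≤ m))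
    (i : ℕ) (hi : i + 2 ≤ n) :
    Module.length ↥A (Ext
      (ModuleCat.of ↥A ↥(Submodule.span ↥A ((fun a : ℕ => (X : PowerSeries k) ^ a) ''
        ({0} ∪ Set.Icc (n - i) (n - 1)))))
      (ModuleCat.of ↥A ↥(Submodule.span ↥A ((fun a : ℕ => (X : PowerSeries k) ^ a) ''
        ({0} ∪ Set.Icc (n - i) (n - 1)))))
      1) = ((i * (n - 1) : ℕ) : ℕ∞) := by
  classical
  obtain ⟨t, rfl⟩ := Nat.exists_eq_add_of_le hi
  have ht1 : i + 2 + t - i = t + 2 := by omega
  have ht2 : i + 2 + t - 1 = i + 1 + t := by omega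
  rw [ht1, ht2]
  set S : Set ℕ := {0} ∪ Set.Icc (t + 2) (i + 1 + t) with hSdef
  have h0S : (0 : ℕ) ∈ S := Or.inl rfl
  have hmemS : ∀ m : ℕ, m ∈ S ↔ m = 0 ∨ (t + 2 ≤ m ∧ m ≤ i + 1 + t) := by
    intro m
    rw [hSdef, Set.mem_union, Set.mem_singleton_iff, Set.mem_Icc]
  set M := Submodule.span ↥A ((fun a : ℕ => (X : PowerSeries k) ^ a) '' S) with hMdef
  let β : Fin i → ℕ := fun j => t + 2 + (j : ℕ)
  have hβinj : Function.Injective β := by
    intro a b h
    apply Fin.ext
    have : t + 2 + (a : ℕ) = t + 2 + (b : ℕ) := h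
    omega
  have hβ : ∀ j, 0 < β j ∧ β j < i + 2 + t := by
    intro j
    have := j.2
    change 0 < t + 2 + (j : ℕ) ∧ t + 2 + (j : ℕ) < i + 2 + t
    omega
  have hM : ∀ f : PowerSeries k, f ∈ M ↔
      ∀ m : ℕ, m < i + 2 + t → coeff m f ≠ 0 → (m = 0 ∨ ∃ j, m = β j) := by
    intro f
    rw [hMdef, mem_span_iff (i + 2 + t) A hmono S h0S f]
    constructor
    · intro h m hm hne
      rcases (hmemS m).mp (h m hm hne) with h0 | ⟨h1, h2⟩
      · exact Or.inl h0
      · exact Or.inr ⟨⟨m - (t + 2), by omega⟩, by change m = t + 2 + (m - (t + 2)); omega⟩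
    · intro h m hm hne
      rw [hmemS]
      rcases h m hm hne with h0 | ⟨j, hj⟩
      · exact Or.inl h0
      · have := j.2
        change m = t + 2 + (j : ℕ) at hj
        exact Or.inr (by omega)
  set E : Set ℕ := {m | m = 0 ∨ t + 2 ≤ m} with hEdef
  have hNE : ∀ f : PowerSeries k, f ∈ M ↔ ∀ m : ℕ, coeff m f ≠ 0 → m ∈ E := by
    intro f
    rw [hMdef, mem_span_iff (i + 2 + t) A hmono S h0S f]
    constructor
    · intro h m hne
      by_cases hm : m < i + 2 + t
      · rcases (hmemS m).mp (h m hm hne) with h0 | ⟨h1, h2⟩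
        · exact Or.inl h0
        · exact Or.inr h1
      · exact Or.inr (by omega)
    · intro h m hm hne
      rw [hmemS]
      rcases h m hne with h1 | h1
      · exact Or.inl h1
      · exact Or.inr (by omega)
  have hE : ∀ m : ℕ, i + 2 + t ≤ m → m ∈ E := fun m hm => Or.inr (by omega)
  have key := length_ext_monomial (i + 2 + t) A hmono β hβinj hβ M hM M E hNE hE
  -- counts
  have c1 : Eᶜ.ncard = t + 1 := by
    rw [ncard_compl_eq E (Finset.Ioo 0 (t + 2)) (fun m => by
      rw [Finset.mem_Ioo, hEdef, Set.mem_setOf_eq]; omega), Nat.card_Ioo]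
    omega
  have hEfin : Eᶜ.Finite := by
    apply Set.Finite.subset (Set.finite_Iio (t + 2))
    intro m hm
    rw [Set.mem_compl_iff, hEdef, Set.mem_setOf_eq] at hm
    rw [Set.mem_Iio]
    omega
  have c2 : (EX (i + 2 + t) E)ᶜ.ncard = (i + 2 + t) + (t + 1) := by
    rw [ncard_compl_EX _ _ hEfin, c1]
  have c3 : (EW E)ᶜ.ncard = t + 2 := by
    rw [ncard_compl_eq (EW E) (Finset.range (t + 2)) (fun m => by
      rw [Finset.mem_range, EW, Set.mem_setOf_eq]
      constructor
      · intro hm hall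
        by_cases hm0 : m = 0
        · have := hall 1 (by omega)
          rw [hEdef, Set.mem_setOf_eq] at this
          omega
        · have := hall m le_rfl
          rw [hEdef, Set.mem_setOf_eq] at this
          omega
      · intro hm
        by_contra hge
        apply hm
        intro m' hm'
        exact Or.inr (by omega)), Finset.card_range]
  have c4 : (E' β E)ᶜ.ncard = t + 1 := by
    rw [ncard_compl_eq (E' β E) (Finset.Ioo 0 (t + 2)) (fun m => by
      rw [Finset.mem_Ioo, E', Set.mem_setOf_eq]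
      constructor
      · rintro ⟨h0, hlt⟩ ⟨hmE, -⟩
        rw [hEdef, Set.mem_setOf_eq] at hmE
        omega
      · intro hm
        by_contra hcon
        apply hm
        have hcases : m = 0 ∨ t + 2 ≤ m := by omega
        refine ⟨hcases, fun j => Or.inr ?_⟩
        change t + 2 ≤ m + (t + 2 + (j : ℕ))
        omega), Nat.card_Ioo]
    omega
  rw [c1, c2, c3, c4] at key
  -- arithmetic
  have hfin : Module.length ↥A (Ext (ModuleCat.of ↥A ↥M) (ModuleCat.of ↥A ↥M) 1) ≠ ⊤ := by
    intro htop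
    rw [htop] at key
    simp only [top_add] at key
    exact ENat.top_ne_coe _ (by exact_mod_cast key)
  obtain ⟨l, hl⟩ := ENat.ne_top_iff_exists.mp hfin
  rw [← hl] at key ⊢
  have key' : l + i * (t + 2) + (t + 1) = i * ((i + 2 + t) + (t + 1)) + (t + 1) := by
    exact_mod_cast key
  have : l = i * (i + 1 + t) := by nlinarith
  rw [this]

end Groth.Agent.Lib.helper11.RnCase2
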