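import Mathlib
import Groth.Agent.Lib.helper11.RnCase1
import Groth.Agent.Lib.helper11.ExtLocEquiv

/-!
# `Ext¹(k⟦X⟧, k⟦X⟧)` over the cubical ring `R_n` (helper11)
-/

set_option autoImplicit false

namespace Groth.Agent.Lib.helper11.RnCase3

open PowerSeries CategoryTheory Abelian
open Groth.Agent.Lib.helper11.RnExt1 Groth.Agent.Lib.helper11.RnExt4
  Groth.Agent.Lib.helper11.RnExt5 Groth.Agent.Lib.helper11.RnCase1

universe u

variable {k : Type u} [Field k]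

/-- `ℓ Ext¹(⊤, ⊤) = (n-1) n`. -/
theorem length_ext_top (n : ℕ) (hn : 1 ≤ n) (A : Subalgebra k (PowerSeries k))
    (hmono : ∀ f : PowerSeries k, f ∈ A ↔ ∀ m : ℕ, coeff m f ≠ 0 → (m = 0 ∨ n ≤ m)) :
    Module.length ↥A (Ext
      (ModuleCat.of ↥A ↥(⊤ : Submodule ↥A (PowerSeries k)))
      (ModuleCat.of ↥A ↥(⊤ : Submodule ↥A (PowerSeries k))) 1) = (((n - 1) * n : ℕ) : ℕ∞) := by
  classical
  let β : Fin (n - 1) → ℕ := fun j => (j : ℕ) + 1
  have hβinj : Function.Injective β := by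
    intro a b h
    apply Fin.ext
    have : (a : ℕ) + 1 = (b : ℕ) + 1 := h
    omega
  have hβ : ∀ j, 0 < β j ∧ β j < n := by
    intro j
    have := j.2
    change 0 < (j : ℕ) + 1 ∧ (j : ℕ) + 1 < n
    omega
  have hM : ∀ f : PowerSeries k, f ∈ (⊤ : Submodule ↥A (PowerSeries k)) ↔
      ∀ m : ℕ, m < n → coeff m f ≠ 0 → (m = 0 ∨ ∃ j, m = β j) := by
    intro f
    refine ⟨fun _ m hm _ => ?_, fun _ => trivial⟩
    by_cases h0 : m = 0
    · exact Or.inl h0
    · exact Or.inr ⟨⟨m - 1, by omega⟩, by change m = m - 1 + 1; omega⟩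
  have hNE : ∀ f : PowerSeries k, f ∈ (⊤ : Submodule ↥A (PowerSeries k)) ↔
      ∀ m : ℕ, coeff m f ≠ 0 → m ∈ (Set.univ : Set ℕ) :=
    fun f => ⟨fun _ m _ => trivial, fun _ => trivial⟩
  have key := length_ext_monomial n A hmono β hβinj hβ ⊤ hM ⊤ Set.univ hNE (fun m _ => trivial)
  have c1 : (Set.univ : Set ℕ)ᶜ.ncard = 0 := by simp
  have c2 : (EX n (Set.univ : Set ℕ))ᶜ.ncard = n + 0 := by
    rw [ncard_compl_EX n _ (by simp), c1]
  have c3 : (EW (Set.univ : Set ℕ))ᶜ.ncard = 0 := by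
    have : EW (Set.univ : Set ℕ) = Set.univ := by
      ext m; simp [EW]
    rw [this]; simp
  have c4 : (E' β (Set.univ : Set ℕ))ᶜ.ncard = 0 := by
    have : E' β (Set.univ : Set ℕ) = Set.univ := by
      ext m; simp [E']
    rw [this]; simp
  rw [c1, c2, c3, c4] at key
  simp only [Nat.cast_zero, mul_zero, add_zero] at key
  rw [key]
  push_cast
  rfl

/-- transport of `Ext¹` along `⊤ ≃ k⟦X⟧`. -/
theorem length_ext_self (n : ℕ) (hn : 1 ≤ n) (A : Subalgebra k (PowerSeries k))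
    (hmono : ∀ f : PowerSeries k, f ∈ A ↔ ∀ m : ℕ, coeff m f ≠ 0 → (m = 0 ∨ n ≤ m)) :
    Module.length ↥A (Ext (ModuleCat.of ↥A (PowerSeries k)) (ModuleCat.of ↥A (PowerSeries k)) 1) =
      (((n - 1) * n : ℕ) : ℕ∞) := by
  rw [← length_ext_top n hn A hmono]
  let e : ModuleCat.of ↥A ↥(⊤ : Submodule ↥A (PowerSeries k)) ≅ ModuleCat.of ↥A (PowerSeries k) :=
    (Submodule.topEquiv (R := ↥A) (M := PowerSeries k)).toModuleIso
  let e1 := Groth.Agent.Lib.helper11.GorHull.extCongr (ModuleCat.of ↥A (PowerSeries k)) 1 e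
  let e2 := Groth.Agent.Lib.helper11.ExtLocEquiv.extCongrRight
    (ModuleCat.of ↥A ↥(⊤ : Submodule ↥A (PowerSeries k))) 1 e
  exact (e2.trans e1).length_eq.symm

/-- the endomorphisms of `k⟦X⟧` modulo multiplications by `A` have length `n - 1`. -/
theorem length_end (n : ℕ) (hn : 1 ≤ n) (A : Subalgebra k (PowerSeries k))
    (hmono : ∀ f : PowerSeries k, f ∈ A ↔ ∀ m : ℕ, coeff m f ≠ 0 → (m = 0 ∨ n ≤ m)) :
    Module.length ↥A ((PowerSeries k →ₗ[↥A] PowerSeries k) ⧸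
      LinearMap.range (Algebra.lsmul ↥A ↥A (PowerSeries k) :
        ↥A →ₐ[↥A] Module.End ↥A (PowerSeries k)).toLinearMap) = ((n - 1 : ℕ) : ℕ∞) := by
  classical
  let ev1 : (PowerSeries k →ₗ[↥A] PowerSeries k) →ₗ[↥A] PowerSeries k :=
    LinearMap.applyₗ (1 : PowerSeries k)
  have hev : Function.Bijective ev1 := by
    constructor
    · intro φ ψ h
      have h1 : φ 1 = ψ 1 := h
      apply LinearMap.ext
      intro p
      rw [map_eq_mul n A hmono φ p, map_eq_mul n A hmono ψ p, h1]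
    · intro p
      refine ⟨LinearMap.mulLeft ↥A p, ?_⟩
      change p * 1 = p
      rw [mul_one]
  let eE := LinearEquiv.ofBijective ev1 hev
  let A' : Submodule ↥A (PowerSeries k) := LinearMap.range (Algebra.linearMap ↥A (PowerSeries k))
  have hmap : (LinearMap.range (Algebra.lsmul ↥A ↥A (PowerSeries k) :
      ↥A →ₐ[↥A] Module.End ↥A (PowerSeries k)).toLinearMap).map (eE : _ →ₗ[↥A] _) = A' := by
    ext y
    constructor
    · rintro ⟨φ, ⟨a, rfl⟩, rfl⟩
      refine ⟨a, ?_⟩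
      change (a : PowerSeries k) = (a : PowerSeries k) * 1
      rw [mul_one]
    · rintro ⟨a, rfl⟩
      refine ⟨_, ⟨a, rfl⟩, ?_⟩
      change (a : PowerSeries k) * 1 = (a : PowerSeries k)
      rw [mul_one]
  rw [(Submodule.Quotient.equiv _ _ eE hmap).length_eq]
  set E₀ : Set ℕ := {m | m = 0 ∨ n ≤ m} with hE₀
  have hS : ∀ f : PowerSeries k, f ∈ A' ↔ ∀ m : ℕ, coeff m f ≠ 0 → m ∈ E₀ := by
    intro f
    have h1 : f ∈ A' ↔ f ∈ A := by
      constructor
      · rintro ⟨a, rfl⟩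
        exact a.2
      · intro hf
        exact ⟨⟨f, hf⟩, rfl⟩
    rw [h1, hmono f]
    exact Iff.rfl
  rw [(colength_monomial n A hmono A' E₀ hS (fun m hm => Or.inr (by omega))).2,
    ncard_compl_eq E₀ (Finset.Ioo 0 n) (fun m => by
      rw [Finset.mem_Ioo, hE₀, Set.mem_setOf_eq]; omega), Nat.card_Ioo]
  rfl

theorem main (n : ℕ) (hn : 2 ≤ n) (A : Subalgebra k (PowerSeries k))
    (hmono : ∀ f : PowerSeries k, f ∈ A ↔ ∀ m : ℕ, coeff m f ≠ 0 → (m = 0 ∨ n ≤ m)) :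
    Module.length ↥A (Ext (ModuleCat.of ↥A (PowerSeries k)) (ModuleCat.of ↥A (PowerSeries k)) 1) =
      (((n - 1) ^ 2 : ℕ) : ℕ∞) + Module.length ↥A ((PowerSeries k →ₗ[↥A] PowerSeries k) ⧸
        LinearMap.range (Algebra.lsmul ↥A ↥A (PowerSeries k) :
          ↥A →ₐ[↥A] Module.End ↥A (PowerSeries k)).toLinearMap) := by
  rw [length_ext_self n (by omega) A hmono, length_end n (by omega) A hmono]
  obtain ⟨t, rfl⟩ := Nat.exists_eq_add_of_le hn
  have : 2 + t - 1 = t + 1 := by omega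
  rw [this]
  have h2 : (t + 1) * (2 + t) = (t + 1) ^ 2 + (t + 1) := by ring
  rw [h2]
  push_cast
  rfl

end Groth.Agent.Lib.helper11.RnCase3
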