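import Mathlib
import Groth.Prelude.Def_GrLC
import Groth.Agent.Lib.helper11.SG5

/-!
# The backward difference of a polynomial lowers the degree by exactly one
-/

set_option autoImplicit false

namespace Groth.Agent.Lib.helper11.SG11

open Polynomial Groth.Agent.Lib.helper11.SG5

theorem coeff_comp_X_sub_C (P : ℚ[X]) (c : ℚ) (t : ℕ) (ht : P.natDegree = t + 1) :
    (P.comp (X - C c)).coeff t = P.coeff t - ((t : ℚ) + 1) * c * P.coeff (t + 1) := by
  have e : (X - C c : ℚ[X]) = X + C (-c) := by rw [C_neg, sub_eq_add_neg]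
  rw [e, ← taylor_apply, taylor_coeff]
  have hdeg : (hasseDeriv t P).natDegree < 2 := by
    have := natDegree_hasseDeriv_le P t
    omega
  rw [eval_eq_sum_range' hdeg, Finset.sum_range_succ, Finset.sum_range_one, hasseDeriv_coeff,
    hasseDeriv_coeff, pow_zero, pow_one, mul_one, zero_add, Nat.choose_self, Nat.cast_one, one_mul,
    Nat.add_comm 1 t, Nat.choose_succ_self_right]
  push_cast
  ring

theorem coeff_diff (P : ℚ[X]) (c : ℚ) (t : ℕ) (ht : P.natDegree = t + 1) :
    (diff P c).coeff t = ((t : ℚ) + 1) * c * P.leadingCoeff := by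
  unfold diff
  rw [coeff_sub, coeff_comp_X_sub_C P c t ht, leadingCoeff, ht]
  ring

theorem natDegree_diff (P : ℚ[X]) (c : ℚ) (hc : c ≠ 0) (t : ℕ) (ht : P.natDegree = t + 1) :
    diff P c ≠ 0 ∧ (diff P c).natDegree = t := by
  have hP0 : P ≠ 0 := by
    rintro rfl
    simp at ht
  have hcoeff : (diff P c).coeff t ≠ 0 := by
    rw [coeff_diff P c t ht]
    have h1 : ((t : ℚ) + 1) ≠ 0 := by positivity
    exact mul_ne_zero (mul_ne_zero h1 hc) (leadingCoeff_ne_zero.2 hP0)
  have hQ0 : diff P c ≠ 0 := by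
    intro h
    rw [h, coeff_zero] at hcoeff
    exact hcoeff rfl
  refine ⟨hQ0, le_antisymm ?_ (le_natDegree_of_ne_zero hcoeff)⟩
  have := natDegree_diff_lt P c (by omega) hQ0
  omega

/-- a polynomial vanishing at all large integers is zero -/
theorem eq_zero_of_eventually (P : ℚ[X]) (N : ℤ) (h : ∀ n : ℤ, N ≤ n → P.eval (n : ℚ) = 0) :
    P = 0 := by
  apply eq_zero_of_infinite_isRoot
  have hinj : Function.Injective (fun k : ℕ => ((N + k : ℤ) : ℚ)) := by
    intro k k' hkk'
    simp only at hkk'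
    have : (N + k : ℤ) = N + k' := by exact_mod_cast hkk'
    omega
  refine Set.infinite_of_injective_forall_mem hinj ?_
  intro k
  exact h (N + k) (by omega)

end Groth.Agent.Lib.helper11.SG11
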