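import Mathlib
import Groth.Prelude.Def_GrLC
import Groth.Agent.Lib.helper11.SG8
import Groth.Agent.Lib.Helper20.GrLES12

/-!
# Serre–Grothendieck formula, IX: the Cohen–Macaulay case; the `a`-invariant and the Hilbert
polynomial
-/

set_option autoImplicit false
set_option linter.unusedSectionVars false
set_option linter.unusedVariables false
set_option linter.style.haveILetI false

namespace Groth.Agent.Lib.helper11.SG9

open DirectSum Groth.Agent.Lib.Helper26.GrProj Groth.Agent.Lib.Helper20.GrKit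
  Groth.Agent.Lib.Helper20.GrLES Groth.Agent.Lib.Helper20.GrArt
  Groth.Agent.Lib.helper11.SG1 Groth.Agent.Lib.helper11.SG2 Groth.Agent.Lib.helper11.SG6
  Groth.Agent.Lib.helper11.SG7 Groth.Agent.Lib.helper11.SG8

universe u

section General

variable {S : Type u} [CommRing S] {X : Type u} [AddCommGroup X] [Module S X]

theorem eq_bot_of_L_eq_zero (P : Submodule S X) (hfl : IsFiniteLength S P) (h : L S P = 0) :
    P = ⊥ := by
  unfold L at h
  have hne : Module.length S P ≠ ⊤ := Module.length_ne_top_iff.2 hfl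
  have h0 : (Module.length S P).toNat = 0 := by exact_mod_cast h
  have h1 : Module.length S P = 0 := by
    rcases (ENat.toNat_eq_zero).1 h0 with h2 | h2
    · exact h2
    · exact absurd h2 hne
  haveI : Subsingleton P := Module.length_eq_zero_iff.1 h1
  rw [Submodule.eq_bot_iff]
  intro x hx
  have := Subsingleton.elim (⟨x, hx⟩ : P) 0
  exact congrArg Subtype.val this

theorem L_eq_zero_of_eq_bot (P : Submodule S X) (h : P = ⊥) : L S P = 0 := by
  haveI : Subsingleton P := by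
    rw [h]
    infer_instance
  exact L_of_subsingleton _

end General

variable {R : Type u} [CommRing R] [IsNoetherianRing R] (𝒜 : ℤ → AddSubgroup R) [GradedRing 𝒜]
  [IsArtinianRing (GrLC.deg0 𝒜)] (hpos : ∀ n : ℤ, n < 0 → 𝒜 n = ⊥)
  (m : HomogeneousIdeal 𝒜) (hm : GrLC.IsStarLocal 𝒜 m)

include hpos hm in
theorem isFiniteLength_Hcomp_local {M : Type u} [AddCommGroup M] [Module R M] [Module.Finite R M]
    {ℳ : ℤ → AddSubgroup M} [DirectSum.Decomposition ℳ] [SetLike.GradedSMul 𝒜 ℳ]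
    (E : GrLC.StarInjRes 𝒜 ℳ) (i : ℕ) (n : ℤ) :
    IsFiniteLength (GrLC.deg0 𝒜) (E.Hcomp m i n) :=
  ((IsArtinianRing.tfae (R := GrLC.deg0 𝒜) (M := E.Hcomp m i n)).out 2 3).1
    (s17768 𝒜 hpos m hm E i n)

end Groth.Agent.Lib.helper11.SG9

namespace Groth.Agent.Lib.helper11.SG9

open DirectSum Groth.Agent.Lib.Helper26.GrProj Groth.Agent.Lib.Helper20.GrKit
  Groth.Agent.Lib.Helper20.GrLES Groth.Agent.Lib.Helper20.GrArt
  Groth.Agent.Lib.helper11.SG1 Groth.Agent.Lib.helper11.SG2 Groth.Agent.Lib.helper11.SG6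
  Groth.Agent.Lib.helper11.SG7 Groth.Agent.Lib.helper11.SG8

universe u

variable {R : Type u} [CommRing R] [LocCoh.IsCohenMacaulayRing R] (𝒜 : ℤ → AddSubgroup R)
  [GradedRing 𝒜]
  [IsArtinianRing (GrLC.deg0 𝒜)] (hpos : ∀ n : ℤ, n < 0 → 𝒜 n = ⊥)
  (m : HomogeneousIdeal 𝒜) (hm : GrLC.IsStarLocal 𝒜 m)

include hpos hm in
/-- Serre–Grothendieck for a Cohen–Macaulay *local ring -/
theorem formula_cm (d : ℕ) (hd : ringKrullDim R = d) (I : GrLC.StarInjRes 𝒜 𝒜)
    (P : Polynomial ℚ) (hP : ∃ N : ℤ, ∀ n : ℤ, N ≤ n → P.eval (n : ℚ) = hilb 𝒜 𝒜 n) (n : ℤ) :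
    hilb 𝒜 𝒜 n - P.eval (n : ℚ) = (-1 : ℚ) ^ d * L (GrLC.deg0 𝒜) (I.Hcomp m d n) := by
  rw [formula 𝒜 hpos m hm d hd R 𝒜 I P hP n]
  unfold chi
  rw [Finset.sum_eq_single d]
  · intro i hi hid
    have hlt : i < d := lt_of_le_of_ne (Nat.lt_succ_iff.1 (Finset.mem_range.1 hi)) hid
    haveI := subsingleton_H_of_lt_dim 𝒜 hpos m hm I d hd i hlt
    haveI : Subsingleton (I.Hcomp m i n) :=
      ⟨fun x y => Subtype.ext (Subsingleton.elim (x : I.H m i) y)⟩
    rw [L_of_subsingleton, mul_zero]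
  · intro h
    exact absurd (Finset.mem_range.2 (Nat.lt_succ_self d)) h

include hpos hm in
theorem ne_iff (d : ℕ) (hd : ringKrullDim R = d) (I : GrLC.StarInjRes 𝒜 𝒜)
    (P : Polynomial ℚ) (hP : ∃ N : ℤ, ∀ n : ℤ, N ≤ n → P.eval (n : ℚ) = hilb 𝒜 𝒜 n) (n : ℤ) :
    I.Hgr m d n ≠ ⊥ ↔ P.eval (n : ℚ) ≠ hilb 𝒜 𝒜 n := by
  have hf := formula_cm 𝒜 hpos m hm d hd I P hP n
  rw [not_iff_not]
  constructor
  · intro h
    have hb : I.Hcomp m d n = ⊥ := by
      rw [Submodule.eq_bot_iff]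
      intro w hw
      have hw' : w ∈ I.Hgr m d n := hw
      rw [h, AddSubgroup.mem_bot] at hw'
      exact hw'
    rw [L_eq_zero_of_eq_bot _ hb, mul_zero] at hf
    linarith
  · intro h
    have h0 : L (GrLC.deg0 𝒜) (I.Hcomp m d n) = 0 := by
      rw [h, sub_self] at hf
      have hne : ((-1 : ℚ) ^ d) ≠ 0 := pow_ne_zero _ (by norm_num)
      rcases mul_eq_zero.1 hf.symm with h1 | h1
      · exact absurd h1 hne
      · exact h1
    have hb := eq_bot_of_L_eq_zero _ (isFiniteLength_Hcomp_local 𝒜 hpos m hm I d n) h0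
    rw [eq_bot_iff]
    intro w hw
    have hw' : w ∈ I.Hcomp m d n := hw
    rw [hb, Submodule.mem_bot] at hw'
    rw [AddSubgroup.mem_bot]
    exact hw'

include hpos hm in
theorem s17772 (d : ℕ) (hd : ringKrullDim R = d) (I : GrLC.StarInjRes 𝒜 𝒜)
    (P : Polynomial ℚ) (hP : ∃ N : ℤ, ∀ n : ℤ, N ≤ n → P.eval (n : ℚ) = hilb 𝒜 𝒜 n) :
    GrLC.endDeg (I.Hgr m d) =
      ⨆ (n : ℤ) (_ : P.eval (n : ℚ) ≠ hilb 𝒜 𝒜 n), ((n : WithTop ℤ) : WithBot (WithTop ℤ)) := by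
  unfold GrLC.endDeg
  refine iSup_congr fun n => ?_
  exact iSup_congr_Prop (ne_iff 𝒜 hpos m hm d hd I P hP n) (fun _ => rfl)

end Groth.Agent.Lib.helper11.SG9
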