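import Mathlib
import Groth.Prelude.Def_GrLC
import Groth.Agent.Lib.Helper20.GrKit16
import Groth.Agent.Lib.helper11.SG9
import Groth.Agent.Lib.helper11.SG10
import Groth.Agent.Lib.helper11.SG11

/-!
# The degree of the Hilbert polynomial is at most `dim - 1`; `a(R) ≥ -dim R`
-/

set_option autoImplicit false
set_option linter.unusedSectionVars false
set_option linter.unusedVariables false
set_option linter.style.haveILetI false

namespace Groth.Agent.Lib.helper11.SG12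

open DirectSum Groth.Agent.Lib.Helper26.GrProj Groth.Agent.Lib.Helper20.GrKit
  Groth.Agent.Lib.Helper20.GrLES Groth.Agent.Lib.Helper20.GrArt
  Groth.Agent.Lib.Helper20.GrAvoid
  Groth.Agent.Lib.helper11.SG1 Groth.Agent.Lib.helper11.SG2 Groth.Agent.Lib.helper11.SG3
  Groth.Agent.Lib.helper11.SG4 Groth.Agent.Lib.helper11.SG5 Groth.Agent.Lib.helper11.SG6
  Groth.Agent.Lib.helper11.SG11
open scoped Pointwise

universe u

variable {R : Type u} [CommRing R] [IsNoetherianRing R] (𝒜 : ℤ → AddSubgroup R) [GradedRing 𝒜]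
  [IsArtinianRing (GrLC.deg0 𝒜)]
  (hpos : ∀ n : ℤ, n < 0 → 𝒜 n = ⊥)
  (a : HomogeneousIdeal 𝒜)
  (ha : a.toIdeal = Ideal.span (⋃ n ∈ Set.Ioi (0 : ℤ), (𝒜 n : Set R)))

include hpos ha in
/-- the degree of the Hilbert polynomial is less than the dimension of the support -/
theorem degree_bound : ∀ (k : ℕ) (M : Type u) [AddCommGroup M] [Module R M] [Module.Finite R M]
    (ℳ : ℤ → AddSubgroup M) [DirectSum.Decomposition ℳ] [SetLike.GradedSMul 𝒜 ℳ]
    (P : Polynomial ℚ),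
    (∃ N : ℤ, ∀ n : ℤ, N ≤ n → P.eval (n : ℚ) = hilb 𝒜 ℳ n) → P ≠ 0 → P.natDegree < k →
    ((P.natDegree : ℕ∞) : WithBot ℕ∞) + 1 ≤ Module.supportDim R M := by
  intro k
  induction k with
  | zero =>
    intro M _ _ _ ℳ _ _ P _ _ hk
    exact absurd hk (Nat.not_lt_zero _)
  | succ k ih =>
    intro M _ _ _ ℳ _ _ P hP hP0 hdeg
    classical
    obtain ⟨N, hN⟩ := hP
    haveI : IsNoetherian R M := isNoetherian_of_isNoetherianRing_of_finite R M
    let Γ : Submodule R M := GrLC.gam a.toIdeal M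
    have hΓ : ∀ g y, y ∈ Γ → proj ℳ g y ∈ Γ := fun g y hy => proj_mem_gam 𝒜 ℳ a g y hy
    letI : DirectSum.Decomposition (quoGr ℳ Γ) := quoDecomposition ℳ Γ hΓ
    letI : DirectSum.Decomposition (subGr ℳ Γ) := subDecomposition ℳ Γ hΓ
    have hsubg : GrLC.IsGrHom (subGr ℳ Γ) ℳ Γ.subtype := fun g m hm => hm
    have hexΓ : LinearMap.ker Γ.mkQ = LinearMap.range Γ.subtype := by
      rw [Submodule.ker_mkQ, Submodule.range_subtype]
    have hhilb : ∀ n, hilb 𝒜 ℳ n = hilb 𝒜 (subGr ℳ Γ) n + hilb 𝒜 (quoGr ℳ Γ) n := fun n =>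
      hf_add 𝒜 Γ.subtype Γ.mkQ hsubg (mkQ_isGrHom ℳ Γ) Γ.injective_subtype
        Γ.mkQ_surjective hexΓ n
    have htorsΓ : ∀ z : Γ, ∃ s : ℕ, ∀ r ∈ a.toIdeal ^ s, r • z = 0 := by
      rintro ⟨m, s, hs⟩
      exact ⟨s, fun r hr => Subtype.ext (hs r hr)⟩
    obtain ⟨r₀, hr₀⟩ := Groth.Agent.Lib.Helper20.GrFin.exists_bounded_above_of_torsion 𝒜 a ha
      (subGr ℳ Γ) htorsΓ
    have hN₂ : ∀ n : ℤ, max N r₀ ≤ n → P.eval (n : ℚ) = hilb 𝒜 (quoGr ℳ Γ) n := by
      intro n hn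
      rw [hN n (le_trans (le_max_left _ _) hn), hhilb n,
        hilb_eq_zero_of_bot 𝒜 (subGr ℳ Γ) n (hr₀ n (le_trans (le_max_right _ _) hn)), zero_add]
    have hdim₁ : Module.supportDim R (M ⧸ Γ) ≤ Module.supportDim R M :=
      Module.supportDim_le_of_surjective Γ.mkQ Γ.mkQ_surjective
    refine le_trans ?_ hdim₁
    have htf : ∀ m : M ⧸ Γ, m ∈ GrLC.gam a.toIdeal (M ⧸ Γ) → m = 0 := by
      intro m hm
      exact Groth.Agent.Lib.helper11.LCKit.isTorsFree_quotient_gam a.toIdeal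
        (IsNoetherian.noetherian _) M m hm
    obtain ⟨d, hd, x, hx, hxa, hreg⟩ := exists_homogeneous_regular 𝒜 a ha (M ⧸ Γ) htf
    let C : Submodule R (M ⧸ Γ) := x • (⊤ : Submodule R (M ⧸ Γ))
    have hC : ∀ g y, y ∈ C → proj (quoGr ℳ Γ) g y ∈ C :=
      smul_top_proj_stable 𝒜 (quoGr ℳ Γ) x d hx
    letI : DirectSum.Decomposition (quoGr (quoGr ℳ Γ) C) := quoDecomposition (quoGr ℳ Γ) C hC
    have hkerQ : LinearMap.ker C.mkQ =
        LinearMap.range (x • (LinearMap.id : (M ⧸ Γ) →ₗ[R] (M ⧸ Γ))) := by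
      rw [Submodule.ker_mkQ]
      exact smul_top_eq_range x
    have hhilbR : ∀ n, hilb 𝒜 (quoGr ℳ Γ) n =
        hilb 𝒜 (quoGr ℳ Γ) (n - d) + hilb 𝒜 (quoGr (quoGr ℳ Γ) C) n := fun n =>
      hf_regular 𝒜 x d hx hreg C.mkQ (Submodule.mkQ_surjective C)
        (mkQ_isGrHom (quoGr ℳ Γ) C) hkerQ n
    have hQ : ∃ N' : ℤ, ∀ n : ℤ, N' ≤ n →
        (diff P (d : ℚ)).eval (n : ℚ) = hilb 𝒜 (quoGr (quoGr ℳ Γ) C) n := by
      refine ⟨max N r₀ + d, fun n hn => ?_⟩
      rw [eval_diff, hN₂ n (by omega)]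
      have h1 := hN₂ (n - d) (by omega)
      have e : (((n - d : ℤ)) : ℚ) = (n : ℚ) - (d : ℚ) := by push_cast; ring
      rw [e] at h1
      rw [h1, hhilbR n]
      ring
    have hdim₂ : Module.supportDim R ((M ⧸ Γ) ⧸ C) + 1 ≤ Module.supportDim R (M ⧸ Γ) :=
      Module.supportDim_quotSMulTop_succ_le_of_notMem_minimalPrimes
        (fun _ => hreg.notMem_of_mem_minimalPrimes)
    refine le_trans ?_ hdim₂
    have hd0 : (d : ℚ) ≠ 0 := by exact_mod_cast (ne_of_gt hd)
    rcases Nat.eq_zero_or_pos P.natDegree with h0 | hpos'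
    · -- constant nonzero polynomial: the quotient is nontrivial by graded Nakayama
      rw [h0]
      have hnt : Nontrivial ((M ⧸ Γ) ⧸ C) := by
        by_contra hnt
        rw [not_nontrivial_iff_subsingleton] at hnt
        have hCtop : C = ⊤ := Submodule.Quotient.subsingleton_iff.1 hnt
        have hall : ∀ z : M ⧸ Γ, z ∈ (⊥ : Submodule R (M ⧸ Γ)) := by
          refine eq_top_of_irrelevant_smul_sup 𝒜 a (quoGr ℳ Γ) hpos ha ⊥ ?_ ?_
          · intro g z hz
            rw [Submodule.mem_bot] at hz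
            rw [hz, proj_zero]
            exact Submodule.zero_mem _
          · intro z
            refine ⟨z, ?_, by rw [sub_self]; exact Submodule.zero_mem _⟩
            have hz : z ∈ C := by rw [hCtop]; exact Submodule.mem_top
            obtain ⟨w, -, rfl⟩ := (Submodule.mem_smul_pointwise_iff_exists _ _ _).1 hz
            exact Submodule.smul_mem_smul hxa Submodule.mem_top
        have hP' : P = 0 := by
          apply eq_zero_of_eventually P (max N r₀)
          intro n hn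
          rw [hN₂ n hn]
          apply hilb_eq_zero_of_bot
          rw [eq_bot_iff]
          intro z _
          rw [AddSubgroup.mem_bot]
          exact (Submodule.mem_bot R).1 (hall z)
        exact hP0 hP'
      have hne : Module.supportDim R ((M ⧸ Γ) ⧸ C) ≠ ⊥ :=
        (Module.supportDim_ne_bot_iff_nontrivial R _).2 hnt
      obtain ⟨e, he⟩ := WithBot.ne_bot_iff_exists.1 hne
      rw [← he]
      have h0e : ((0 : ℕ∞) : WithBot ℕ∞) ≤ (e : WithBot ℕ∞) := WithBot.coe_le_coe.2 bot_le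
      have := add_le_add h0e (le_refl (1 : WithBot ℕ∞))
      exact_mod_cast this
    · obtain ⟨t, ht⟩ : ∃ t, P.natDegree = t + 1 := ⟨P.natDegree - 1, by omega⟩
      obtain ⟨hQ0, hQdeg⟩ := natDegree_diff P (d : ℚ) hd0 t ht
      have hIH := ih (( M ⧸ Γ) ⧸ C) (quoGr (quoGr ℳ Γ) C) (diff P (d : ℚ)) hQ hQ0
        (by rw [hQdeg]; omega)
      rw [hQdeg] at hIH
      rw [ht]
      have e : (((t + 1 : ℕ) : ℕ∞) : WithBot ℕ∞) = ((t : ℕ∞) : WithBot ℕ∞) + 1 := by
        push_cast; rfl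
      rw [e]
      exact add_le_add hIH le_rfl

end Groth.Agent.Lib.helper11.SG12
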