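import Mathlib
import Groth.Prelude.Def_GrLC
import Groth.Agent.Lib.Helper20.GrLES10
import Groth.Agent.Lib.helper11.SG12

/-!
# `a(R) ≥ -dim R` for a standard graded Cohen–Macaulay *local ring (S17771)
-/

set_option autoImplicit false
set_option linter.unusedSectionVars false
set_option linter.unusedVariables false
set_option linter.style.haveILetI false

namespace Groth.Agent.Lib.helper11.SG13

open DirectSum Groth.Agent.Lib.Helper26.GrProj Groth.Agent.Lib.Helper20.GrKit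
  Groth.Agent.Lib.Helper20.GrLES
  Groth.Agent.Lib.helper11.SG1 Groth.Agent.Lib.helper11.SG2 Groth.Agent.Lib.helper11.SG6
  Groth.Agent.Lib.helper11.SG7 Groth.Agent.Lib.helper11.SG9 Groth.Agent.Lib.helper11.SG10
  Groth.Agent.Lib.helper11.SG12

universe u

variable {R : Type u} [CommRing R] [LocCoh.IsCohenMacaulayRing R] (𝒜 : ℤ → AddSubgroup R)
  [GradedRing 𝒜]
  [IsArtinianRing (GrLC.deg0 𝒜)] (hpos : ∀ n : ℤ, n < 0 → 𝒜 n = ⊥)
  (m : HomogeneousIdeal 𝒜) (hm : GrLC.IsStarLocal 𝒜 m)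

include hm in
theorem hilb_zero_ne_zero : hilb 𝒜 𝒜 0 ≠ 0 := by
  intro h
  have hb := eq_bot_of_L_eq_zero (GrLC.comp 𝒜 𝒜 0) (isFiniteLength_comp 𝒜 𝒜 0) h
  have h1 : (1 : R) ∈ GrLC.comp 𝒜 𝒜 0 := (SetLike.GradedOne.one_mem : (1 : R) ∈ 𝒜 0)
  rw [hb, Submodule.mem_bot] at h1
  apply toIdeal_ne_top 𝒜 m hm
  rw [Ideal.eq_top_iff_one, h1]
  exact zero_mem _

include hpos in
theorem hilb_neg (n : ℤ) (hn : n < 0) : hilb 𝒜 𝒜 n = 0 :=
  hilb_eq_zero_of_bot 𝒜 𝒜 n (hpos n hn)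

include hpos hm in
/-- if `H^d_m(R)` vanishes in degrees `≥ -d`, contradiction -/
theorem not_forall_eq_bot (d : ℕ) (hd : ringKrullDim R = d) (I : GrLC.StarInjRes 𝒜 𝒜)
    (P : Polynomial ℚ) (hP : ∃ N : ℤ, ∀ n : ℤ, N ≤ n → P.eval (n : ℚ) = hilb 𝒜 𝒜 n)
    (hvan : ∀ n : ℤ, -(d : ℤ) ≤ n → I.Hgr m d n = ⊥) : False := by
  classical
  have heq : ∀ n : ℤ, -(d : ℤ) ≤ n → P.eval (n : ℚ) = hilb 𝒜 𝒜 n := by
    intro n hn
    by_contra h
    exact ((ne_iff 𝒜 hpos m hm d hd I P hP n).2 h) (hvan n hn)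
  have hP0 : P ≠ 0 := by
    intro h
    have := heq 0 (by omega)
    rw [h, Polynomial.eval_zero] at this
    exact hilb_zero_ne_zero 𝒜 m hm this.symm
  -- the roots `-1, …, -d`
  let Z : Finset ℚ := (Finset.range d).image (fun i : ℕ => -((i : ℚ) + 1))
  have hZcard : Z.card = d := by
    rw [Finset.card_image_of_injective, Finset.card_range]
    intro i j hij
    simp only [neg_inj, add_left_inj] at hij
    exact_mod_cast hij
  have hZroots : Z.val ⊆ P.roots := by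
    intro z hz
    rw [Finset.mem_val, Finset.mem_image] at hz
    obtain ⟨i, hi, rfl⟩ := hz
    rw [Polynomial.mem_roots hP0, Polynomial.IsRoot.def]
    have h1 := heq (-((i : ℤ) + 1)) (by have := Finset.mem_range.1 hi; omega)
    rw [hilb_neg 𝒜 hpos _ (by omega)] at h1
    have e : ((-((i : ℤ) + 1) : ℤ) : ℚ) = -((i : ℚ) + 1) := by push_cast; ring
    rw [e] at h1
    exact h1
  have hle : d ≤ P.natDegree := by
    rw [← hZcard]
    exact Polynomial.card_le_degree_of_subset_roots hZroots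
  have hdb := degree_bound 𝒜 hpos (irr 𝒜) (irr_toIdeal 𝒜) (P.natDegree + 1) R 𝒜 P hP hP0
    (Nat.lt_succ_self _)
  rw [Module.supportDim_self_eq_ringKrullDim, hd] at hdb
  have h2 : (P.natDegree : ℕ∞) + 1 ≤ (d : ℕ∞) := by exact_mod_cast hdb
  have h3 : P.natDegree + 1 ≤ d := by exact_mod_cast h2
  omega

include hpos hm in
theorem s17771 (hstd : Ideal.span (⋃ n ∈ Set.Ioi (0 : ℤ), (𝒜 n : Set R)) =
      Ideal.span ((𝒜 1 : AddSubgroup R) : Set R))
    (d : ℕ) (hd : ringKrullDim R = d) (I : GrLC.StarInjRes 𝒜 𝒜) :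
    (((-(d : ℤ) : ℤ) : WithTop ℤ) : WithBot (WithTop ℤ)) ≤ GrLC.endDeg (I.Hgr m d) := by
  obtain ⟨P, N, hPN⟩ := exists_hilbert_poly 𝒜 hpos hstd 𝒜 (M := R)
  by_contra hlt
  apply not_forall_eq_bot 𝒜 hpos m hm d hd I P ⟨N, hPN⟩
  intro n hn
  by_contra hne
  apply hlt
  refine le_trans ?_ (le_endDeg (I.Hgr m d) n hne)
  exact_mod_cast hn

end Groth.Agent.Lib.helper11.SG13
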