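import Mathlib
import Groth.Prelude.Def_GrLC
import Groth.Agent.Lib.helper11.SG10

/-!
# Standard graded rings over a field generated by `dim R` linear forms are polynomial rings
-/

set_option autoImplicit false
set_option linter.unusedSectionVars false
set_option linter.unusedVariables false
set_option linter.style.haveILetI false

namespace Groth.Agent.Lib.helper11.SG14

open DirectSum Groth.Agent.Lib.Helper26.GrProj Groth.Agent.Lib.Helper20.GrKit
  Groth.Agent.Lib.helper11.SG10

universe u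

variable {R : Type u} [CommRing R] [IsNoetherianRing R] (𝒜 : ℤ → AddSubgroup R) [GradedRing 𝒜]
  (hpos : ∀ n : ℤ, n < 0 → 𝒜 n = ⊥)
  (hstd : Ideal.span (⋃ n ∈ Set.Ioi (0 : ℤ), (𝒜 n : Set R)) =
    Ideal.span ((𝒜 1 : AddSubgroup R) : Set R))

theorem ringKrullDim_mvPolynomial_fin (k : Type*) [Field k] (r : ℕ) :
    ringKrullDim (MvPolynomial (Fin r) k) = r := by
  rw [MvPolynomial.ringKrullDim_of_isNoetherianRing, ringKrullDim_eq_zero_of_field, zero_add,
    Nat.card_fin]

theorem ringKrullDim_mvPolynomial_of_isField (k : Type*) [CommRing k] (hk : IsField k) (r : ℕ) :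
    ringKrullDim (MvPolynomial (Fin r) k) = r := by
  letI := hk.toField
  exact ringKrullDim_mvPolynomial_fin k r

/-- evaluation of polynomials over `R_0` at a family of elements of `R` -/
noncomputable def ev {s : ℕ} (w : Fin s → R) :
    MvPolynomial (Fin s) (GrLC.deg0 𝒜) →ₐ[GrLC.deg0 𝒜] R := MvPolynomial.aeval w

variable {s : ℕ} (w : Fin s → R) (hw : ∀ i, w i ∈ 𝒜 1)
  (hspan : Ideal.span (Set.range w) = Ideal.span ((𝒜 1 : AddSubgroup R) : Set R))

include hstd hw hspan in
theorem piece_le_range : ∀ (j : ℕ) (r : R), r ∈ 𝒜 (j : ℤ) → r ∈ (ev 𝒜 w).range := by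
  intro j
  induction j with
  | zero =>
    intro r hr
    refine (AlgHom.mem_range _).2 ⟨MvPolynomial.C (⟨r, hr⟩ : GrLC.deg0 𝒜), ?_⟩
    unfold ev
    rw [MvPolynomial.aeval_C]
    rfl
  | succ j ih =>
    intro r hr
    have hr' : r ∈ 𝒜 ((j : ℤ) + 1) := by
      have e : ((j + 1 : ℕ) : ℤ) = (j : ℤ) + 1 := by push_cast; ring
      rw [← e]
      exact hr
    obtain ⟨b, hb, rfl⟩ := exists_coeffs 𝒜 hstd w hw hspan (j : ℤ) (Int.natCast_nonneg j) r hr'
    refine Subalgebra.sum_mem _ fun i _ => ?_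
    refine Subalgebra.mul_mem _ (ih (b i) (hb i)) ?_
    refine (AlgHom.mem_range _).2 ⟨MvPolynomial.X i, ?_⟩
    unfold ev
    rw [MvPolynomial.aeval_X]

include hpos hstd hw hspan in
theorem ev_surjective : Function.Surjective (ev 𝒜 w) := by
  classical
  intro r
  have hr : r ∈ (ev 𝒜 w).range := by
    rw [← sum_proj 𝒜 r]
    refine Subalgebra.sum_mem _ fun j _ => ?_
    by_cases hj : j < 0
    · have := proj_mem 𝒜 j r
      rw [hpos j hj, AddSubgroup.mem_bot] at this
      rw [this]
      exact Subalgebra.zero_mem _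
    · push Not at hj
      obtain ⟨j', rfl⟩ := Int.eq_ofNat_of_zero_le hj
      exact piece_le_range 𝒜 hstd w hw hspan j' _ (proj_mem 𝒜 _ r)
  exact (AlgHom.mem_range _).1 hr

include hpos hstd hw hspan in
/-- the number of generators is at least the dimension -/
theorem dim_le (h0 : IsField (GrLC.deg0 𝒜)) : ringKrullDim R ≤ (s : WithBot ℕ∞) := by
  have h := ringKrullDim_le_of_surjective (ev 𝒜 w).toRingHom (ev_surjective 𝒜 hpos hstd w hw hspan)
  rw [ringKrullDim_mvPolynomial_of_isField _ h0] at h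
  exact h

include hpos hstd hw hspan in
/-- if the number of generators is the dimension, `R` is a polynomial ring -/
theorem ev_injective (h0 : IsField (GrLC.deg0 𝒜)) (hdim : ringKrullDim R = s) :
    Function.Injective (ev 𝒜 w) := by
  haveI : IsDomain (GrLC.deg0 𝒜) := h0.isDomain
  have hsurj := ev_surjective 𝒜 hpos hstd w hw hspan
  set K := RingHom.ker (ev 𝒜 w).toRingHom with hK
  have hKbot : K = ⊥ := by
    by_contra hne
    obtain ⟨f, hfK, hf0⟩ := Submodule.exists_mem_ne_zero_of_ne_bot hne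
    have h1 := ringKrullDim_quotient_succ_le_of_nonZeroDivisor
      (mem_nonZeroDivisors_of_ne_zero hf0)
    rw [ringKrullDim_mvPolynomial_of_isField _ h0] at h1
    have hle : Ideal.span {f} ≤ K := (Ideal.span_singleton_le_iff_mem _).2 hfK
    have h2 : ringKrullDim (MvPolynomial (Fin s) (GrLC.deg0 𝒜) ⧸ K) ≤
        ringKrullDim (MvPolynomial (Fin s) (GrLC.deg0 𝒜) ⧸ Ideal.span {f}) :=
      ringKrullDim_le_of_surjective (Ideal.Quotient.factor hle)
        (Ideal.Quotient.factor_surjective hle)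
    have h3 : ringKrullDim (MvPolynomial (Fin s) (GrLC.deg0 𝒜) ⧸ K) = ringKrullDim R :=
      ringKrullDim_eq_of_ringEquiv (RingHom.quotientKerEquivOfSurjective hsurj)
    rw [h3, hdim] at h2
    have h4 : ((s : ℕ) : WithBot ℕ∞) + 1 ≤ s := (add_le_add h2 le_rfl).trans h1
    have h5 : ((s + 1 : ℕ) : WithBot ℕ∞) ≤ (s : ℕ) := by exact_mod_cast h4
    have h6 : s + 1 ≤ s := by exact_mod_cast h5
    omega
  exact (RingHom.injective_iff_ker_eq_bot (ev 𝒜 w).toRingHom).2 hKbot

end Groth.Agent.Lib.helper11.SG14
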