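import Mathlib
import Groth.Prelude.Def_GrLC
import Groth.Agent.Lib.helper11.SG14
import Groth.Agent.Lib.helper11.SG9

/-!
# The Hilbert function of a graded polynomial ring
-/

set_option autoImplicit false
set_option linter.unusedSectionVars false
set_option linter.unusedVariables false
set_option linter.style.haveILetI false

namespace Groth.Agent.Lib.helper11.SG15

open DirectSum Groth.Agent.Lib.Helper26.GrProj Groth.Agent.Lib.Helper20.GrKit
  Groth.Agent.Lib.helper11.SG1 Groth.Agent.Lib.helper11.SG2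
  Groth.Agent.Lib.helper11.SG10 Groth.Agent.Lib.helper11.SG14 MvPolynomial

universe u

/-- dimension of the space of forms of degree `n` in `r` variables (as in `Helper7/FanoCodim`) -/
theorem finrank_homogeneousSubmodule {k : Type u} [Field k] (r n : ℕ) :
    Module.finrank k ↥(homogeneousSubmodule (Fin r) k n) = (r + n - 1).choose n := by
  classical
  have hset : {d : Fin r →₀ ℕ | d.degree = n} =
      ((Finset.univ : Finset (Fin r)).finsuppAntidiag n : Set (Fin r →₀ ℕ)) := by
    ext d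
    simp [Finsupp.degree_eq_sum]
  rw [homogeneousSubmodule_eq_finsupp_supported, hset]
  change Module.finrank k ↥(restrictSupport k _) = _
  rw [Module.finrank_eq_nat_card_basis (basisRestrictSupport k _),
    Nat.card_coe_set_eq, Set.ncard_coe_finset, Finset.card_finsuppAntidiag_nat_eq_choose]
  simp

variable {R : Type u} [CommRing R] [IsNoetherianRing R] (𝒜 : ℤ → AddSubgroup R) [GradedRing 𝒜]
  {s : ℕ} (w : Fin s → R) (hw : ∀ i, w i ∈ 𝒜 1)

include hw in
/-- forms of degree `n` are mapped into `R_n` -/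
theorem ev_mem (n : ℕ) (p : MvPolynomial (Fin s) (GrLC.deg0 𝒜)) (hp : p.IsHomogeneous n) :
    ev 𝒜 w p ∈ 𝒜 (n : ℤ) := by
  classical
  unfold ev
  rw [aeval_def, eval₂_eq]
  refine AddSubgroup.sum_mem _ fun d hd => ?_
  have hd' : coeff d p ≠ 0 := mem_support_iff.1 hd
  have hdeg : Finsupp.weight (1 : Fin s → ℕ) d = n := hp hd'
  have h1 : (algebraMap (GrLC.deg0 𝒜) R) (coeff d p) ∈ 𝒜 0 := (coeff d p).2
  have h2 : ∏ i ∈ d.support, w i ^ d i ∈ 𝒜 (∑ i ∈ d.support, d i • (1 : ℤ)) :=
    SetLike.prod_mem_graded 𝒜 (fun i => d i • (1 : ℤ)) (fun i => w i ^ d i)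
      (fun i _ => SetLike.pow_mem_graded (d i) (hw i))
  have h3 := SetLike.GradedMul.mul_mem h1 h2
  have e : (0 : ℤ) + ∑ i ∈ d.support, d i • (1 : ℤ) = (n : ℤ) := by
    rw [zero_add, ← hdeg, Finsupp.weight_apply, Finsupp.sum]
    push_cast
    refine Finset.sum_congr rfl fun i _ => ?_
    simp
  rw [e] at h3
  exact h3

variable (hbij : Function.Bijective (ev 𝒜 w))

include hw hbij in
theorem exists_form (n : ℕ) (y : R) (hy : y ∈ 𝒜 (n : ℤ)) :
    ∃ p : MvPolynomial (Fin s) (GrLC.deg0 𝒜), p.IsHomogeneous n ∧ ev 𝒜 w p = y := by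
  classical
  obtain ⟨p, rfl⟩ := hbij.2 y
  refine ⟨homogeneousComponent n p, homogeneousComponent_isHomogeneous n p, ?_⟩
  have hsum : ev 𝒜 w p =
      ∑ i ∈ Finset.range (p.totalDegree + 1), ev 𝒜 w (homogeneousComponent i p) := by
    conv_lhs => rw [← sum_homogeneousComponent p, map_sum]
  have hproj : proj 𝒜 (n : ℤ) (ev 𝒜 w p) = ev 𝒜 w (homogeneousComponent n p) := by
    rw [hsum, proj_sum]
    have hterm : ∀ i : ℕ, proj 𝒜 (n : ℤ) (ev 𝒜 w (homogeneousComponent i p)) =
        if i = n then ev 𝒜 w (homogeneousComponent i p) else 0 := by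
      intro i
      have hmem := ev_mem 𝒜 w hw i _ (homogeneousComponent_isHomogeneous i p)
      split_ifs with h
      · subst h
        exact proj_of_mem_same 𝒜 hmem
      · exact proj_of_mem_ne 𝒜 hmem (by exact_mod_cast h)
    simp only [hterm]
    rw [Finset.sum_ite_eq']
    split_ifs with h
    · rfl
    · have : p.totalDegree < n := by
        rw [Finset.mem_range] at h
        omega
      rw [homogeneousComponent_eq_zero _ _ this, map_zero]
  rw [← hproj]
  exact proj_of_mem_same 𝒜 hy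

variable [IsArtinianRing (GrLC.deg0 𝒜)]

include hw hbij in
/-- the Hilbert function of a graded polynomial ring -/
theorem hilb_eq (h0 : IsField (GrLC.deg0 𝒜)) (n : ℕ) :
    hilb 𝒜 𝒜 (n : ℤ) = ((s + n - 1).choose n : ℚ) := by
  letI := h0.toField
  haveI : Module.Finite (GrLC.deg0 𝒜) (GrLC.comp 𝒜 𝒜 (n : ℤ)) := by
    haveI := Groth.Agent.Lib.Helper20.GrArt.isNoetherian_comp 𝒜 𝒜 (n : ℤ)
    infer_instance
  let ψ : ↥(homogeneousSubmodule (Fin s) (GrLC.deg0 𝒜) n) →ₗ[GrLC.deg0 𝒜]
      ↥(GrLC.comp 𝒜 𝒜 (n : ℤ)) :=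
    (ev 𝒜 w).toLinearMap.restrict (fun p hp => ev_mem 𝒜 w hw n p hp)
  have hψ : Function.Bijective ψ := by
    constructor
    · intro p q h
      apply Subtype.ext
      apply hbij.1
      exact congrArg Subtype.val h
    · intro y
      obtain ⟨p, hp, e⟩ := exists_form 𝒜 w hw hbij n y y.2
      exact ⟨⟨p, hp⟩, Subtype.ext e⟩
  unfold hilb L
  rw [Module.length_eq_finrank, ← LinearEquiv.finrank_eq (LinearEquiv.ofBijective ψ hψ),
    finrank_homogeneousSubmodule]
  simp

end Groth.Agent.Lib.helper11.SG15
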