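import Mathlib
import Groth.Prelude.Def_GrLC
import Groth.Agent.Lib.helper11.SG14
import Groth.Agent.Lib.helper11.SG7

/-!
# A standard graded ring over a field which is abstractly a polynomial ring in `r` variables is
generated by `r` linear forms
-/

set_option autoImplicit false
set_option linter.unusedSectionVars false
set_option linter.unusedVariables false
set_option linter.style.haveILetI false

namespace Groth.Agent.Lib.helper11.SG16

open DirectSum Groth.Agent.Lib.Helper26.GrProj Groth.Agent.Lib.Helper20.GrKit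
  Groth.Agent.Lib.helper11.SG7 Groth.Agent.Lib.helper11.SG10 Groth.Agent.Lib.helper11.SG14
  MvPolynomial

universe u

section Point

variable {k : Type u} [CommRing k] {σ : Type} (c : σ → k)

/-- `f - f(c)` lies in the ideal of the point `c` -/
theorem sub_C_eval_mem (f : MvPolynomial σ k) :
    f - C (eval c f) ∈ Ideal.span (Set.range fun i => (X i - C (c i) : MvPolynomial σ k)) := by
  induction f using MvPolynomial.induction_on with
  | C a =>
    rw [eval_C, sub_self]
    exact Ideal.zero_mem _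
  | add p q hp hq =>
    rw [eval_add, C_add, add_sub_add_comm]
    exact Ideal.add_mem _ hp hq
  | mul_X p i hp =>
    have e : p * X i - C (eval c (p * X i)) =
        (p - C (eval c p)) * X i + C (eval c p) * (X i - C (c i)) := by
      rw [eval_mul, eval_X, C_mul]
      ring
    rw [e]
    refine Ideal.add_mem _ (Ideal.mul_mem_right _ _ hp) (Ideal.mul_mem_left _ _ ?_)
    exact Ideal.subset_span ⟨i, rfl⟩

end Point

variable {R : Type u} [CommRing R] [IsNoetherianRing R] (𝒜 : ℤ → AddSubgroup R) [GradedRing 𝒜]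
  (hpos : ∀ n : ℤ, n < 0 → 𝒜 n = ⊥)

include hpos in
/-- the degree one component of a product with an element of the irrelevant ideal -/
theorem proj_one_mul (a y : R) (hy : y ∈ (irr 𝒜).toIdeal) :
    proj 𝒜 1 (a * y) = proj 𝒜 0 a * proj 𝒜 1 y := by
  classical
  have hy0 : proj 𝒜 0 y = 0 :=
    Groth.Agent.Lib.Helper20.GrStarLoc.proj_zero_of_mem_span 𝒜 hpos y hy
  have hsum : a * y = ∑ j ∈ (DirectSum.decompose 𝒜 y).support, a • proj 𝒜 j y := by
    conv_lhs => rw [← sum_proj 𝒜 y, Finset.mul_sum]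
    rfl
  rw [hsum, proj_sum]
  have hterm : ∀ j : ℤ, proj 𝒜 1 (a • proj 𝒜 j y) =
      if j = 1 then proj 𝒜 0 a * proj 𝒜 1 y else 0 := by
    intro j
    rw [proj_smul_of_mem_right 𝒜 𝒜 (proj_mem 𝒜 j y) 1 a]
    split_ifs with h
    · subst h
      rw [sub_self]
      rfl
    · rcases lt_trichotomy j 0 with hj | hj | hj
      · have := proj_mem 𝒜 j y
        rw [hpos j hj, AddSubgroup.mem_bot] at this
        rw [this, smul_zero]
      · subst hj
        rw [hy0, smul_zero]
      · have := proj_mem 𝒜 (1 - j) a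
        rw [hpos (1 - j) (by omega), AddSubgroup.mem_bot] at this
        rw [this, zero_smul]
  simp only [hterm]
  rw [Finset.sum_ite_eq']
  split_ifs with h
  · rfl
  · rw [proj_eq_zero_of_notMem 𝒜 h, mul_zero]

variable (m : HomogeneousIdeal 𝒜) (hm : GrLC.IsStarLocal 𝒜 m)
  (hmsp : m.toIdeal = Ideal.span (⋃ n ∈ Set.Ioi (0 : ℤ), (𝒜 n : Set R)))

include hpos hm hmsp in
/-- if `R` is abstractly a polynomial ring in `r` variables over the field `R_0` then `R_+` is
generated by `r` linear forms -/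
theorem exists_linear_gens (h0 : IsField (GrLC.deg0 𝒜)) (r : ℕ)
    (e : R ≃+* MvPolynomial (Fin r) (GrLC.deg0 𝒜)) :
    ∃ w : Fin r → R, (∀ i, w i ∈ 𝒜 1) ∧
      Ideal.span ((𝒜 1 : AddSubgroup R) : Set R) ≤ Ideal.span (Set.range w) := by
  classical
  letI := h0.toField
  have hmirr : m.toIdeal = (irr 𝒜).toIdeal := hmsp
  have hmne : m.toIdeal ≠ ⊤ := by
    intro h
    apply hm.1.1
    apply HomogeneousIdeal.toIdeal_injective
    rw [h, HomogeneousIdeal.toIdeal_top]
  -- (1) elements of `R_0` go to constants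
  have hconst : ∀ a : GrLC.deg0 𝒜, ∃ c : GrLC.deg0 𝒜, e (a : R) = C c := by
    intro a
    by_cases ha : a = 0
    · exact ⟨0, by rw [ha]; simp⟩
    · have hu : IsUnit a := isUnit_iff_ne_zero.2 ha
      have hu' : IsUnit ((a : R)) := hu.map (GrLC.deg0 𝒜).subtype
      have hu'' : IsUnit (e (a : R)) := hu'.map e
      obtain ⟨c, -, hc⟩ := (MvPolynomial.isUnit_iff_eq_C_of_isReduced).1 hu''
      exact ⟨c, hc⟩
  -- (2) the point
  have hpt : ∀ i : Fin r, ∃ c : GrLC.deg0 𝒜,
      e.symm (X i - C c : MvPolynomial (Fin r) (GrLC.deg0 𝒜)) ∈ m.toIdeal := by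
    intro i
    obtain ⟨c, hc⟩ := hconst ⟨proj 𝒜 0 (e.symm (X i)), proj_mem 𝒜 0 _⟩
    refine ⟨c, ?_⟩
    rw [map_sub, ← hc, RingEquiv.symm_apply_apply, hmirr]
    exact sub_proj_zero_mem_irr 𝒜 hpos _
  choose c hc using hpt
  let y : Fin r → R := fun i => e.symm (X i - C (c i))
  -- (4) every element of `m` vanishes at the point
  have heval : ∀ z ∈ m.toIdeal, eval c (e z) = 0 := by
    intro z hz
    by_contra hne
    have h1 := sub_C_eval_mem c (e z)
    obtain ⟨g, hg⟩ := Ideal.mem_span_range_iff_exists_fun.1 h1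
    have h2 : e.symm (e z - C (eval c (e z))) ∈ m.toIdeal := by
      rw [← hg, map_sum]
      refine Ideal.sum_mem _ fun i _ => ?_
      rw [map_mul]
      exact Ideal.mul_mem_left _ _ (hc i)
    rw [map_sub, RingEquiv.symm_apply_apply] at h2
    have h3 : e.symm (C (eval c (e z))) ∈ m.toIdeal := by
      have := Ideal.sub_mem _ hz h2
      rwa [sub_sub_cancel] at this
    have hu : IsUnit (e.symm (C (eval c (e z)) : MvPolynomial (Fin r) (GrLC.deg0 𝒜))) :=
      ((isUnit_iff_ne_zero.2 hne).map C).map e.symm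
    exact hmne (Ideal.eq_top_of_isUnit_mem _ h3 hu)
  -- (5) `m` is generated by the `y i`
  have hgen : m.toIdeal ≤ Ideal.span (Set.range y) := by
    intro z hz
    have h1 := sub_C_eval_mem c (e z)
    rw [heval z hz, C_0, sub_zero] at h1
    obtain ⟨g, hg⟩ := Ideal.mem_span_range_iff_exists_fun.1 h1
    have hz' : z = ∑ i, e.symm (g i) * y i := by
      apply e.injective
      rw [← hg, map_sum]
      refine Finset.sum_congr rfl fun i _ => ?_
      rw [map_mul, RingEquiv.apply_symm_apply]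
      simp only [y, RingEquiv.apply_symm_apply]
    rw [hz']
    exact Ideal.sum_mem _ fun i _ => Ideal.mul_mem_left _ _ (Ideal.subset_span ⟨i, rfl⟩)
  -- (6) the linear parts
  refine ⟨fun i => proj 𝒜 1 (y i), fun i => proj_mem 𝒜 1 _, ?_⟩
  rw [Ideal.span_le]
  intro z hz
  have hz1 : z ∈ 𝒜 1 := hz
  have hzm : z ∈ m.toIdeal := by
    rw [hmsp]
    apply Ideal.subset_span
    simp only [Set.mem_iUnion, Set.mem_Ioi, SetLike.mem_coe]
    exact ⟨1, one_pos, hz1⟩
  obtain ⟨g, hg⟩ := Ideal.mem_span_range_iff_exists_fun.1 (hgen hzm)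
  have h1 : z = ∑ i, proj 𝒜 0 (g i) * proj 𝒜 1 (y i) := by
    conv_lhs => rw [← proj_of_mem_same 𝒜 hz1, ← hg, proj_sum]
    refine Finset.sum_congr rfl fun i _ => ?_
    exact proj_one_mul 𝒜 hpos (g i) (y i) (by rw [← hmirr]; exact hc i)
  rw [SetLike.mem_coe, h1]
  exact Ideal.sum_mem _ fun i _ => Ideal.mul_mem_left _ _ (Ideal.subset_span ⟨i, rfl⟩)

end Groth.Agent.Lib.helper11.SG16
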