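import Mathlib
import Groth.Prelude.Def_GrLC
import Groth.Agent.Lib.helper11.SG13
import Groth.Agent.Lib.helper11.SG15
import Groth.Agent.Lib.helper11.SG16

/-!
# `a(R) = -dim R` iff `R` is a polynomial ring (S18644)
-/

set_option autoImplicit false
set_option linter.unusedSectionVars false
set_option linter.unusedVariables false
set_option linter.style.haveILetI false

namespace Groth.Agent.Lib.helper11.SG17

open DirectSum Groth.Agent.Lib.Helper26.GrProj Groth.Agent.Lib.Helper20.GrKit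
  Groth.Agent.Lib.Helper20.GrLES
  Groth.Agent.Lib.helper11.SG1 Groth.Agent.Lib.helper11.SG2 Groth.Agent.Lib.helper11.SG6
  Groth.Agent.Lib.helper11.SG7 Groth.Agent.Lib.helper11.SG9 Groth.Agent.Lib.helper11.SG10
  Groth.Agent.Lib.helper11.SG12 Groth.Agent.Lib.helper11.SG13 Groth.Agent.Lib.helper11.SG14
  Groth.Agent.Lib.helper11.SG15 Groth.Agent.Lib.helper11.SG16

universe u

section Poly

open Polynomial

theorem preHilbertPoly_eval_nat (d n : ℕ) :
    (preHilbertPoly ℚ d 0).eval (n : ℚ) = ((n + d).choose d : ℚ) := by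
  have := preHilbertPoly_eq_choose_sub_add ℚ d (Nat.zero_le n)
  rw [this, Nat.sub_zero]

theorem preHilbertPoly_eval_neg (d j : ℕ) (hj1 : 1 ≤ j) (hjd : j ≤ d) :
    (preHilbertPoly ℚ d 0).eval (-(j : ℚ)) = 0 := by
  unfold preHilbertPoly
  rw [eval_smul, eval_comp, eval_add, eval_sub, eval_X, eval_C, eval_one]
  have e : -(j : ℚ) - ((0 : ℕ) : ℚ) + 1 = -((j - 1 : ℕ) : ℚ) := by
    rw [Nat.cast_sub hj1]
    push_cast
    ring
  rw [e, ascPochhammer_eval_neg_coe_nat_of_lt (by omega), smul_zero]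

end Poly

variable {R : Type u} [CommRing R] [LocCoh.IsCohenMacaulayRing R] (𝒜 : ℤ → AddSubgroup R)
  [GradedRing 𝒜] (hpos : ∀ n : ℤ, n < 0 → 𝒜 n = ⊥) (h0 : IsField (GrLC.deg0 𝒜))
  (m : HomogeneousIdeal 𝒜) (hm : GrLC.IsStarLocal 𝒜 m)
  (hstd : Ideal.span (⋃ n ∈ Set.Ioi (0 : ℤ), (𝒜 n : Set R)) =
    Ideal.span ((𝒜 1 : AddSubgroup R) : Set R))

include h0 in
theorem isArtinianRing_deg0 : IsArtinianRing (GrLC.deg0 𝒜) := by
  letI := h0.toField
  infer_instance

include h0 in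
theorem hilb_zero_eq_one : haveI := isArtinianRing_deg0 𝒜 h0; hilb 𝒜 𝒜 0 = 1 := by
  letI := h0.toField
  haveI : Module.Finite (GrLC.deg0 𝒜) (GrLC.comp 𝒜 𝒜 (0 : ℤ)) := by
    haveI := Groth.Agent.Lib.Helper20.GrArt.isNoetherian_comp 𝒜 𝒜 (0 : ℤ)
    infer_instance
  let e : (GrLC.deg0 𝒜) ≃ₗ[GrLC.deg0 𝒜] ↥(GrLC.comp 𝒜 𝒜 (0 : ℤ)) :=
    { toFun := fun a => ⟨(a : R), a.2⟩
      map_add' := fun a b => rfl
      map_smul' := fun c a => rfl
      invFun := fun y => ⟨(y : R), y.2⟩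
      left_inv := fun a => rfl
      right_inv := fun y => rfl }
  unfold hilb L
  rw [Module.length_eq_finrank, ← LinearEquiv.finrank_eq e, Module.finrank_self]
  simp

include hpos hm h0 hstd in
/-- a graded polynomial ring has `a`-invariant `-r` -/
theorem endDeg_of_gens (r : ℕ) (hr : ringKrullDim R = r) (I : GrLC.StarInjRes 𝒜 𝒜)
    (w : Fin r → R) (hw : ∀ i, w i ∈ 𝒜 1)
    (hspan : Ideal.span (Set.range w) = Ideal.span ((𝒜 1 : AddSubgroup R) : Set R)) :
    GrLC.endDeg (I.Hgr m r) = (((-(r : ℤ) : ℤ) : WithTop ℤ) : WithBot (WithTop ℤ)) := by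
  haveI := isArtinianRing_deg0 𝒜 h0
  have hbij : Function.Bijective (ev 𝒜 w) :=
    ⟨ev_injective 𝒜 hpos hstd w hw hspan h0 hr, ev_surjective 𝒜 hpos hstd w hw hspan⟩
  have hH := hilb_eq 𝒜 w hw hbij h0
  let P : Polynomial ℚ := if r = 0 then 0 else Polynomial.preHilbertPoly ℚ (r - 1) 0
  have hPeq : ∀ n : ℤ, -(r : ℤ) < n → P.eval (n : ℚ) = hilb 𝒜 𝒜 n := by
    intro n hn
    by_cases hn0 : 0 ≤ n
    · obtain ⟨n', rfl⟩ := Int.eq_ofNat_of_zero_le hn0
      have e1 : ((n' : ℤ) : ℚ) = (n' : ℚ) := by push_cast; rfl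
      rw [hH n', e1]
      by_cases hr0 : r = 0
      · have hn1 : 1 ≤ n' := by omega
        simp only [P, hr0, if_true, Polynomial.eval_zero]
        rw [Nat.choose_eq_zero_of_lt (by omega)]
        simp
      · simp only [P, hr0, if_false]
        rw [preHilbertPoly_eval_nat]
        have e2 : r + n' - 1 = n' + (r - 1) := by omega
        rw [e2, Nat.choose_symm_add]
    · push Not at hn0
      rw [hilb_neg 𝒜 hpos n hn0]
      have hr0 : r ≠ 0 := by omega
      simp only [P, hr0, if_false]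
      obtain ⟨j, hj⟩ : ∃ j : ℕ, n = -(j : ℤ) := ⟨(-n).toNat, by omega⟩
      subst hj
      have e1 : ((-(j : ℤ) : ℤ) : ℚ) = -(j : ℚ) := by push_cast; rfl
      rw [e1]
      exact preHilbertPoly_eval_neg (r - 1) j (by omega) (by omega)
  have hP : ∃ N : ℤ, ∀ n : ℤ, N ≤ n → P.eval (n : ℚ) = hilb 𝒜 𝒜 n := by
    refine ⟨1, fun n hn => hPeq n ?_⟩
    have : (0 : ℤ) ≤ r := Int.natCast_nonneg r
    omega
  apply le_antisymm
  · rw [endDeg_le_iff]
    intro n hne
    by_contra hlt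
    have hn : -(r : ℤ) < n := by
      by_contra h
      apply hlt
      have : n ≤ -(r : ℤ) := not_lt.1 h
      exact_mod_cast this
    exact ((ne_iff 𝒜 hpos m hm r hr I P hP n).1 hne) (hPeq n hn)
  · exact s17771 𝒜 hpos m hm hstd r hr I

include hpos hm h0 hstd in
/-- if `a(R) = -r` then `R_+` is generated by `r` linear forms -/
theorem exists_gens_of_endDeg (r : ℕ) (hr : ringKrullDim R = r) (I : GrLC.StarInjRes 𝒜 𝒜)
    (hend : GrLC.endDeg (I.Hgr m r) = (((-(r : ℤ) : ℤ) : WithTop ℤ) : WithBot (WithTop ℤ))) :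
    ∃ w : Fin r → R, (∀ i, w i ∈ 𝒜 1) ∧
      Ideal.span (Set.range w) = Ideal.span ((𝒜 1 : AddSubgroup R) : Set R) := by
  classical
  haveI := isArtinianRing_deg0 𝒜 h0
  obtain ⟨P, N, hPN⟩ := exists_hilbert_poly 𝒜 hpos hstd 𝒜 (M := R)
  have hP : ∃ N : ℤ, ∀ n : ℤ, N ≤ n → P.eval (n : ℚ) = hilb 𝒜 𝒜 n := ⟨N, hPN⟩
  have hPeq : ∀ n : ℤ, -(r : ℤ) < n → P.eval (n : ℚ) = hilb 𝒜 𝒜 n := by
    intro n hn
    by_contra hne
    have h1 := (ne_iff 𝒜 hpos m hm r hr I P hP n).2 hne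
    apply h1
    apply piece_eq_bot_of_endDeg_lt
    rw [hend]
    exact_mod_cast hn
  -- the value of the Hilbert function in degree one
  have hone : hilb 𝒜 𝒜 1 = (r : ℚ) := by
    by_cases hr0 : r = 0
    · have hP0 : P = 0 := by
        by_contra hne
        have hdb := degree_bound 𝒜 hpos (irr 𝒜) (irr_toIdeal 𝒜) (P.natDegree + 1) R 𝒜 P hP hne
          (Nat.lt_succ_self _)
        rw [Module.supportDim_self_eq_ringKrullDim, hr, hr0] at hdb
        have h2 : (P.natDegree : ℕ∞) + 1 ≤ ((0 : ℕ) : ℕ∞) := by exact_mod_cast hdb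
        have h3 : P.natDegree + 1 ≤ 0 := by exact_mod_cast h2
        omega
      have := hPeq 1 (by omega)
      rw [hP0, Polynomial.eval_zero] at this
      rw [← this, hr0]
      simp
    · have hP0 : P ≠ 0 := by
        intro h
        have := hPeq 0 (by omega)
        rw [h, Polynomial.eval_zero, hilb_zero_eq_one 𝒜 h0] at this
        exact zero_ne_one this
      have hdb := degree_bound 𝒜 hpos (irr 𝒜) (irr_toIdeal 𝒜) (P.natDegree + 1) R 𝒜 P hP hP0
        (Nat.lt_succ_self _)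
      rw [Module.supportDim_self_eq_ringKrullDim, hr] at hdb
      have h2 : (P.natDegree : ℕ∞) + 1 ≤ (r : ℕ∞) := by exact_mod_cast hdb
      have h3 : P.natDegree + 1 ≤ r := by exact_mod_cast h2
      -- identify `P`
      let Z : Finset ℚ := (Finset.range r).image (fun j : ℕ => -(j : ℚ))
      have hZcard : Z.card = r := by
        rw [Finset.card_image_of_injective, Finset.card_range]
        intro i j hij
        simp only [neg_inj] at hij
        exact_mod_cast hij
      have hPP : P = Polynomial.preHilbertPoly ℚ (r - 1) 0 := by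
        apply Polynomial.eq_of_degrees_lt_of_eval_finset_eq Z
        · rw [hZcard, Polynomial.degree_eq_natDegree hP0]
          exact_mod_cast (by omega : P.natDegree < r)
        · rw [hZcard]
          refine lt_of_le_of_lt Polynomial.degree_le_natDegree ?_
          rw [Polynomial.natDegree_preHilbertPoly]
          exact_mod_cast (by omega : r - 1 < r)
        · intro z hz
          rw [Finset.mem_image] at hz
          obtain ⟨j, hj, rfl⟩ := hz
          have hjr : j < r := Finset.mem_range.1 hj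
          have h4 := hPeq (-(j : ℤ)) (by omega)
          have e1 : ((-(j : ℤ) : ℤ) : ℚ) = -(j : ℚ) := by push_cast; rfl
          rw [e1] at h4
          rw [h4]
          rcases Nat.eq_zero_or_pos j with hj0 | hjpos
          · subst hj0
            have e2 : -((0 : ℕ) : ℚ) = ((0 : ℕ) : ℚ) := by simp
            rw [e2, preHilbertPoly_eval_nat]
            simp only [Nat.cast_zero, neg_zero, zero_add, Nat.choose_self, Nat.cast_one]
            exact hilb_zero_eq_one 𝒜 h0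
          · rw [preHilbertPoly_eval_neg (r - 1) j hjpos (by omega)]
            exact hilb_neg 𝒜 hpos _ (by omega)
      have h5 := hPeq 1 (by omega)
      rw [← h5, hPP]
      have e3 : ((1 : ℤ) : ℚ) = ((1 : ℕ) : ℚ) := by simp
      rw [e3, preHilbertPoly_eval_nat]
      have e4 : 1 + (r - 1) = (r - 1) + 1 := by omega
      rw [e4, Nat.choose_succ_self_right]
      have : r - 1 + 1 = r := by omega
      rw [this]
  -- a basis of `R_1`
  letI := h0.toField
  haveI : Module.Finite (GrLC.deg0 𝒜) (GrLC.comp 𝒜 𝒜 (1 : ℤ)) := by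
    haveI := Groth.Agent.Lib.Helper20.GrArt.isNoetherian_comp 𝒜 𝒜 (1 : ℤ)
    infer_instance
  have hfr : Module.finrank (GrLC.deg0 𝒜) (GrLC.comp 𝒜 𝒜 (1 : ℤ)) = r := by
    unfold hilb L at hone
    rw [Module.length_eq_finrank] at hone
    have : ((Module.finrank (GrLC.deg0 𝒜) (GrLC.comp 𝒜 𝒜 (1 : ℤ)) : ℕ∞).toNat : ℚ) = (r : ℚ) :=
      hone
    rw [ENat.toNat_coe] at this
    exact_mod_cast this
  let b := Module.finBasisOfFinrankEq (GrLC.deg0 𝒜) (GrLC.comp 𝒜 𝒜 (1 : ℤ)) hfr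
  refine ⟨fun i => ((b i : GrLC.comp 𝒜 𝒜 (1 : ℤ)) : R), fun i => (b i).2, ?_⟩
  apply le_antisymm
  · rw [Ideal.span_le]
    rintro _ ⟨i, rfl⟩
    exact Ideal.subset_span (b i).2
  · rw [Ideal.span_le]
    intro y hy
    have hy1 : y ∈ 𝒜 1 := hy
    have hsum := b.sum_repr ⟨y, hy1⟩
    have hy' : y = ∑ i, ((b.repr ⟨y, hy1⟩ i : GrLC.deg0 𝒜) : R) *
        ((b i : GrLC.comp 𝒜 𝒜 (1 : ℤ)) : R) := by
      have := congrArg Subtype.val hsum
      rw [Submodule.coe_sum] at this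
      exact this.symm
    rw [SetLike.mem_coe, hy']
    exact Ideal.sum_mem _ fun i _ => Ideal.mul_mem_left _ _ (Ideal.subset_span ⟨i, rfl⟩)

include hpos hm h0 hstd in
/-- **S18644** -/
theorem main (hmsp : m.toIdeal = Ideal.span (⋃ n ∈ Set.Ioi (0 : ℤ), (𝒜 n : Set R)))
    (r : ℕ) (hr : ringKrullDim R = r) (I : GrLC.StarInjRes 𝒜 𝒜) :
    GrLC.endDeg (I.Hgr m r) = (((-(r : ℤ) : ℤ) : WithTop ℤ) : WithBot (WithTop ℤ)) ↔
      Nonempty (R ≃+* MvPolynomial (Fin r) (GrLC.deg0 𝒜)) := by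
  constructor
  · intro hend
    obtain ⟨w, hw, hspan⟩ := exists_gens_of_endDeg 𝒜 hpos h0 m hm hstd r hr I hend
    have hbij : Function.Bijective (ev 𝒜 w) :=
      ⟨ev_injective 𝒜 hpos hstd w hw hspan h0 hr, ev_surjective 𝒜 hpos hstd w hw hspan⟩
    exact ⟨(RingEquiv.ofBijective (ev 𝒜 w).toRingHom hbij).symm⟩
  · rintro ⟨e⟩
    obtain ⟨w, hw, hle⟩ := exists_linear_gens 𝒜 hpos m hm hmsp h0 r e
    have hspan : Ideal.span (Set.range w) = Ideal.span ((𝒜 1 : AddSubgroup R) : Set R) := by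
      apply le_antisymm _ hle
      rw [Ideal.span_le]
      rintro _ ⟨i, rfl⟩
      exact Ideal.subset_span (hw i)
    exact endDeg_of_gens 𝒜 hpos h0 m hm hstd r hr I w hw hspan

end Groth.Agent.Lib.helper11.SG17
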