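import Mathlib
import Groth.Agent.Lib.helper11.CoverLift

/-!
# Extending generic points of a finite scheme over a normal domain to sections (helper11)

* `exists_retract`: `R` integrally closed domain with fraction field `K`, `ι : R → C` integral,
  `φ : C → K` with `φ ∘ ι = algebraMap R K`; then `φ` factors through `R`.
* `exists_section`: scheme version, `p : N ⟶ Spec R` finite.
* `lift_unique_connected`: two lifts through a finite étale map from a connected scheme agreeing
  somewhere are equal.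
* `finite_points`: a finite `R`-scheme has finitely many points with values in a field over `R`.
-/

set_option autoImplicit false
universe u
open CategoryTheory CategoryTheory.Limits AlgebraicGeometry Opposite TopologicalSpace

namespace Groth.Agent.Lib.helper11.SectExt

theorem exists_retract (R K C : Type u) [CommRing R] [IsDomain R] [IsIntegrallyClosed R]
    [Field K] [Algebra R K] [IsFractionRing R K] [CommRing C] (ι : R →+* C) (hι : ι.IsIntegral)
    (φ : C →+* K) (hφ : φ.comp ι = algebraMap R K) :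
    ∃ ψ : C →+* R, ψ.comp ι = RingHom.id R ∧ (algebraMap R K).comp ψ = φ := by
  have hinj : Function.Injective (algebraMap R K) := IsFractionRing.injective R K
  have hmem : ∀ c : C, ∃ y : R, algebraMap R K y = φ c := by
    intro c
    rw [← IsIntegrallyClosed.isIntegral_iff]
    obtain ⟨P, hP, hPc⟩ := hι c
    refine ⟨P, hP, ?_⟩
    have := congrArg φ hPc
    rw [Polynomial.hom_eval₂, hφ, map_zero] at this
    exact this
  choose f hf using hmem
  have h1 : f 1 = 1 := hinj (by rw [hf, map_one, map_one])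
  have hmul : ∀ a b, f (a * b) = f a * f b := fun a b => hinj (by
    rw [hf, map_mul, map_mul, hf, hf])
  have h0 : f 0 = 0 := hinj (by rw [hf, map_zero, map_zero])
  have hadd : ∀ a b, f (a + b) = f a + f b := fun a b => hinj (by
    rw [hf, map_add, map_add, hf, hf])
  refine ⟨⟨⟨⟨f, h1⟩, hmul⟩, h0, hadd⟩, ?_, ?_⟩
  · ext r
    apply hinj
    show algebraMap R K (f (ι r)) = algebraMap R K r
    rw [hf, ← hφ]; rfl
  · ext c
    exact hf c

theorem exists_section (R K : Type u) [CommRing R] [IsDomain R] [IsIntegrallyClosed R]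
    [Field K] [Algebra R K] [IsFractionRing R K] {N : Scheme.{u}}
    (p : N ⟶ Spec (CommRingCat.of R)) [IsFinite p]
    (a : Spec (CommRingCat.of K) ⟶ N)
    (ha : a ≫ p = Spec.map (CommRingCat.ofHom (algebraMap R K))) :
    ∃ σ : Spec (CommRingCat.of R) ⟶ N, σ ≫ p = 𝟙 _ ∧
      Spec.map (CommRingCat.ofHom (algebraMap R K)) ≫ σ = a := by
  haveI : IsAffine N := isAffine_of_isAffineHom p
  let p' : Spec Γ(N, ⊤) ⟶ Spec (CommRingCat.of R) := N.isoSpec.inv ≫ p
  haveI : IsFinite p' := by dsimp only [p']; infer_instance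
  let ι : CommRingCat.of R ⟶ Γ(N, ⊤) := Spec.preimage p'
  have hι : Spec.map ι = p' := Spec.map_preimage _
  have hfin : ι.hom.Finite := by
    rw [← IsFinite.SpecMap_iff, hι]; infer_instance
  let a' : Spec (CommRingCat.of K) ⟶ Spec Γ(N, ⊤) := a ≫ N.isoSpec.hom
  let φ : Γ(N, ⊤) ⟶ CommRingCat.of K := Spec.preimage a'
  have hφ : Spec.map φ = a' := Spec.map_preimage _
  have hcomp : ι ≫ φ = CommRingCat.ofHom (algebraMap R K) := by
    apply Spec.map_injective
    rw [Spec.map_comp, hι, hφ]
    dsimp only [a', p']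
    rw [Category.assoc, Iso.hom_inv_id_assoc, ha]
  have hcomp' : φ.hom.comp ι.hom = algebraMap R K := by
    have := congrArg CommRingCat.Hom.hom hcomp
    simpa using this
  obtain ⟨ψ, hψ1, hψ2⟩ := exists_retract R K Γ(N, ⊤) ι.hom hfin.to_isIntegral φ.hom hcomp'
  refine ⟨Spec.map (CommRingCat.ofHom ψ) ≫ N.isoSpec.inv, ?_, ?_⟩
  · rw [Category.assoc]
    show Spec.map (CommRingCat.ofHom ψ) ≫ p' = _
    rw [← hι, ← Spec.map_comp]
    have : ι ≫ CommRingCat.ofHom ψ = 𝟙 _ := by
      ext x
      exact congrArg (fun f : R →+* R => f x) hψ1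
    rw [this, Spec.map_id]
  · rw [← Category.assoc, ← Spec.map_comp]
    have : CommRingCat.ofHom ψ ≫ CommRingCat.ofHom (algebraMap R K) = φ := by
      ext x
      exact congrArg (fun f : Γ(N, ⊤) →+* K => f x) hψ2
    rw [this, hφ]
    dsimp only [a']
    rw [Category.assoc, Iso.hom_inv_id, Category.comp_id]

/-- **Uniqueness of lifts, connected source.** -/
theorem lift_unique_connected {Y X Z P : Scheme.{u}} (f : Y ⟶ X) [IsFinite f] [Etale f]
    [PreconnectedSpace Z] [Nonempty P] (x₀ : P ⟶ Z)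
    (u v : Z ⟶ Y) (huv : u ≫ f = v ≫ f) (h0 : x₀ ≫ u = x₀ ≫ v) : u = v := by
  let Δ : Y ⟶ pullback f f := pullback.diagonal f
  have hΔ : Δ ≫ pullback.fst f f = 𝟙 Y := pullback.diagonal_fst f
  obtain ⟨hoi, hci⟩ := FFCrit.section_isOpenImmersion_isClosedImmersion (pullback.fst f f) Δ hΔ
  have hclopen : IsClopen (Set.range Δ) := FFCrit.isClopen_range_section (pullback.fst f f) Δ hΔ
  let w : Z ⟶ pullback f f := pullback.lift u v huv
  have hw1 : w ≫ pullback.fst f f = u := pullback.lift_fst _ _ _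
  have hw2 : w ≫ pullback.snd f f = v := pullback.lift_snd _ _ _
  have hpre : IsClopen (w ⁻¹' Set.range Δ) := hclopen.preimage w.continuous
  obtain ⟨q⟩ := ‹Nonempty P›
  have hq : x₀ q ∈ w ⁻¹' Set.range Δ := by
    refine ⟨(x₀ ≫ u) q, ?_⟩
    have : x₀ ≫ w = (x₀ ≫ u) ≫ Δ := by
      apply pullback.hom_ext
      · rw [Category.assoc, hw1, Category.assoc, hΔ, Category.comp_id]
      · rw [Category.assoc, hw2, Category.assoc, pullback.diagonal_snd, Category.comp_id, h0]
    show Δ ((x₀ ≫ u) q) = w (x₀ q)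
    rw [← Scheme.Hom.comp_apply, ← Scheme.Hom.comp_apply, this]
  have huniv : w ⁻¹' Set.range Δ = Set.univ := hpre.eq_univ ⟨_, hq⟩
  have hr : Set.range w ⊆ Set.range Δ := by
    rintro _ ⟨z, rfl⟩
    have : z ∈ w ⁻¹' Set.range Δ := by rw [huniv]; trivial
    exact this
  let l := IsOpenImmersion.lift Δ w hr
  have hl : l ≫ Δ = w := IsOpenImmersion.lift_fac _ _ _
  calc u = w ≫ pullback.fst f f := hw1.symm
    _ = l := by rw [← hl, Category.assoc, hΔ, Category.comp_id]
    _ = w ≫ pullback.snd f f := by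
        rw [← hl, Category.assoc, pullback.diagonal_snd, Category.comp_id]
    _ = v := hw2

/-- a finite `R`-scheme has only finitely many points with values in a given field over `R` -/
theorem finite_points (R k : Type u) [CommRing R] [Field k] (φ : R →+* k) {N : Scheme.{u}}
    (p : N ⟶ Spec (CommRingCat.of R)) [IsFinite p] :
    Finite {a : Spec (CommRingCat.of k) ⟶ N // a ≫ p = Spec.map (CommRingCat.ofHom φ)} := by
  haveI : IsAffine N := isAffine_of_isAffineHom p
  let p' : Spec Γ(N, ⊤) ⟶ Spec (CommRingCat.of R) := N.isoSpec.inv ≫ p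
  haveI : IsFinite p' := by dsimp only [p']; infer_instance
  let ι : CommRingCat.of R ⟶ Γ(N, ⊤) := Spec.preimage p'
  have hι : Spec.map ι = p' := Spec.map_preimage _
  have hfin : ι.hom.Finite := by
    rw [← IsFinite.SpecMap_iff, hι]; infer_instance
  letI : Algebra R Γ(N, ⊤) := ι.hom.toAlgebra
  letI : Algebra R k := φ.toAlgebra
  haveI : Module.Finite R Γ(N, ⊤) := hfin
  have key : ∀ a : {a : Spec (CommRingCat.of k) ⟶ N // a ≫ p = Spec.map (CommRingCat.ofHom φ)},
      ι ≫ Spec.preimage (a.1 ≫ N.isoSpec.hom) = CommRingCat.ofHom φ := by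
    rintro ⟨a, ha⟩
    apply Spec.map_injective
    rw [Spec.map_comp, hι, Spec.map_preimage]
    dsimp only [p']
    rw [Category.assoc, Iso.hom_inv_id_assoc, ha]
  let G : {a : Spec (CommRingCat.of k) ⟶ N // a ≫ p = Spec.map (CommRingCat.ofHom φ)} →
      (Γ(N, ⊤) →ₐ[R] k) := fun a =>
    { toRingHom := (Spec.preimage (a.1 ≫ N.isoSpec.hom)).hom
      commutes' := fun r => by
        have := congrArg (fun f => f.hom r) (key a)
        exact this }
  refine Finite.of_injective G ?_
  rintro ⟨a, ha⟩ ⟨b, hb⟩ hab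
  apply Subtype.ext
  have h1 : (Spec.preimage (a ≫ N.isoSpec.hom)).hom = (Spec.preimage (b ≫ N.isoSpec.hom)).hom :=
    congrArg (fun f : Γ(N, ⊤) →ₐ[R] k => f.toRingHom) hab
  have h2 : Spec.preimage (a ≫ N.isoSpec.hom) = Spec.preimage (b ≫ N.isoSpec.hom) :=
    CommRingCat.hom_ext h1
  have h3 := congrArg Spec.map h2
  rw [Spec.map_preimage, Spec.map_preimage] at h3
  exact (cancel_mono N.isoSpec.hom).1 h3

end Groth.Agent.Lib.helper11.SectExt
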