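import Mathlib

/-!
# Bijective semilinear maps over `A → A'` (helper11)
-/

set_option autoImplicit false

namespace Groth.Agent.Lib.helper11

open Function

variable (A A' : Type*) [CommRing A] [CommRing A'] [Algebra A A']

/-- there is a bijective map `M → M'` semilinear over `A → A'`. -/
def SemiBij (M M' : Type*) [AddCommMonoid M] [Module A M] [AddCommMonoid M'] [Module A' M'] :
    Prop :=
  ∃ φ : M →ₛₗ[algebraMap A A'] M', Bijective φ

namespace SemiBij

variable {A A'}
variable {M M' : Type*} [AddCommMonoid M] [Module A M] [AddCommMonoid M'] [Module A' M']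

/-- an `A'`-linear equivalence is semilinear for the restricted `A`-structure. -/
theorem of_linearEquiv [Module A' M] [IsScalarTower A A' M] (e : M ≃ₗ[A'] M') :
    SemiBij A A' M M' :=
  ⟨{ toFun := e
     map_add' := e.map_add
     map_smul' := fun a m => by
      rw [← algebraMap_smul A' a m, e.map_smul] }, e.bijective⟩

theorem comp_left {M₀ : Type*} [AddCommMonoid M₀] [Module A M₀] (e : M₀ ≃ₗ[A] M)
    (h : SemiBij A A' M M') : SemiBij A A' M₀ M' := by
  obtain ⟨φ, hφ⟩ := h
  exact ⟨φ.comp e.toLinearMap, hφ.comp e.bijective⟩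

theorem comp_right {M'' : Type*} [AddCommMonoid M''] [Module A' M''] (h : SemiBij A A' M M')
    (e : M' ≃ₗ[A'] M'') : SemiBij A A' M M'' := by
  obtain ⟨φ, hφ⟩ := h
  exact ⟨e.toLinearMap.comp φ, e.bijective.comp hφ⟩

/-- restriction of a semilinear bijection to kernels. -/
theorem ker {X Y X' Y' : Type*} [AddCommMonoid X] [Module A X] [AddCommMonoid Y] [Module A Y]
    [AddCommMonoid X'] [Module A' X'] [AddCommMonoid Y'] [Module A' Y']
    (φ : X →ₛₗ[algebraMap A A'] X') (hφ : Bijective φ)
    (ψ : Y →ₛₗ[algebraMap A A'] Y') (hψ : Injective ψ)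
    (a : X →ₗ[A] Y) (a' : X' →ₗ[A'] Y') (h : ∀ x, a' (φ x) = ψ (a x)) :
    SemiBij A A' (LinearMap.ker a) (LinearMap.ker a') := by
  refine ⟨{ toFun := fun x => ⟨φ x.1, by
              rw [LinearMap.mem_ker, h, (LinearMap.mem_ker.mp x.2), map_zero]⟩
            map_add' := fun x y => Subtype.ext (by simp)
            map_smul' := fun c x => Subtype.ext (by simp) }, ?_, ?_⟩
  · intro x y hxy
    exact Subtype.ext (hφ.1 (congrArg Subtype.val hxy))
  · rintro ⟨y', hy'⟩
    obtain ⟨x, rfl⟩ := hφ.2 y'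
    have hx : a x = 0 := by
      apply hψ
      rw [← h, LinearMap.mem_ker.mp hy', map_zero]
    exact ⟨⟨x, hx⟩, Subtype.ext rfl⟩

end SemiBij

end Groth.Agent.Lib.helper11
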