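import Mathlib

/-!
# Serre splitting, part 1: the topological "shrinking" lemma

`Good k F` : every irreducible closed subset of `F` has codimension (coheight) at least `k`.
-/

set_option autoImplicit false

namespace Groth.Agent.Lib.helper11.Serre1

open TopologicalSpace

variable {Ω : Type*} [TopologicalSpace Ω]

/-- every irreducible closed subset contained in `F` has coheight at least `k`. -/
def Good (k : ℕ) (F : Set Ω) : Prop :=
  ∀ Z : IrreducibleCloseds Ω, (Z : Set Ω) ⊆ F → (k : ℕ∞) ≤ Order.coheight Z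

theorem good_zero (F : Set Ω) : Good 0 F := fun _ _ => by simp

theorem Good.mono {k : ℕ} {F F' : Set Ω} (h : Good k F) (hF : F' ⊆ F) : Good k F' :=
  fun Z hZ => h Z (hZ.trans hF)

theorem Good.union {k : ℕ} {F F' : Set Ω} (h : Good k F) (h' : Good k F')
    (hF : IsClosed F) (hF' : IsClosed F') : Good k (F ∪ F') := by
  intro Z hZ
  have := isIrreducible_iff_sUnion_isClosed.mp Z.isIrreducible {F, F'}
    (by intro z hz; simp only [Finset.mem_insert, Finset.mem_singleton] at hz
        rcases hz with rfl | rfl <;> assumption)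
    (by simpa using hZ)
  obtain ⟨z, hz, hZz⟩ := this
  simp only [Finset.mem_insert, Finset.mem_singleton] at hz
  rcases hz with rfl | rfl
  · exact h Z hZz
  · exact h' Z hZz

/-- The shrinking lemma. -/
theorem shrink [NoetherianSpace Ω] (C F : Set Ω) (hC : IsClosed C) (k : ℕ) (hGood : Good k C) :
    ∃ Y : Finset Ω, (∀ y ∈ Y, y ∈ C ∧ y ∉ F) ∧
      ∀ D : Set Ω, IsClosed D → (∀ y ∈ Y, y ∉ D) →
        ∃ F' : Set Ω, IsClosed F' ∧ F' ⊆ C ∧ Good (k + 1) F' ∧ D ∩ C ⊆ F ∪ F' := by
  classical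
  obtain ⟨S, hSfin, hScl, hSirr, rfl⟩ := NoetherianSpace.exists_finite_set_isClosed_irreducible hC
  -- the pieces not contained in F
  set S' : Set (Set Ω) := {G ∈ S | ¬ G ⊆ F} with hS'
  have hS'fin : S'.Finite := hSfin.subset (fun G hG => hG.1)
  have hex : ∀ G : S', ∃ y, y ∈ (G : Set Ω) ∧ y ∉ F := by
    rintro ⟨G, hG1, hG2⟩
    exact Set.not_subset.mp hG2
  choose y hy using hex
  haveI : Fintype S' := hS'fin.fintype
  refine ⟨Finset.univ.image y, ?_, ?_⟩
  · intro z hz
    simp only [Finset.mem_image, Finset.mem_univ, true_and] at hz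
    obtain ⟨G, rfl⟩ := hz
    exact ⟨Set.mem_sUnion.mpr ⟨G, G.2.1, (hy G).1⟩, (hy G).2⟩
  · intro D hD hYD
    refine ⟨⋃ G ∈ S', (G ∩ D), ?_, ?_, ?_, ?_⟩
    · exact hS'fin.isClosed_biUnion (fun G hG => (hScl G hG.1).inter hD)
    · intro x hx
      simp only [Set.mem_iUnion, Set.mem_inter_iff, exists_prop] at hx
      obtain ⟨G, hG, hxG, -⟩ := hx
      exact Set.mem_sUnion.mpr ⟨G, hG.1, hxG⟩
    · intro Z hZ
      have := isIrreducible_iff_sUnion_isClosed.mp Z.isIrreducible
        (hS'fin.toFinset.image (fun G => G ∩ D))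
        (by
          intro z hz
          simp only [Finset.mem_image, Set.Finite.mem_toFinset] at hz
          obtain ⟨G, hG, rfl⟩ := hz
          exact (hScl G hG.1).inter hD)
        (by
          intro x hx
          have := hZ hx
          simp only [Set.mem_iUnion, Set.mem_inter_iff, exists_prop] at this
          obtain ⟨G, hG, hxG, hxD⟩ := this
          refine Set.mem_sUnion.mpr ⟨G ∩ D, ?_, hxG, hxD⟩
          simp only [Finset.coe_image, Set.Finite.coe_toFinset, Set.mem_image]
          exact ⟨G, hG, rfl⟩)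
      obtain ⟨z, hz, hZz⟩ := this
      simp only [Finset.mem_image, Set.Finite.mem_toFinset] at hz
      obtain ⟨G, hG, rfl⟩ := hz
      -- G as an irreducible closed
      let G' : IrreducibleCloseds Ω := ⟨G, hSirr G hG.1, hScl G hG.1⟩
      have hle : Z ≤ G' := fun x hx => (hZz hx).1
      have hne : Z ≠ G' := by
        intro heq
        have h1 : y ⟨G, hG⟩ ∈ (G' : Set Ω) := (hy ⟨G, hG⟩).1
        rw [← heq] at h1
        exact hYD (y ⟨G, hG⟩) (Finset.mem_image_of_mem _ (Finset.mem_univ _)) (hZz h1).2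
      have hlt : Z < G' := lt_of_le_of_ne hle hne
      have h1 : (k : ℕ∞) ≤ Order.coheight G' :=
        hGood G' (fun x hx => Set.mem_sUnion.mpr ⟨G, hG.1, hx⟩)
      calc ((k + 1 : ℕ) : ℕ∞) = (k : ℕ∞) + 1 := by push_cast; rfl
        _ ≤ Order.coheight G' + 1 := by gcongr
        _ ≤ Order.coheight Z := Order.coheight_add_one_le hlt
    · rintro x ⟨hxD, hxC⟩
      obtain ⟨G, hG, hxG⟩ := Set.mem_sUnion.mp hxC
      by_cases hGF : G ⊆ F
      · exact Or.inl (hGF hxG)
      · refine Or.inr ?_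
        simp only [Set.mem_iUnion, Set.mem_inter_iff, exists_prop]
        exact ⟨G, ⟨hG, hGF⟩, hxG, hxD⟩

end Groth.Agent.Lib.helper11.Serre1
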