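import Mathlib

/-!
# Serre splitting, part 2: pointwise linear algebra

For a maximal ideal `x` of `R` and an `R`-module `M`, we study
`V(x) = (M / xM) / B(x)`, where `B(x)` is spanned by the classes of the elements `m` such that
`φ m ∈ x` for every linear form `φ`.
-/

set_option autoImplicit false

namespace Groth.Agent.Lib.helper11.Serre2

open scoped BigOperators

variable {R : Type*} [CommRing R] {M : Type*} [AddCommGroup M] [Module R M]

/-- elements all of whose linear forms take values in `x`. -/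
def Nx (x : MaximalSpectrum R) : Submodule R M where
  carrier := {m : M | ∀ φ : M →ₗ[R] R, φ m ∈ x.asIdeal}
  zero_mem' := by intro φ; simp
  add_mem' := by
    intro a b ha hb φ
    rw [map_add]; exact x.asIdeal.add_mem (ha φ) (hb φ)
  smul_mem' := by
    intro c a ha φ
    rw [map_smul]; exact x.asIdeal.mul_mem_left _ (ha φ)

theorem mem_Nx {x : MaximalSpectrum R} {m : M} :
    m ∈ Nx (M := M) x ↔ ∀ φ : M →ₗ[R] R, φ m ∈ x.asIdeal := Iff.rfl

theorem smul_top_le_Nx (x : MaximalSpectrum R) :
    (x.asIdeal • ⊤ : Submodule R M) ≤ Nx x := by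
  rw [Submodule.smul_le]
  intro r hr n _ φ
  rw [map_smul]
  exact x.asIdeal.mul_mem_right _ hr

variable (R M) in
/-- `B(x)` exactly as in the statement. -/
def Bq (x : MaximalSpectrum R) :
    Submodule (R ⧸ x.asIdeal) (M ⧸ (x.asIdeal • ⊤ : Submodule R M)) :=
  Submodule.span (R ⧸ x.asIdeal)
    ((x.asIdeal • ⊤ : Submodule R M).mkQ '' {m : M | ∀ φ : M →ₗ[R] R, φ m ∈ x.asIdeal})

/-- the class of `m` in `V(x)`. -/
def img (x : MaximalSpectrum R) (m : M) :
    (M ⧸ (x.asIdeal • ⊤ : Submodule R M)) ⧸ Bq R M x :=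
  (Bq R M x).mkQ ((x.asIdeal • ⊤ : Submodule R M).mkQ m)

theorem img_add (x : MaximalSpectrum R) (m m' : M) : img x (m + m') = img x m + img x m' := by
  simp [img]

theorem img_zero (x : MaximalSpectrum R) : img x (0 : M) = 0 := by
  simp [img]

theorem img_smul (x : MaximalSpectrum R) (r : R) (m : M) :
    img x (r • m) = Ideal.Quotient.mk x.asIdeal r • img x m := by
  unfold img
  rw [← LinearMap.map_smul]
  rfl

theorem img_sub (x : MaximalSpectrum R) (m m' : M) : img x (m - m') = img x m - img x m' := by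
  simp [img]

theorem img_sum {ι : Type*} (x : MaximalSpectrum R) (s : Finset ι) (c : ι → R) (m : ι → M) :
    img x (∑ i ∈ s, c i • m i) = ∑ i ∈ s, Ideal.Quotient.mk x.asIdeal (c i) • img x (m i) := by
  classical
  induction s using Finset.induction_on with
  | empty => simp [img_zero]
  | insert a s ha ih => rw [Finset.sum_insert ha, Finset.sum_insert ha, img_add, ih, img_smul]

theorem img_surjective (x : MaximalSpectrum R) : Function.Surjective (img (M := M) x) := by
  intro v
  obtain ⟨q, rfl⟩ := Submodule.mkQ_surjective _ v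
  obtain ⟨m, rfl⟩ := Submodule.mkQ_surjective _ q
  exact ⟨m, rfl⟩

theorem mem_Bq_iff (x : MaximalSpectrum R) (m : M) :
    (x.asIdeal • ⊤ : Submodule R M).mkQ m ∈ Bq R M x ↔ m ∈ Nx x := by
  constructor
  · intro h
    have key : ∀ q ∈ Bq R M x, ∀ m : M, (x.asIdeal • ⊤ : Submodule R M).mkQ m = q → m ∈ Nx x := by
      intro q hq
      unfold Bq at hq
      induction hq using Submodule.span_induction with
      | mem q hq =>
        obtain ⟨m₀, hm₀, rfl⟩ := hq
        intro m hm
        have h1 : m - m₀ ∈ (x.asIdeal • ⊤ : Submodule R M) := by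
          rw [← Submodule.Quotient.mk_eq_zero, Submodule.Quotient.mk_sub]
          exact sub_eq_zero.mpr hm
        have h2 : m - m₀ ∈ Nx x := smul_top_le_Nx x h1
        have h3 : m₀ ∈ Nx x := hm₀
        have := (Nx x).add_mem h2 h3
        simpa using this
      | zero =>
        intro m hm
        have h1 : m ∈ (x.asIdeal • ⊤ : Submodule R M) := by
          rw [← Submodule.Quotient.mk_eq_zero]; exact hm
        exact smul_top_le_Nx x h1
      | add q₁ q₂ _ _ ih₁ ih₂ =>
        intro m hm
        obtain ⟨m₁, rfl⟩ := Submodule.mkQ_surjective _ q₁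
        have h1 := ih₁ m₁ rfl
        have h2 := ih₂ (m - m₁) (by rw [map_sub, hm]; abel)
        have := (Nx x).add_mem h2 h1
        simpa using this
      | smul c q _ ih =>
        intro m hm
        obtain ⟨r, rfl⟩ := Ideal.Quotient.mk_surjective c
        obtain ⟨m₀, rfl⟩ := Submodule.mkQ_surjective _ q
        have h0 := ih m₀ rfl
        have h1 : m - r • m₀ ∈ (x.asIdeal • ⊤ : Submodule R M) := by
          rw [← Submodule.Quotient.mk_eq_zero, Submodule.Quotient.mk_sub]
          exact sub_eq_zero.mpr hm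
        have h2 := smul_top_le_Nx x h1
        have := (Nx x).add_mem h2 ((Nx x).smul_mem r h0)
        simpa using this
    exact key _ h m rfl
  · intro h
    exact Submodule.subset_span ⟨m, h, rfl⟩

theorem img_eq_zero_iff (x : MaximalSpectrum R) (m : M) :
    img x m = 0 ↔ ∀ φ : M →ₗ[R] R, φ m ∈ x.asIdeal := by
  unfold img
  rw [Submodule.mkQ_apply, Submodule.Quotient.mk_eq_zero, mem_Bq_iff]
  rfl

theorem img_eq_of_sub_mem (x : MaximalSpectrum R) {m m' : M}
    (h : m - m' ∈ (x.asIdeal • ⊤ : Submodule R M)) : img x m = img x m' := by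
  rw [← sub_eq_zero, ← img_sub, img_eq_zero_iff]
  exact smul_top_le_Nx x h

/-- Independence at the point `x`. -/
def Ind {ι : Type*} (x : MaximalSpectrum R) (m : ι → M) : Prop :=
  LinearIndependent (R ⧸ x.asIdeal) (fun i => img x (m i))

theorem ind_iff {ι : Type*} [Fintype ι] (x : MaximalSpectrum R) (m : ι → M) :
    Ind x m ↔ ∀ c : ι → R, (∀ φ : M →ₗ[R] R, φ (∑ i, c i • m i) ∈ x.asIdeal) →
      ∀ i, c i ∈ x.asIdeal := by
  unfold Ind
  rw [Fintype.linearIndependent_iff]
  constructor
  · intro h c hc i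
    have := h (fun i => Ideal.Quotient.mk x.asIdeal (c i))
      (by rw [← img_sum, img_eq_zero_iff]; exact hc) i
    exact Ideal.Quotient.eq_zero_iff_mem.mp this
  · intro h g hg i
    choose c hc using fun i => Ideal.Quotient.mk_surjective (g i)
    have h1 : ∀ φ : M →ₗ[R] R, φ (∑ i, c i • m i) ∈ x.asIdeal := by
      rw [← img_eq_zero_iff, img_sum]
      simpa [hc] using hg
    rw [← hc i]
    exact Ideal.Quotient.eq_zero_iff_mem.mpr (h c h1 i)

/-- the dual family. -/
theorem Ind.exists_dual {ι : Type*} [Fintype ι] [DecidableEq ι] {x : MaximalSpectrum R}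
    {m : ι → M} (h : Ind x m) :
    ∃ φ : ι → (M →ₗ[R] R), ∀ i j,
      Ideal.Quotient.mk x.asIdeal (φ j (m i)) = if i = j then 1 else 0 := by
  classical
  letI : Field (R ⧸ x.asIdeal) := Ideal.Quotient.field x.asIdeal
  let Θ : (M →ₗ[R] R) → (ι → R ⧸ x.asIdeal) :=
    fun φ i => Ideal.Quotient.mk x.asIdeal (φ (m i))
  let RΘ : Submodule (R ⧸ x.asIdeal) (ι → R ⧸ x.asIdeal) :=
    { carrier := Set.range Θ
      zero_mem' := ⟨0, by ext i; simp [Θ]⟩
      add_mem' := by
        rintro _ _ ⟨φ, rfl⟩ ⟨ψ, rfl⟩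
        exact ⟨φ + ψ, by ext i; simp [Θ]⟩
      smul_mem' := by
        rintro c _ ⟨φ, rfl⟩
        obtain ⟨r, rfl⟩ := Ideal.Quotient.mk_surjective c
        exact ⟨r • φ, by ext i; simp [Θ]⟩ }
  have htop : RΘ = ⊤ := by
    by_contra hne
    obtain ⟨f, hf0, hf⟩ := Submodule.exists_le_ker_of_lt_top RΘ (lt_top_iff_ne_top.mpr hne)
    choose c hc using fun i => Ideal.Quotient.mk_surjective
      (f (fun j => if i = j then (1 : R ⧸ x.asIdeal) else 0))
    have h1 : ∀ φ : M →ₗ[R] R, φ (∑ i, c i • m i) ∈ x.asIdeal := by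
      intro φ
      have h2 : f (Θ φ) = 0 := hf ⟨φ, rfl⟩
      rw [LinearMap.pi_apply_eq_sum_univ] at h2
      rw [← Ideal.Quotient.eq_zero_iff_mem, map_sum, map_sum]
      rw [← h2]
      refine Finset.sum_congr rfl (fun i _ => ?_)
      rw [map_smul, smul_eq_mul, map_mul, hc i, smul_eq_mul, mul_comm]
    have h3 := (ind_iff x m).mp h c h1
    apply hf0
    refine LinearMap.ext (fun v => ?_)
    rw [LinearMap.pi_apply_eq_sum_univ]
    simp only [LinearMap.zero_apply]
    refine Finset.sum_eq_zero (fun i _ => ?_)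
    rw [← hc i, Ideal.Quotient.eq_zero_iff_mem.mpr (h3 i), smul_zero]
  have hmem : ∀ j : ι, (fun i => if i = j then (1 : R ⧸ x.asIdeal) else 0) ∈ RΘ := by
    intro j; rw [htop]; trivial
  choose φ hφ using hmem
  refine ⟨φ, fun i j => ?_⟩
  exact congrFun (hφ j) i

/-- a non-vanishing determinant gives independence. -/
theorem ind_of_det {ι : Type*} [Fintype ι] [DecidableEq ι] {y : MaximalSpectrum R}
    (m : ι → M) (φ : ι → (M →ₗ[R] R))
    (h : (Matrix.of fun i j => φ j (m i)).det ∉ y.asIdeal) : Ind y m := by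
  rw [ind_iff]
  intro c hc i
  set A : Matrix ι ι R := Matrix.of fun i j => φ j (m i) with hA
  -- c ᵥ* A has entries in y
  have h1 : ∀ j, (Matrix.vecMul c A) j ∈ y.asIdeal := by
    intro j
    have := hc (φ j)
    simpa [Matrix.vecMul, dotProduct, A, map_sum] using this
  -- c * det = (c ᵥ* A) ᵥ* adj A
  have h2 : Matrix.vecMul (Matrix.vecMul c A) A.adjugate = A.det • c := by
    rw [Matrix.vecMul_vecMul, Matrix.mul_adjugate, Matrix.vecMul_smul, Matrix.vecMul_one]
  have h3 : A.det * c i ∈ y.asIdeal := by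
    have := congrFun h2 i
    simp only [Pi.smul_apply, smul_eq_mul] at this
    rw [← this]
    simp only [Matrix.vecMul, dotProduct]
    exact y.asIdeal.sum_mem (fun j _ => y.asIdeal.mul_mem_right _ (h1 j))
  exact (y.isMaximal.isPrime.mem_or_mem h3).resolve_left h

/-- The dependence locus is closed. -/
theorem isClosed_not_ind {ι : Type*} [Fintype ι] (m : ι → M) :
    IsClosed {x : MaximalSpectrum R | ¬ Ind x m} := by
  classical
  rw [← isOpen_compl_iff, isOpen_iff_forall_mem_open]
  intro x hx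
  simp only [Set.mem_compl_iff, Set.mem_setOf_eq, not_not] at hx
  obtain ⟨φ, hφ⟩ := hx.exists_dual
  set δ : R := (Matrix.of fun i j => φ j (m i)).det with hδ
  refine ⟨{y | δ ∉ y.asIdeal}, ?_, ?_, ?_⟩
  · intro y hy
    simp only [Set.mem_compl_iff, Set.mem_setOf_eq, not_not]
    exact ind_of_det m φ hy
  · have : {y : MaximalSpectrum R | δ ∉ y.asIdeal} =
        MaximalSpectrum.toPrimeSpectrum ⁻¹' (PrimeSpectrum.basicOpen δ : Set (PrimeSpectrum R)) := by
      ext y; rfl
    rw [this]
    exact (PrimeSpectrum.basicOpen δ).isOpen.preimage MaximalSpectrum.toPrimeSpectrum_continuous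
  · show δ ∉ x.asIdeal
    intro hmem
    have h1 : Ideal.Quotient.mk x.asIdeal δ = 0 := Ideal.Quotient.eq_zero_iff_mem.mpr hmem
    rw [hδ, RingHom.map_det] at h1
    have h2 : (Ideal.Quotient.mk x.asIdeal).mapMatrix (Matrix.of fun i j => φ j (m i)) = 1 := by
      ext i j
      simp only [RingHom.mapMatrix_apply, Matrix.map_apply, Matrix.of_apply, hφ i j,
        Matrix.one_apply]
    rw [h2, Matrix.det_one] at h1
    haveI : Nontrivial (R ⧸ x.asIdeal) := Ideal.Quotient.nontrivial_iff.mpr x.isMaximal.ne_top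
    exact one_ne_zero h1

end Groth.Agent.Lib.helper11.Serre2
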