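import Mathlib
import Groth.Agent.Lib.helper11.Serre1
import Groth.Agent.Lib.helper11.Serre2

/-!
# Serre splitting, part 3: the proposition (induction on `k`)
-/

set_option autoImplicit false

namespace Groth.Agent.Lib.helper11.Serre3

open scoped BigOperators
open TopologicalSpace
open Groth.Agent.Lib.helper11.Serre1 Groth.Agent.Lib.helper11.Serre2

section LinAlg

variable {K V : Type*} [DivisionRing K] [AddCommGroup V] [Module K V]

theorem li_snoc_add_smul {n : ℕ} {S : Fin n → V} {T U : V} (a : K)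
    (h : LinearIndependent K
      (Fin.snoc (Fin.snoc S T : Fin (n + 1) → V) U : Fin (n + 1 + 1) → V)) :
    LinearIndependent K (Fin.snoc S (T + a • U) : Fin (n + 1) → V) := by
  rw [linearIndependent_finSnoc] at h
  obtain ⟨h1, h2⟩ := h
  rw [linearIndependent_finSnoc] at h1
  obtain ⟨h3, h4⟩ := h1
  rw [linearIndependent_finSnoc]
  refine ⟨h3, fun hmem => ?_⟩
  rw [Fin.range_snoc] at h2
  by_cases ha : a = 0
  · subst ha
    simp only [zero_smul, add_zero] at hmem
    exact h4 hmem
  · apply h2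
    have : U = a⁻¹ • ((T + a • U) - T) := by
      rw [add_sub_cancel_left, smul_smul, inv_mul_cancel₀ ha, one_smul]
    rw [this]
    refine Submodule.smul_mem _ _ (Submodule.sub_mem _ ?_ ?_)
    · exact Submodule.span_mono (Set.subset_insert _ _) hmem
    · exact Submodule.subset_span (Set.mem_insert _ _)

theorem li_snoc_add {n : ℕ} {S : Fin n → V} {T W : V} (hS : LinearIndependent K S)
    (hT : ¬ LinearIndependent K (Fin.snoc S T : Fin (n + 1) → V))
    (hW : LinearIndependent K (Fin.snoc S W : Fin (n + 1) → V)) :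
    LinearIndependent K (Fin.snoc S (T + W) : Fin (n + 1) → V) := by
  rw [linearIndependent_finSnoc] at hT hW ⊢
  have hT' : T ∈ Submodule.span K (Set.range S) := by
    by_contra h; exact hT ⟨hS, h⟩
  refine ⟨hS, fun hmem => hW.2 ?_⟩
  have : W = (T + W) - T := by abel
  rw [this]; exact Submodule.sub_mem _ hmem hT'

end LinAlg

variable {R : Type*} [CommRing R] {M : Type*} [AddCommGroup M] [Module R M]

theorem img_snoc (x : MaximalSpectrum R) {h : ℕ} (s : Fin h → M) (t : M) :
    (fun i => img x ((Fin.snoc s t : Fin (h + 1) → M) i)) =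
      (Fin.snoc (fun i => img x (s i)) (img x t) :
        Fin (h + 1) → (M ⧸ (x.asIdeal • ⊤ : Submodule R M)) ⧸ Bq R M x) := by
  funext i
  refine Fin.lastCases ?_ (fun j => ?_) i
  · simp
  · simp

theorem ind_snoc_iff (x : MaximalSpectrum R) {h : ℕ} (s : Fin h → M) (t : M) :
    Ind x (Fin.snoc s t : Fin (h + 1) → M) ↔
      LinearIndependent (R ⧸ x.asIdeal) (Fin.snoc (fun i => img x (s i)) (img x t) :
        Fin (h + 1) → (M ⧸ (x.asIdeal • ⊤ : Submodule R M)) ⧸ Bq R M x) := by
  unfold Ind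
  rw [img_snoc]

/-- CRT on finitely many closed points. -/
theorem crt (X : Finset (MaximalSpectrum R)) (r : MaximalSpectrum R → R) :
    ∃ a : R, ∀ x ∈ X, a - r x ∈ x.asIdeal := by
  classical
  have hcop : Pairwise (Function.onFun IsCoprime fun x : X => (x : MaximalSpectrum R).asIdeal) := by
    intro x y hxy
    exact Ideal.isCoprime_of_isMaximal (fun h => hxy (Subtype.ext (MaximalSpectrum.ext h)))
  obtain ⟨a, ha⟩ := Ideal.exists_forall_sub_mem_ideal hcop (fun x => r x)
  exact ⟨a, fun x hx => ha ⟨x, hx⟩⟩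

/-- CRT for modules. -/
theorem crt_module (X : Finset (MaximalSpectrum R)) (w : MaximalSpectrum R → M) :
    ∃ t : M, ∀ x ∈ X, t - w x ∈ (x.asIdeal • ⊤ : Submodule R M) := by
  classical
  have hex : ∀ x₀ : MaximalSpectrum R, ∃ e : R, ∀ x ∈ X,
      e - (if x = x₀ then (1 : R) else 0) ∈ x.asIdeal := fun x₀ => crt X _
  choose e he using hex
  refine ⟨∑ x ∈ X, e x • w x, fun x₀ hx₀ => ?_⟩
  rw [← Finset.add_sum_erase X _ hx₀]
  have h1 : e x₀ • w x₀ + ∑ x ∈ X.erase x₀, e x • w x - w x₀ =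
      (e x₀ - 1) • w x₀ + ∑ x ∈ X.erase x₀, e x • w x := by
    rw [sub_smul, one_smul]; abel
  rw [h1]
  refine Submodule.add_mem _ ?_ (Submodule.sum_mem _ fun x hx => ?_)
  · have := he x₀ x₀ hx₀
    rw [if_pos rfl] at this
    exact Submodule.smul_mem_smul this trivial
  · have := he x x₀ hx₀
    rw [if_neg (Finset.ne_of_mem_erase hx).symm, sub_zero] at this
    exact Submodule.smul_mem_smul this trivial

/-- The internal form of Serre's proposition. -/
theorem main_aux [NoetherianSpace (MaximalSpectrum R)] (k : ℕ) :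
    ∀ (h : ℕ) (s : Fin h → M) (F : Set (MaximalSpectrum R)) (_hF : IsClosed F)
      (X : Finset (MaximalSpectrum R)) (_hX : ∀ x ∈ X, x ∈ F) (w : MaximalSpectrum R → M)
      (_hdim : ∀ x : MaximalSpectrum R, h + k ≤ Module.finrank (R ⧸ x.asIdeal)
        ((M ⧸ (x.asIdeal • ⊤ : Submodule R M)) ⧸ Bq R M x))
      (_hZ : ∀ x, ¬ Ind x s → x ∈ F),
      ∃ (t : M) (F' : Set (MaximalSpectrum R)), IsClosed F' ∧
        (∀ x ∈ X, t - w x ∈ (x.asIdeal • ⊤ : Submodule R M)) ∧
        (∀ x, ¬ Ind x (Fin.snoc s t : Fin (h + 1) → M) → x ∈ F ∪ F') ∧ Good k F' := by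
  classical
  induction k with
  | zero =>
    intro h s F _ X _ w _ _
    obtain ⟨t, ht⟩ := crt_module X w
    exact ⟨t, Set.univ, isClosed_univ, ht, fun x _ => Or.inr trivial, good_zero _⟩
  | succ k ih =>
    intro h s F hF X hX w hdim hZ
    -- first application
    obtain ⟨t', F'', hF''cl, ha', hb', hc'⟩ := ih h s F hF X hX w
      (fun x => by have := hdim x; omega) hZ
    set C₁ : Set (MaximalSpectrum R) :=
      {x | ¬ Ind x (Fin.snoc s t' : Fin (h + 1) → M)} ∩ F'' with hC₁
    have hC₁cl : IsClosed C₁ := (isClosed_not_ind _).inter hF''cl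
    have hC₁good : Good k C₁ := hc'.mono Set.inter_subset_right
    have hZt' : ∀ x, ¬ Ind x (Fin.snoc s t' : Fin (h + 1) → M) → x ∈ F ∪ C₁ := by
      intro x hx
      rcases hb' x hx with h1 | h1
      · exact Or.inl h1
      · exact Or.inr ⟨hx, h1⟩
    obtain ⟨Y₁, hY₁, hshr₁⟩ := shrink C₁ F hC₁cl k hC₁good
    -- the new vectors at the points of Y₁
    have hw' : ∀ y : MaximalSpectrum R, ∃ wy : M,
        y ∈ Y₁ → Ind y (Fin.snoc s wy : Fin (h + 1) → M) := by
      intro y
      by_cases hy : y ∈ Y₁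
      · have hys : Ind y s := by
          by_contra hn; exact (hY₁ y hy).2 (hZ y hn)
        letI : Field (R ⧸ y.asIdeal) := Ideal.Quotient.field y.asIdeal
        have hlt : h < Module.finrank (R ⧸ y.asIdeal)
            ((M ⧸ (y.asIdeal • ⊤ : Submodule R M)) ⧸ Bq R M y) := by
          have := hdim y; omega
        obtain ⟨wbar, hwbar⟩ := exists_linearIndependent_snoc_of_lt_finrank hys hlt
        obtain ⟨wy, rfl⟩ := img_surjective y wbar
        exact ⟨wy, fun _ => (ind_snoc_iff y s wy).mpr hwbar⟩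
      · exact ⟨0, fun h' => absurd h' hy⟩
    choose w' hw' using hw'
    set w₂ : MaximalSpectrum R → M := fun x => if x ∈ Y₁ then w' x else 0 with hw₂
    set F₁ : Set (MaximalSpectrum R) := F ∪ C₁ with hF₁
    have hF₁cl : IsClosed F₁ := hF.union hC₁cl
    have hX₂ : ∀ x ∈ X ∪ Y₁, x ∈ F₁ := by
      intro x hx
      rcases Finset.mem_union.mp hx with h1 | h1
      · exact Or.inl (hX x h1)
      · exact Or.inr (hY₁ x h1).1
    -- second application
    obtain ⟨u, F₄, hF₄cl, ha₂, hb₂, hc₂⟩ := ih (h + 1) (Fin.snoc s t' : Fin (h + 1) → M) F₁ hF₁cl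
      (X ∪ Y₁) hX₂ w₂ (fun x => by have := hdim x; omega) hZt'
    obtain ⟨Y₂, hY₂, hshr₂⟩ := shrink F₄ F₁ hF₄cl k hc₂
    -- the scalar
    obtain ⟨a, ha⟩ := crt (Y₁ ∪ Y₂) (fun x => if x ∈ Y₁ then (1 : R) else 0)
    have haY₁ : ∀ y ∈ Y₁, Ideal.Quotient.mk y.asIdeal a = 1 := by
      intro y hy
      have := ha y (Finset.mem_union_left _ hy)
      rw [if_pos hy] at this
      rw [← map_one (Ideal.Quotient.mk y.asIdeal)]
      exact Ideal.Quotient.eq.mpr this
    have hY₂notY₁ : ∀ z ∈ Y₂, z ∉ Y₁ := by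
      intro z hz hz1
      exact (hY₂ z hz).2 (Or.inr (hY₁ z hz1).1)
    have haY₂ : ∀ z ∈ Y₂, Ideal.Quotient.mk z.asIdeal a = 0 := by
      intro z hz
      have := ha z (Finset.mem_union_right _ hz)
      rw [if_neg (hY₂notY₁ z hz), sub_zero] at this
      exact Ideal.Quotient.eq_zero_iff_mem.mpr this
    set t : M := t' + a • u with ht
    set D : Set (MaximalSpectrum R) := {x | ¬ Ind x (Fin.snoc s t : Fin (h + 1) → M)} with hD
    have hDcl : IsClosed D := isClosed_not_ind _
    have himg_t : ∀ x : MaximalSpectrum R,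
        img x t = img x t' + Ideal.Quotient.mk x.asIdeal a • img x u := by
      intro x; rw [ht, img_add, img_smul]
    have hDY₁ : ∀ y ∈ Y₁, y ∉ D := by
      intro y hy hyD
      apply hyD
      letI : Field (R ⧸ y.asIdeal) := Ideal.Quotient.field y.asIdeal
      have hys : Ind y s := by
        by_contra hn; exact (hY₁ y hy).2 (hZ y hn)
      have hyt' : ¬ Ind y (Fin.snoc s t' : Fin (h + 1) → M) := (hY₁ y hy).1.1
      have hyw : Ind y (Fin.snoc s (w' y) : Fin (h + 1) → M) := hw' y hy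
      have hu : img y u = img y (w' y) := by
        have := ha₂ y (Finset.mem_union_right _ hy)
        rw [hw₂] at this
        simp only [if_pos hy] at this
        exact img_eq_of_sub_mem y this
      rw [ind_snoc_iff] at hyt' hyw ⊢
      rw [himg_t, haY₁ y hy, one_smul, hu]
      exact li_snoc_add hys hyt' hyw
    have hDY₂ : ∀ z ∈ Y₂, z ∉ D := by
      intro z hz hzD
      apply hzD
      have hzt' : Ind z (Fin.snoc s t' : Fin (h + 1) → M) := by
        by_contra hn; exact (hY₂ z hz).2 (hZt' z hn)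
      rw [ind_snoc_iff] at hzt' ⊢
      rw [himg_t, haY₂ z hz, zero_smul, add_zero]
      exact hzt'
    obtain ⟨F'₁, hF'₁cl, hF'₁sub, hF'₁good, hF'₁⟩ := hshr₁ D hDcl hDY₁
    obtain ⟨F'₂, hF'₂cl, hF'₂sub, hF'₂good, hF'₂⟩ := hshr₂ D hDcl hDY₂
    refine ⟨t, F'₁ ∪ F'₂, hF'₁cl.union hF'₂cl, ?_, ?_, hF'₁good.union hF'₂good hF'₁cl hF'₂cl⟩
    · intro x hx
      have hxY₁ : x ∉ Y₁ := fun h1 => (hY₁ x h1).2 (hX x hx)
      have h1 := ha₂ x (Finset.mem_union_left _ hx)
      rw [hw₂] at h1
      simp only [if_neg hxY₁, sub_zero] at h1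
      have h2 : t - w x = (t' - w x) + a • u := by rw [ht]; abel
      rw [h2]
      exact Submodule.add_mem _ (ha' x hx) (Submodule.smul_mem _ _ h1)
    · intro x hx
      have hxD : x ∈ D := hx
      have hC₁case : x ∈ C₁ → x ∈ F ∪ (F'₁ ∪ F'₂) := by
        intro hxC
        rcases hF'₁ ⟨hxD, hxC⟩ with h1 | h1
        · exact Or.inl h1
        · exact Or.inr (Or.inl h1)
      have hF₁case : x ∈ F₁ → x ∈ F ∪ (F'₁ ∪ F'₂) := by
        rintro (h1 | h1)
        · exact Or.inl h1
        · exact hC₁case h1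
      by_cases hind : Ind x (Fin.snoc (Fin.snoc s t' : Fin (h + 1) → M) u : Fin (h + 1 + 1) → M)
      · exfalso
        apply hx
        letI : Field (R ⧸ x.asIdeal) := Ideal.Quotient.field x.asIdeal
        rw [ind_snoc_iff] at hind ⊢
        rw [img_snoc] at hind
        rw [himg_t]
        exact li_snoc_add_smul _ hind
      · rcases hb₂ x hind with h1 | h1
        · exact hF₁case h1
        · rcases hF'₂ ⟨hxD, h1⟩ with h2 | h2
          · exact hF₁case h2
          · exact Or.inr (Or.inr h2)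

end Groth.Agent.Lib.helper11.Serre3
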