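import Mathlib
import Groth.Agent.Lib.helper11.Serre3

/-!
# Serre splitting, part 4: the proposition in the frozen form
-/

set_option autoImplicit false

namespace Groth.Agent.Lib.helper11.Serre4

open scoped BigOperators
open TopologicalSpace
open Groth.Agent.Lib.helper11.Serre1 Groth.Agent.Lib.helper11.Serre2
  Groth.Agent.Lib.helper11.Serre3

universe u

theorem main (R : Type u) [CommRing R] [TopologicalSpace.NoetherianSpace (MaximalSpectrum R)]
    (M : Type u) [AddCommGroup M] [Module R M]
    (h : ℕ) (s : Fin h → M) (F : Set (MaximalSpectrum R)) (hF : IsClosed F)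
    (n : ℕ) (xs : Fin n → MaximalSpectrum R) (hxs : Function.Injective xs) (hxF : ∀ i, xs i ∈ F)
    (v : ∀ i : Fin n, M ⧸ ((xs i).asIdeal • ⊤ : Submodule R M)) (k : ℕ)
    (hdim : ∀ x : MaximalSpectrum R, h + k ≤ Module.finrank (R ⧸ x.asIdeal)
      ((M ⧸ (x.asIdeal • ⊤ : Submodule R M)) ⧸ Bq R M x))
    (hZ : ∀ x : MaximalSpectrum R,
      ¬ LinearIndependent (R ⧸ x.asIdeal) (fun i => img x (s i)) → x ∈ F) :
    ∃ (t : M) (F' : Set (MaximalSpectrum R)), IsClosed F' ∧
      (∀ i : Fin n, img (xs i) t = (Bq R M (xs i)).mkQ (v i)) ∧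
      (∀ x : MaximalSpectrum R,
        ¬ LinearIndependent (R ⧸ x.asIdeal) (Fin.snoc (fun i => img x (s i)) (img x t)) →
          x ∈ F ∪ F') ∧
      ∀ Z : TopologicalSpace.IrreducibleCloseds (MaximalSpectrum R),
        (Z : Set (MaximalSpectrum R)) ⊆ F' → (k : ℕ∞) ≤ Order.coheight Z := by
  classical
  choose m hm using fun i => Submodule.mkQ_surjective _ (v i)
  let w : MaximalSpectrum R → M := fun x => if hx : ∃ i, xs i = x then m hx.choose else 0
  have hw : ∀ i, w (xs i) = m i := by
    intro i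
    have hex : ∃ j, xs j = xs i := ⟨i, rfl⟩
    simp only [w, dif_pos hex]
    rw [hxs hex.choose_spec]
  obtain ⟨t, F', hF'cl, ha, hb, hc⟩ := main_aux (R := R) (M := M) k h s F hF
    (Finset.univ.image xs) (by
      intro x hx
      simp only [Finset.mem_image, Finset.mem_univ, true_and] at hx
      obtain ⟨i, rfl⟩ := hx
      exact hxF i) w hdim hZ
  refine ⟨t, F', hF'cl, ?_, ?_, hc⟩
  · intro i
    have := ha (xs i) (Finset.mem_image_of_mem _ (Finset.mem_univ _))
    rw [hw] at this
    unfold img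
    congr 1
    rw [← hm i]
    exact (Submodule.Quotient.eq _).mpr this
  · intro x hx
    exact hb x (fun h' => hx ((ind_snoc_iff x s t).mp h'))

end Groth.Agent.Lib.helper11.Serre4
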