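import Mathlib
import Groth.Agent.Lib.helper11.Serre4

/-!
# Serre splitting, part 5: splitting off a free summand (Serre's Théorème 1)
-/

set_option autoImplicit false

namespace Groth.Agent.Lib.helper11.Serre5

open scoped BigOperators
open TopologicalSpace
open Groth.Agent.Lib.helper11.Serre1 Groth.Agent.Lib.helper11.Serre2
  Groth.Agent.Lib.helper11.Serre3

universe u

variable {R : Type*} [CommRing R] {M : Type*} [AddCommGroup M] [Module R M]

theorem le_finrank_of_ind [Module.Finite R M] {x : MaximalSpectrum R} {n : ℕ} (m : Fin n → M)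
    (h : Ind x m) : n ≤ Module.finrank (R ⧸ x.asIdeal)
      ((M ⧸ (x.asIdeal • ⊤ : Submodule R M)) ⧸ Bq R M x) := by
  letI : Field (R ⧸ x.asIdeal) := Ideal.Quotient.field x.asIdeal
  have := h.fintype_card_le_finrank
  simpa using this

/-- a local free summand of rank `n` gives `n` independent elements at `x`. -/
theorem exists_ind_of_local_summand [Module.FinitePresentation R M] (x : MaximalSpectrum R)
    (n : ℕ)
    (f : (Fin n → Localization.AtPrime x.asIdeal) →ₗ[Localization.AtPrime x.asIdeal]
      LocalizedModule x.asIdeal.primeCompl M)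
    (g : LocalizedModule x.asIdeal.primeCompl M →ₗ[Localization.AtPrime x.asIdeal]
      (Fin n → Localization.AtPrime x.asIdeal))
    (hgf : g ∘ₗ f = LinearMap.id) : ∃ m : Fin n → M, Ind x m := by
  classical
  set S := x.asIdeal.primeCompl with hS
  set A := Localization.AtPrime x.asIdeal with hA
  let mk := LocalizedModule.mkLinearMap S M
  -- elements
  have he : ∀ i : Fin n, ∃ p : M × S, p.2 • f (Pi.single i 1) = mk p.1 :=
    fun i => IsLocalizedModule.surj S mk (f (Pi.single i 1))
  choose p hp using he
  -- forms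
  have hφ : ∀ j : Fin n, ∃ (φ : M →ₗ[R] R) (τ : S), (Algebra.linearMap R A) ∘ₗ φ =
      τ • ((LinearMap.proj j : (Fin n → A) →ₗ[R] A) ∘ₗ (g.restrictScalars R) ∘ₗ mk) :=
    fun j => Module.FinitePresentation.exists_lift_of_isLocalizedModule S
      (Algebra.linearMap R A) _
  choose φ τ hφτ using hφ
  refine ⟨fun i => (p i).1, ind_of_det _ φ ?_⟩
  -- the determinant maps to a unit
  have hentry : ∀ i j, algebraMap R A (φ j ((p i).1)) =
      if i = j then algebraMap R A ((τ j : R) * ((p i).2 : R)) else 0 := by
    intro i j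
    have h1 := LinearMap.congr_fun (hφτ j) ((p i).1)
    simp only [LinearMap.coe_comp, Function.comp_apply, Algebra.linearMap_apply,
      LinearMap.smul_apply, LinearMap.coe_restrictScalars, LinearMap.proj_apply] at h1
    rw [h1]
    have h2 : g (mk (p i).1) = ((p i).2 : R) • (Pi.single i 1 : Fin n → A) := by
      rw [← hp i]
      have : g (f (Pi.single i 1)) = Pi.single i 1 := LinearMap.congr_fun hgf _
      rw [show ((p i).2 • f (Pi.single i 1)) = ((p i).2 : R) • f (Pi.single i 1) from rfl]
      rw [← algebraMap_smul A ((p i).2 : R) (f (Pi.single i 1)), map_smul, this,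
        algebraMap_smul]
    rw [h2]
    simp only [Pi.smul_apply, Pi.single_apply]
    split_ifs with h3 h4 h4
    · subst h4
      rw [Submonoid.smul_def, Algebra.smul_def, Algebra.smul_def, mul_one, map_mul]
    · exact absurd h3.symm h4
    · exact absurd h4.symm h3
    · rw [smul_zero, smul_zero]
  intro hmem
  have hnu : ¬ IsUnit (algebraMap R A (Matrix.of fun i j => φ j ((p i).1)).det) := by
    rw [IsLocalization.AtPrime.isUnit_to_map_iff A x.asIdeal]
    exact fun h => h hmem
  apply hnu
  rw [RingHom.map_det]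
  have hdiag : (algebraMap R A).mapMatrix (Matrix.of fun i j => φ j ((p i).1)) =
      Matrix.diagonal (fun i => algebraMap R A ((τ i : R) * ((p i).2 : R))) := by
    ext i j
    simp only [RingHom.mapMatrix_apply, Matrix.map_apply, Matrix.of_apply, hentry i j,
      Matrix.diagonal_apply]
    split_ifs with h3
    · subst h3; rfl
    · rfl
  rw [hdiag, Matrix.det_diagonal, IsUnit.prod_univ_iff]
  intro i
  rw [IsLocalization.AtPrime.isUnit_to_map_iff A x.asIdeal]
  exact S.mul_mem (τ i).2 (p i).2.2

/-- Serre's theorem: splitting off a free summand of rank one. -/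
theorem split (R : Type u) [CommRing R] (d : ℕ)
    [TopologicalSpace.NoetherianSpace (MaximalSpectrum R)]
    (hdim : topologicalKrullDim (MaximalSpectrum R) ≤ d)
    (M : Type u) [AddCommGroup M] [Module R M] [Module.FinitePresentation R M]
    (hM : ∀ (m : Ideal R) [m.IsMaximal],
      ∃ (f : (Fin (d + 1) → Localization.AtPrime m) →ₗ[Localization.AtPrime m]
          LocalizedModule m.primeCompl M)
        (g : LocalizedModule m.primeCompl M →ₗ[Localization.AtPrime m]
          (Fin (d + 1) → Localization.AtPrime m)),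
        g ∘ₗ f = LinearMap.id) :
    ∃ (s : M) (φ : M →ₗ[R] R), φ s = 1 := by
  classical
  have hrank : ∀ x : MaximalSpectrum R, 0 + (d + 1) ≤ Module.finrank (R ⧸ x.asIdeal)
      ((M ⧸ (x.asIdeal • ⊤ : Submodule R M)) ⧸ Bq R M x) := by
    intro x
    obtain ⟨f, g, hgf⟩ := hM x.asIdeal
    obtain ⟨m, hm⟩ := exists_ind_of_local_summand x (d + 1) f g hgf
    rw [zero_add]
    exact le_finrank_of_ind m hm
  obtain ⟨t, F', hF'cl, -, hb, hc⟩ := Serre4.main R M 0 (fun i => i.elim0) ∅ isClosed_empty
    0 (fun i => i.elim0) (fun i => i.elim0) (fun i => i.elim0) (fun i => i.elim0) (d + 1) hrank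
    (fun x hx => absurd linearIndependent_empty_type hx)
  -- F' is empty
  have hF'empty : F' = ∅ := by
    rw [Set.eq_empty_iff_forall_notMem]
    intro x hx
    have h1 := hc ({x} : IrreducibleCloseds (MaximalSpectrum R)) (by
      intro y hy
      rw [SetLike.mem_coe, IrreducibleCloseds.mem_singleton] at hy
      rw [hy]; exact hx)
    have h2 : (Order.coheight ({x} : IrreducibleCloseds (MaximalSpectrum R)) : WithBot ℕ∞) ≤ d :=
      (Order.coheight_le_krullDim _).trans hdim
    have h3 : ((d + 1 : ℕ) : WithBot ℕ∞) ≤ (d : WithBot ℕ∞) := by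
      refine le_trans ?_ h2
      exact_mod_cast h1
    have h4 : (d + 1 : ℕ) ≤ d := by exact_mod_cast h3
    omega
  -- so `t` is nonzero in every `V(x)`
  have hne : ∀ x : MaximalSpectrum R, ∃ φ : M →ₗ[R] R, φ t ∉ x.asIdeal := by
    intro x
    by_contra hcon
    push_neg at hcon
    have h0 : img x t = 0 := (img_eq_zero_iff x t).mpr hcon
    have h1 : x ∈ (∅ : Set (MaximalSpectrum R)) ∪ F' := by
      apply hb x
      intro hli
      haveI : Nontrivial (R ⧸ x.asIdeal) := Ideal.Quotient.nontrivial_iff.mpr x.isMaximal.ne_top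
      have := hli.ne_zero (Fin.last 0)
      simp only [Fin.snoc_last] at this
      exact this h0
    rw [hF'empty] at h1
    simpa using h1
  -- the ideal of values
  let ev : (M →ₗ[R] R) →ₗ[R] R := LinearMap.applyₗ t
  have htop : (LinearMap.range ev : Ideal R) = ⊤ := by
    by_contra hne'
    obtain ⟨m, hm, hle⟩ := Ideal.exists_le_maximal _ hne'
    obtain ⟨φ, hφ⟩ := hne ⟨m, hm⟩
    exact hφ (hle ⟨φ, rfl⟩)
  have h1 : (1 : R) ∈ (LinearMap.range ev : Ideal R) := by rw [htop]; trivial
  obtain ⟨φ, hφ⟩ := h1
  exact ⟨t, φ, hφ⟩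

end Groth.Agent.Lib.helper11.Serre5
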