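import Mathlib
import Groth.Agent.Lib.helper11.Serre5

/-!
# Serre splitting, part 6: projective modules of rank `> dim R` have free summands
-/

set_option autoImplicit false

namespace Groth.Agent.Lib.helper11.Serre6

open scoped BigOperators
open TopologicalSpace

universe u

/-- a free module of rank at least `r` has a free direct summand of rank `r`. -/
theorem local_summand {A : Type*} [CommRing A] [Nontrivial A] {N : Type*} [AddCommGroup N]
    [Module A N] [Module.Free A N] [Module.Finite A N] (r : ℕ) (hr : r ≤ Module.finrank A N) :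
    ∃ (f : (Fin r → A) →ₗ[A] N) (g : N →ₗ[A] (Fin r → A)), g ∘ₗ f = LinearMap.id := by
  classical
  let b := Module.finBasis A N
  let e : N ≃ₗ[A] (Fin (Module.finrank A N) → A) := b.equivFun
  let ι : Fin r → Fin (Module.finrank A N) := Fin.castLE hr
  have hι : Function.Injective ι := Fin.castLE_injective hr
  refine ⟨e.symm.toLinearMap ∘ₗ Function.ExtendByZero.linearMap A ι,
    LinearMap.funLeft A A ι ∘ₗ e.toLinearMap, ?_⟩
  ext c i
  simp only [LinearMap.coe_comp, LinearEquiv.coe_coe, Function.comp_apply,
    LinearEquiv.apply_symm_apply, LinearMap.funLeft_apply, LinearMap.id_coe, id_eq,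
    Function.ExtendByZero.linearMap_apply]
  rw [hι.extend_apply]

instance noetherianSpace_maximalSpectrum (R : Type*) [CommRing R] [IsNoetherianRing R] :
    NoetherianSpace (MaximalSpectrum R) :=
  Topology.IsInducing.noetherianSpace (i := MaximalSpectrum.toPrimeSpectrum) ⟨rfl⟩

theorem dim_maximalSpectrum_le (R : Type*) [CommRing R] :
    topologicalKrullDim (MaximalSpectrum R) ≤ ringKrullDim R := by
  rw [← PrimeSpectrum.topologicalKrullDim_eq_ringKrullDim]
  exact Topology.IsInducing.topologicalKrullDim_le (f := MaximalSpectrum.toPrimeSpectrum) ⟨rfl⟩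

/-- one step: a unimodular element. -/
theorem one_step (R : Type u) [CommRing R] [IsNoetherianRing R] (d n : ℕ)
    (hdim : ringKrullDim R ≤ d)
    (P : Type u) [AddCommGroup P] [Module R P] [Module.Finite R P] [Module.Projective R P]
    (hrk : ∀ p : PrimeSpectrum R, Module.rankAtStalk (R := R) P p = n) (hnd : d < n) :
    ∃ (s : P) (φ : P →ₗ[R] R), φ s = 1 := by
  haveI : Module.FinitePresentation R P := Module.finitePresentation_of_projective R P
  refine Serre5.split R d ((dim_maximalSpectrum_le R).trans hdim) P ?_
  intro m hm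
  haveI : Module.Free (Localization.AtPrime m) (LocalizedModule m.primeCompl P) :=
    Module.free_of_flat_of_isLocalRing
  have h1 : Module.finrank (Localization.AtPrime m) (LocalizedModule m.primeCompl P) = n :=
    hrk ⟨m, hm.isPrime⟩
  exact local_summand (d + 1) (by rw [h1]; omega)

theorem split_free (R : Type u) [CommRing R] [IsNoetherianRing R] (d : ℕ)
    (hdim : ringKrullDim R ≤ d) :
    ∀ (j n : ℕ) (P : Type u) [AddCommGroup P] [Module R P] [Module.Finite R P]
      [Module.Projective R P]
      (_hrk : ∀ p : PrimeSpectrum R, Module.rankAtStalk (R := R) P p = n) (_hn : d + j ≤ n),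
      ∃ (f : (Fin j → R) →ₗ[R] P) (g : P →ₗ[R] (Fin j → R)), g ∘ₗ f = LinearMap.id := by
  intro j
  induction j with
  | zero =>
    intro n P _ _ _ _ _ _
    exact ⟨0, 0, Subsingleton.elim _ _⟩
  | succ j ih =>
    intro n P _ _ _ _ hrk hn
    obtain ⟨s, φ, hφs⟩ := one_step R d n hdim P hrk (by omega)
    -- the kernel and the projection onto it
    set K : Submodule R P := LinearMap.ker φ with hK
    let π : P →ₗ[R] K := LinearMap.codRestrict K
      (LinearMap.id - (LinearMap.toSpanSingleton R P s) ∘ₗ φ) (by
        intro p
        simp only [hK, LinearMap.mem_ker, LinearMap.sub_apply, LinearMap.id_coe, id_eq,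
          LinearMap.coe_comp, Function.comp_apply, LinearMap.toSpanSingleton_apply, map_sub,
          map_smul, hφs, smul_eq_mul, mul_one, sub_self])
    have hπ : ∀ p : P, ((π p : K) : P) = p - φ p • s := fun p => rfl
    have hπK : ∀ k : K, π k = k := by
      intro k
      apply Subtype.ext
      rw [hπ]
      have : φ (k : P) = 0 := k.2
      rw [this, zero_smul, sub_zero]
    haveI : Module.Finite R K := Module.Finite.of_surjective π (fun k => ⟨k, hπK k⟩)
    haveI : Module.Projective R K := Module.Projective.of_split K.subtype π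
      (LinearMap.ext hπK)
    -- the rank of the kernel
    let e : P ≃ₗ[R] K × R :=
      { toFun := fun p => (π p, φ p)
        map_add' := by intro a b; simp
        map_smul' := by intro c a; simp
        invFun := fun q => (q.1 : P) + q.2 • s
        left_inv := by
          intro p
          simp only [hπ]
          abel
        right_inv := by
          rintro ⟨k, r⟩
          have hk : φ (k : P) = 0 := k.2
          refine Prod.ext (Subtype.ext ?_) ?_
          · show ((π ((k : P) + r • s) : K) : P) = k
            rw [hπ, map_add, map_smul, hk, hφs, smul_eq_mul, mul_one, zero_add]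
            abel
          · show φ ((k : P) + r • s) = r
            rw [map_add, map_smul, hk, hφs, smul_eq_mul, mul_one, zero_add] }
    have hrkK : ∀ p : PrimeSpectrum R, Module.rankAtStalk (R := R) K p = n - 1 := by
      intro p
      haveI : Nontrivial R := p.nontrivial
      have h1 := congrFun (Module.rankAtStalk_eq_of_equiv e) p
      rw [Module.rankAtStalk_prod, Pi.add_apply, Module.rankAtStalk_self, hrk p] at h1
      simp only [Pi.one_apply] at h1
      omega
    obtain ⟨f', g', hgf'⟩ := ih (n - 1) K hrkK (by omega)
    refine ⟨K.subtype ∘ₗ f' ∘ₗ LinearMap.funLeft R R Fin.castSucc +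
        (LinearMap.toSpanSingleton R P s) ∘ₗ LinearMap.proj (Fin.last j),
      LinearMap.pi (fun i : Fin (j + 1) =>
        Fin.lastCases (motive := fun _ => P →ₗ[R] R) φ
          (fun i' => LinearMap.proj i' ∘ₗ g' ∘ₗ π) i), ?_⟩
    refine LinearMap.ext (fun c => ?_)
    funext i
    have hfc : ∀ c : Fin (j + 1) → R,
        ((K.subtype ∘ₗ f' ∘ₗ LinearMap.funLeft R R Fin.castSucc +
        (LinearMap.toSpanSingleton R P s) ∘ₗ LinearMap.proj (Fin.last j) :
          (Fin (j + 1) → R) →ₗ[R] P)) c =
        ((f' (fun i' => c (Fin.castSucc i')) : K) : P) + c (Fin.last j) • s := by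
      intro c; rfl
    have hφfc : φ (((f' (fun i' => c (Fin.castSucc i')) : K) : P) + c (Fin.last j) • s) =
        c (Fin.last j) := by
      have hk : φ ((f' (fun i' => c (Fin.castSucc i')) : K) : P) = 0 :=
        (f' (fun i' => c (Fin.castSucc i'))).2
      rw [map_add, map_smul, hk, hφs, smul_eq_mul, mul_one, zero_add]
    simp only [LinearMap.coe_comp, Function.comp_apply, LinearMap.pi_apply, LinearMap.id_coe,
      id_eq]
    rw [hfc]
    refine Fin.lastCases ?_ (fun i' => ?_) i
    · rw [Fin.lastCases_last]
      exact hφfc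
    · rw [Fin.lastCases_castSucc]
      simp only [LinearMap.coe_comp, Function.comp_apply, LinearMap.proj_apply]
      have h2 : π (((f' (fun i' => c (Fin.castSucc i')) : K) : P) + c (Fin.last j) • s) =
          f' (fun i' => c (Fin.castSucc i')) := by
        apply Subtype.ext
        rw [hπ, hφfc]
        abel
      rw [h2]
      have := LinearMap.congr_fun hgf' (fun i' => c (Fin.castSucc i'))
      simp only [LinearMap.coe_comp, Function.comp_apply, LinearMap.id_coe, id_eq] at this
      rw [this]

theorem isCompl_of_comp_eq_id {R : Type*} [CommRing R] {A B : Type*} [AddCommGroup A]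
    [Module R A] [AddCommGroup B] [Module R B] (f : A →ₗ[R] B) (g : B →ₗ[R] A)
    (h : g ∘ₗ f = LinearMap.id) : IsCompl (LinearMap.ker g) (LinearMap.range f) := by
  have hgf : ∀ a, g (f a) = a := fun a => LinearMap.congr_fun h a
  constructor
  · rw [Submodule.disjoint_def]
    rintro x hx ⟨y, rfl⟩
    have : g (f y) = 0 := hx
    rw [hgf] at this
    rw [this, map_zero]
  · rw [codisjoint_iff, eq_top_iff]
    intro x _
    have : x = (x - f (g x)) + f (g x) := by abel
    rw [this]
    refine Submodule.add_mem_sup ?_ ⟨g x, rfl⟩
    rw [LinearMap.mem_ker, map_sub, hgf, sub_self]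

theorem main (R : Type u) [CommRing R]
    [IsNoetherianRing R] (d n : ℕ) (hdim : ringKrullDim R = d)
    (P : Type u) [AddCommGroup P] [Module R P] [Module.Finite R P] [Module.Projective R P]
    (hrk : ∀ p : PrimeSpectrum R, Module.rankAtStalk (R := R) P p = n) (hnd : d < n) :
    ∃ (P₀ Q : Submodule R P), IsCompl P₀ Q ∧ Nonempty (Q ≃ₗ[R] (Fin (n - d) → R)) := by
  obtain ⟨f, g, hgf⟩ := split_free R d hdim.le (n - d) n P hrk (by omega)
  refine ⟨LinearMap.ker g, LinearMap.range f, isCompl_of_comp_eq_id f g hgf, ?_⟩
  have hinj : Function.Injective f := by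
    intro a b hab
    have hgf' : ∀ a, g (f a) = a := fun a => LinearMap.congr_fun hgf a
    have := congrArg g hab
    rwa [hgf' a, hgf' b] at this
  exact ⟨(LinearEquiv.ofInjective f hinj).symm⟩

end Groth.Agent.Lib.helper11.Serre6
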