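import Mathlib
import Groth.Agent.Lib.helper11.Serre3

/-!
# Serre splitting, part 7: the relative form of the proposition (elements of `p + aM`)
-/

set_option autoImplicit false

namespace Groth.Agent.Lib.helper11.Serre7

open scoped BigOperators
open TopologicalSpace
open Groth.Agent.Lib.helper11.Serre1 Groth.Agent.Lib.helper11.Serre2
  Groth.Agent.Lib.helper11.Serre3

variable {R : Type*} [CommRing R] {M : Type*} [AddCommGroup M] [Module R M]

/-- CRT for modules, relative version: solve `p + a q ≡ w x (mod xM)` at finitely many closed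
points not containing `a`. -/
theorem crt_module_rel (a : R) (X : Finset (MaximalSpectrum R))
    (hXa : ∀ x ∈ X, a ∉ x.asIdeal) (w : MaximalSpectrum R → M) (p : M) :
    ∃ q : M, ∀ x ∈ X, (p + a • q) - w x ∈ (x.asIdeal • ⊤ : Submodule R M) := by
  classical
  have hb : ∀ x : MaximalSpectrum R, ∃ b : R, x ∈ X → a * b - 1 ∈ x.asIdeal := by
    intro x
    by_cases hx : x ∈ X
    · obtain ⟨y, i, hi, hyi⟩ := x.isMaximal.exists_inv (hXa x hx)
      refine ⟨y, fun _ => ?_⟩
      have : a * y - 1 = -i := by rw [← hyi]; ring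
      rw [this]; exact x.asIdeal.neg_mem hi
    · exact ⟨0, fun h => absurd h hx⟩
  choose b hb using hb
  obtain ⟨q, hq⟩ := crt_module X (fun x => b x • (w x - p))
  refine ⟨q, fun x hx => ?_⟩
  have h1 : (p + a • q) - w x = a • (q - b x • (w x - p)) + (a * b x - 1) • (w x - p) := by
    rw [smul_sub, sub_smul, one_smul, mul_smul]; abel
  rw [h1]
  exact Submodule.add_mem _ (Submodule.smul_mem _ _ (hq x hx))
    (Submodule.smul_mem_smul (hb x hx) trivial)

/-- The relative internal form of Serre's proposition: we look for an element of `p + aM`,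
and all closed sets contain `V(a)`. -/
theorem main_aux_rel [NoetherianSpace (MaximalSpectrum R)] (a : R) (k : ℕ) :
    ∀ (h : ℕ) (s : Fin h → M) (F : Set (MaximalSpectrum R)) (_hF : IsClosed F)
      (_hVa : ∀ x : MaximalSpectrum R, a ∈ x.asIdeal → x ∈ F)
      (X : Finset (MaximalSpectrum R)) (_hX : ∀ x ∈ X, x ∈ F) (_hXa : ∀ x ∈ X, a ∉ x.asIdeal)
      (w : MaximalSpectrum R → M) (p : M)
      (_hdim : ∀ x : MaximalSpectrum R, h + k ≤ Module.finrank (R ⧸ x.asIdeal)
        ((M ⧸ (x.asIdeal • ⊤ : Submodule R M)) ⧸ Bq R M x))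
      (_hZ : ∀ x, ¬ Ind x s → x ∈ F),
      ∃ (q : M) (F' : Set (MaximalSpectrum R)), IsClosed F' ∧
        (∀ x ∈ X, (p + a • q) - w x ∈ (x.asIdeal • ⊤ : Submodule R M)) ∧
        (∀ x, ¬ Ind x (Fin.snoc s (p + a • q) : Fin (h + 1) → M) → x ∈ F ∪ F') ∧ Good k F' := by
  classical
  induction k with
  | zero =>
    intro h s F _ _ X _ hXa w p _ _
    obtain ⟨q, hq⟩ := crt_module_rel a X hXa w p
    exact ⟨q, Set.univ, isClosed_univ, hq, fun x _ => Or.inr trivial, good_zero _⟩
  | succ k ih =>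
    intro h s F hF hVa X hX hXa w p hdim hZ
    -- first application
    obtain ⟨q', F'', hF''cl, ha', hb', hc'⟩ := ih h s F hF hVa X hX hXa w p
      (fun x => by have := hdim x; omega) hZ
    set t' : M := p + a • q' with ht'
    set C₁ : Set (MaximalSpectrum R) :=
      {x | ¬ Ind x (Fin.snoc s t' : Fin (h + 1) → M)} ∩ F'' with hC₁
    have hC₁cl : IsClosed C₁ := (isClosed_not_ind _).inter hF''cl
    have hC₁good : Good k C₁ := hc'.mono Set.inter_subset_right
    have hZt' : ∀ x, ¬ Ind x (Fin.snoc s t' : Fin (h + 1) → M) → x ∈ F ∪ C₁ := by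
      intro x hx
      rcases hb' x hx with h1 | h1
      · exact Or.inl h1
      · exact Or.inr ⟨hx, h1⟩
    obtain ⟨Y₁, hY₁, hshr₁⟩ := shrink C₁ F hC₁cl k hC₁good
    -- the new vectors at the points of Y₁
    have hw' : ∀ y : MaximalSpectrum R, ∃ wy : M,
        y ∈ Y₁ → Ind y (Fin.snoc s wy : Fin (h + 1) → M) := by
      intro y
      by_cases hy : y ∈ Y₁
      · have hys : Ind y s := by
          by_contra hn; exact (hY₁ y hy).2 (hZ y hn)
        letI : Field (R ⧸ y.asIdeal) := Ideal.Quotient.field y.asIdeal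
        have hlt : h < Module.finrank (R ⧸ y.asIdeal)
            ((M ⧸ (y.asIdeal • ⊤ : Submodule R M)) ⧸ Bq R M y) := by
          have := hdim y; omega
        obtain ⟨wbar, hwbar⟩ := exists_linearIndependent_snoc_of_lt_finrank hys hlt
        obtain ⟨wy, rfl⟩ := img_surjective y wbar
        exact ⟨wy, fun _ => (ind_snoc_iff y s wy).mpr hwbar⟩
      · exact ⟨0, fun h' => absurd h' hy⟩
    choose w' hw' using hw'
    set w₂ : MaximalSpectrum R → M := fun x => if x ∈ Y₁ then w' x else 0 with hw₂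
    set F₁ : Set (MaximalSpectrum R) := F ∪ C₁ with hF₁
    have hF₁cl : IsClosed F₁ := hF.union hC₁cl
    have hX₂ : ∀ x ∈ X ∪ Y₁, x ∈ F₁ := by
      intro x hx
      rcases Finset.mem_union.mp hx with h1 | h1
      · exact Or.inl (hX x h1)
      · exact Or.inr (hY₁ x h1).1
    have hXa₂ : ∀ x ∈ X ∪ Y₁, a ∉ x.asIdeal := by
      intro x hx
      rcases Finset.mem_union.mp hx with h1 | h1
      · exact hXa x h1
      · exact fun hax => (hY₁ x h1).2 (hVa x hax)
    -- second application
    obtain ⟨q'', F₄, hF₄cl, ha₂, hb₂, hc₂⟩ := ih (h + 1) (Fin.snoc s t' : Fin (h + 1) → M) F₁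
      hF₁cl (fun x hx => Or.inl (hVa x hx))
      (X ∪ Y₁) hX₂ hXa₂ w₂ 0 (fun x => by have := hdim x; omega) hZt'
    set u : M := 0 + a • q'' with hu
    obtain ⟨Y₂, hY₂, hshr₂⟩ := shrink F₄ F₁ hF₄cl k hc₂
    -- the scalar
    obtain ⟨a', ha⟩ := crt (Y₁ ∪ Y₂) (fun x => if x ∈ Y₁ then (1 : R) else 0)
    have haY₁ : ∀ y ∈ Y₁, Ideal.Quotient.mk y.asIdeal a' = 1 := by
      intro y hy
      have := ha y (Finset.mem_union_left _ hy)
      rw [if_pos hy] at this
      rw [← map_one (Ideal.Quotient.mk y.asIdeal)]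
      exact Ideal.Quotient.eq.mpr this
    have hY₂notY₁ : ∀ z ∈ Y₂, z ∉ Y₁ := by
      intro z hz hz1
      exact (hY₂ z hz).2 (Or.inr (hY₁ z hz1).1)
    have haY₂ : ∀ z ∈ Y₂, Ideal.Quotient.mk z.asIdeal a' = 0 := by
      intro z hz
      have := ha z (Finset.mem_union_right _ hz)
      rw [if_neg (hY₂notY₁ z hz), sub_zero] at this
      exact Ideal.Quotient.eq_zero_iff_mem.mpr this
    set t : M := p + a • (q' + a' • q'') with ht0
    have ht : t = t' + a' • u := by
      rw [ht0, ht', hu, zero_add, smul_add, smul_smul, smul_smul, mul_comm a a', add_assoc]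
    set D : Set (MaximalSpectrum R) := {x | ¬ Ind x (Fin.snoc s t : Fin (h + 1) → M)} with hD
    have hDcl : IsClosed D := isClosed_not_ind _
    have himg_t : ∀ x : MaximalSpectrum R,
        img x t = img x t' + Ideal.Quotient.mk x.asIdeal a' • img x u := by
      intro x; rw [ht, img_add, img_smul]
    have hDY₁ : ∀ y ∈ Y₁, y ∉ D := by
      intro y hy hyD
      apply hyD
      letI : Field (R ⧸ y.asIdeal) := Ideal.Quotient.field y.asIdeal
      have hys : Ind y s := by
        by_contra hn; exact (hY₁ y hy).2 (hZ y hn)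
      have hyt' : ¬ Ind y (Fin.snoc s t' : Fin (h + 1) → M) := (hY₁ y hy).1.1
      have hyw : Ind y (Fin.snoc s (w' y) : Fin (h + 1) → M) := hw' y hy
      have hu' : img y u = img y (w' y) := by
        have := ha₂ y (Finset.mem_union_right _ hy)
        rw [hw₂] at this
        simp only [if_pos hy] at this
        exact img_eq_of_sub_mem y this
      rw [ind_snoc_iff] at hyt' hyw ⊢
      rw [himg_t, haY₁ y hy, one_smul, hu']
      exact li_snoc_add hys hyt' hyw
    have hDY₂ : ∀ z ∈ Y₂, z ∉ D := by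
      intro z hz hzD
      apply hzD
      have hzt' : Ind z (Fin.snoc s t' : Fin (h + 1) → M) := by
        by_contra hn; exact (hY₂ z hz).2 (hZt' z hn)
      rw [ind_snoc_iff] at hzt' ⊢
      rw [himg_t, haY₂ z hz, zero_smul, add_zero]
      exact hzt'
    obtain ⟨F'₁, hF'₁cl, hF'₁sub, hF'₁good, hF'₁⟩ := hshr₁ D hDcl hDY₁
    obtain ⟨F'₂, hF'₂cl, hF'₂sub, hF'₂good, hF'₂⟩ := hshr₂ D hDcl hDY₂
    refine ⟨q' + a' • q'', F'₁ ∪ F'₂, hF'₁cl.union hF'₂cl, ?_, ?_,
      hF'₁good.union hF'₂good hF'₁cl hF'₂cl⟩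
    · intro x hx
      have hxY₁ : x ∉ Y₁ := fun h1 => (hY₁ x h1).2 (hX x hx)
      have h1 := ha₂ x (Finset.mem_union_left _ hx)
      rw [hw₂] at h1
      simp only [if_neg hxY₁, sub_zero] at h1
      have h2 : t - w x = (t' - w x) + a' • u := by rw [ht]; abel
      show t - w x ∈ _
      rw [h2]
      exact Submodule.add_mem _ (ha' x hx) (Submodule.smul_mem _ _ h1)
    · intro x hx
      have hxD : x ∈ D := hx
      have hC₁case : x ∈ C₁ → x ∈ F ∪ (F'₁ ∪ F'₂) := by
        intro hxC
        rcases hF'₁ ⟨hxD, hxC⟩ with h1 | h1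
        · exact Or.inl h1
        · exact Or.inr (Or.inl h1)
      have hF₁case : x ∈ F₁ → x ∈ F ∪ (F'₁ ∪ F'₂) := by
        rintro (h1 | h1)
        · exact Or.inl h1
        · exact hC₁case h1
      by_cases hind : Ind x (Fin.snoc (Fin.snoc s t' : Fin (h + 1) → M) u : Fin (h + 1 + 1) → M)
      · exfalso
        apply hx
        letI : Field (R ⧸ x.asIdeal) := Ideal.Quotient.field x.asIdeal
        show Ind x (Fin.snoc s t : Fin (h + 1) → M)
        rw [ind_snoc_iff] at hind ⊢
        rw [img_snoc] at hind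
        rw [himg_t]
        exact li_snoc_add_smul _ hind
      · rcases hb₂ x hind with h1 | h1
        · exact hF₁case h1
        · rcases hF'₂ ⟨hxD, h1⟩ with h2 | h2
          · exact hF₁case h2
          · exact Or.inr (Or.inr h2)

end Groth.Agent.Lib.helper11.Serre7
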