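import Mathlib
import Groth.Agent.Lib.helper11.Serre6
import Groth.Agent.Lib.helper11.Serre7

/-!
# Serre splitting, part 8: Bass' stable range and cancellation theorems
-/

set_option autoImplicit false

namespace Groth.Agent.Lib.helper11.Serre8

open scoped BigOperators
open TopologicalSpace
open Groth.Agent.Lib.helper11.Serre1 Groth.Agent.Lib.helper11.Serre2
  Groth.Agent.Lib.helper11.Serre3

universe u

theorem good_eq_empty {Ω : Type*} [TopologicalSpace Ω] [T1Space Ω] (d : ℕ)
    (hdim : topologicalKrullDim Ω ≤ d) {F' : Set Ω} (hc : Good (d + 1) F') : F' = ∅ := by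
  rw [Set.eq_empty_iff_forall_notMem]
  intro x hx
  have h1 := hc ({x} : IrreducibleCloseds Ω) (by
    intro y hy
    rw [SetLike.mem_coe, IrreducibleCloseds.mem_singleton] at hy
    rw [hy]; exact hx)
  have h2 : (Order.coheight ({x} : IrreducibleCloseds Ω) : WithBot ℕ∞) ≤ d :=
    (Order.coheight_le_krullDim _).trans hdim
  have h3 : ((d + 1 : ℕ) : WithBot ℕ∞) ≤ (d : WithBot ℕ∞) := by
    refine le_trans ?_ h2
    exact_mod_cast h1
  have h4 : (d + 1 : ℕ) ≤ d := by exact_mod_cast h3
  omega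

theorem exists_eq_one {R : Type*} [CommRing R] {M : Type*} [AddCommGroup M] [Module R M] (t : M)
    (hne : ∀ x : MaximalSpectrum R, ∃ φ : M →ₗ[R] R, φ t ∉ x.asIdeal) :
    ∃ φ : M →ₗ[R] R, φ t = 1 := by
  let ev : (M →ₗ[R] R) →ₗ[R] R := LinearMap.applyₗ t
  have htop : (LinearMap.range ev : Ideal R) = ⊤ := by
    by_contra hne'
    obtain ⟨m, hm, hle⟩ := Ideal.exists_le_maximal _ hne'
    obtain ⟨φ, hφ⟩ := hne ⟨m, hm⟩
    exact hφ (hle ⟨φ, rfl⟩)
  have h1 : (1 : R) ∈ (LinearMap.range ev : Ideal R) := by rw [htop]; trivial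
  obtain ⟨φ, hφ⟩ := h1
  exact ⟨φ, hφ⟩

theorem isClosed_zeroLocus_max {R : Type*} [CommRing R] (a : R) :
    IsClosed {x : MaximalSpectrum R | a ∈ x.asIdeal} := by
  rw [← isOpen_compl_iff]
  have : {x : MaximalSpectrum R | a ∈ x.asIdeal}ᶜ =
      MaximalSpectrum.toPrimeSpectrum ⁻¹' (PrimeSpectrum.basicOpen a : Set (PrimeSpectrum R)) := by
    ext y; rfl
  rw [this]
  exact (PrimeSpectrum.basicOpen a).isOpen.preimage MaximalSpectrum.toPrimeSpectrum_continuous

/-- Bass' stable range theorem, in Serre's setting. -/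
theorem stable_range (R : Type u) [CommRing R] (d : ℕ)
    [TopologicalSpace.NoetherianSpace (MaximalSpectrum R)]
    (hdim : topologicalKrullDim (MaximalSpectrum R) ≤ d)
    (M : Type u) [AddCommGroup M] [Module R M] [Module.FinitePresentation R M]
    (hM : ∀ (m : Ideal R) [m.IsMaximal],
      ∃ (f : (Fin (d + 1) → Localization.AtPrime m) →ₗ[Localization.AtPrime m]
          LocalizedModule m.primeCompl M)
        (g : LocalizedModule m.primeCompl M →ₗ[Localization.AtPrime m]
          (Fin (d + 1) → Localization.AtPrime m)),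
        g ∘ₗ f = LinearMap.id)
    (p : M) (a : R) (ψ : M →ₗ[R] R) (b : R) (hu : ψ p + b * a = 1) :
    ∃ (q : M) (φ : M →ₗ[R] R), φ (p + a • q) = 1 := by
  classical
  have hrank : ∀ x : MaximalSpectrum R, 0 + (d + 1) ≤ Module.finrank (R ⧸ x.asIdeal)
      ((M ⧸ (x.asIdeal • ⊤ : Submodule R M)) ⧸ Bq R M x) := by
    intro x
    obtain ⟨f, g, hgf⟩ := hM x.asIdeal
    obtain ⟨m, hm⟩ := Serre5.exists_ind_of_local_summand x (d + 1) f g hgf
    rw [zero_add]
    exact Serre5.le_finrank_of_ind m hm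
  obtain ⟨q, F', hF'cl, -, hb, hc⟩ := Serre7.main_aux_rel (R := R) (M := M) a (d + 1) 0
    (fun i => i.elim0) {x | a ∈ x.asIdeal} (isClosed_zeroLocus_max a) (fun x hx => hx)
    ∅ (by simp) (by simp) (fun _ => 0) p hrank
    (fun x hx => absurd linearIndependent_empty_type hx)
  have hF'empty : F' = ∅ := good_eq_empty d hdim hc
  refine ⟨q, exists_eq_one _ (fun x => ?_)⟩
  by_cases hax : a ∈ x.asIdeal
  · refine ⟨ψ, fun hmem => ?_⟩
    rw [map_add, map_smul, smul_eq_mul] at hmem
    have h1 : (1 : R) = (ψ p + a * ψ q) + a * (b - ψ q) := by rw [← hu]; ring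
    apply x.isMaximal.ne_top
    rw [Ideal.eq_top_iff_one, h1]
    exact x.asIdeal.add_mem hmem (x.asIdeal.mul_mem_right _ hax)
  · by_contra hcon
    push_neg at hcon
    have h0 : img x (p + a • q) = 0 := (img_eq_zero_iff x _).mpr hcon
    have h1 : x ∈ {x : MaximalSpectrum R | a ∈ x.asIdeal} ∪ F' := by
      apply hb x
      intro hli
      haveI : Nontrivial (R ⧸ x.asIdeal) := Ideal.Quotient.nontrivial_iff.mpr x.isMaximal.ne_top
      have := hli.ne_zero (Fin.last 0)
      simp only [Fin.snoc_last] at this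
      exact this h0
    rw [hF'empty] at h1
    rcases h1 with h1 | h1
    · exact hax h1
    · exact h1

section Shear

variable {R : Type*} [CommRing R] {P : Type*} [AddCommGroup P] [Module R P]

/-- the shear `(x, r) ↦ (x + r v, r)`. -/
def shear₁ (v : P) : (P × R) ≃ₗ[R] (P × R) where
  toFun x := (x.1 + x.2 • v, x.2)
  invFun x := (x.1 - x.2 • v, x.2)
  map_add' x y := by
    refine Prod.ext ?_ rfl
    simp only [Prod.fst_add, Prod.snd_add, add_smul]; abel
  map_smul' c x := by
    refine Prod.ext ?_ rfl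
    simp only [Prod.smul_fst, Prod.smul_snd, RingHom.id_apply, smul_add, smul_eq_mul, mul_smul]
  left_inv x := by
    refine Prod.ext ?_ rfl
    simp
  right_inv x := by
    refine Prod.ext ?_ rfl
    simp

@[simp] theorem shear₁_apply (v : P) (x : P × R) : shear₁ v x = (x.1 + x.2 • v, x.2) := rfl

/-- the shear `(x, r) ↦ (x, r + f x)`. -/
def shear₂ (f : P →ₗ[R] R) : (P × R) ≃ₗ[R] (P × R) :=
  LinearEquiv.skewProd (LinearEquiv.refl R P) (LinearEquiv.refl R R) f

@[simp] theorem shear₂_apply (f : P →ₗ[R] R) (x : P × R) : shear₂ f x = (x.1, x.2 + f x.1) := rfl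

theorem fix_key {A B : Type*} [AddCommGroup A] [Module R A] [AddCommGroup B] [Module R B]
    (θ : (A × R) ≃ₗ[R] (B × R)) (hθ : θ (0, 1) = (0, 1)) (x : A) :
    θ.symm ((θ (x, 0)).1, 0) = (x, -(θ (x, 0)).2) := by
  rw [LinearEquiv.symm_apply_eq]
  have h1 : ((x, -(θ (x, 0)).2) : A × R) = (x, 0) - (θ (x, 0)).2 • ((0 : A), (1 : R)) := by
    refine Prod.ext ?_ ?_ <;> simp
  rw [h1, map_sub, map_smul, hθ]
  refine Prod.ext ?_ ?_ <;> simp

/-- an isomorphism `P ⊕ R ≃ P' ⊕ R` fixing `(0,1)` induces `P ≃ P'`. -/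
theorem nonempty_equiv_of_fix {P' : Type*} [AddCommGroup P'] [Module R P']
    (θ : (P × R) ≃ₗ[R] (P' × R)) (hθ : θ (0, 1) = (0, 1)) : Nonempty (P ≃ₗ[R] P') := by
  have hθ' : θ.symm (0, 1) = (0, 1) := by rw [← hθ, LinearEquiv.symm_apply_apply]
  let α : P →ₗ[R] P' := LinearMap.fst R P' R ∘ₗ θ.toLinearMap ∘ₗ LinearMap.inl R P R
  let β : P' →ₗ[R] P := LinearMap.fst R P R ∘ₗ θ.symm.toLinearMap ∘ₗ LinearMap.inl R P' R
  refine ⟨LinearEquiv.ofLinear α β ?_ ?_⟩
  · refine LinearMap.ext (fun y => ?_)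
    show (θ ((θ.symm (y, 0)).1, 0)).1 = y
    have := fix_key θ.symm hθ' y
    rw [LinearEquiv.symm_symm] at this
    rw [this]
  · refine LinearMap.ext (fun x => ?_)
    show (θ.symm ((θ (x, 0)).1, 0)).1 = x
    rw [fix_key θ hθ x]

end Shear

/-- cancellation of one free summand of rank one. -/
theorem cancel_one (R : Type u) [CommRing R] [IsNoetherianRing R] (d n : ℕ)
    (hdim : ringKrullDim R ≤ d)
    (P P' : Type u) [AddCommGroup P] [Module R P] [Module.Finite R P] [Module.Projective R P]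
    [AddCommGroup P'] [Module R P']
    (hrk : ∀ p : PrimeSpectrum R, Module.rankAtStalk (R := R) P p = n) (hnd : d < n)
    (e : (P × R) ≃ₗ[R] (P' × R)) : Nonempty (P ≃ₗ[R] P') := by
  haveI : Module.FinitePresentation R P := Module.finitePresentation_of_projective R P
  set p : P := (e.symm (0, 1)).1 with hp
  set a : R := (e.symm (0, 1)).2 with ha
  have hpa : e (p, a) = (0, 1) := by
    rw [hp, ha]; exact e.apply_symm_apply _
  let ψ : P →ₗ[R] R := LinearMap.snd R P' R ∘ₗ e.toLinearMap ∘ₗ LinearMap.inl R P R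
  set b : R := (e (0, 1)).2 with hb
  have hu : ψ p + b * a = 1 := by
    have h1 : ((p, a) : P × R) = (p, 0) + a • ((0 : P), (1 : R)) := by
      refine Prod.ext ?_ ?_ <;> simp
    have h2 := congrArg Prod.snd hpa
    rw [h1, map_add, map_smul] at h2
    simp only [Prod.snd_add, Prod.smul_snd, smul_eq_mul] at h2
    rw [mul_comm b a]
    exact h2
  have hM : ∀ (m : Ideal R) [m.IsMaximal],
      ∃ (f : (Fin (d + 1) → Localization.AtPrime m) →ₗ[Localization.AtPrime m]
          LocalizedModule m.primeCompl P)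
        (g : LocalizedModule m.primeCompl P →ₗ[Localization.AtPrime m]
          (Fin (d + 1) → Localization.AtPrime m)),
        g ∘ₗ f = LinearMap.id := by
    intro m hm
    haveI : Module.Free (Localization.AtPrime m) (LocalizedModule m.primeCompl P) :=
      Module.free_of_flat_of_isLocalRing
    have h1 : Module.finrank (Localization.AtPrime m) (LocalizedModule m.primeCompl P) = n :=
      hrk ⟨m, hm.isPrime⟩
    exact Serre6.local_summand (d + 1) (by rw [h1]; omega)
  obtain ⟨q, φ, hφ⟩ := stable_range R d ((Serre6.dim_maximalSpectrum_le R).trans hdim) P hM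
    p a ψ b hu
  set p' : P := p + a • q with hp'
  let θ : (P × R) ≃ₗ[R] (P' × R) :=
    (shear₁ p').trans ((shear₂ (-((1 - a) • φ))).trans ((shear₁ (-q)).trans e))
  refine nonempty_equiv_of_fix θ ?_
  show e (shear₁ (-q) (shear₂ (-((1 - a) • φ)) (shear₁ p' (0, 1)))) = (0, 1)
  rw [← hpa]
  congr 1
  simp only [shear₁_apply, shear₂_apply, zero_add, one_smul, LinearMap.neg_apply,
    LinearMap.smul_apply, hφ, smul_eq_mul, mul_one, smul_neg]
  refine Prod.ext ?_ ?_
  · simp only [hp']
    have : (1 + -(1 - a)) = a := by ring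
    rw [this]; abel
  · simp only
    ring

/-- Bass' cancellation theorem. -/
theorem cancel (R : Type u) [CommRing R] [IsNoetherianRing R] (d : ℕ)
    (hdim : ringKrullDim R ≤ d) :
    ∀ (m n : ℕ) (P P' : Type u) [AddCommGroup P] [Module R P] [Module.Finite R P]
      [Module.Projective R P] [AddCommGroup P'] [Module R P'] [Module.Finite R P']
      [Module.Projective R P']
      (_hrk : ∀ p : PrimeSpectrum R, Module.rankAtStalk (R := R) P p = n) (_hnd : d < n)
      (_e : (P × (Fin m → R)) ≃ₗ[R] (P' × (Fin m → R))), Nonempty (P ≃ₗ[R] P') := by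
  intro m
  induction m with
  | zero =>
    intro n P P' _ _ _ _ _ _ _ _ _ _ e
    exact ⟨(LinearEquiv.prodUnique (R := R) (M := P) (M₂ := Fin 0 → R)).symm.trans
      (e.trans (LinearEquiv.prodUnique (R := R) (M := P') (M₂ := Fin 0 → R)))⟩
  | succ m ih =>
    intro n P P' _ _ _ _ _ _ _ _ hrk hnd e
    -- reshuffling
    have c : ∀ (A : Type u) [AddCommGroup A] [Module R A],
        Nonempty (((A × (Fin m → R)) × R) ≃ₗ[R] (A × (Fin (m + 1) → R))) := by
      intro A _ _
      exact ⟨(LinearEquiv.prodAssoc R A (Fin m → R) R).trans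
        (LinearEquiv.prodCongr (LinearEquiv.refl R A)
          ((LinearEquiv.prodComm R (Fin m → R) R).trans
            (Fin.consLinearEquiv R (fun _ : Fin (m + 1) => R))))⟩
    obtain ⟨cP⟩ := c P
    obtain ⟨cP'⟩ := c P'
    have hrk₁ : ∀ p : PrimeSpectrum R,
        Module.rankAtStalk (R := R) (P × (Fin m → R)) p = n + m := by
      intro p
      haveI : Nontrivial R := p.nontrivial
      rw [Module.rankAtStalk_prod, Pi.add_apply, hrk p, Module.rankAtStalk_eq_finrank_of_free]
      simp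
    obtain ⟨e₁⟩ := cancel_one R d (n + m) hdim (P × (Fin m → R)) (P' × (Fin m → R)) hrk₁
      (by omega) (cP.trans (e.trans cP'.symm))
    exact ih n P P' hrk hnd e₁

end Groth.Agent.Lib.helper11.Serre8
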