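import Mathlib
import Groth.Agent.Lib.helper11.Serre8

/-!
# Serre splitting, part 9: consequences of Bass cancellation
-/

set_option autoImplicit false

namespace Groth.Agent.Lib.helper11.Serre9

open scoped BigOperators

universe u

/-- `(ι → A × B) ≃ (ι → A) × (ι → B)` linearly. -/
def piProdEquiv (R : Type*) [CommRing R] (ι A B : Type*) [AddCommGroup A] [Module R A]
    [AddCommGroup B] [Module R B] : (ι → A × B) ≃ₗ[R] (ι → A) × (ι → B) where
  toFun f := (fun i => (f i).1, fun i => (f i).2)
  invFun g := fun i => (g.1 i, g.2 i)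
  map_add' _ _ := rfl
  map_smul' _ _ := rfl
  left_inv _ := rfl
  right_inv _ := rfl

instance projective_pi_fin (R : Type*) [CommRing R] (ι : Type*) [Fintype ι] [DecidableEq ι]
    (A : Type*) [AddCommGroup A] [Module R A] [Module.Projective R A] :
    Module.Projective R (ι → A) :=
  Module.Projective.of_equiv (DFinsupp.linearEquivFunOnFintype (R := R) (M := fun _ : ι => A))

/-- Bass cancellation with an arbitrary finite free module. -/
theorem cancel_free (R : Type u) [CommRing R] [IsNoetherianRing R] (d : ℕ)
    (hdim : ringKrullDim R ≤ d) (n : ℕ)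
    (P P' : Type u) [AddCommGroup P] [Module R P] [Module.Finite R P]
    [Module.Projective R P] [AddCommGroup P'] [Module R P'] [Module.Finite R P']
    [Module.Projective R P']
    (hrk : ∀ p : PrimeSpectrum R, Module.rankAtStalk (R := R) P p = n) (hnd : d < n)
    (L : Type u) [AddCommGroup L] [Module R L] [Module.Free R L] [Module.Finite R L]
    (e : (P × L) ≃ₗ[R] (P' × L)) : Nonempty (P ≃ₗ[R] P') := by
  rcases subsingleton_or_nontrivial R with hR | hR
  · haveI : Subsingleton P := Module.subsingleton R P
    haveI : Subsingleton P' := Module.subsingleton R P'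
    exact ⟨LinearEquiv.ofSubsingleton P P'⟩
  · let c : L ≃ₗ[R] (Fin (Module.finrank R L) → R) := (Module.finBasis R L).equivFun
    exact Serre8.cancel R d hdim (Module.finrank R L) n P P' hrk hnd
      ((LinearEquiv.prodCongr (LinearEquiv.refl R P) c.symm).trans
        (e.trans (LinearEquiv.prodCongr (LinearEquiv.refl R P') c)))

theorem main (R : Type u) [CommRing R] [IsNoetherianRing R]
    (d n : ℕ) (hdim : ringKrullDim R = d)
    (P Q : Type u) [AddCommGroup P] [Module R P] [Module.Finite R P] [Module.Projective R P]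
    [AddCommGroup Q] [Module R Q] [Module.Finite R Q] [Module.Projective R Q]
    (hrk : ∀ p : PrimeSpectrum R, Module.rankAtStalk (R := R) P p = n)
    (hrk' : ∀ p : PrimeSpectrum R, Module.rankAtStalk (R := R) Q p = n)
    (m : ℕ) (e : (P × (Fin m → R)) ≃ₗ[R] (Q × (Fin m → R))) :
    ∃ N : ℕ, 1 ≤ N ∧ Nonempty ((Fin N → P) ≃ₗ[R] (Fin N → Q)) := by
  rcases Nat.eq_zero_or_pos n with hn | hn
  · -- rank zero: both modules vanish
    subst hn
    haveI : Subsingleton P :=
      Module.rankAtStalk_eq_zero_iff_subsingleton.mp (funext fun p => hrk p)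
    haveI : Subsingleton Q :=
      Module.rankAtStalk_eq_zero_iff_subsingleton.mp (funext fun p => hrk' p)
    exact ⟨1, le_refl _, ⟨LinearEquiv.ofSubsingleton _ _⟩⟩
  · refine ⟨d + 1, by omega, ?_⟩
    have hrkN : ∀ p : PrimeSpectrum R,
        Module.rankAtStalk (R := R) (Fin (d + 1) → P) p = (d + 1) * n := by
      intro p
      rw [Module.rankAtStalk_pi, finsum_eq_sum_of_fintype]
      simp [hrk p]
    have hlt : d < (d + 1) * n := by nlinarith
    refine cancel_free R d hdim.le ((d + 1) * n) (Fin (d + 1) → P) (Fin (d + 1) → Q) hrkN hlt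
      (Fin (d + 1) → (Fin m → R)) ?_
    exact (piProdEquiv R (Fin (d + 1)) P (Fin m → R)).symm.trans
      ((LinearEquiv.piCongrRight fun _ => e).trans (piProdEquiv R (Fin (d + 1)) Q (Fin m → R)))

end Groth.Agent.Lib.helper11.Serre9
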