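import Mathlib

/-!
# Injective resolutions split over a given one (S15302)
-/

set_option autoImplicit false
universe u v

namespace Groth.Agent.Lib.helper11.SplitInjRes

open CategoryTheory CategoryTheory.Limits HomologicalComplex ZeroObject

variable {C : Type u} [Category.{v} C] [Abelian C]

section Path

variable (I : CochainComplex C ℕ)

/-- `I` shifted one step to the right. -/
noncomputable def Sh : CochainComplex C ℕ :=
  CochainComplex.augment I (0 : (0 : C) ⟶ I.X 0) zero_comp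

/-- the identification `I^p = Sh^{p+1}`. -/
noncomputable def s (p : ℕ) : I.X p ⟶ (Sh I).X (p + 1) := 𝟙 (I.X p)

/-- the identification `Sh^{p+1} = I^p`. -/
noncomputable def t (p : ℕ) : (Sh I).X (p + 1) ⟶ I.X p := 𝟙 (I.X p)

@[reassoc (attr := simp)]
lemma s_t (p : ℕ) : s I p ≫ t I p = 𝟙 _ := Category.id_comp _

@[reassoc (attr := simp)]
lemma t_s (p : ℕ) : t I p ≫ s I p = 𝟙 _ := Category.id_comp _

@[reassoc]
lemma d_s (p : ℕ) : I.d p (p + 1) ≫ s I (p + 1) = s I p ≫ (Sh I).d (p + 1) (p + 2) := by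
  change I.d p (p + 1) ≫ 𝟙 _ = 𝟙 _ ≫ I.d p (p + 1)
  rw [Category.comp_id, Category.id_comp]

lemma Sh_d_zero : (Sh I).d 0 1 = 0 := rfl

@[reassoc]
lemma Sh_d_t (p : ℕ) : (Sh I).d (p + 1) (p + 1 + 1) ≫ t I (p + 1) = t I p ≫ I.d p (p + 1) := by
  change I.d p (p + 1) ≫ 𝟙 _ = 𝟙 _ ≫ I.d p (p + 1)
  rw [Category.comp_id, Category.id_comp]

/-- the differential of the path-like complex. -/
noncomputable def dP (p : ℕ) : I.X p ⊞ (Sh I).X p ⟶ I.X (p + 1) ⊞ (Sh I).X (p + 1) :=
  biprod.lift (biprod.fst ≫ I.d p (p + 1))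
    (biprod.fst ≫ s I p - biprod.snd ≫ (Sh I).d p (p + 1))

lemma dP_comp (p : ℕ) : dP I p ≫ dP I (p + 1) = 0 := by
  apply biprod.hom_ext
  · simp [dP]
  · simp only [dP, Category.assoc, biprod.lift_snd, Preadditive.comp_sub, biprod.lift_fst_assoc,
      biprod.lift_snd_assoc, Preadditive.sub_comp, zero_comp, HomologicalComplex.d_comp_d,
      comp_zero, sub_zero]
    rw [d_s, sub_self]

/-- the path-like contractible complex. -/
noncomputable def P : CochainComplex C ℕ :=
  CochainComplex.of (fun p => I.X p ⊞ (Sh I).X p) (dP I) (dP_comp I)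

lemma P_d (p : ℕ) : (P I).d p (p + 1) = dP I p := by
  simp [P]

/-- the projection `P ⟶ I`. -/
noncomputable def π : P I ⟶ I where
  f p := biprod.fst
  comm' i j hij := by
    obtain rfl : i + 1 = j := hij
    rw [P_d]
    exact (biprod.lift_fst _ _).symm

/-- the contracting homotopy data. -/
noncomputable def hP : ∀ i j, (ComplexShape.up ℕ).Rel j i → ((P I).X i ⟶ (P I).X j) :=
  fun i j hij => by
    obtain rfl : j + 1 = i := hij
    exact biprod.snd ≫ t I j ≫ biprod.inl

lemma hP_succ (p : ℕ) : hP I (p + 1) p rfl = biprod.snd ≫ t I p ≫ biprod.inl := rfl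

lemma key_zero : 𝟙 (I.X 0 ⊞ (Sh I).X 0) = dP I 0 ≫ (biprod.snd ≫ t I 0 ≫ biprod.inl) := by
  apply biprod.hom_ext
  · simp [dP, Sh_d_zero]
  · apply (isZero_zero C).eq_of_tgt

lemma key_succ (p : ℕ) : 𝟙 (I.X (p + 1) ⊞ (Sh I).X (p + 1)) =
    dP I (p + 1) ≫ (biprod.snd ≫ t I (p + 1) ≫ biprod.inl) +
      (biprod.snd ≫ t I p ≫ biprod.inl) ≫ dP I p := by
  apply biprod.hom_ext
  · simp only [dP, Preadditive.add_comp, Preadditive.sub_comp, Preadditive.comp_sub,
      Category.assoc, biprod.inl_fst, biprod.lift_fst, biprod.lift_fst_assoc,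
      biprod.inl_fst_assoc, Category.comp_id, Category.id_comp, biprod.lift_snd,
      biprod.lift_snd_assoc, biprod.inl_snd, comp_zero, sub_zero, s_t, s_t_assoc]
    rw [Sh_d_t]
    abel
  · simp only [dP, Preadditive.add_comp, Preadditive.sub_comp, Preadditive.comp_sub,
      Category.assoc, biprod.inl_fst, biprod.lift_fst, biprod.lift_fst_assoc,
      biprod.inl_fst_assoc, Category.comp_id, Category.id_comp, biprod.lift_snd,
      biprod.lift_snd_assoc, biprod.inl_snd, biprod.inl_snd_assoc, zero_comp, comp_zero,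
      sub_zero, zero_add, s_t, s_t_assoc, t_s, t_s_assoc]

lemma id_eq_null : 𝟙 (P I) = Homotopy.nullHomotopicMap' (hP I) := by
  ext p : 2
  cases p with
  | zero =>
    rw [Homotopy.nullHomotopicMap'_f_of_not_rel_right (c := ComplexShape.up ℕ)
      (show (ComplexShape.up ℕ).Rel 0 1 from rfl) (by simp), P_d]
    exact key_zero I
  | succ p =>
    rw [Homotopy.nullHomotopicMap'_f (c := ComplexShape.up ℕ)
      (show (ComplexShape.up ℕ).Rel p (p + 1) from rfl)
      (show (ComplexShape.up ℕ).Rel (p + 1) (p + 2) from rfl), P_d, P_d]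
    exact key_succ I p

/-- `P` is contractible. -/
noncomputable def contract : Homotopy (𝟙 (P I)) 0 := by
  rw [id_eq_null]
  exact Homotopy.nullHomotopy' (hP I)

end Path

section Shear

variable {X Y Z : C} (g : X ⟶ Y)

/-- the shear isomorphism `X ⊞ (Y ⊞ Z) ≅ Y ⊞ (X ⊞ Z)`. -/
noncomputable def shear : X ⊞ (Y ⊞ Z) ≅ Y ⊞ (X ⊞ Z) where
  hom := biprod.lift (biprod.fst ≫ g + biprod.snd ≫ biprod.fst)
    (biprod.lift biprod.fst (biprod.snd ≫ biprod.snd))
  inv := biprod.lift (biprod.snd ≫ biprod.fst)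
    (biprod.lift (biprod.fst - biprod.snd ≫ biprod.fst ≫ g) (biprod.snd ≫ biprod.snd))
  hom_inv_id := by
    apply biprod.hom_ext
    · simp
    · apply biprod.hom_ext
      · simp
      · simp
  inv_hom_id := by
    apply biprod.hom_ext
    · simp
    · apply biprod.hom_ext
      · simp
      · simp

lemma shear_hom_fst : (shear (Z := Z) g).hom ≫ biprod.fst =
    biprod.fst ≫ g + biprod.snd ≫ biprod.fst := by
  simp [shear]

end Shear

section Main

variable [EnoughInjectives C] {G F : C} (α : G ⟶ F) (I : InjectiveResolution F)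

/-- an injective resolution of `G`. -/
noncomputable def J₀ (G : C) : InjectiveResolution G := InjectiveResolution.of G

/-- the lift of `α`. -/
noncomputable def γ : (J₀ G).cocomplex ⟶ I.cocomplex := InjectiveResolution.desc α I (J₀ G)

lemma γ_comm : (J₀ G).ι ≫ γ α I = (CochainComplex.single₀ C).map α ≫ I.ι :=
  InjectiveResolution.desc_commutes α I (J₀ G)

end Main

section Inl

variable (K Q : CochainComplex C ℕ) (h : Homotopy (𝟙 Q) 0)

/-- `snd ≫ inr` is null-homotopic. -/
noncomputable def sndInrNull :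
    Homotopy ((biprod.snd : K ⊞ Q ⟶ Q) ≫ (biprod.inr : Q ⟶ K ⊞ Q)) (0 : K ⊞ Q ⟶ K ⊞ Q) :=
  (Homotopy.ofEq (by simp)).trans (((h.compLeft (biprod.snd : K ⊞ Q ⟶ Q)).compRight
    (biprod.inr : Q ⟶ K ⊞ Q)).trans (Homotopy.ofEq (by simp)))

/-- `inl` is a homotopy equivalence. -/
noncomputable def inlEquiv : HomotopyEquiv K (K ⊞ Q) where
  hom := biprod.inl
  inv := biprod.fst
  homotopyHomInvId := Homotopy.ofEq biprod.inl_fst
  homotopyInvHomId :=
    (Homotopy.ofEq (by simp)).trans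
      (((Homotopy.refl ((biprod.fst : K ⊞ Q ⟶ K) ≫ (biprod.inl : K ⟶ K ⊞ Q))).add
        (sndInrNull K Q h).symm).trans (Homotopy.ofEq biprod.total))

include h in
lemma quasiIso_inl : QuasiIso (biprod.inl : K ⟶ K ⊞ Q) :=
  (inlEquiv K Q h).quasiIso_hom

end Inl



section Final

variable [EnoughInjectives C] {G F : C} (α : G ⟶ F) (I : InjectiveResolution F)

instance Sh_injective (p : ℕ) : Injective ((Sh I.cocomplex).X p) := by
  cases p with
  | zero => exact (inferInstance : Injective (0 : C))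
  | succ p => exact (inferInstance : Injective (I.cocomplex.X p))

instance P_injective (p : ℕ) : Injective ((P I.cocomplex).X p) :=
  (inferInstance : Injective (I.cocomplex.X p ⊞ (Sh I.cocomplex).X p))

/-- the new resolution. -/
noncomputable def J : InjectiveResolution G where
  cocomplex := (J₀ G).cocomplex ⊞ P I.cocomplex
  injective p := Injective.of_iso (biprodXIso _ _ p).symm inferInstance
  ι := (J₀ G).ι ≫ biprod.inl
  quasiIso := by
    haveI := quasiIso_inl (J₀ G).cocomplex (P I.cocomplex) (contract I.cocomplex)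
    infer_instance

/-- the comparison map. -/
noncomputable def β : (J₀ G).cocomplex ⊞ P I.cocomplex ⟶ I.cocomplex :=
  biprod.desc (γ α I) (π I.cocomplex)

lemma ι_β : ((J₀ G).ι ≫ biprod.inl) ≫ β α I = (CochainComplex.single₀ C).map α ≫ I.ι := by
  rw [β, Category.assoc, biprod.inl_desc, γ_comm]

lemma β_f' (p : ℕ) : (β α I).f p =
    (biprod.fst : (J₀ G).cocomplex ⊞ P I.cocomplex ⟶ (J₀ G).cocomplex).f p ≫ (γ α I).f p +
      (biprod.snd : (J₀ G).cocomplex ⊞ P I.cocomplex ⟶ P I.cocomplex).f p ≫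
        (π I.cocomplex).f p := by
  have : β α I = biprod.fst ≫ γ α I + biprod.snd ≫ π I.cocomplex := biprod.desc_eq
  rw [this, HomologicalComplex.add_f_apply, HomologicalComplex.comp_f,
    HomologicalComplex.comp_f]

/-- `P^p = I^p ⊞ Sh^p`. -/
noncomputable def pIso (p : ℕ) :
    (P I.cocomplex).X p ≅ I.cocomplex.X p ⊞ (Sh I.cocomplex).X p := Iso.refl _

lemma pIso_hom_fst (p : ℕ) : (pIso I p).hom ≫ biprod.fst = (π I.cocomplex).f p :=
  Category.id_comp _

/-- the decomposition of the terms of the total complex. -/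
noncomputable def θ (p : ℕ) : ((J₀ G).cocomplex ⊞ P I.cocomplex).X p ≅
    (J₀ G).cocomplex.X p ⊞ (I.cocomplex.X p ⊞ (Sh I.cocomplex).X p) :=
  biprodXIso (J₀ G).cocomplex (P I.cocomplex) p ≪≫ biprod.mapIso (Iso.refl _) (pIso I p)

lemma θ_hom_fst (p : ℕ) : (θ (G := G) I p).hom ≫ biprod.fst =
    (biprod.fst : (J₀ G).cocomplex ⊞ P I.cocomplex ⟶ (J₀ G).cocomplex).f p := by
  simp [θ]

lemma θ_hom_snd_fst (p : ℕ) : (θ (G := G) I p).hom ≫ biprod.snd ≫ biprod.fst =
    (biprod.snd : (J₀ G).cocomplex ⊞ P I.cocomplex ⟶ P I.cocomplex).f p ≫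
      (π I.cocomplex).f p := by
  simp [θ, pIso_hom_fst]

lemma β_f (p : ℕ) : (β α I).f p = (θ (G := G) I p).hom ≫
    (biprod.fst ≫ (γ α I).f p + biprod.snd ≫ biprod.fst) := by
  rw [β_f', Preadditive.comp_add, ← Category.assoc, θ_hom_fst, θ_hom_snd_fst]

theorem main : ∃ (J : InjectiveResolution G) (β : J.cocomplex ⟶ I.cocomplex),
    J.ι ≫ β = (CochainComplex.single₀ C).map α ≫ I.ι ∧
    ∀ p : ℕ, ∃ (K : C) (e : J.cocomplex.X p ≅ I.cocomplex.X p ⊞ K), β.f p = e.hom ≫ biprod.fst := by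
  refine ⟨J I, β α I, ι_β α I, fun p => ?_⟩
  refine ⟨(J₀ G).cocomplex.X p ⊞ (Sh I.cocomplex).X p,
    θ (G := G) I p ≪≫ shear ((γ α I).f p), ?_⟩
  refine (β_f α I p).trans ?_
  rw [Iso.trans_hom, Category.assoc, shear_hom_fst]
  rfl

end Final

end Groth.Agent.Lib.helper11.SplitInjRes
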