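import Mathlib
import Groth.Agent.Lib.helper11.IdemLift1
import Groth.Agent.Lib.Helper22.NormalSections
import Groth.Agent.Lib.Helper13.SteinUC

/-!
# `f_* O_X = O_S` for a proper morphism onto a normal integral scheme with trivial generic `H⁰`
(helper11; first half of S1365 = EGA III 4.3.12 / Stacks 03H0-type statement)
-/

set_option autoImplicit false
set_option linter.style.haveILetI false
universe u
open CategoryTheory CategoryTheory.Limits AlgebraicGeometry Opposite TopologicalSpace

namespace Groth.Agent.Lib.helper11.SteinNormal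

open Groth.Agent.Lib.helper11.IdemLift

/-- every nonempty open subset of a scheme contains the generic point of an irreducible
component -/
theorem exists_generic_mem (X : Scheme.{u}) (W : X.Opens) (x : X) (hx : x ∈ W) :
    ∃ (Z : Set X) (η : X), Z ∈ irreducibleComponents X ∧ IsGenericPoint η Z ∧ η ∈ W := by
  have hZ : irreducibleComponent x ∈ irreducibleComponents X :=
    irreducibleComponent_mem_irreducibleComponents x
  obtain ⟨η, hη⟩ := QuasiSober.sober (isIrreducible_irreducibleComponent (x := x))
    (isClosed_irreducibleComponent (x := x))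
  refine ⟨_, η, hZ, hη, ?_⟩
  have h1 : η ⤳ x := hη.specializes mem_irreducibleComponent
  exact h1.mem_open W.2 hx

variable {X S : Scheme.{u}} (f : X ⟶ S)

/-- if all generic points of `X` lie over `s` and `X` is reduced, sections over `f⁻¹ V` are
determined by their restriction to the fibre over `s`. -/
theorem ρ_injective [IsReduced X] (s : S)
    (hgen : ∀ Z ∈ irreducibleComponents ↑X, ∀ x : X, IsGenericPoint x Z → f x = s)
    (V : S.Opens) (hs : s ∈ V) : Function.Injective (ρ f s V hs).hom := by
  rw [injective_iff_map_eq_zero]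
  intro b hb
  rw [← basicOpen_eq_bot_iff]
  by_contra hne
  obtain ⟨x, hx⟩ : ∃ x : X, x ∈ X.basicOpen b := by
    by_contra hcon
    push Not at hcon
    apply hne
    ext y
    simp only [Opens.coe_bot, Set.mem_empty_iff_false, iff_false]
    exact hcon y
  obtain ⟨Z, η, hZ, hη, hηW⟩ := exists_generic_mem X (X.basicOpen b) x hx
  have hfη : f η = s := hgen Z hZ η hη
  have hr : η ∈ Set.range (f.fiberι s) := by
    rw [f.range_fiberι]; exact hfη
  obtain ⟨η', rfl⟩ := hr
  have h1 : η' ∈ (f.fiberι s) ⁻¹ᵁ (X.basicOpen b) := hηW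
  rw [Scheme.preimage_basicOpen] at h1
  have h2 : (f.fiber s).basicOpen ((ρ f s V hs).hom b) =
      (f.fiber s).basicOpen ((f.fiberι s).app (f ⁻¹ᵁ V) b) := by
    unfold ρ
    rw [Scheme.Hom.appLE, CommRingCat.hom_comp, RingHom.comp_apply]
    erw [Scheme.basicOpen_res]
    rw [inf_eq_right]
    exact le_top
  rw [← h2, hb, Scheme.basicOpen_zero] at h1
  exact h1


theorem σ_bijective (s : S)
    (h0 : Function.Bijective ((f.fiberToSpecResidueField s).appTop)) :
    Function.Bijective (σ f s).hom := by
  unfold σ
  rw [CommRingCat.hom_comp, RingHom.coe_comp]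
  exact h0.comp (ConcreteCategory.bijective_of_isIso (Scheme.ΓSpecIso (S.residueField s)).inv)

/-- **`f_* O_X = O_S` on nonempty affine opens.** -/
theorem bijective_app_of_affine [IsProper f] [IsIntegral S] (hS : Pi1.IsNormalScheme S)
    [IsReduced X]
    (hgen : ∀ Z ∈ irreducibleComponents ↑X, ∀ x : X, IsGenericPoint x Z → f x = genericPoint ↑S)
    (h0 : Function.Bijective ((f.fiberToSpecResidueField (genericPoint ↑S)).appTop))
    (V : S.Opens) (hV : IsAffineOpen V) [hne : Nonempty V] : Function.Bijective (f.app V).hom := by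
  set ξ := genericPoint ↑S with hξdef
  have hξ : ξ ∈ V := ((genericPoint_spec S).mem_open_set_iff V.isOpen).mpr (by simpa using hne)
  have hσ := σ_bijective f ξ h0
  have hρ := ρ_injective f ξ hgen V hξ
  have hsq : ∀ a : Γ(S, V), (ρ f ξ V hξ).hom ((f.app V).hom a) =
      (σ f ξ).hom ((S.evaluation V ξ hξ).hom a) := fun a =>
    congrArg (fun φ => φ.hom a) (app_ρ f ξ V hξ)
  have hfld : IsField (S.presheaf.stalk ξ) := Field.toIsField S.functionField
  have hres : Function.Injective (S.residue ξ).hom := by
    rw [RingHom.injective_iff_ker_eq_bot]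
    show RingHom.ker (IsLocalRing.residue (S.presheaf.stalk ξ)) = ⊥
    rw [IsLocalRing.ker_residue]
    exact IsLocalRing.isField_iff_maximalIdeal_eq.mp hfld
  have hev : ∀ a : Γ(S, V), (S.evaluation V ξ hξ).hom a =
      (S.residue ξ).hom ((S.germToFunctionField V).hom a) := fun a => rfl
  constructor
  · rw [injective_iff_map_eq_zero]
    intro a ha
    have h1 := hsq a
    rw [ha, map_zero] at h1
    have h2 : (S.evaluation V ξ hξ).hom a = 0 := hσ.1 (by rw [← h1, map_zero])
    rw [hev] at h2
    have h3 : (S.germToFunctionField V).hom a = 0 := hres (by rw [h2, map_zero])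
    exact S.germToFunctionField_injective V (by rw [map_zero]; exact h3)
  · intro b
    obtain ⟨k, hk⟩ := hσ.2 ((ρ f ξ V hξ).hom b)
    obtain ⟨q, hq⟩ := S.residue_surjective ξ k
    obtain ⟨p, hpm, hp⟩ :=
      Groth.Agent.Lib.Helper13.SteinUC.isIntegral_app_of_universallyClosed f V hV b
    -- transport the integral equation to the function field
    set rρ : Γ(X, f ⁻¹ᵁ V) →+* Γ(f.fiber ξ, ⊤) := (ρ f ξ V hξ).hom with hrρ
    set rφ : Γ(S, V) →+* Γ(X, f ⁻¹ᵁ V) := (f.app V).hom with hrφ
    set rσ : S.residueField ξ →+* Γ(f.fiber ξ, ⊤) := (σ f ξ).hom with hrσ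
    set rres : S.presheaf.stalk ξ →+* S.residueField ξ := (S.residue ξ).hom with hrres
    set rg : Γ(S, V) →+* S.presheaf.stalk ξ := (S.germToFunctionField V).hom with hrg
    have hq' : rres q = k := hq
    have e2 : rρ.comp rφ = rσ.comp (rres.comp rg) := by
      ext a
      exact hsq a
    have e1 : Polynomial.eval₂ (rρ.comp rφ) (rρ b) p = 0 := by
      rw [← Polynomial.hom_eval₂, hp, map_zero]
    have e3 : rσ (Polynomial.eval₂ (rres.comp rg) k p) = 0 := by
      rw [Polynomial.hom_eval₂, ← e2, hk]
      exact e1
    have e4 : Polynomial.eval₂ (rres.comp rg) k p = 0 := hσ.1 (by rw [e3, map_zero])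
    have e5 : rres (Polynomial.eval₂ rg q p) = 0 := by
      rw [Polynomial.hom_eval₂, hq']
      exact e4
    have e6 : Polynomial.eval₂ rg q p = 0 := hres (by rw [e5, map_zero])
    haveI : IsIntegrallyClosed Γ(S, V) :=
      Groth.Agent.Lib.Helper22.NormalSections.isIntegrallyClosed_sections (fun x => (hS x).2) V
    haveI : IsFractionRing Γ(S, V) S.functionField :=
      functionField_isFractionRing_of_isAffineOpen S V hV
    have hint : IsIntegral Γ(S, V) (q : S.functionField) := ⟨p, hpm, e6⟩
    obtain ⟨a, ha⟩ := IsIntegrallyClosed.algebraMap_eq_of_integral hint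
    have ha' : rg a = q := ha
    refine ⟨a, ?_⟩
    apply hρ
    have := hsq a
    rw [hev] at this
    change rρ (rφ a) = rρ b
    rw [← hk, ← hq', ← ha']
    exact this

/-- **`f_* O_X = O_S`** for proper `f : X ⟶ S`, `S` integral normal, `X` reduced with all generic
points over the generic point of `S`, and `H⁰` of the generic fibre equal to `κ(ξ)`. -/
theorem isIso_app [IsProper f] [IsIntegral S] (hS : Pi1.IsNormalScheme S)
    [IsReduced X]
    (hgen : ∀ Z ∈ irreducibleComponents ↑X, ∀ x : X, IsGenericPoint x Z → f x = genericPoint ↑S)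
    (h0 : Function.Bijective ((f.fiberToSpecResidueField (genericPoint ↑S)).appTop))
    (U : S.Opens) : IsIso (f.app U) := by
  let F : TopCat.Sheaf CommRingCat S := S.sheaf
  let G : TopCat.Sheaf CommRingCat S :=
    (TopCat.Sheaf.pushforward CommRingCat f.base).obj X.sheaf
  let φ : F ⟶ G := ⟨f.c⟩
  let B : S.affineOpens → S.Opens := fun V => V.1
  have hB : Opens.IsBasis (Set.range B) := by
    have : Set.range B = S.affineOpens := by
      ext W
      simp [B]
    rw [this]
    exact S.isBasis_affineOpens
  haveI : IsIso φ := by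
    refine TopCat.Sheaf.isIso_iff_isIso_basis hB (fun V => ?_)
    show IsIso (f.app V.1)
    rw [ConcreteCategory.isIso_iff_bijective]
    by_cases hne : Nonempty V.1
    · exact bijective_app_of_affine f hS hgen h0 V.1 V.2
    · have hbot : V.1 = ⊥ := by
        rw [not_nonempty_iff] at hne
        ext z
        simp only [Opens.coe_bot, Set.mem_empty_iff_false, iff_false]
        exact fun hz => hne.false ⟨z, hz⟩
      have h1 : Subsingleton Γ(S, V.1) := by rw [hbot]; infer_instance
      have h2 : Subsingleton Γ(X, f ⁻¹ᵁ V.1) := by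
        rw [hbot]
        have : f ⁻¹ᵁ (⊥ : S.Opens) = ⊥ := by ext; simp
        rw [this]; infer_instance
      exact ⟨fun a b _ => Subsingleton.elim _ _, fun b => ⟨0, Subsingleton.elim _ _⟩⟩
  have h2 : IsIso ((TopCat.Sheaf.forget CommRingCat S).map φ) := inferInstance
  exact NatIso.isIso_app_of_isIso ((TopCat.Sheaf.forget CommRingCat S).map φ) (op U)

end Groth.Agent.Lib.helper11.SteinNormal
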