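import Mathlib
import Groth.Agent.Lib.helper11.SteinBC

/-!
# Stein factorization over a geometrically unibranch base: general scheme lemmas (helper11)

* `universallyInjective_of_surjective_comp`: if `h` is surjective and `h ≫ ν` is universally
  injective then so is `ν`.
* `isUnivHomeo_snd_of_geometricallyConnected`: if `t` is surjective, `ν` integral and the base change
  of `t ≫ ν` along `y` is geometrically connected then the base change of `ν` along `y` is a universal
  homeomorphism.
* `geometricallyConnected_comp_of_universallyInjective`: a geometrically connected morphism followed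
  by a surjective universally injective morphism is geometrically connected.
-/

set_option autoImplicit false
set_option linter.style.haveILetI false
universe u
open CategoryTheory CategoryTheory.Limits AlgebraicGeometry Opposite TopologicalSpace

namespace Groth.Agent.Lib.helper11.SteinUnibr

theorem universallyInjective_of_surjective_comp {W Y Z : Scheme.{u}} (h : W ⟶ Y) (ν : Y ⟶ Z)
    [Surjective h] [UniversallyInjective (h ≫ ν)] : UniversallyInjective ν := by
  refine ⟨fun Y' Z' i₁ i₂ ν' hsq => ?_⟩
  -- hsq : IsPullback ν' i₁ i₂ ν
  have hleft : IsPullback (pullback.snd h i₁) (pullback.fst h i₁) i₁ h :=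
    (IsPullback.of_hasPullback h i₁).flip
  have hpaste := hleft.paste_horiz hsq
  haveI hui : UniversallyInjective (pullback.snd h i₁ ≫ ν') :=
    MorphismProperty.of_isPullback (P := @UniversallyInjective) hpaste.flip inferInstance
  haveI hsu : Surjective (pullback.snd h i₁) :=
    MorphismProperty.of_isPullback (P := @Surjective)
      (IsPullback.of_hasPullback h i₁) inferInstance
  intro z₁ z₂ hz
  obtain ⟨q₁, rfl⟩ := hsu.surj z₁
  obtain ⟨q₂, rfl⟩ := hsu.surj z₂
  have : q₁ = q₂ := (pullback.snd h i₁ ≫ ν').injective (by simpa using hz)
  rw [this]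

theorem isUnivHomeo_snd_of_geometricallyConnected {P Q Z K : Scheme.{u}} (t : P ⟶ Q)
    (ν : Q ⟶ Z) [Surjective t] [IsIntegralHom ν] (y : K ⟶ Z)
    (h : GeometricallyConnected (pullback.snd (t ≫ ν) y)) :
    FlatMor.IsUnivHomeo (pullback.snd ν y) := by
  haveI : Surjective (pullback.snd t (pullback.fst ν y)) :=
    MorphismProperty.of_isPullback (P := @Surjective)
      (IsPullback.of_hasPullback t (pullback.fst ν y)) inferInstance
  haveI : GeometricallyConnected (pullback.snd t (pullback.fst ν y) ≫ pullback.snd ν y) := by
    rw [← pullbackRightPullbackFstIso_hom_snd]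
    exact (MorphismProperty.cancel_left_of_respectsIso @GeometricallyConnected _ _).mpr h
  exact Groth.Agent.Lib.helper11.SteinBC.isUnivHomeo_of_surjective_of_geometricallyConnected
    (pullback.snd t (pullback.fst ν y)) (pullback.snd ν y)

theorem geometricallyConnected_comp_of_universallyInjective {X S' S : Scheme.{u}} (t : X ⟶ S')
    (ν : S' ⟶ S) [GeometricallyConnected t] [UniversallyInjective ν] [Surjective ν] :
    GeometricallyConnected (t ≫ ν) := by
  refine ⟨geometrically_iff_of_isClosedUnderIsomorphisms.mpr fun K _ y ↦ ?_⟩
  rw [← (pullbackRightPullbackFstIso ν y t).hom.homeomorph.connectedSpace_iff]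
  -- the one-point scheme `Q = S' ×_S Spec K`
  haveI hinj : UniversallyInjective (pullback.snd ν y) :=
    MorphismProperty.pullback_snd (P := @UniversallyInjective) _ _ inferInstance
  haveI hsur : Surjective (pullback.snd ν y) :=
    MorphismProperty.pullback_snd (P := @Surjective) _ _ inferInstance
  obtain ⟨z, -⟩ := hsur.surj (IsLocalRing.closedPoint K)
  have hsub : ∀ w : ↥(pullback ν y), w = z := fun w =>
    (pullback.snd ν y).injective (Subsingleton.elim (α := PrimeSpectrum K) _ _)
  let i := (pullback ν y).fromSpecResidueField z
  haveI : Surjective i := ⟨fun w => ⟨IsLocalRing.closedPoint _, by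
    rw [hsub w]; exact Scheme.fromSpecResidueField_apply _ _⟩⟩
  haveI : Surjective (pullback.fst (pullback.snd t (pullback.fst ν y)) i) :=
    MorphismProperty.pullback_fst (P := @Surjective) _ _ inferInstance
  haveI : ConnectedSpace ↥(pullback t (i ≫ pullback.fst ν y)) :=
    pullback_of_geometrically (GeometricallyConnected.geometrically_connectedSpace (f := t)) _ _
  haveI : ConnectedSpace ↥(pullback (pullback.snd t (pullback.fst ν y)) i) :=
    (pullbackLeftPullbackSndIso t (pullback.fst ν y) i).hom.homeomorph.connectedSpace_iff.mpr
      inferInstance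
  exact (pullback.fst (pullback.snd t (pullback.fst ν y)) i).surjective.connectedSpace
    (pullback.fst (pullback.snd t (pullback.fst ν y)) i).continuous

end Groth.Agent.Lib.helper11.SteinUnibr
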