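import Mathlib
import Groth.Agent.Lib.Helper22.PINormAlg
import Groth.Agent.Lib.helper11.SteinUnibr1

/-!
# Stein factorization over a geometrically unibranch base: the ring-level step (helper11)

`universallyInjective_SpecMap`: let `A ⊆ A'` be an integral extension of domains such that all
localizations of `A` at primes are geometrically unibranch and such that two ring maps from `A'` to a
field which agree on `A` and are injective on `A` are equal (i.e. `Frac A' / Frac A` is purely
inseparable).  Then `Spec A' → Spec A` is universally injective.
-/

set_option autoImplicit false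
set_option linter.style.haveILetI false
set_option linter.unusedSectionVars false
universe u
open CategoryTheory CategoryTheory.Limits AlgebraicGeometry

namespace Groth.Agent.Lib.helper11.SteinUnibr

open Groth.Agent.Lib.Helper22 Groth.Agent.Lib.Helper9.UnivHomeoRing

section Ring

variable (A : Type u) [CommRing A] [IsDomain A] (A' : Type u) [CommRing A'] [IsDomain A']
  [Algebra A A'] [Algebra.IsIntegral A A']
  (hinj : Function.Injective (algebraMap A A'))
  (hgu : ∀ (p : Ideal A) [p.IsPrime], CAlg2.IsGeomUnibranch (Localization.AtPrime p))
  (hemb : ∀ (Ω : Type u) [Field Ω] (φ₁ φ₂ : A' →+* Ω),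
    φ₁.comp (algebraMap A A') = φ₂.comp (algebraMap A A') →
    Function.Injective (φ₁.comp (algebraMap A A')) → φ₁ = φ₂)

attribute [local instance] FractionRing.liftAlgebra

include hinj hemb in
theorem isPurelyInseparable_fractionRing :
    haveI : FaithfulSMul A (FractionRing A') :=
      (faithfulSMul_iff_algebraMap_injective A (FractionRing A')).mpr (by
        rw [IsScalarTower.algebraMap_eq A A' (FractionRing A')]
        exact (IsFractionRing.injective A' (FractionRing A')).comp hinj)
    IsPurelyInseparable (FractionRing A) (FractionRing A') := by
  haveI : FaithfulSMul A (FractionRing A') :=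
    (faithfulSMul_iff_algebraMap_injective A (FractionRing A')).mpr (by
      rw [IsScalarTower.algebraMap_eq A A' (FractionRing A')]
      exact (IsFractionRing.injective A' (FractionRing A')).comp hinj)
  haveI : Nonempty (FractionRing A' →+* AlgebraicClosure (FractionRing A')) :=
    ⟨algebraMap _ _⟩
  refine IsPurelyInseparable.of_injective_comp_algebraMap (FractionRing A) (FractionRing A')
    (AlgebraicClosure (FractionRing A')) ?_
  intro σ₁ σ₂ hσ
  have hσ' : ∀ k : FractionRing A, σ₁ (algebraMap _ (FractionRing A') k) =
      σ₂ (algebraMap _ (FractionRing A') k) := fun k => RingHom.congr_fun hσ k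
  have key : σ₁.comp (algebraMap A' (FractionRing A')) =
      σ₂.comp (algebraMap A' (FractionRing A')) := by
    apply hemb
    · refine RingHom.ext fun a => ?_
      simp only [RingHom.comp_apply]
      rw [← IsScalarTower.algebraMap_apply A A' (FractionRing A'),
        IsScalarTower.algebraMap_apply A (FractionRing A) (FractionRing A')]
      exact hσ' _
    · exact (σ₁.injective.comp (IsFractionRing.injective A' (FractionRing A'))).comp hinj
  exact IsLocalization.ringHom_ext (nonZeroDivisors A') key

include hinj hgu hemb in
theorem universallyInjective_SpecMap :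
    UniversallyInjective (Spec.map (CommRingCat.ofHom (algebraMap A A'))) := by
  have hinjL : Function.Injective (algebraMap A (FractionRing A')) := by
    rw [IsScalarTower.algebraMap_eq A A' (FractionRing A')]
    exact (IsFractionRing.injective A' (FractionRing A')).comp hinj
  haveI : FaithfulSMul A (FractionRing A') :=
    (faithfulSMul_iff_algebraMap_injective A (FractionRing A')).mpr hinjL
  haveI hpiL : IsPurelyInseparable (FractionRing A) (FractionRing A') :=
    isPurelyInseparable_fractionRing A A' hinj hemb
  obtain ⟨q, hqdef⟩ : ∃ q, q = ringExpChar (FractionRing A) := ⟨_, rfl⟩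
  haveI hexp : ExpChar (FractionRing A) q := hqdef ▸ ringExpChar.expChar (FractionRing A)
  have hinjK : Function.Injective (algebraMap A (FractionRing A)) :=
    IsFractionRing.injective _ _
  have hUH : FlatMor.IsUnivHomeo (Spec.map (CommRingCat.ofHom
      (algebraMap A (integralClosure A (FractionRing A'))))) := by
    refine PINormAlg.isUnivHomeo A (FractionRing A') ?_ q ?_ ?_ hgu
    · intro a ha
      refine IsUnit.mk0 _ ?_
      rw [Ne, ← map_zero (algebraMap A (FractionRing A'))]
      exact fun h0 => ha (hinjL h0)
    · rcases hexp with _ | ⟨hp⟩
      · exact Or.inl rfl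
      · refine Or.inr ⟨hp, hinjK ?_⟩
        rw [map_natCast, map_zero]
        exact CharP.cast_eq_zero _ _
    · intro x
      obtain ⟨n, z, hz⟩ := IsPurelyInseparable.pow_mem (FractionRing A) q x
      obtain ⟨a, b, hb, hab⟩ := IsFractionRing.div_surjective (A := A) z
      refine ⟨n, a, b, nonZeroDivisors.ne_zero hb, ?_⟩
      rw [← hz, ← hab, IsScalarTower.algebraMap_apply A (FractionRing A) (FractionRing A') b,
        IsScalarTower.algebraMap_apply A (FractionRing A) (FractionRing A') a, ← map_mul]
      congr 1
      rw [mul_div_cancel₀]
      rw [Ne, ← map_zero (algebraMap A (FractionRing A))]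
      exact fun h0 => nonZeroDivisors.ne_zero hb (hinjK h0)
  -- the map `A' → C`
  let C := integralClosure A (FractionRing A')
  let j : A' →+* C := (algebraMap A' (FractionRing A')).codRestrict C.toSubring
    (fun x => (Algebra.IsIntegral.isIntegral (R := A) x).map
      (IsScalarTower.toAlgHom A A' (FractionRing A')))
  have hjA : j.comp (algebraMap A A') = algebraMap A C := by
    refine RingHom.ext fun a => Subtype.ext ?_
    exact (IsScalarTower.algebraMap_apply A A' (FractionRing A') a).symm
  have hjinj : Function.Injective j := by
    intro x y hxy
    exact IsFractionRing.injective A' (FractionRing A') (congrArg Subtype.val hxy)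
  have hjint : j.IsIntegral := by
    refine RingHom.IsIntegral.tower_top (algebraMap A A') j ?_
    rw [hjA]
    exact algebraMap_isIntegral_iff.mpr inferInstance
  haveI : Surjective (Spec.map (CommRingCat.ofHom j)) :=
    ⟨fun x => by
      obtain ⟨y, hy⟩ := hjint.comap_surjective hjinj x
      exact ⟨y, hy⟩⟩
  haveI : UniversallyInjective (Spec.map (CommRingCat.ofHom j) ≫
      Spec.map (CommRingCat.ofHom (algebraMap A A'))) := by
    rw [← Spec.map_comp, ← CommRingCat.ofHom_comp, hjA]
    exact ((isUnivHomeo_iff _).mp hUH).2.1
  exact universallyInjective_of_surjective_comp (Spec.map (CommRingCat.ofHom j)) _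

end Ring

end Groth.Agent.Lib.helper11.SteinUnibr
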