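import Mathlib
import Groth.Agent.Lib.Helper22.PINormMain
import Groth.Agent.Lib.helper11.SteinUnibr2

/-!
# Stein factorization over a geometrically unibranch base (helper11)

`main`: a dominant proper morphism `f : X ⟶ S` of integral schemes, `S` with geometrically unibranch
local rings, whose generic fibre is geometrically connected, has geometrically connected fibres
(EGA IV 15.5.? / Stacks 0BUI-type statement).  No Noetherian hypotheses.
-/

set_option autoImplicit false
set_option linter.style.haveILetI false
set_option linter.unusedSectionVars false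
universe u
open CategoryTheory CategoryTheory.Limits AlgebraicGeometry Opposite TopologicalSpace

namespace Groth.Agent.Lib.helper11.SteinUnibr

open Groth.Agent.Lib.Helper22 Groth.Agent.Lib.Helper9.UnivHomeoRing

/-- a point of an integral scheme given by an injective map from the sections over a (nonempty) affine
open to a field is the generic point -/
theorem apply_closedPoint_eq_genericPoint {S : Scheme.{u}} [IsIntegral S] (U : S.affineOpens)
    [Nonempty U.1] (Ω : Type u) [Field Ω] (ψ : Γ(S, U.1) →+* Ω) (hψ : Function.Injective ψ) :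
    (Spec.map (CommRingCat.ofHom ψ) ≫ U.2.fromSpec) (IsLocalRing.closedPoint Ω) =
      genericPoint S := by
  rw [← genericPoint_eq_of_isOpenImmersion U.2.fromSpec, Scheme.Hom.comp_apply]
  congr 1
  rw [genericPoint_eq_bot_of_affine]
  refine PrimeSpectrum.ext ?_
  show Ideal.comap ψ (IsLocalRing.maximalIdeal Ω) = (⊥ : PrimeSpectrum Γ(S, U.1)).asIdeal
  rw [IsLocalRing.maximalIdeal_eq_bot, Ideal.comap_bot_of_injective ψ hψ]
  rfl

section

variable {X S : Scheme.{u}} (f : X ⟶ S) [IsProper f] [IsIntegral S]

set_option backward.isDefEq.respectTransparency false in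
theorem hemb_of_generic
    (hη : GeometricallyConnected (f.fiberToSpecResidueField (genericPoint S)))
    (U : S.affineOpens) [Nonempty U.1] :
    letI := (f.app U.1).hom.toAlgebra
    ∀ (Ω : Type u) [Field Ω] (φ₁ φ₂ : integralClosure Γ(S, U.1) Γ(X, f ⁻¹ᵁ U.1) →+* Ω),
      φ₁.comp (algebraMap Γ(S, U.1) _) = φ₂.comp (algebraMap Γ(S, U.1) _) →
      Function.Injective (φ₁.comp (algebraMap Γ(S, U.1) _)) → φ₁ = φ₂ := by
  letI := (f.app U.1).hom.toAlgebra
  intro Ω _ φ₁ φ₂ heq hinj
  have hUH : FlatMor.IsUnivHomeo (pullback.snd f.fromNormalization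
      (S.fromSpecResidueField (genericPoint S))) := by
    refine isUnivHomeo_snd_of_geometricallyConnected f.toNormalization f.fromNormalization _ ?_
    rw [f.toNormalization_fromNormalization]
    exact hη
  have hUI : UniversallyInjective (pullback.snd f.fromNormalization
      (S.fromSpecResidueField (genericPoint S))) := ((isUnivHomeo_iff _).mp hUH).2.1
  have hgν : ∀ φ : integralClosure Γ(S, U.1) Γ(X, f ⁻¹ᵁ U.1) →+* Ω,
      (Spec.map (CommRingCat.ofHom φ) ≫ f.normalizationOpenCover.f U) ≫ f.fromNormalization =
      Spec.map (CommRingCat.ofHom (φ.comp (algebraMap Γ(S, U.1) _))) ≫ U.2.fromSpec := by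
    intro φ
    rw [Category.assoc, f.ι_fromNormalization U, ← Spec.map_comp_assoc]
    rfl
  -- the common image is the generic point
  obtain ⟨⟨s, a⟩, hs⟩ := (Scheme.SpecToEquivOfField Ω S).symm.surjective
    (Spec.map (CommRingCat.ofHom (φ₁.comp (algebraMap Γ(S, U.1) _))) ≫ U.2.fromSpec)
  have hs' : Spec.map a ≫ S.fromSpecResidueField s =
      Spec.map (CommRingCat.ofHom (φ₁.comp (algebraMap Γ(S, U.1) _))) ≫ U.2.fromSpec := hs
  have hpt : s = genericPoint S := by
    rw [← apply_closedPoint_eq_genericPoint U Ω _ hinj, ← hs', Scheme.Hom.comp_apply,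
      Scheme.fromSpecResidueField_apply]
  subst hpt
  let g₁ : Spec (CommRingCat.of Ω) ⟶ pullback f.fromNormalization
      (S.fromSpecResidueField (genericPoint S)) :=
    pullback.lift (Spec.map (CommRingCat.ofHom φ₁) ≫ f.normalizationOpenCover.f U) (Spec.map a)
      (by rw [hgν, hs'])
  let g₂ : Spec (CommRingCat.of Ω) ⟶ pullback f.fromNormalization
      (S.fromSpecResidueField (genericPoint S)) :=
    pullback.lift (Spec.map (CommRingCat.ofHom φ₂) ≫ f.normalizationOpenCover.f U) (Spec.map a)
      (by rw [hgν, hs', heq])
  have hiff : UniversallyInjective (pullback.snd f.fromNormalization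
      (S.fromSpecResidueField (genericPoint S))) ↔
      ∀ (K : Type u) [Field K], Function.Injective
        (fun g : Spec (CommRingCat.of K) ⟶ pullback f.fromNormalization
          (S.fromSpecResidueField (genericPoint S)) ↦ g ≫ pullback.snd f.fromNormalization
            (S.fromSpecResidueField (genericPoint S))) :=
    (tfae_universallyInjective _).out 0 1
  have hinjΩ := hiff.mp hUI Ω
  have h12 : g₁ = g₂ := hinjΩ (by
    show g₁ ≫ pullback.snd _ _ = g₂ ≫ pullback.snd _ _
    rw [pullback.lift_snd, pullback.lift_snd])
  have h3 : Spec.map (CommRingCat.ofHom φ₁) ≫ f.normalizationOpenCover.f U =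
      Spec.map (CommRingCat.ofHom φ₂) ≫ f.normalizationOpenCover.f U := by
    have e₁ : g₁ ≫ pullback.fst _ _ = _ := pullback.lift_fst _ _ _
    have e₂ : g₂ ≫ pullback.fst _ _ = _ := pullback.lift_fst _ _ _
    rw [← e₁, ← e₂, h12]
  have h4 := Spec.map_injective ((cancel_mono _).mp h3)
  exact congrArg CommRingCat.Hom.hom h4

end

section

variable {X S : Scheme.{u}} (f : X ⟶ S) [IsProper f] [IsDominant f] [IsIntegral X] [IsIntegral S]

include f in
theorem surjective_of_isProper_of_isDominant : Surjective f :=
  surjective_of_isDominant_of_isClosed_range f f.isClosedMap.isClosed_range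

set_option backward.isDefEq.respectTransparency false in
theorem universallyInjective_diagramMap
    (hS : ∀ s : S, CAlg2.IsGeomUnibranch (S.presheaf.stalk s))
    (hη : GeometricallyConnected (f.fiberToSpecResidueField (genericPoint S)))
    (U : S.affineOpens) :
    UniversallyInjective (Spec.map (f.normalizationDiagramMap.app (.op U.1))) := by
  letI alg : Algebra Γ(S, U.1) Γ(X, f ⁻¹ᵁ U.1) := (f.app U.1).hom.toAlgebra
  by_cases hne : (U.1 : Set S).Nonempty
  · haveI : Nonempty U.1 := ⟨⟨hne.some, hne.some_mem⟩⟩
    haveI hsurj : Surjective f := surjective_of_isProper_of_isDominant f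
    haveI : Nonempty (f ⁻¹ᵁ U.1 : X.Opens) := by
      obtain ⟨x, hx⟩ := hsurj.surj hne.some
      exact ⟨⟨x, by show f x ∈ U.1; rw [hx]; exact hne.some_mem⟩⟩
    haveI : IsDomain Γ(S, U.1) := inferInstance
    haveI : IsDomain Γ(X, f ⁻¹ᵁ U.1) := inferInstance
    haveI : IsSchemeTheoreticallyDominant f := IsSchemeTheoreticallyDominant.of_isDominant f
    have hinjB : Function.Injective (algebraMap Γ(S, U.1) Γ(X, f ⁻¹ᵁ U.1)) :=
      f.app_injective U.1
    have hinj : Function.Injective
        (algebraMap Γ(S, U.1) (integralClosure Γ(S, U.1) Γ(X, f ⁻¹ᵁ U.1))) := by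
      intro a b hab
      exact hinjB (congrArg Subtype.val hab)
    show UniversallyInjective (Spec.map (CommRingCat.ofHom (algebraMap Γ(S, U.1)
      (integralClosure Γ(S, U.1) Γ(X, f ⁻¹ᵁ U.1)))))
    refine universallyInjective_SpecMap Γ(S, U.1) (integralClosure Γ(S, U.1) Γ(X, f ⁻¹ᵁ U.1))
      hinj ?_ (hemb_of_generic f hη U)
    intro p hp
    let y : PrimeSpectrum Γ(S, U.1) := ⟨p, hp⟩
    have hy : U.2.fromSpec y ∈ U.1 := (U.2.isoSpec.inv _).2
    letI := TopCat.Presheaf.algebra_section_stalk S.presheaf ⟨U.2.fromSpec y, hy⟩
    haveI hloc : IsLocalization p.primeCompl (S.presheaf.stalk (U.2.fromSpec y)) :=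
      U.2.isLocalization_stalk' y hy
    let e := IsLocalization.algEquiv p.primeCompl (S.presheaf.stalk (U.2.fromSpec y))
      (Localization.AtPrime p)
    exact PINormSch.isGeomUnibranch_of_ringEquiv e.toRingEquiv (hS _)
  · have hbot : U.1 = ⊥ := by
      ext y
      simp only [TopologicalSpace.Opens.coe_bot, Set.mem_empty_iff_false, iff_false]
      exact fun hy => hne ⟨y, hy⟩
    haveI : Subsingleton Γ(S, U.1) := by rw [hbot]; infer_instance
    exact ((isUnivHomeo_iff _).mp (PINormSch.isUnivHomeo_of_subsingleton _ _)).2.1

/-- **Stein factorization over a geometrically unibranch base**: geometric connectedness of the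
generic fibre spreads to all fibres. -/
theorem main (hS : ∀ s : S, CAlg2.IsGeomUnibranch (S.presheaf.stalk s))
    (hη : GeometricallyConnected (f.fiberToSpecResidueField (genericPoint S))) :
    GeometricallyConnected f := by
  haveI : UniversallyInjective f.fromNormalization :=
    PINormSch.fromNormalization_of_forall_affine f @UniversallyInjective
      (universallyInjective_diagramMap f hS hη)
  haveI : Surjective f := surjective_of_isProper_of_isDominant f
  haveI : Surjective (f.toNormalization ≫ f.fromNormalization) := by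
    rw [f.toNormalization_fromNormalization]; infer_instance
  haveI : Surjective f.fromNormalization := Surjective.of_comp f.toNormalization _
  have := geometricallyConnected_comp_of_universallyInjective f.toNormalization f.fromNormalization
  rwa [f.toNormalization_fromNormalization] at this

end

end Groth.Agent.Lib.helper11.SteinUnibr
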