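import Mathlib
import Groth.Agent.Lib.helper11.SumIsog

/-!
# Sum of a separable isogeny and a non-étale homomorphism of elliptic curves: main theorem
-/

set_option autoImplicit false

universe u

open CategoryTheory AlgebraicGeometry IsLocalRing MonoidalCategory CartesianMonoidalCategory MonObj

namespace Groth.Agent.Lib.helper11.SumIsog

open Groth.Agent.Lib.Helper24 Groth.Agent.Lib.Helper24.Tangent Groth.Agent.Lib.helper11

variable {k : Type u} [Field k]

/-- the local ring at the unit of a smooth one-dimensional group scheme is a DVR -/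
theorem dvr_stalk (G : Over (Spec (CommRingCat.of k))) [GrpObj G] [Smooth G.hom]
    (hdim : topologicalKrullDim G.left = 1) :
    ∃ _ : IsDomain (G.left.presheaf.stalk (pt0 G η[G])),
      IsDiscreteValuationRing (G.left.presheaf.stalk (pt0 G η[G])) := by
  haveI : LocallyOfFiniteType G.hom := inferInstance
  have hreg := Groth.Agent.Lib.Helper5.RegSmooth.regular_stalk_of_smooth k G.left G.hom
    (pt0 G η[G])
  have hcl : IsClosed ({pt0 G η[G]} : Set G.left) :=
    RegUnit.isClosed_unit G (show ↥(Spec (CommRingCat.of k)) from closedPoint k)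
  have hd : ringKrullDim (G.left.presheaf.stalk (pt0 G η[G])) = 1 := by
    rw [Groth.Agent.S0354.result k G _ hcl, hdim]
  haveI hdom : IsDomain (G.left.presheaf.stalk (pt0 G η[G])) :=
    Groth.Agent.Lib.helper19.isDomain_of_isRegularLocalRing _
  have hnf : ¬ IsField (G.left.presheaf.stalk (pt0 G η[G])) := by
    intro hf
    have := ringKrullDim_eq_zero_of_isField hf
    rw [hd] at this
    exact one_ne_zero this
  have hfr : Module.finrank (ResidueField (G.left.presheaf.stalk (pt0 G η[G])))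
      (CotangentSpace (G.left.presheaf.stalk (pt0 G η[G]))) = 1 := by
    have := (IsRegularLocalRing.iff_finrank_cotangentSpace _).1 hreg
    rw [hd] at this
    exact_mod_cast this
  exact ⟨hdom, ((IsDiscreteValuationRing.TFAE _ hnf).out 0 5).2 hfr⟩

theorem main (E₁ E₂ : Over (Spec (CommRingCat.of k)))
    [GrpObj E₁] [IsProper E₁.hom] [Smooth E₁.hom] [IsIntegral E₁.left]
    (hE₁ : topologicalKrullDim E₁.left = 1)
    [GrpObj E₂] [IsProper E₂.hom] [Smooth E₂.hom] [IsIntegral E₂.left]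
    (hE₂ : topologicalKrullDim E₂.left = 1)
    (φ φ' : E₁ ⟶ E₂) [IsMonHom φ] [IsMonHom φ'] [Etale φ.left]
    (hφ' : ¬ Etale φ'.left) :
    IsFinite (φ * φ').left ∧ Surjective (φ * φ').left ∧ Etale (φ * φ').left := by
  haveI : LocallyOfFiniteType E₁.hom := inferInstance
  haveI : LocallyOfFiniteType E₂.hom := inferInstance
  haveI : GeometricallyReduced E₂.hom := RigidOver.geometricallyReduced_of_smooth E₂.hom
  haveI : GeometricallyConnected E₂.hom :=
    ConnProd.geometricallyConnected_of_section k E₂.left E₂.hom η[E₂].left (Over.w η[E₂])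
  haveI : IsCommMonObj E₂ := RigidOver.isCommMonObj E₂
  haveI : IsMonHom (φ * φ') := Tangent.isMonHom_mul φ φ'
  obtain ⟨hdom₁, hdvr₁⟩ := dvr_stalk E₁ hE₁
  obtain ⟨hdom₂, hdvr₂⟩ := dvr_stalk E₂ hE₂
  obtain ⟨a⟩ := nonempty_aug E₁
  obtain ⟨b⟩ := nonempty_aug E₂
  have hf : η[E₁] ≫ φ = η[E₂] := IsMonHom.one_hom φ
  have hf' : η[E₁] ≫ φ' = η[E₂] := IsMonHom.one_hom φ'
  have hf'' : η[E₁] ≫ (φ * φ') = η[E₂] := IsMonHom.one_hom (φ * φ')
  obtain ⟨g⟩ := nonempty_homGerm φ hf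
  obtain ⟨g'⟩ := nonempty_homGerm φ' hf'
  obtain ⟨g''⟩ := nonempty_homGerm (φ * φ') hf''
  have hma := mem_maximalIdeal_iff a.i.hom a.ρ.hom a.hρi'
  have hmb := mem_maximalIdeal_iff b.i.hom b.ρ.hom b.hρi'
  -- the germs are local homomorphisms
  have hloc : ∀ {f : E₁ ⟶ E₂} (_ : η[E₁] ≫ f = η[E₂]) (gm : HomGerm f), IsLocalHom gm.φ.hom := by
    intro f hf gm
    refine ⟨fun x hx => ?_⟩
    by_contra hnu
    have hxm : x ∈ maximalIdeal _ := (mem_maximalIdeal x).2 hnu
    have h1 : b.ρ.hom x = 0 := (hmb x).1 hxm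
    have h2 : a.ρ.hom (gm.φ.hom x) = b.ρ.hom x :=
      congrArg (fun q => q.hom x) (gm.comp_ρ hf a b)
    have h3 : gm.φ.hom x ∈ maximalIdeal _ := (hma _).2 (h2.trans h1)
    exact ((mem_maximalIdeal _).1 h3) hx
  haveI := hloc hf g
  haveI := hloc hf' g'
  haveI := hloc hf'' g''
  obtain ⟨ϖ, hϖ⟩ := IsDiscreteValuationRing.exists_irreducible
    (E₂.left.presheaf.stalk (pt0 E₂ η[E₂]))
  have hϖm : ϖ ∈ maximalIdeal (E₂.left.presheaf.stalk (pt0 E₂ η[E₂])) :=
    (mem_maximalIdeal ϖ).2 hϖ.not_isUnit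
  have hE : Etale (φ * φ').left := by
    by_cases hc : g'.φ.hom ϖ ∈ maximalIdeal (E₁.left.presheaf.stalk (pt0 E₁ η[E₁])) ^ 2
    · -- the germ of `φ'` vanishes on tangent vectors
      have hρ0 : ∀ {f : E₁ ⟶ E₂} (hf : η[E₁] ≫ f = η[E₂]) (gm : HomGerm f),
          a.ρ.hom (gm.φ.hom ϖ) = 0 := by
        intro f hf gm
        have h2 : a.ρ.hom (gm.φ.hom ϖ) = b.ρ.hom ϖ :=
          congrArg (fun q => q.hom ϖ) (gm.comp_ρ hf a b)
        rw [h2]
        exact (hmb ϖ).1 hϖm
      have hy : g''.φ.hom ϖ - g.φ.hom ϖ ∈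
          maximalIdeal (E₁.left.presheaf.stalk (pt0 E₁ η[E₁])) ^ 2 := by
        apply SumIsogAlg.mem_sq_of_tangent a.i.hom a.ρ.hom a.hρi'
        · rw [map_sub, hρ0 hf'' g'', hρ0 hf g, sub_zero]
        · intro θ hθ1 hθ2
          have h1 := snd_mul hf hf' g g' g'' a θ hθ1 hθ2 ϖ
          have h2 := SumIsogAlg.snd_eq_zero_of_mem_sq a.i.hom a.ρ.hom a.hρi' θ hθ1 _ hc
          rw [map_sub, TrivSqZeroExt.snd_sub, h1, h2, add_zero, sub_self]
      have hgϖ : g.φ.hom ϖ ∉ maximalIdeal (E₁.left.presheaf.stalk (pt0 E₁ η[E₁])) ^ 2 := by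
        intro hmem
        have hmap := map_maximalIdeal_of_etale φ hf g
        rw [hϖ.maximalIdeal_eq, Ideal.map_span, Set.image_singleton] at hmap
        obtain ⟨ϖ₁, hϖ₁⟩ := IsDiscreteValuationRing.exists_irreducible
          (E₁.left.presheaf.stalk (pt0 E₁ η[E₁]))
        apply SumIsogAlg.irreducible_notMem_sq hϖ₁
        have h1 : ϖ₁ ∈ maximalIdeal (E₁.left.presheaf.stalk (pt0 E₁ η[E₁])) :=
          (mem_maximalIdeal ϖ₁).2 hϖ₁.not_isUnit
        rw [← hmap] at h1
        obtain ⟨c, rfl⟩ := Ideal.mem_span_singleton.1 h1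
        exact Ideal.mul_mem_right _ _ hmem
      have hg''ϖ : g''.φ.hom ϖ ∉ maximalIdeal (E₁.left.presheaf.stalk (pt0 E₁ η[E₁])) ^ 2 := by
        intro hmem
        apply hgϖ
        have : g.φ.hom ϖ = g''.φ.hom ϖ - (g''.φ.hom ϖ - g.φ.hom ϖ) := by ring
        rw [this]
        exact Ideal.sub_mem _ hmem hy
      obtain ⟨hflat, hmap⟩ := SumIsogAlg.dvr_crit g''.φ.hom ϖ hϖm hg''ϖ
      exact etale_of_germ (φ * φ') g'' a b hflat hmap
    · exfalso
      obtain ⟨hflat, hmap⟩ := SumIsogAlg.dvr_crit g'.φ.hom ϖ hϖm hc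
      exact hφ' (etale_of_germ φ' g' a b hflat hmap)
  haveI := hE
  haveI : IsProper ((φ * φ').left ≫ E₂.hom) := by rw [Over.w (φ * φ')]; infer_instance
  haveI : IsProper (φ * φ').left := IsProper.of_comp (φ * φ').left E₂.hom
  haveI := MulEtale.locallyQuasiFinite_of_etale (φ * φ').left
  have hfin : IsFinite (φ * φ').left := IsFinite.of_isProper_of_locallyQuasiFinite (φ * φ').left
  refine ⟨hfin, ?_, hE⟩
  have hopen : IsOpen (Set.range (φ * φ').left.base) := (φ * φ').left.isOpenMap.isOpen_range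
  have hclosed : IsClosed (Set.range (φ * φ').left.base) :=
    (φ * φ').left.isClosedMap.isClosed_range
  have hne : (Set.range (φ * φ').left.base).Nonempty := ⟨_, ⟨pt0 E₁ η[E₁], rfl⟩⟩
  have huniv := IsClopen.eq_univ ⟨hclosed, hopen⟩ hne
  exact ⟨fun y => by
    have : y ∈ Set.range (φ * φ').left.base := huniv ▸ Set.mem_univ y
    exact this⟩

end Groth.Agent.Lib.helper11.SumIsog
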