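import Groth.Agent.Lib.helper11.TFunArtinian2
import Groth.Agent.Lib.helper11.ArtinianFlat

/-!
# Right exactness of `T_p` over an Artinian local ring, without finiteness (helper11)
-/

set_option autoImplicit false
universe u

namespace Groth.Agent.Lib.helper11.TFunArtinian

open CategoryTheory CategoryTheory.Limits MonoidalCategory CohIII IsLocalRing TensorProduct
open Groth.Agent.Lib.helper11 Groth.Agent.Lib.helper11.FinLenInd

attribute [-instance] CategoryTheory.ShortComplex.hasHomology_of_preserves

section LinAlg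

variable {R : Type*} [CommRing R] [IsLocalRing R]
  {X₁ X₂ X₃ : Type*} [AddCommGroup X₁] [AddCommGroup X₂] [AddCommGroup X₃]
  [Module R X₁] [Module R X₂] [Module R X₃]

/-- the first half of `TFunLocal.free_coker_of_lift`, which needs no finiteness. -/
theorem rTensor_injective_of_lift (f : X₁ →ₗ[R] X₂) (g : X₂ →ₗ[R] X₃) (hgf : g ∘ₗ f = 0)
    (H : ∀ x₂ : X₂ ⊗[R] ResidueField R, g.rTensor (ResidueField R) x₂ = 0 →
      ∃ x₁ : X₂ ⊗[R] R, g.rTensor R x₁ = 0 ∧
        ∃ y : X₁ ⊗[R] ResidueField R,
          (Algebra.linearMap R (ResidueField R)).lTensor X₂ x₁ =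
            x₂ + f.rTensor (ResidueField R) y) :
    Function.Injective (((LinearMap.ker g).liftQ g le_rfl).rTensor (ResidueField R)) := by
  set Z := LinearMap.ker g with hZ
  have star : ∀ x₂ : X₂ ⊗[R] ResidueField R, g.rTensor (ResidueField R) x₂ = 0 →
      x₂ ∈ LinearMap.range (Z.subtype.rTensor (ResidueField R)) := by
    intro x₂ hx₂
    obtain ⟨x₁, hx₁, y, hy⟩ := H x₂ hx₂
    let z : X₂ := TensorProduct.rid R X₂ x₁
    have hx₁z : x₁ = z ⊗ₜ[R] (1 : R) := by
      rw [← TensorProduct.rid_symm_apply, LinearEquiv.symm_apply_apply]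
    have hz : g z = 0 := by
      have := congrArg (TensorProduct.rid R X₃) hx₁
      rw [hx₁z, LinearMap.rTensor_tmul, TensorProduct.rid_tmul, one_smul, map_zero] at this
      exact this
    let f' : X₁ →ₗ[R] Z := f.codRestrict Z (fun x => by
      rw [hZ, LinearMap.mem_ker]
      simpa using LinearMap.congr_fun hgf x)
    have hf' : Z.subtype ∘ₗ f' = f := rfl
    refine ⟨(⟨z, hz⟩ : Z) ⊗ₜ[R] (1 : ResidueField R) - f'.rTensor (ResidueField R) y, ?_⟩
    rw [map_sub, LinearMap.rTensor_tmul, ← LinearMap.comp_apply, ← LinearMap.rTensor_comp, hf']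
    rw [hx₁z, LinearMap.lTensor_tmul] at hy
    simp only [Algebra.linearMap_apply, map_one] at hy
    simp only [Submodule.subtype_apply]
    rw [hy]
    abel
  have hf₀q : (Z.liftQ g le_rfl) ∘ₗ Z.mkQ = g := Submodule.liftQ_mkQ _ _ _
  rw [injective_iff_map_eq_zero]
  intro w hw
  obtain ⟨x₂, rfl⟩ := LinearMap.rTensor_surjective (ResidueField R) (Submodule.mkQ_surjective Z) w
  have h1 : g.rTensor (ResidueField R) x₂ = 0 := by
    rw [← hf₀q, LinearMap.rTensor_comp, LinearMap.comp_apply]
    exact hw
  obtain ⟨u, rfl⟩ := star x₂ h1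
  rw [← LinearMap.comp_apply, ← LinearMap.rTensor_comp]
  have : Z.mkQ ∘ₗ Z.subtype = 0 := by
    ext x
    simp
  rw [this, LinearMap.rTensor_zero, LinearMap.zero_apply]

end LinAlg

variable {A : Type u} [CommRing A] [IsLocalRing A] {ι : Type} {c : ComplexShape ι}
variable (P : HomologicalComplex (ModuleCat.{u} A) c)

theorem flat_coker_of_surjective [IsArtinianRing A] (p : ι) [Module.Flat A (P.X (c.next p))]
    (h : Function.Surjective ((TFun P p).map (TFunLocal.resMap A)).hom) :
    Module.Flat A (P.X (c.next p) ⧸ LinearMap.range (P.d p (c.next p)).hom) := by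
  have hinj := rTensor_injective_of_lift (P.d (c.prev p) p).hom (P.d p (c.next p)).hom
    (by rw [← ModuleCat.hom_comp, P.d_comp_d]; rfl)
    (fun x₂ hx₂ => TFunLocal.exists_lift_of_surjective_homologyMap
      ((HomologicalComplex.shortComplexFunctor _ c p).map (tensorMap P (TFunLocal.resMap A)))
      h x₂ hx₂)
  have := ArtinianFlat.flat_coker _ hinj
  rwa [Submodule.range_liftQ] at this

theorem flat_opcycles_of_surjective [IsArtinianRing A] (p j : ι) (hpj : c.Rel p j)
    [Module.Flat A (P.X j)]
    (h : Function.Surjective ((TFun P p).map (TFunLocal.resMap A)).hom) :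
    Module.Flat A (P.opcycles j) := by
  obtain rfl := c.next_eq' hpj
  have hflat := flat_coker_of_surjective P p h
  let e : P.opcycles (c.next p) ≅
      ModuleCat.of A (P.X (c.next p) ⧸ LinearMap.range (P.d p (c.next p)).hom) :=
    IsColimit.coconePointUniqueUpToIso (P.opcyclesIsCokernel p (c.next p) (c.prev_eq' hpj))
      (ModuleCat.cokernelIsColimit (P.d p (c.next p)))
  exact Module.Flat.of_linearEquiv e.toLinearEquiv

/-- **Key lemma, Artinian version**: over an Artinian local ring, for a complex of flat modules,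
if `T_p(A) → T_p(k)` is surjective then `T_p` is right exact. -/
theorem preservesEpi_of_surjective_artinian [IsArtinianRing A]
    (hP : ∀ i, Module.Flat A (P.X i)) (p j : ι) (hpj : c.Rel p j)
    (h : Function.Surjective ((TFun P p).map (TFunLocal.resMap A)).hom) :
    (TFun P p).PreservesEpimorphisms := by
  rw [TFunBasic.preservesEpi_iff_preservesMono P hP p j hpj,
    TFunOpcycles.preservesMono_iff_flat_opcycles P j hP]
  have := hP j
  exact flat_opcycles_of_surjective P p j hpj h

theorem preservesEpi_iff_surjective_artinian [IsArtinianRing A]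
    (hP : ∀ i, Module.Flat A (P.X i)) (p j : ι) (hpj : c.Rel p j) :
    (TFun P p).PreservesEpimorphisms ↔
      Function.Surjective ((TFun P p).map (TFunLocal.resMap A)).hom := by
  constructor
  · intro he
    have hepi : Epi (TFunLocal.resMap A) :=
      (ModuleCat.epi_iff_surjective _).mpr IsLocalRing.residue_surjective
    rw [← ModuleCat.epi_iff_surjective]
    exact inferInstanceAs (Epi ((TFun P p).map (TFunLocal.resMap A)))
  · exact preservesEpi_of_surjective_artinian P hP p j hpj

end Groth.Agent.Lib.helper11.TFunArtinian
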