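import Groth.Agent.Lib.helper11.TFunArtinian3

/-!
# Length criteria over an Artinian local ring, without finiteness (helper11)
-/

set_option autoImplicit false
universe u

namespace Groth.Agent.Lib.helper11.TFunArtinian

open CategoryTheory CategoryTheory.Limits MonoidalCategory CohIII IsLocalRing TensorProduct
open Groth.Agent.Lib.helper11 Groth.Agent.Lib.helper11.FinLenInd

attribute [-instance] CategoryTheory.ShortComplex.hasHomology_of_preserves

variable {A : Type u} [CommRing A] [IsLocalRing A] {ι : Type} {c : ComplexShape ι}
variable (P : HomologicalComplex (ModuleCat.{u} A) c)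

/-- S12119 for a general complex shape. -/
theorem surjective_and_flat_of_length_eq [IsArtinianRing A]
    (hP : ∀ i, Module.Flat A (P.X i)) (p j : ι) (hpj : c.Rel p j)
    (hd : Module.length A ((TFun P p).obj (ModuleCat.of A (ResidueField A))) ≠ ⊤)
    (hj : Module.length A ((TFun P p).obj (ModuleCat.of A A)) =
      Module.length A ((TFun P p).obj (ModuleCat.of A (ResidueField A))) * Module.length A A) :
    Function.Surjective ((TFun P p).map (TFunLocal.resMap A)).hom ∧
      Module.Flat A ((TFun P p).obj (ModuleCat.of A A)) := by
  have hT : ∀ S : ShortComplex (ModuleCat.{u} A), S.ShortExact → (S.map (TFun P p)).Exact :=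
    fun S hS => TFunBasic.TFun_halfExact P hP S hS p
  have hA : Module.length A (ModuleCat.of A A) ≠ ⊤ := length_ne_top_of_finite A
  have hse := shortExact_of_length_eq (TFun P p) hT hd (ModuleCat.of A A) hA hj
  have hsurj := surjective_resMap_of_shortExact (TFun P p) (hse (maximalIdeal A))
  have he : (TFun P p).PreservesEpimorphisms :=
    preservesEpi_of_surjective_artinian P hP p j hpj hsurj
  refine ⟨hsurj, ?_⟩
  rw [Module.Flat.iff_lTensor_injective']
  intro I
  let e := TFunEW.isoTensorLeft P p hP
  have hmono : Mono ((TFun P p).map (ModuleCat.ofHom I.subtype)) := (hse I).mono_f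
  have hmono' : Mono ((tensorLeft ((TFun P p).obj (ModuleCat.of A A))).map
      (ModuleCat.ofHom I.subtype)) := mono_map_of_iso e _ hmono
  exact (ModuleCat.mono_iff_injective _).mp hmono'

/-- S4497, first part, for a general complex shape. -/
theorem exact_iff_surjective_artinian [IsArtinianRing A]
    (hP : ∀ i, Module.Flat A (P.X i)) (p q j : ι) (hqp : c.Rel q p) (hpj : c.Rel p j) :
    ((TFun P p).PreservesMonomorphisms ∧ (TFun P p).PreservesEpimorphisms) ↔
      (Function.Surjective ((TFun P p).map (TFunLocal.resMap A)).hom ∧
        Function.Surjective ((TFun P q).map (TFunLocal.resMap A)).hom) := by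
  rw [← preservesEpi_iff_surjective_artinian P hP p j hpj,
    ← preservesEpi_iff_surjective_artinian P hP q p hqp,
    TFunBasic.preservesEpi_iff_preservesMono P hP q p hqp]
  exact and_comm

/-- S4497, second part, for a general complex shape. -/
theorem exact_iff_length_formula_artinian [IsArtinianRing A]
    (hP : ∀ i, Module.Flat A (P.X i)) (p j : ι) (hpj : c.Rel p j)
    (hd : Module.length A ((TFun P p).obj (ModuleCat.of A (ResidueField A))) ≠ ⊤) :
    ((TFun P p).PreservesMonomorphisms ∧ (TFun P p).PreservesEpimorphisms) ↔
      ∀ M : ModuleCat.{u} A, Module.length A M ≠ ⊤ →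
        Module.length A ((TFun P p).obj M) =
          Module.length A ((TFun P p).obj (ModuleCat.of A (ResidueField A))) *
            Module.length A M := by
  have hT : ∀ S : ShortComplex (ModuleCat.{u} A), S.ShortExact → (S.map (TFun P p)).Exact :=
    fun S hS => TFunBasic.TFun_halfExact P hP S hS p
  have hA : Module.length A (ModuleCat.of A A) ≠ ⊤ := length_ne_top_of_finite A
  constructor
  · rintro ⟨hm, he⟩
    refine length_eq_of_exact (TFun P p) hT hd (fun S hS => ?_)
    have := hS.mono_f
    have := hS.epi_g
    exact { exact := hT S hS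
            mono_f := inferInstanceAs (Mono ((TFun P p).map S.f))
            epi_g := inferInstanceAs (Epi ((TFun P p).map S.g)) }
  · intro h
    obtain ⟨hsurj, hflat⟩ :=
      surjective_and_flat_of_length_eq P hP p j hpj hd (h (ModuleCat.of A A) hA)
    have he : (TFun P p).PreservesEpimorphisms :=
      preservesEpi_of_surjective_artinian P hP p j hpj hsurj
    refine ⟨?_, he⟩
    rw [TFunExact.preservesMono_iff_flat P p hP]
    exact hflat

end Groth.Agent.Lib.helper11.TFunArtinian
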