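import Groth.Agent.Lib.helper11.TFunBasic
import Groth.Agent.Lib.helper11.DRankFlat3
import Groth.Agent.Lib.helper11.ConeBasic

/-!
# Finiteness of `T_p(M)` for finite `M` (helper11)

For a bounded below chain complex `P` of flat modules over a Noetherian ring with all `T_n(A)`
finite, `T_p(M)` is finite for every finite module `M`.
-/

set_option autoImplicit false
universe u

namespace Groth.Agent.Lib.helper11.TFunFinite

open CategoryTheory CategoryTheory.Limits CohIII
open Groth.Agent.Lib.helper11

attribute [-instance] CategoryTheory.ShortComplex.hasHomology_of_preserves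

variable {A : Type u} [CommRing A] [IsNoetherianRing A] {ι : Type} {c : ComplexShape ι}
variable (P : HomologicalComplex (ModuleCat.{u} A) c) (hP : ∀ i, Module.Flat A (P.X i))

include hP in
lemma finite_mid (p : ι) (S : ShortComplex (ModuleCat.{u} A)) (hS : S.ShortExact)
    (h1 : Module.Finite A (T P p S.X₁)) (h3 : Module.Finite A (T P p S.X₃)) :
    Module.Finite A (T P p S.X₂) :=
  ConeBasic.finite_of_exact _ _ _ (TFunBasic.TFun_halfExact P hP S hS p) h1 h3

include hP in
lemma finite_right (p q : ι) (hpq : c.Rel p q) (S : ShortComplex (ModuleCat.{u} A))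
    (hS : S.ShortExact) (h2 : Module.Finite A (T P p S.X₂))
    (h1 : Module.Finite A (T P q S.X₁)) : Module.Finite A (T P p S.X₃) :=
  ConeBasic.finite_of_exact _ _ _ (TFunBasic.exact₃ P hP S hS p q hpq) h2 h1

omit [IsNoetherianRing A] in
lemma finite_of_iso (p : ι) {M N : ModuleCat.{u} A} (e : M ≅ N)
    (h : Module.Finite A (T P p M)) : Module.Finite A (T P p N) :=
  haveI : Module.Finite A ((TFun P p).obj M) := h
  Module.Finite.equiv ((TFun P p).mapIso e).toLinearEquiv

omit [IsNoetherianRing A] in
lemma finite_of_subsingleton (p : ι) (M : ModuleCat.{u} A) [Subsingleton M] :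
    Module.Finite A (T P p M) := by
  have hz : IsZero M := ModuleCat.isZero_of_subsingleton M
  have hz' : IsZero ((TFun P p).obj M) := Functor.map_isZero (TFun P p) hz
  have : Subsingleton ((TFun P p).obj M) := ModuleCat.subsingleton_of_isZero hz'
  exact inferInstanceAs (Module.Finite A ((TFun P p).obj M))

/-- short exact sequence in `ModuleCat` from linear maps. -/
lemma shortExact_of {K F N : Type u} [AddCommGroup K] [Module A K] [AddCommGroup F] [Module A F]
    [AddCommGroup N] [Module A N] (i : K →ₗ[A] F) (q : F →ₗ[A] N) (hi : Function.Injective i)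
    (hex : Function.Exact i q) (hq : Function.Surjective q) :
    (ShortComplex.mk (ModuleCat.ofHom i) (ModuleCat.ofHom q)
      (by ext x; exact hex.apply_apply_eq_zero x)).ShortExact :=
  ModuleCat.shortComplex_shortExact _ hex hi hq

include hP in
/-- `T_p` of a cyclic module is finite. -/
lemma finite_of_surjective_from_ring (p q : ι) (hpq : c.Rel p q)
    (hq : ∀ M : ModuleCat.{u} A, Module.Finite A M → Module.Finite A (T P q M))
    (hA : Module.Finite A (T P p (ModuleCat.of A A)))
    (K : Type u) [AddCommGroup K] [Module A K] (f : A →ₗ[A] K) (hf : Function.Surjective f) :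
    Module.Finite A (T P p (ModuleCat.of A K)) := by
  have hS := shortExact_of (LinearMap.ker f).subtype f (Submodule.injective_subtype _)
    (LinearMap.exact_subtype_ker_map f) hf
  have hk : Module.Finite A (ModuleCat.of A (LinearMap.ker f)) :=
    inferInstanceAs (Module.Finite A (LinearMap.ker f))
  have h1 := hq (ModuleCat.of A (LinearMap.ker f)) hk
  exact finite_right P hP p q hpq
    (ShortComplex.mk (ModuleCat.ofHom (LinearMap.ker f).subtype) (ModuleCat.ofHom f)
      (by ext x; exact (LinearMap.exact_subtype_ker_map f).apply_apply_eq_zero x)) hS hA h1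

include hP in
/-- the inductive step. -/
theorem step (p q : ι) (hpq : c.Rel p q)
    (hq : ∀ M : ModuleCat.{u} A, Module.Finite A M → Module.Finite A (T P q M))
    (hA : Module.Finite A (T P p (ModuleCat.of A A)))
    (M : ModuleCat.{u} A) (hM : Module.Finite A M) : Module.Finite A (T P p M) := by
  have key : ∀ N : Submodule A M, Module.Finite A (T P p (ModuleCat.of A (M ⧸ N))) := by
    intro N
    induction N using IsNoetherian.induction with
    | hgt N ih =>
      by_cases hN : N = ⊤
      · haveI : Subsingleton (M ⧸ N) := by
          rw [hN]; infer_instance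
        exact finite_of_subsingleton P p _
      · obtain ⟨x, -, hx⟩ := SetLike.exists_of_lt (lt_top_iff_ne_top.mpr hN)
        set J := N ⊔ Submodule.span A {x} with hJ
        have hNJ : N ≤ J := le_sup_left
        have hlt : N < J := by
          refine lt_of_le_of_ne hNJ (fun h => hx ?_)
          rw [h]
          exact le_sup_right (a := N) (Submodule.mem_span_singleton_self x)
        have ihJ := ih J hlt
        set π := Submodule.factor hNJ with hπ
        have hπs : Function.Surjective π := Submodule.factor_surjective hNJ
        have hS := shortExact_of (LinearMap.ker π).subtype π (Submodule.injective_subtype _)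
          (LinearMap.exact_subtype_ker_map π) hπs
        refine finite_mid P hP p
          (ShortComplex.mk (ModuleCat.ofHom (LinearMap.ker π).subtype) (ModuleCat.ofHom π)
            (by ext x; exact (LinearMap.exact_subtype_ker_map π).apply_apply_eq_zero x))
          hS ?_ ihJ
        -- the kernel is cyclic
        have hxk : N.mkQ x ∈ LinearMap.ker π := by
          rw [LinearMap.mem_ker, hπ, Submodule.factor_mk]
          exact (Submodule.Quotient.mk_eq_zero _).mpr
            (le_sup_right (a := N) (Submodule.mem_span_singleton_self x))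
        let f : A →ₗ[A] LinearMap.ker π := LinearMap.toSpanSingleton A _ ⟨N.mkQ x, hxk⟩
        refine finite_of_surjective_from_ring P hP p q hpq hq hA _ f ?_
        rintro ⟨y, hy⟩
        obtain ⟨m, rfl⟩ := Submodule.mkQ_surjective N y
        rw [LinearMap.mem_ker, hπ, Submodule.factor_mk] at hy
        have hm : m ∈ J := (Submodule.Quotient.mk_eq_zero _).mp hy
        rw [hJ, Submodule.mem_sup] at hm
        obtain ⟨n, hn, z, hz, rfl⟩ := hm
        obtain ⟨a, rfl⟩ := Submodule.mem_span_singleton.mp hz
        refine ⟨a, Subtype.ext ?_⟩
        change a • N.mkQ x = N.mkQ (n + a • x)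
        rw [map_add, map_smul]
        have : N.mkQ n = 0 := (Submodule.Quotient.mk_eq_zero _).mpr hn
        rw [this, zero_add]
  have h0 := key ⊥
  exact finite_of_iso P p (Submodule.quotEquivOfEqBot ⊥ rfl).toModuleIso h0

omit P in
/-- finiteness of all `T_p(M)`, `M` finite, for bounded below chain complexes. -/
theorem finite_T (P : ChainComplex (ModuleCat.{u} A) ℤ) (hP : ∀ i, Module.Flat A (P.X i))
    (i₀ : ℤ) (hb : ∀ i < i₀, IsZero (P.X i))
    (hfg : ∀ n : ℤ, Module.Finite A (T P n (ModuleCat.of A A)))
    (p : ℤ) (M : ModuleCat.{u} A) (hM : Module.Finite A M) : Module.Finite A (T P p M) := by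
  have key : ∀ (k : ℕ) (n : ℤ), n < i₀ + k →
      ∀ M : ModuleCat.{u} A, Module.Finite A M → Module.Finite A (T P n M) := by
    intro k
    induction k with
    | zero =>
      intro n hn M _
      have hz := DRankFlat.isZero_TFun_obj P n (hb n (by simpa using hn)) M
      have : Subsingleton ((TFun P n).obj M) := ModuleCat.subsingleton_of_isZero hz
      exact inferInstanceAs (Module.Finite A ((TFun P n).obj M))
    | succ k ih =>
      intro n hn M hM
      by_cases h : n < i₀ + k
      · exact ih n h M hM
      · have hn' : n - 1 < i₀ + k := by push_cast at hn; omega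
        have hrel : (ComplexShape.down ℤ).Rel n (n - 1) := by
          change n - 1 + 1 = n
          ring
        exact step P hP n (n - 1) hrel (ih (n - 1) hn') (hfg n) M hM
  have h1 : p < i₀ + ((p - i₀ + 1).toNat : ℤ) := by
    by_cases h : 0 ≤ p - i₀ + 1
    · rw [Int.toNat_of_nonneg h]; omega
    · have : (p - i₀ + 1).toNat = 0 := by omega
      rw [this]; push_cast; omega
  exact key _ p h1 M hM

end Groth.Agent.Lib.helper11.TFunFinite
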