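import Groth.Agent.Lib.helper11.TFunArtinian
import Groth.Agent.Lib.helper11.TFunAdic3
import Groth.Agent.Lib.helper11.TFunLocal
import Groth.Agent.Lib.Helper26.MatlisComplete

/-!
# helper11 — TFunLenFormula: cohomological flatness in degree `p` vs the length formula on the
quotients `A/m^(n+1)` (EGA III 7.8.4 (b) ⇔ (c), algebraic form), over a Noetherian local ring.
-/

set_option autoImplicit false
set_option linter.unusedSectionVars false

open CategoryTheory CategoryTheory.Limits MonoidalCategory CohIII TensorProduct IsLocalRing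

namespace Groth.Agent.Lib.helper11.TFunLenFormula

universe u

open Groth.Agent.Lib.helper11 TFunAdic2 TFunAdic3

section ML

variable {A : Type u} [CommRing A] [IsNoetherianRing A] {ι : Type} {c : ComplexShape ι}
variable (P : HomologicalComplex (ModuleCat.{u} A) c) (i : ι) (I : Ideal A) (M : ModuleCat.{u} A)

/-- Mittag-Leffler/Artin–Rees: classes modulo `I^(n+c'+1)` become liftable to `T_i(M)` modulo `I^(n+1)`. -/
lemma exists_lift_tt [Module.Finite A (P.X (c.next i))] [Module.Finite A M] :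
    ∃ c' : ℕ, ∀ (n : ℕ) (y' : T P i (Mq I M (n + c'))), ∃ x : T P i M,
      φ P i I M n x = ((TFun P i).map (tt I M (Nat.le_add_right n c'))).hom y' := by
  have : Module.Finite A ((tensorObj P M).sc i).X₃ :=
    inferInstanceAs (Module.Finite A (P.X (c.next i) ⊗[A] M))
  obtain ⟨c', hc'⟩ := TFunAdic1.exists_lift I ((tensorObj P M).sc i)
  refine ⟨c', fun n y' => ?_⟩
  have hle : n ≤ n + c' := Nat.le_add_right n c'
  obtain ⟨x, hx⟩ := hc' n _ _ (scMap P i (q I M (n + c'))) (scMap P i (q I M n))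
    (scMap P i (tt I M hle)) (by rw [scMap_comp, q_tt])
    (surjective_lTensor_q I M (P.X i) (n + c'))
    (ker_lTensor_q_le I M (P.X (c.next i)) (n + c'))
    (le_ker_lTensor_q I M (P.X i) n) y'
  exact ⟨x, hx⟩

/-- If all transition maps `T_i(M/I^(N+1)M) → T_i(M/IM)` with `N ≥ n₀` are surjective, then so is
`T_i(M) → T_i(M/IM)`. -/
theorem surjective_φ_zero [Module.Finite A (P.X (c.next i))] [Module.Finite A M] (n₀ : ℕ)
    (h : ∀ N : ℕ, n₀ ≤ N →
      Function.Surjective ((TFun P i).map (tt I M (Nat.zero_le N))).hom) :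
    Function.Surjective (φ P i I M 0) := by
  obtain ⟨c', hc'⟩ := exists_lift_tt P i I M
  intro y
  obtain ⟨z, hz⟩ := h (0 + c' + n₀) (Nat.le_add_left _ _) y
  obtain ⟨x, hx⟩ := hc' 0 (((TFun P i).map (tt I M (Nat.le_add_right (0 + c') n₀))).hom z)
  refine ⟨x, ?_⟩
  rw [hx, ← hz, ← LinearMap.comp_apply, ← ModuleCat.hom_comp, ← Functor.map_comp, tt_tt]

end ML

section Local

open Groth.Agent.Lib.helper11.FinLenInd

variable {A : Type u} [CommRing A] [IsNoetherianRing A] [IsLocalRing A] {ι : Type}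
  {c : ComplexShape ι}
variable (P : HomologicalComplex (ModuleCat.{u} A) c)

local notation "𝔪" => maximalIdeal A
local notation "AA" => ModuleCat.of A A
local notation "kk" => ModuleCat.of A (ResidueField A)

lemma smul_top_eq (n : ℕ) : (𝔪 ^ (n + 1) • (⊤ : Submodule A A)) = 𝔪 ^ (n + 1) := by
  rw [smul_eq_mul, Ideal.mul_top]

/-- `A/(m^(n+1)·A) ≅ A/m^(n+1)` -/
noncomputable def mqIso (n : ℕ) : Mq 𝔪 AA n ≅ ModuleCat.of A (A ⧸ 𝔪 ^ (n + 1)) :=
  (Submodule.quotEquivOfEq _ _ (smul_top_eq n)).toModuleIso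

/-- `A/(m^(0+1)·A) ≅ k` -/
noncomputable def mqZeroIso : Mq 𝔪 AA 0 ≅ kk :=
  (Submodule.quotEquivOfEq (𝔪 ^ (0 + 1) • (⊤ : Submodule A A)) 𝔪
    (by rw [smul_top_eq, zero_add, pow_one])).toModuleIso

lemma q_mqZeroIso : q 𝔪 AA 0 ≫ (mqZeroIso (A := A)).hom = TFunLocal.resMap A := by
  ext
  rfl

lemma length_mq_ne_top (n : ℕ) : Module.length A (Mq 𝔪 AA n) ≠ ⊤ := by
  rw [(mqIso (A := A) n).toLinearEquiv.length_eq, Module.length_ne_top_iff]
  exact Groth.Agent.Lib.Helper26.Matlis.isFiniteLength_quotient_pow (n + 1)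

/-- a functor which is short exact on all `0 → N → M → M/N → 0` sends every surjection out of `M`
to an epimorphism. -/
lemma epi_map_of_subSC (T : ModuleCat.{u} A ⥤ ModuleCat.{u} A) (M : ModuleCat.{u} A)
    (h : ∀ N : Submodule A M,
      Epi (T.map (ModuleCat.ofHom N.mkQ : M ⟶ ModuleCat.of A (M ⧸ N))))
    {Q : ModuleCat.{u} A} (g : M ⟶ Q) (hg : Function.Surjective g.hom) : Epi (T.map g) := by
  let e : ModuleCat.of A (M ⧸ LinearMap.ker g.hom) ≅ Q :=
    (LinearMap.quotKerEquivOfSurjective g.hom hg).toModuleIso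
  have hfac : (ModuleCat.ofHom (LinearMap.ker g.hom).mkQ :
      M ⟶ ModuleCat.of A (M ⧸ LinearMap.ker g.hom)) ≫ e.hom = g := by
    ext x
    rfl
  have := h (LinearMap.ker g.hom)
  rw [← hfac, Functor.map_comp]
  infer_instance

variable (hP : ∀ i, Module.Finite A (P.X i) ∧ Module.Flat A (P.X i))

include hP in
/-- If `T_p(A/m^(N+1)) → T_p(Q)` is surjective for all `N ≥ n₀` and all quotients `Q`, then `T_p` is right exact. -/
theorem preservesEpi_of_epi_on_quotients (p j : ι) (hpj : c.Rel p j) (n₀ : ℕ)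
    (h : ∀ N : ℕ, n₀ ≤ N → ∀ {Q : ModuleCat.{u} A} (g : Mq 𝔪 AA N ⟶ Q),
      Function.Surjective g.hom → Epi ((TFun P p).map g)) :
    (TFun P p).PreservesEpimorphisms := by
  have := (hP (c.next p)).1
  have hφ : Function.Surjective (φ P p 𝔪 AA 0) := by
    refine surjective_φ_zero P p 𝔪 AA n₀ (fun N hN => ?_)
    rw [← ModuleCat.epi_iff_surjective]
    refine h N hN _ ?_
    intro y
    obtain ⟨x, rfl⟩ := Submodule.Quotient.mk_surjective _ y
    exact ⟨Submodule.Quotient.mk x, Submodule.factor_mk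
      (Submodule.smul_mono_left (Ideal.pow_le_pow_right (Nat.succ_le_succ (Nat.zero_le N)))) x⟩
  refine TFunLocal.preservesEpi_of_surjective P hP p j hpj ?_
  rw [← q_mqZeroIso, Functor.map_comp, ModuleCat.hom_comp]
  exact (ModuleCat.epi_iff_surjective _).mp (inferInstance : Epi ((TFun P p).map mqZeroIso.hom))
    |>.comp hφ

include hP in
lemma length_T_kk_ne_top (p : ι) : Module.length A ((TFun P p).obj kk) ≠ ⊤ := by
  have := (hP p).1
  have hfin : Module.Finite A ((TFun P p).obj kk) := TFunExact.finite_TFun_obj P p kk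
  have hN : IsNoetherian A ((TFun P p).obj kk) := isNoetherian_of_isNoetherianRing_of_finite A _
  rw [Module.length_ne_top_iff, isFiniteLength_iff_isNoetherian_isArtinian]
  refine ⟨hN, Groth.Agent.Lib.Helper26.Matlis.isArtinian_of_isPowerTorsion_of_isNoetherian _ ?_⟩
  intro z
  refine ⟨1, fun a ha => ?_⟩
  rw [pow_one] at ha
  have h0 : a • 𝟙 kk = 0 := by
    ext x
    change a • (x : ResidueField A) = 0
    obtain ⟨r, rfl⟩ := IsLocalRing.residue_surjective x
    rw [Algebra.smul_def]
    change IsLocalRing.residue A a * IsLocalRing.residue A r = 0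
    rw [(IsLocalRing.residue_eq_zero_iff a).mpr ha, zero_mul]
  have h1 : (TFun P p).map (a • 𝟙 kk) = a • 𝟙 _ := by
    rw [Functor.map_smul, CategoryTheory.Functor.map_id]
  rw [h0, Functor.map_zero] at h1
  have h2 := congrArg (fun f => f.hom z) h1
  exact h2.symm

include hP in
/-- (⇒): an exact `T_p` satisfies the length formula on all modules of finite length. -/
theorem length_formula_of_exact (p : ι)
    (hm : (TFun P p).PreservesMonomorphisms) (he : (TFun P p).PreservesEpimorphisms)
    (M : ModuleCat.{u} A) (hM : Module.length A M ≠ ⊤) :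
    Module.length A ((TFun P p).obj M) =
      Module.length A ((TFun P p).obj kk) * Module.length A M := by
  have hflat : ∀ i, Module.Flat A (P.X i) := fun i => (hP i).2
  refine TFunArtinian.length_eq_of_exact (TFun P p)
    (fun S hS => TFunBasic.TFun_halfExact P hflat S hS p) (length_T_kk_ne_top P hP p)
    (fun S hS => ?_) M hM
  have := hS.mono_f
  have := hS.epi_g
  exact { exact := TFunBasic.TFun_halfExact P hflat S hS p
          mono_f := inferInstanceAs (Mono ((TFun P p).map S.f))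
          epi_g := inferInstanceAs (Epi ((TFun P p).map S.g)) }

include hP in
/-- (⇐): the length formula on `A/m^(n+1)` for `n ≥ n₀` forces `T_p` to be exact. -/
theorem exact_of_length_formula (i p j : ι) (hip : c.Rel i p) (hpj : c.Rel p j) (n₀ : ℕ)
    (h : ∀ n, n₀ ≤ n → Module.length A ((TFun P p).obj (Mq 𝔪 AA n)) =
      Module.length A ((TFun P p).obj kk) * Module.length A (Mq 𝔪 AA n)) :
    (TFun P p).PreservesMonomorphisms ∧ (TFun P p).PreservesEpimorphisms := by
  have hflat : ∀ i, Module.Flat A (P.X i) := fun i => (hP i).2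
  have hT : ∀ S : ShortComplex (ModuleCat.{u} A), S.ShortExact → (S.map (TFun P p)).Exact :=
    fun S hS => TFunBasic.TFun_halfExact P hflat S hS p
  have hd := length_T_kk_ne_top P hP p
  have hse : ∀ N, n₀ ≤ N → ∀ K : Submodule A (Mq 𝔪 AA N),
      ((subSC (Mq 𝔪 AA N) K).map (TFun P p)).ShortExact := fun N hN K =>
    TFunArtinian.shortExact_of_length_eq (TFun P p) hT hd _ (length_mq_ne_top N) (h N hN) K
  have hepi_p : (TFun P p).PreservesEpimorphisms := by
    refine preservesEpi_of_epi_on_quotients P hP p j hpj n₀ (fun N hN Q g hg => ?_)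
    exact epi_map_of_subSC (TFun P p) _ (fun K => (hse N hN K).epi_g) g hg
  have hepi_i : (TFun P i).PreservesEpimorphisms := by
    refine preservesEpi_of_epi_on_quotients P hP i p hip n₀ (fun N hN Q g hg => ?_)
    refine epi_map_of_subSC (TFun P i) _ (fun K => ?_) g hg
    have hS := subSC_shortExact (Mq 𝔪 AA N) K
    have hmono : Mono ((TFun P p).map (subSC (Mq 𝔪 AA N) K).f) := (hse N hN K).mono_f
    have hδ : TFunBasic.δ P hflat _ hS i p hip = 0 := by
      rw [← cancel_mono ((TFun P p).map (subSC (Mq 𝔪 AA N) K).f), TFunBasic.δ_comp_map_f,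
        zero_comp]
    exact (TFunBasic.exact₃ P hflat _ hS i p hip).epi_f hδ
  exact ⟨(TFunBasic.preservesEpi_iff_preservesMono P hflat i p hip).mp hepi_i, hepi_p⟩

include hP in
/-- **EGA III 7.8.4 (b) ⇔ (c), algebraic form.** -/
theorem exact_iff_length_formula (i p j : ι) (hip : c.Rel i p) (hpj : c.Rel p j) :
    ((TFun P p).PreservesMonomorphisms ∧ (TFun P p).PreservesEpimorphisms) ↔
      ∃ n₀ : ℕ, ∀ n : ℕ, n₀ ≤ n →
        Module.length A ((TFun P p).obj (ModuleCat.of A (A ⧸ 𝔪 ^ (n + 1)))) =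
          Module.length A ((TFun P p).obj kk) * Module.length A (A ⧸ 𝔪 ^ (n + 1)) := by
  constructor
  · rintro ⟨hm, he⟩
    refine ⟨0, fun n _ => ?_⟩
    refine length_formula_of_exact P hP p hm he (ModuleCat.of A (A ⧸ 𝔪 ^ (n + 1))) ?_
    rw [Module.length_ne_top_iff]
    exact Groth.Agent.Lib.Helper26.Matlis.isFiniteLength_quotient_pow (n + 1)
  · rintro ⟨n₀, h⟩
    refine exact_of_length_formula P hP i p j hip hpj n₀ (fun n hn => ?_)
    rw [TFunArtinian.length_T_of_iso (TFun P p) (mqIso (A := A) n),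
      (mqIso (A := A) n).toLinearEquiv.length_eq]
    exact h n hn

end Local

end Groth.Agent.Lib.helper11.TFunLenFormula
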