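import Mathlib
import Groth.Agent.Lib.helper11.TFunCorep1

/-!
# helper11 — TFunProd1: `X ⊗ ∏ M_j ≅ ∏ X ⊗ M_j` for `X` finite projective (any index type)
-/

set_option autoImplicit false

open TensorProduct Module

namespace Groth.Agent.Lib.helper11.TFunProd1

universe u

open Groth.Agent.Lib.helper11.TFunCorep1

variable {R : Type u} [CommRing R] (X : Type u) [AddCommGroup X] [Module R X]
  [Module.Finite R X] [Module.Projective R X]
  {J : Type u} (Z : J → Type u) [∀ j, AddCommGroup (Z j)] [∀ j, Module R (Z j)]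

/-- if all projections of `t ∈ X ⊗ ∏ Z_j` vanish then `t = 0`. -/
lemma eq_zero_of_proj (t : X ⊗[R] (∀ j, Z j))
    (h : ∀ j, (LinearMap.proj (R := R) (φ := Z) j).lTensor X t = 0) : t = 0 := by
  apply (θ X (∀ j, Z j)).injective
  rw [map_zero]
  apply LinearMap.ext
  intro f
  funext j
  have h1 := θ_lTensor X (LinearMap.proj (R := R) (φ := Z) j) t
  rw [h j, map_zero] at h1
  have h2 := LinearMap.congr_fun h1 f
  exact h2.symm

/-- every family `(s_j ∈ X ⊗ Z_j)` comes from some `t ∈ X ⊗ ∏ Z_j`. -/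
lemma exists_of_family (s : ∀ j, X ⊗[R] Z j) :
    ∃ t : X ⊗[R] (∀ j, Z j), ∀ j, (LinearMap.proj (R := R) (φ := Z) j).lTensor X t = s j := by
  let h : Dual R X →ₗ[R] (∀ j, Z j) := LinearMap.pi (fun j => θ X (Z j) (s j))
  refine ⟨(θ X (∀ j, Z j)).symm h, fun j => ?_⟩
  apply (θ X (Z j)).injective
  rw [θ_lTensor, LinearEquiv.apply_symm_apply]
  rfl

end Groth.Agent.Lib.helper11.TFunProd1
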