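import Mathlib
import Groth.Agent.Lib.helper11.TFunProd1
import Groth.Agent.Lib.helper11.TFunAdic3

/-!
# helper11 — TFunProd2: `T_p = H_p(P ⊗ -)` commutes with arbitrary products when
`P_{prev p}`, `P_p`, `P_{next p}` are finite projective.
-/

set_option autoImplicit false

open CategoryTheory CategoryTheory.Limits MonoidalCategory CohIII TensorProduct

namespace Groth.Agent.Lib.helper11.TFunProd2

universe u

open Groth.Agent.Lib.helper11 HomCls TFunAdic3

variable {A : Type u} [CommRing A] {ι : Type} {c : ComplexShape ι}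
variable (P : HomologicalComplex (ModuleCat.{u} A) c) (p : ι)
variable {J : Type u} (Z : J → ModuleCat.{u} A)

/-- the product module -/
abbrev Pi' : ModuleCat.{u} A := ModuleCat.of A (∀ j, Z j)

/-- the projections -/
abbrev pr (j : J) : Pi' Z ⟶ Z j := ModuleCat.ofHom (LinearMap.proj (R := A) (φ := fun j => Z j) j)

/-- the comparison map `T_p(∏ Z_j) → ∏ T_p(Z_j)` -/
noncomputable def Ψ : T P p (Pi' Z) →ₗ[A] (∀ j, T P p (Z j)) :=
  LinearMap.pi (fun j => ((TFun P p).map (pr Z j)).hom)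

lemma Ψ_apply (x : T P p (Pi' Z)) (j : J) : Ψ P p Z x j = ((TFun P p).map (pr Z j)).hom x := rfl

lemma τ₂_pr (j : J) (z : ((tensorObj P (Pi' Z)).sc p).X₂) :
    (scMap P p (pr Z j)).τ₂.hom z =
      (LinearMap.proj (R := A) (φ := fun j => Z j) j).lTensor (P.X p) z := rfl

lemma τ₁_pr (j : J) (z : ((tensorObj P (Pi' Z)).sc p).X₁) :
    (scMap P p (pr Z j)).τ₁.hom z =
      (LinearMap.proj (R := A) (φ := fun j => Z j) j).lTensor (P.X (c.prev p)) z := rfl

lemma τ₃_pr (j : J) (z : ((tensorObj P (Pi' Z)).sc p).X₃) :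
    (scMap P p (pr Z j)).τ₃.hom z =
      (LinearMap.proj (R := A) (φ := fun j => Z j) j).lTensor (P.X (c.next p)) z := rfl

variable [Module.Finite A (P.X (c.prev p))] [Module.Projective A (P.X (c.prev p))]
  [Module.Finite A (P.X p)] [Module.Projective A (P.X p)]
  [Module.Finite A (P.X (c.next p))] [Module.Projective A (P.X (c.next p))]

lemma Ψ_injective : Function.Injective (Ψ P p Z) := by
  rw [injective_iff_map_eq_zero]
  intro x hx
  obtain ⟨z, hz, rfl⟩ := cls_surjective ((tensorObj P (Pi' Z)).sc p) x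
  have h1 : ∀ j, ∃ y : ((tensorObj P (Z j)).sc p).X₁,
      ((tensorObj P (Z j)).sc p).f.hom y = (scMap P p (pr Z j)).τ₂.hom z := by
    intro j
    have h0 : (ShortComplex.homologyMap (scMap P p (pr Z j))).hom
        (cls ((tensorObj P (Pi' Z)).sc p) z hz) = 0 := congrFun hx j
    have h := (homologyMap_cls (scMap P p (pr Z j)) z hz).symm.trans h0
    exact (cls_eq_zero_iff _ _ _).mp h
  choose y hy using h1
  obtain ⟨y', hy'⟩ := TFunProd1.exists_of_family (P.X (c.prev p)) (fun j => Z j) y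
  let y'' : ((tensorObj P (Pi' Z)).sc p).X₁ := y'
  have h3 : z - ((tensorObj P (Pi' Z)).sc p).f.hom y'' = 0 := by
    refine TFunProd1.eq_zero_of_proj (P.X p) (fun j => Z j) _ (fun j => ?_)
    have h12 : ((tensorObj P (Z j)).sc p).f.hom ((scMap P p (pr Z j)).τ₁.hom y'') =
        (scMap P p (pr Z j)).τ₂.hom (((tensorObj P (Pi' Z)).sc p).f.hom y'') :=
      congrArg (fun t => t.hom y'') (scMap P p (pr Z j)).comm₁₂
    have h4 : (scMap P p (pr Z j)).τ₁.hom y'' = y j := hy' j
    have h5 : (scMap P p (pr Z j)).τ₂.hom (z - ((tensorObj P (Pi' Z)).sc p).f.hom y'') = 0 := by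
      rw [map_sub, ← h12, h4, hy j, sub_self]
    exact h5
  exact (cls_eq_zero_iff _ z hz).mpr ⟨y'', (sub_eq_zero.mp h3).symm⟩

lemma Ψ_surjective : Function.Surjective (Ψ P p Z) := by
  intro x
  have h1 : ∀ j, ∃ (z : ((tensorObj P (Z j)).sc p).X₂) (hz : ((tensorObj P (Z j)).sc p).g.hom z = 0),
      cls ((tensorObj P (Z j)).sc p) z hz = x j := fun j => cls_surjective _ (x j)
  choose z hz hzx using h1
  obtain ⟨z', hz'⟩ := TFunProd1.exists_of_family (P.X p) (fun j => Z j) z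
  let z'' : ((tensorObj P (Pi' Z)).sc p).X₂ := z'
  have hτ : ∀ j, (scMap P p (pr Z j)).τ₂.hom z'' = z j := hz'
  have hg : ((tensorObj P (Pi' Z)).sc p).g.hom z'' = 0 := by
    refine TFunProd1.eq_zero_of_proj (P.X (c.next p)) (fun j => Z j) _ (fun j => ?_)
    have h23 : ((tensorObj P (Z j)).sc p).g.hom ((scMap P p (pr Z j)).τ₂.hom z'') =
        (scMap P p (pr Z j)).τ₃.hom (((tensorObj P (Pi' Z)).sc p).g.hom z'') :=
      congrArg (fun t => t.hom z'') (scMap P p (pr Z j)).comm₂₃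
    have h5 : (scMap P p (pr Z j)).τ₃.hom (((tensorObj P (Pi' Z)).sc p).g.hom z'') = 0 := by
      rw [← h23, hτ j, hz j]
    exact h5
  refine ⟨cls _ z'' hg, ?_⟩
  funext j
  have h6 : (ShortComplex.homologyMap (scMap P p (pr Z j))).hom
      (cls ((tensorObj P (Pi' Z)).sc p) z'' hg) =
      cls ((tensorObj P (Z j)).sc p) ((scMap P p (pr Z j)).τ₂.hom z'') _ :=
    homologyMap_cls (scMap P p (pr Z j)) z'' hg
  have h7 : cls ((tensorObj P (Z j)).sc p) ((scMap P p (pr Z j)).τ₂.hom z'')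
      (g_τ₂ (scMap P p (pr Z j)) z'' hg) = cls ((tensorObj P (Z j)).sc p) (z j) (hz j) :=
    cls_congr _ (hτ j) _ _
  exact (h6.trans h7).trans (hzx j)

/-- the comparison as a linear equivalence -/
noncomputable def ΨEquiv : T P p (Pi' Z) ≃ₗ[A] (∀ j, T P p (Z j)) :=
  LinearEquiv.ofBijective (Ψ P p Z) ⟨Ψ_injective P p Z, Ψ_surjective P p Z⟩

end Groth.Agent.Lib.helper11.TFunProd2
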