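import Mathlib
import Groth.Agent.Lib.helper11.TFunProd2

/-!
# helper11 — TFunProd3: `TFun P p` preserves products (terms finite projective around `p`);
assembly lemma for S16719.
-/

set_option autoImplicit false

open CategoryTheory CategoryTheory.Limits MonoidalCategory CohIII TensorProduct

namespace Groth.Agent.Lib.helper11.TFunProd3

universe u

open Groth.Agent.Lib.helper11 TFunProd2

variable {A : Type u} [CommRing A] {ι : Type} {c : ComplexShape ι}
variable (P : HomologicalComplex (ModuleCat.{u} A) c) (p : ι)
variable [Module.Finite A (P.X (c.prev p))] [Module.Projective A (P.X (c.prev p))]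
  [Module.Finite A (P.X p)] [Module.Projective A (P.X p)]
  [Module.Finite A (P.X (c.next p))] [Module.Projective A (P.X (c.next p))]

/-- the mapped fan is a limit -/
noncomputable def isLimitFan {J : Type u} (Z : J → ModuleCat.{u} A) :
    IsLimit (Fan.mk ((TFun P p).obj (Pi' Z)) (fun j => (TFun P p).map (pr Z j)) :
      Fan fun j => (TFun P p).obj (Z j)) := by
  let t : Fan fun j => (TFun P p).obj (Z j) :=
    Fan.mk ((TFun P p).obj (Pi' Z)) (fun j => (TFun P p).map (pr Z j))
  let Q := ModuleCat.productConeIsLimit.{u, u, u} (fun j => (TFun P p).obj (Z j))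
  have h1 : Q.lift t = (ΨEquiv P p Z).toModuleIso.hom := rfl
  haveI : IsIso (Q.lift t) := by
    rw [h1]
    infer_instance
  exact IsLimit.ofPointIso Q

instance preservesLimit_discrete {J : Type u} (Z : J → ModuleCat.{u} A) :
    PreservesLimit (Discrete.functor Z) (TFun P p) := by
  apply preservesLimit_of_preserves_limit_cone (ModuleCat.productConeIsLimit.{u, u, u} Z)
  exact (isLimitMapConeFanMkEquiv (TFun P p) Z (fun j => pr Z j)).symm (isLimitFan P p Z)

/-- `T_p` commutes with products. -/
theorem preservesLimitsOfShape_discrete (J : Type u) :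
    PreservesLimitsOfShape (Discrete J) (TFun P p) :=
  preservesLimitsOfShape_of_discrete _

/-- **Assembly step for S16719.** -/
theorem preservesLimitsOfShape_discrete_of_iso (J : Type u)
    (G : ModuleCat.{u} A ⥤ AddCommGrpCat.{u})
    (e : G ≅ TFun P p ⋙ forget₂ (ModuleCat.{u} A) AddCommGrpCat.{u}) :
    PreservesLimitsOfShape (Discrete J) G := by
  have := preservesLimitsOfShape_discrete P p J
  have h : PreservesLimitsOfShape (Discrete J)
      (TFun P p ⋙ forget₂ (ModuleCat.{u} A) AddCommGrpCat.{u}) := inferInstance
  exact preservesLimitsOfShape_of_natIso e.symm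

end Groth.Agent.Lib.helper11.TFunProd3
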