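import Mathlib
import Groth.Agent.Lib.Helper5.KosPermC

/-!
# Iterated shift-and-add of a graded module concentrated in degree `0` (helper11)
-/

set_option autoImplicit false
universe u

namespace Groth.Agent.Lib.helper11.TTpowFree

open Groth.Agent.Lib.Helper5.KosPerm

variable {R : Type u} [CommRing R] (h : ℤ → ModuleCat.{u} R)
  {C : Type u} [AddCommGroup C] [Module R C]

theorem subsingleton_pos (hne : ∀ j : ℤ, j ≠ 0 → Subsingleton (h j)) :
    ∀ (s : ℕ) (j : ℤ), 0 < j → Subsingleton (TTpow s h j)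
  | 0, j, hj => hne j (by omega)
  | s + 1, j, hj => by
    have h1 := subsingleton_pos hne s j hj
    have h2 := subsingleton_pos hne s (j + 1) (by omega)
    change Subsingleton (TTpow s h j × TTpow s h (j + 1))
    infer_instance

/-- `C^a × C^b ≃ C^(a+b)` -/
noncomputable def finSumEquiv (a b : ℕ) : ((Fin a → C) × (Fin b → C)) ≃ₗ[R] (Fin (a + b) → C) :=
  (LinearEquiv.sumArrowLequivProdArrow (Fin a) (Fin b) R C).symm ≪≫ₗ
    LinearEquiv.funCongrLeft R C finSumFinEquiv.symm

theorem free (hne : ∀ j : ℤ, j ≠ 0 → Subsingleton (h j)) (e0 : h 0 ≃ₗ[R] C) :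
    ∀ (s k : ℕ) (n : ℤ), n = -(k : ℤ) →
      Nonempty (TTpow s h n ≃ₗ[R] (Fin (s.choose k) → C)) := by
  intro s
  induction s with
  | zero =>
    intro k n hn
    cases k with
    | zero =>
      have hn0 : n = 0 := by simpa using hn
      subst hn0
      rw [Nat.choose_self]
      exact ⟨e0 ≪≫ₗ (LinearEquiv.funUnique (Fin 1) R C).symm⟩
    | succ k =>
      have : Subsingleton (h n) := hne n (by push_cast at hn; omega)
      rw [Nat.choose_zero_succ]
      change Nonempty (h n ≃ₗ[R] (Fin 0 → C))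
      exact ⟨LinearEquiv.ofSubsingleton _ _⟩
  | succ s ih =>
    intro k n hn
    change Nonempty ((TTpow s h n × TTpow s h (n + 1)) ≃ₗ[R] (Fin ((s + 1).choose k) → C))
    cases k with
    | zero =>
      have hn0 : n = 0 := by simpa using hn
      subst hn0
      obtain ⟨e1⟩ := ih 0 0 (by simp)
      have : Subsingleton (TTpow s h (0 + 1)) := subsingleton_pos h hne s (0 + 1) (by norm_num)
      have e2 : TTpow s h (0 + 1) ≃ₗ[R] (Fin 0 → C) := LinearEquiv.ofSubsingleton _ _
      have e3 := (LinearEquiv.prodCongr e1 e2) ≪≫ₗ finSumEquiv (R := R) (C := C) (s.choose 0) 0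
      rw [Nat.choose_zero_right] at e3 ⊢
      exact ⟨e3⟩
    | succ k =>
      obtain ⟨e1⟩ := ih (k + 1) n hn
      obtain ⟨e2⟩ := ih k (n + 1) (by push_cast at hn ⊢; omega)
      have e3 := (LinearEquiv.prodCongr e1 e2) ≪≫ₗ
        finSumEquiv (R := R) (C := C) (s.choose (k + 1)) (s.choose k)
      rw [Nat.choose_succ_succ', Nat.add_comm (s.choose k) (s.choose (k + 1))]
      exact ⟨e3⟩

end Groth.Agent.Lib.helper11.TTpowFree
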