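import Mathlib

/-!
# Tate modules and surjections with finite kernel: pure group theory (helper11)

`A` an `l`-divisible abelian group, `φ : A →+ B` surjective with finite kernel.  Then `T_l φ` is
injective and `T_l B ⧸ range (T_l φ) ≃+` the `l`-primary part of `ker φ`.
-/

set_option autoImplicit false
universe u v

namespace Groth.Agent.Lib.helper11.TateIsogAlg

/-- abstract Tate module of an abelian group -/
def tsub (l : ℕ) (M : Type*) [AddCommGroup M] : AddSubgroup (ℕ → M) where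
  carrier := {x | (∀ n, (l ^ n) • x n = 0) ∧ ∀ n, l • x (n + 1) = x n}
  zero_mem' := ⟨fun n => smul_zero _, fun n => smul_zero _⟩
  add_mem' := by
    rintro x y ⟨hx, hx'⟩ ⟨hy, hy'⟩
    exact ⟨fun n => by rw [Pi.add_apply, smul_add, hx, hy, add_zero],
      fun n => by rw [Pi.add_apply, Pi.add_apply, smul_add, hx', hy']⟩
  neg_mem' := by
    rintro x ⟨hx, hx'⟩
    exact ⟨fun n => by rw [Pi.neg_apply, smul_neg, hx, neg_zero],
      fun n => by rw [Pi.neg_apply, Pi.neg_apply, smul_neg, hx']⟩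

section

variable {l : ℕ} {M : Type*} [AddCommGroup M]

theorem tsub_tors (x : tsub l M) (n : ℕ) : (l ^ n) • x.1 n = 0 := x.2.1 n
theorem tsub_compat (x : tsub l M) (n : ℕ) : l • x.1 (n + 1) = x.1 n := x.2.2 n

theorem tsub_compat_pow (x : tsub l M) (n j : ℕ) : (l ^ j) • x.1 (n + j) = x.1 n := by
  induction j with
  | zero => simp
  | succ j ih =>
    rw [pow_succ, mul_smul, ← add_assoc, tsub_compat, ih]

theorem nsmul_eq_zero_of_dvd {N k : ℕ} {y : M} (hy : N • y = 0) (h : N ∣ k) : k • y = 0 := by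
  obtain ⟨c, rfl⟩ := h
  rw [mul_comm, mul_smul, hy, smul_zero]

theorem nsmul_congr_of_modEq {N : ℕ} {y : M} (hy : N • y = 0) {k k' : ℕ}
    (h : k ≡ k' [MOD N]) : k • y = k' • y := by
  have key : ∀ k : ℕ, (k % N) • y = k • y := fun k => by
    conv_rhs => rw [← Nat.mod_add_div k N, add_nsmul, mul_nsmul, hy, nsmul_zero, add_zero]
  rw [← key k, ← key k', h]

end

/-- the primary part of an additive group -/
def primary (l : ℕ) (M : Type*) [AddCommGroup M] : AddSubgroup M where
  carrier := {x | ∃ j : ℕ, (l ^ j) • x = 0}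
  zero_mem' := ⟨0, smul_zero _⟩
  add_mem' := by
    rintro x y ⟨i, hi⟩ ⟨j, hj⟩
    refine ⟨i + j, ?_⟩
    rw [smul_add, nsmul_eq_zero_of_dvd hi (pow_dvd_pow l (Nat.le_add_right i j)),
      nsmul_eq_zero_of_dvd hj (pow_dvd_pow l (Nat.le_add_left j i)), add_zero]
  neg_mem' := by
    rintro x ⟨i, hi⟩
    exact ⟨i, by rw [smul_neg, hi, neg_zero]⟩

section Main

variable (l : ℕ) [hl : Fact l.Prime] {A : Type u} {B : Type v} [AddCommGroup A] [AddCommGroup B]
  (φ : A →+ B)

/-- the induced map on Tate modules -/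
def tmap : tsub l A →+ tsub l B where
  toFun x := ⟨fun n => φ (x.1 n),
    ⟨fun n => by rw [← map_nsmul, tsub_tors, map_zero], fun n => by rw [← map_nsmul, tsub_compat]⟩⟩
  map_zero' := Subtype.ext (funext fun n => map_zero φ)
  map_add' x y := Subtype.ext (funext fun n => map_add φ _ _)

variable [Finite φ.ker] (hsurj : Function.Surjective φ) (hdiv : ∀ a : A, ∃ a', l • a' = a)

theorem exists_card_decomp : ∃ a m : ℕ, Nat.Coprime l m ∧ 0 < m ∧
    (∀ ν : A, φ ν = 0 → (l ^ a * m) • ν = 0) ∧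
    (∀ ν : A, φ ν = 0 → ∀ j : ℕ, (l ^ j) • ν = 0 → (l ^ a) • ν = 0) := by
  have hc : Nat.card φ.ker ≠ 0 := Nat.card_pos.ne'
  obtain ⟨a, m, hm, hcm⟩ := Nat.exists_eq_pow_mul_and_not_dvd hc l hl.out.ne_one
  have hcop : Nat.Coprime l m := (Nat.Prime.coprime_iff_not_dvd hl.out).2 hm
  have hmpos : 0 < m := Nat.pos_of_ne_zero (by rintro rfl; exact hm (dvd_zero _))
  have h1 : ∀ ν : A, φ ν = 0 → (l ^ a * m) • ν = 0 := by
    intro ν hν
    have : (Nat.card φ.ker) • (⟨ν, hν⟩ : φ.ker) = 0 := card_nsmul_eq_zero'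
    rw [hcm] at this
    exact congrArg Subtype.val this
  refine ⟨a, m, hcop, hmpos, h1, ?_⟩
  intro ν hν j hj
  have hd1 : addOrderOf ν ∣ l ^ j := addOrderOf_dvd_of_nsmul_eq_zero hj
  have hd2 : addOrderOf ν ∣ l ^ a * m := addOrderOf_dvd_of_nsmul_eq_zero (h1 ν hν)
  obtain ⟨i, -, hi⟩ := (Nat.dvd_prime_pow hl.out).1 hd1
  rw [hi] at hd2
  have : l ^ i ∣ l ^ a := (Nat.Coprime.pow_left i hcop).dvd_of_dvd_mul_right hd2
  rw [← hi] at this
  exact addOrderOf_dvd_iff_nsmul_eq_zero.1 this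

theorem tmap_injective : Function.Injective (tmap l φ) := by
  obtain ⟨a, m, -, -, -, h2⟩ := exists_card_decomp l φ
  rw [injective_iff_map_eq_zero]
  intro x hx
  have hx' : ∀ n, φ (x.1 n) = 0 := fun n => congrFun (congrArg Subtype.val hx) n
  apply Subtype.ext
  funext n
  have := h2 (x.1 (n + a)) (hx' _) (n + a) (tsub_tors x _)
  rw [tsub_compat_pow] at this
  exact this

include hsurj hdiv in
theorem exists_equiv :
    Nonempty ((tsub l B ⧸ (tmap l φ).range) ≃+ primary l φ.ker) := by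
  classical
  obtain ⟨a, m, hcop, hmpos, h1, h2⟩ := exists_card_decomp l φ
  -- the multipliers `e n`
  have hcopn : ∀ n : ℕ, Nat.Coprime (l ^ (n + a)) m := fun n => Nat.Coprime.pow_left _ hcop
  let e : ℕ → ℕ := fun n => (Nat.chineseRemainder (hcopn n) 1 0 : ℕ)
  have he1 : ∀ n, e n ≡ 1 [MOD l ^ (n + a)] := fun n => (Nat.chineseRemainder (hcopn n) 1 0).2.1
  have he0 : ∀ n, e n ≡ 0 [MOD m] := fun n => (Nat.chineseRemainder (hcopn n) 1 0).2.2
  have hem : ∀ n, m ∣ e n := fun n => (Nat.modEq_zero_iff_dvd).1 (he0 n)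
  have hemod : ∀ n n' j : ℕ, j ≤ n + a → j ≤ n' + a → e n ≡ e n' [MOD l ^ j * m] := by
    intro n n' j hj hj'
    have c1 : e n ≡ e n' [MOD l ^ j] :=
      ((he1 n).of_dvd (pow_dvd_pow l hj)).trans ((he1 n').of_dvd (pow_dvd_pow l hj')).symm
    have c2 : e n ≡ e n' [MOD m] := (he0 n).trans (he0 n').symm
    exact (Nat.modEq_and_modEq_iff_modEq_mul (Nat.Coprime.pow_left _ hcop)).1 ⟨c1, c2⟩
  -- the multiplier `e n * l ^ a` kills the kernel
  have hkill : ∀ (n : ℕ) (ν : A), φ ν = 0 → (e n * l ^ a) • ν = 0 := by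
    intro n ν hν
    refine nsmul_eq_zero_of_dvd (h1 ν hν) ?_
    rw [mul_comm (e n)]
    exact mul_dvd_mul_left _ (hem n)
  have hW : ∀ (n : ℕ) (w w' : A), φ w = φ w' → (e n * l ^ a) • w = (e n * l ^ a) • w' := by
    intro n w w' h
    have := hkill n (w - w') (by rw [map_sub, h, sub_self])
    rwa [smul_sub, sub_eq_zero] at this
  let s : B → A := Function.surjInv hsurj
  have hs : ∀ b, φ (s b) = b := Function.surjInv_eq hsurj
  -- the map `Ψ`
  have hΨmem : ∀ y : tsub l B, φ ((e 0 * l ^ a) • s (y.1 a)) = 0 := by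
    intro y
    rw [map_nsmul, hs, mul_smul, tsub_tors, smul_zero]
  have hΨprim : ∀ y : tsub l B,
      (⟨(e 0 * l ^ a) • s (y.1 a), hΨmem y⟩ : φ.ker) ∈ primary l φ.ker := by
    intro y
    refine ⟨a, Subtype.ext ?_⟩
    show (l ^ a) • ((e 0 * l ^ a) • s (y.1 a)) = 0
    rw [smul_comm]
    exact hkill 0 _ (by rw [map_nsmul, hs, tsub_tors])
  let Ψ : tsub l B →+ primary l φ.ker :=
    { toFun := fun y => ⟨⟨(e 0 * l ^ a) • s (y.1 a), hΨmem y⟩, hΨprim y⟩
      map_zero' := by
        apply Subtype.ext; apply Subtype.ext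
        show (e 0 * l ^ a) • s ((0 : tsub l B).1 a) = 0
        exact hkill 0 _ (by rw [hs]; rfl)
      map_add' := fun y y' => by
        apply Subtype.ext; apply Subtype.ext
        show (e 0 * l ^ a) • s ((y + y').1 a) =
          (e 0 * l ^ a) • s (y.1 a) + (e 0 * l ^ a) • s (y'.1 a)
        rw [← smul_add]
        apply hW
        rw [hs, map_add, hs, hs]; rfl }
  have hΨval : ∀ y : tsub l B, ((Ψ y).1.1 : A) = (e 0 * l ^ a) • s (y.1 a) := fun y => rfl
  -- surjectivity of `Ψ`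
  have hΨsurj : Function.Surjective Ψ := by
    rintro ⟨⟨ν, hν⟩, j, hj⟩
    have hj' : (l ^ j) • ν = 0 := congrArg Subtype.val hj
    have hνa : (l ^ a) • ν = 0 := h2 ν hν j hj'
    choose d hd using hdiv
    let z : ℕ → A := fun n => Nat.rec ν (fun _ prev => d prev) n
    have hz0 : z 0 = ν := rfl
    have hz : ∀ n, l • z (n + 1) = z n := fun n => hd _
    have hzpow : ∀ n, (l ^ n) • z n = ν := by
      intro n
      induction n with
      | zero => simp [hz0]
      | succ n ih => rw [pow_succ, mul_smul, hz, ih]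
    let y : tsub l B := ⟨fun n => φ (z n),
      ⟨fun n => by rw [← map_nsmul, hzpow, hν], fun n => by rw [← map_nsmul, hz]⟩⟩
    refine ⟨y, ?_⟩
    apply Subtype.ext; apply Subtype.ext
    show (e 0 * l ^ a) • s (φ (z a)) = ν
    rw [hW 0 (s (φ (z a))) (z a) (hs _), mul_smul, hzpow]
    have := nsmul_congr_of_modEq hνa (by simpa using he1 0)
    rw [this, one_smul]
  -- the kernel of `Ψ`
  have hker : (tmap l φ).range = Ψ.ker := by
    ext y
    constructor
    · rintro ⟨x, rfl⟩
      rw [AddMonoidHom.mem_ker]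
      apply Subtype.ext; apply Subtype.ext
      show (e 0 * l ^ a) • s (φ (x.1 a)) = 0
      rw [hW 0 (s (φ (x.1 a))) (x.1 a) (hs _), mul_smul, tsub_tors, smul_zero]
    · intro hy
      rw [AddMonoidHom.mem_ker] at hy
      have hy0 : (e 0 * l ^ a) • s (y.1 a) = 0 := congrArg (fun t => ((t : primary l φ.ker).1.1 : A)) hy
      -- the lifted sequence
      let x : ℕ → A := fun n => (e n * l ^ a) • s (y.1 (n + a))
      have hφx : ∀ n, φ (x n) = y.1 n := by
        intro n
        show φ ((e n * l ^ a) • s (y.1 (n + a))) = y.1 n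
        rw [map_nsmul, hs, mul_smul, tsub_compat_pow]
        have := nsmul_congr_of_modEq (tsub_tors y n)
          ((he1 n).of_dvd (pow_dvd_pow l (Nat.le_add_right n a)))
        rw [this, one_smul]
      have hx1 : ∀ n, (l ^ n) • x n = 0 := by
        intro n
        show (l ^ n) • ((e n * l ^ a) • s (y.1 (n + a))) = 0
        rw [smul_comm]
        have e1 : φ ((l ^ n) • s (y.1 (n + a))) = φ (s (y.1 a)) := by
          rw [map_nsmul, hs, hs, add_comm, tsub_compat_pow]
        rw [hW n _ _ e1, mul_smul]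
        have hk : (l ^ a * m) • ((l ^ a) • s (y.1 a)) = 0 :=
          h1 _ (by rw [map_nsmul, hs, tsub_tors])
        rw [nsmul_congr_of_modEq hk (hemod n 0 a (Nat.le_add_left _ _) (Nat.le_add_left _ _)),
          ← mul_smul]
        exact hy0
      have hx2 : ∀ n, l • x (n + 1) = x n := by
        intro n
        show l • ((e (n + 1) * l ^ a) • s (y.1 (n + 1 + a))) = (e n * l ^ a) • s (y.1 (n + a))
        rw [smul_comm]
        have e1 : φ (l • s (y.1 (n + 1 + a))) = φ (s (y.1 (n + a))) := by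
          rw [map_nsmul, hs, hs]
          have : n + 1 + a = (n + a) + 1 := by omega
          rw [this, tsub_compat]
        rw [hW (n + 1) _ _ e1, mul_smul, mul_smul]
        have hk : (l ^ (n + a) * m) • ((l ^ a) • s (y.1 (n + a))) = 0 := by
          have : φ ((l ^ (n + a)) • s (y.1 (n + a))) = 0 := by rw [map_nsmul, hs, tsub_tors]
          have h3 := h1 _ this
          rw [← mul_smul] at h3 ⊢
          exact nsmul_eq_zero_of_dvd h3 ⟨1, by ring⟩
        exact nsmul_congr_of_modEq hk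
          (hemod (n + 1) n (n + a) (by omega) le_rfl)
      exact ⟨⟨x, hx1, hx2⟩, Subtype.ext (funext hφx)⟩
  exact ⟨(QuotientAddGroup.quotientAddEquivOfEq hker).trans
    (QuotientAddGroup.quotientKerEquivOfSurjective Ψ hΨsurj)⟩

end Main

end Groth.Agent.Lib.helper11.TateIsogAlg
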