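import Mathlib
import Groth.Prelude.Def_AbDual
import Groth.Prelude.Def_AlgGrp
import Groth.Agent.Lib.helper11.TateIsogAlg
import Groth.Agent.Lib.helper11.TateDivField
import Groth.Agent.Lib.helper11.SectExt
import Groth.Agent.Lib.helper11.GeomPts
import Groth.Agent.Lib.Helper4.KerPts

/-!
# The Tate-module exact sequence of an isogeny of abelian varieties (helper11)

`0 → T_ℓ X → T_ℓ Y → N(k̄)[ℓ^∞] → 0` for an isogeny `f : X → Y` with kernel `N`.
-/

set_option autoImplicit false
set_option linter.style.haveILetI false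
universe u
open CategoryTheory CategoryTheory.Limits MonoidalCategory CartesianMonoidalCategory MonObj GrpObj
  AlgebraicGeometry

namespace Groth.Agent.Lib.helper11.TateIsog

open Groth.Agent.Lib.helper11 Groth.Agent.Lib.helper11.GeomPts
  Groth.Agent.Lib.helper11.TateIsogAlg

/-- postcomposition with a homomorphism, additively -/
noncomputable def postAdd {S : Scheme.{u}} {A B : Over S} [GrpObj A] [GrpObj B] (f : A ⟶ B)
    [IsMonHom f] (T : Over S) : Additive (T ⟶ A) →+ Additive (T ⟶ B) :=
  MonoidHom.toAdditive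
    ({ toFun := fun x => x ≫ f
       map_one' := MonObj.one_comp f
       map_mul' := fun a b => MonObj.mul_comp a b f } : (T ⟶ A) →* (T ⟶ B))

/-- primary part, multiplicative versus additive -/
noncomputable def primaryEquiv (l : ℕ) [Fact l.Prime] (G : Type*) [CommGroup G] :
    primary l (Additive G) ≃+ Additive ↥(CommGroup.primaryComponent G l) where
  toFun x := Additive.ofMul ⟨x.1.toMul, by
    obtain ⟨j, hj⟩ := x.2
    exact ⟨j, hj⟩⟩
  invFun y := ⟨Additive.ofMul y.toMul.1, by
    obtain ⟨n, hn⟩ := y.toMul.2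
    exact ⟨n, hn⟩⟩
  left_inv x := rfl
  right_inv y := rfl
  map_add' x y := rfl

variable (k : Type u) [Field k] (K : Type u) [Field K] [Algebra k K] [IsAlgClosed K]
  (l : ℕ) [Fact l.Prime] (hl : (l : k) ≠ 0)
  (X Y : Over (Spec (CommRingCat.of k)))
  [GrpObj X] [IsCommMonObj X] [IsProper X.hom] [GeometricallyIntegral X.hom]
  [GrpObj Y] [IsCommMonObj Y] [IsProper Y.hom] [GeometricallyIntegral Y.hom]
  (f : X ⟶ Y) [IsMonHom f] [IsFinite f.left] [Surjective f.left]
  (N : Over (Spec (CommRingCat.of k))) [GrpObj N] [IsCommMonObj N] (i : N ⟶ X) [IsMonHom i]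
  (hN : AlgGrp.IsKernel i f)

include hN in
/-- `N(K) ≃ ker (X(K) → Y(K))` -/
theorem exists_kerEquiv :
    Nonempty (Additive (pt k K ⟶ N) ≃+ (postAdd f (pt k K)).ker) := by
  obtain ⟨hw, hT⟩ := (Groth.Agent.Lib.Helper4.KerPts.isKernel_iff i f).1 hN
  have hmem : ∀ y : pt k K ⟶ N, (y ≫ i) ≫ f = 1 := fun y => by
    rw [Category.assoc, hw, MonObj.comp_one]
  let F : Additive (pt k K ⟶ N) →+ (postAdd f (pt k K)).ker :=
    { toFun := fun y => ⟨Additive.ofMul (y.toMul ≫ i), hmem y.toMul⟩
      map_zero' := Subtype.ext (congrArg Additive.ofMul (MonObj.one_comp i))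
      map_add' := fun a b => Subtype.ext (congrArg Additive.ofMul (MonObj.mul_comp _ _ i)) }
  refine ⟨AddEquiv.ofBijective F ⟨?_, ?_⟩⟩
  · intro a b hab
    have h1 : a.toMul ≫ i = b.toMul ≫ i := congrArg (fun t => (t.1 : Additive (pt k K ⟶ X)).toMul) hab
    obtain ⟨y, -, huniq⟩ := hT (pt k K) (a.toMul ≫ i) (hmem _)
    have ha := huniq a.toMul rfl
    have hb := huniq b.toMul h1.symm
    exact ha.trans hb.symm
  · rintro ⟨x, hx⟩
    have hx' : x.toMul ≫ f = 1 := hx
    obtain ⟨y, hy, -⟩ := hT (pt k K) x.toMul hx'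
    exact ⟨Additive.ofMul y, Subtype.ext (congrArg Additive.ofMul hy)⟩

include hN in
theorem finite_points_kernel : Finite (pt k K ⟶ N) := by
  have hpb : IsPullback i.left (toUnit N).left f.left η[Y].left := hN.map (Over.forget _)
  haveI : IsFinite (toUnit N).left :=
    MorphismProperty.of_isPullback (P := @IsFinite) hpb inferInstance
  have hNhom : (toUnit N).left = N.hom := by
    have := Over.w (toUnit N)
    simpa using this
  haveI : IsFinite N.hom := hNhom ▸ inferInstance
  haveI := SectExt.finite_points k K (algebraMap k K) N.hom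
  let G : (pt k K ⟶ N) → {a : Spec (CommRingCat.of K) ⟶ N.left //
      a ≫ N.hom = Spec.map (CommRingCat.ofHom (algebraMap k K))} := fun y => ⟨y.left, Over.w y⟩
  refine Finite.of_injective G ?_
  intro a b hab
  ext1
  exact congrArg Subtype.val hab

include hl hN in
theorem main :
    Function.Injective (AbDual.tateMapₗ (l := l) (T := pt k K) f) ∧
      Nonempty ((AbDual.TateMod Y l (pt k K) ⧸
          LinearMap.range (AbDual.tateMapₗ (l := l) (T := pt k K) f)) ≃+
        Additive ↥(CommGroup.primaryComponent (pt k K ⟶ N) l)) := by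
  obtain ⟨eK⟩ := exists_kerEquiv k K X Y f N i hN
  haveI := finite_points_kernel k K X Y f N i hN
  haveI : Finite (Additive (pt k K ⟶ N)) := inferInstanceAs (Finite (pt k K ⟶ N))
  haveI : Finite (postAdd f (pt k K)).ker := Finite.of_equiv _ eK.toEquiv
  have hsurj : Function.Surjective (postAdd f (pt k K)) := by
    intro y
    obtain ⟨x, hx⟩ := exists_point_over k K Y X f y.toMul
    exact ⟨Additive.ofMul x, congrArg Additive.ofMul hx⟩
  have hdiv : ∀ a : Additive (pt k K ⟶ X), ∃ a', l • a' = a := by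
    intro a
    obtain ⟨Q', hQ'⟩ := TateDivField.exists_root k X K l hl a.toMul
    exact ⟨Additive.ofMul Q', congrArg Additive.ofMul hQ'⟩
  constructor
  · exact tmap_injective l (postAdd f (pt k K))
  · obtain ⟨e⟩ := exists_equiv l (postAdd f (pt k K)) hsurj hdiv
    -- the primary part of the kernel
    let e2 : primary l (postAdd f (pt k K)).ker ≃+ primary l (Additive (pt k K ⟶ N)) :=
      { toFun := fun x => ⟨eK.symm x.1, by
          obtain ⟨j, hj⟩ := x.2
          exact ⟨j, by rw [← map_nsmul, hj, map_zero]⟩⟩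
        invFun := fun x => ⟨eK x.1, by
          obtain ⟨j, hj⟩ := x.2
          exact ⟨j, by rw [← map_nsmul, hj, map_zero]⟩⟩
        left_inv := fun x => Subtype.ext (eK.apply_symm_apply _)
        right_inv := fun x => Subtype.ext (eK.symm_apply_apply _)
        map_add' := fun x y => Subtype.ext (map_add eK.symm _ _) }
    have hrange : (LinearMap.range (AbDual.tateMapₗ (l := l) (T := pt k K) f)).toAddSubgroup =
        (tmap l (postAdd f (pt k K))).range := by
      ext y
      constructor
      · rintro ⟨x, rfl⟩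
        exact ⟨x, rfl⟩
      · rintro ⟨x, rfl⟩
        exact ⟨x, rfl⟩
    let e0 : (AbDual.TateMod Y l (pt k K) ⧸
          LinearMap.range (AbDual.tateMapₗ (l := l) (T := pt k K) f)) ≃+
        (tsub l (Additive (pt k K ⟶ Y)) ⧸ (tmap l (postAdd f (pt k K))).range) :=
      QuotientAddGroup.quotientAddEquivOfEq hrange
    exact ⟨((e0.trans e).trans e2).trans (primaryEquiv l (pt k K ⟶ N))⟩

end Groth.Agent.Lib.helper11.TateIsog
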