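import Groth.Prelude.Def_ega3
import Groth.Prelude.Def_KLin
import Mathlib

/-!
# A-linearity of `tensorAFunctor` (helper11), part 1: abstract lemma + tensorRightMod

`map_central_of_adj`: a left adjoint `L ⊣ R` sends a "central" endomorphism family `σ` of `C` to a
central family `τ` of `D` as soon as `R` sends `τ` to `σ`.
-/

set_option autoImplicit false
universe u

open CategoryTheory AlgebraicGeometry Opposite MonoidalCategory

namespace Groth.Agent.Lib.helper11.TensALin

theorem map_central_of_adj {C D : Type*} [Category C] [Category D] {L : C ⥤ D} {R : D ⥤ C}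
    (adj : L ⊣ R) (σ : ∀ X : C, X ⟶ X) (τ : ∀ Y : D, Y ⟶ Y)
    (hσ : ∀ {X X' : C} (φ : X ⟶ X'), σ X ≫ φ = φ ≫ σ X')
    (hR : ∀ Y : D, R.map (τ Y) = σ (R.obj Y)) (X : C) :
    L.map (σ X) = τ (L.obj X) := by
  apply (adj.homEquiv _ _).injective
  rw [adj.homEquiv_unit, adj.homEquiv_unit, hR]
  exact (adj.unit.naturality (σ X)).symm.trans (hσ (adj.unit.app X))

variable {X : Scheme.{u}}

/-- Multiplication by a global section on a presheaf of modules. -/
noncomputable def pσ (P : CohB1.PMod X) (r : Coh.Γtop X) : P ⟶ P where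
  app U := ModuleCat.ofHom
    ((show ((X.sheaf.obj ⋙ forget₂ CommRingCat RingCat.{u}).obj U) from Coh.resTop X U r) •
      (LinearMap.id : P.obj U →ₗ[((X.sheaf.obj ⋙ forget₂ CommRingCat RingCat.{u}).obj U)] P.obj U))
  naturality := by
    intro U V f
    ext m
    change (show ((X.sheaf.obj ⋙ forget₂ CommRingCat RingCat.{u}).obj V) from Coh.resTop X V r) •
        (P.map f).hom m =
      (P.map f).hom ((show ((X.sheaf.obj ⋙ forget₂ CommRingCat RingCat.{u}).obj U) from
        Coh.resTop X U r) • m)
    rw [← Coh.resTop_comp U V f r]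
    exact (P.map_smul f _ m).symm

theorem pσ_app_apply (P : CohB1.PMod X) (r : Coh.Γtop X) (U : (TopologicalSpace.Opens X)ᵒᵖ)
    (m : P.obj U) :
    (pσ P r).app U m =
      (show ((X.sheaf.obj ⋙ forget₂ CommRingCat RingCat.{u}).obj U) from Coh.resTop X U r) • m :=
  rfl

/-- naturality of `pσ` -/
theorem pσ_naturality {P Q : CohB1.PMod X} (φ : P ⟶ Q) (r : Coh.Γtop X) :
    pσ P r ≫ φ = φ ≫ pσ Q r := by
  ext U m
  change φ.app U ((pσ P r).app U m) = (pσ Q r).app U (φ.app U m)
  rw [pσ_app_apply, pσ_app_apply]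
  exact (φ.app U).hom.map_smul _ m

/-- `toP` sends multiplication by `r` to `pσ`. -/
theorem toP_map_smulModΓ (M : X.Modules) (r : Coh.Γtop X) :
    DCoh.toP.map (Formal.smulModΓ M r) = pσ (DCoh.toP.obj M) r := by
  ext U m
  rfl

theorem whiskerRight_smul_id {R : Type u} [CommRing R] (M N : ModuleCat.{u} R) (r : R) :
    (ModuleCat.ofHom (r • (LinearMap.id : M →ₗ[R] M))) ▷ N =
      ModuleCat.ofHom (r • (LinearMap.id : ↑(M ⊗ N) →ₗ[R] ↑(M ⊗ N))) := by
  refine ModuleCat.MonoidalCategory.tensor_ext (fun m q => ?_)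
  exact (TensorProduct.smul_tmul' r m q).symm

/-- tensoring `pσ` on the right. -/
theorem whiskerRight_pσ (P Q : CohB1.PMod X) (r : Coh.Γtop X) :
    pσ P r ▷ Q = pσ (P ⊗ Q) r := by
  ext U : 1
  rw [PresheafOfModules.whiskerRight_app]
  exact whiskerRight_smul_id (P.obj U) (Q.obj U) _

/-- the sheafification adjunction, typed on the prelude's functors. -/
noncomputable def adjSh : DCoh.shP (X := X) ⊣ DCoh.toP :=
  PresheafOfModules.sheafificationAdjunction (𝟙 X.ringCatSheaf.obj)

theorem shP_map_pσ (P : CohB1.PMod X) (r : Coh.Γtop X) :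
    DCoh.shP.map (pσ P r) = Formal.smulModΓ (DCoh.shP.obj P) r :=
  map_central_of_adj adjSh (fun P => pσ P r) (fun M => Formal.smulModΓ M r)
    (fun φ => pσ_naturality φ r) (fun M => toP_map_smulModΓ M r) P

/-- `- ⊗ F` sends multiplication by a global section to multiplication by that global section. -/
theorem tensorRightMod_map_smulModΓ (F M : X.Modules) (r : Coh.Γtop X) :
    (DCoh.tensorRightMod F).map (Formal.smulModΓ M r) =
      Formal.smulModΓ ((DCoh.tensorRightMod F).obj M) r := by
  change DCoh.shP.map ((tensorRight (CohB1.toPMod F)).map (DCoh.toP.map (Formal.smulModΓ M r))) = _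
  rw [toP_map_smulModΓ]
  change DCoh.shP.map (pσ _ r ▷ _) = _
  rw [whiskerRight_pσ, shP_map_pσ]
  rfl

section Pull

variable {Y : Scheme.{u}} (f : X ⟶ Y)

theorem pushforward_map_smulModΓ (G : X.Modules) (s : Coh.Γtop Y) :
    (Scheme.Modules.pushforward f).map (Formal.smulModΓ G (f.appTop.hom s)) =
      Formal.smulModΓ ((Scheme.Modules.pushforward f).obj G) s := by
  refine Scheme.Modules.hom_ext _ _ fun U => ?_
  ext m
  rw [Scheme.Modules.pushforward_map_app]
  have h2 := congrArg (fun φ => φ.hom s) (f.naturality (homOfLE (le_top : U ≤ ⊤)).op)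
  simp only [CommRingCat.hom_comp, RingHom.coe_comp] at h2
  change X.presheaf.map (homOfLE (le_top : f ⁻¹ᵁ U ≤ ⊤)).op (f.appTop.hom s) •
      (show Γ(G, f ⁻¹ᵁ U) from m) =
    (f.app U).hom (Y.presheaf.map (homOfLE (le_top : U ≤ ⊤)).op s) • (show Γ(G, f ⁻¹ᵁ U) from m)
  congr 1
  exact h2.symm

/-- pullback sends multiplication by `s` to multiplication by `f^♯ s`. -/
theorem pullback_map_smulModΓ (N : Y.Modules) (s : Coh.Γtop Y) :
    (Scheme.Modules.pullback f).map (Formal.smulModΓ N s) =
      Formal.smulModΓ ((Scheme.Modules.pullback f).obj N) (f.appTop.hom s) :=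
  map_central_of_adj (Scheme.Modules.pullbackPushforwardAdjunction f)
    (fun N => Formal.smulModΓ N s) (fun G => Formal.smulModΓ G (f.appTop.hom s))
    (fun φ => (KLin.comp_smulModΓ φ s).symm) (fun G => pushforward_map_smulModΓ f G s) N

end Pull

section Tilde

variable (A : Type u) [CommRing A]

/-- `a : A` as a global function on `Spec A`. -/
noncomputable def gsec (a : A) : Coh.Γtop (Spec (CommRingCat.of A)) :=
  (Scheme.ΓSpecIso (CommRingCat.of A)).inv.hom a

theorem toGlobal_eq {X : Scheme.{u}} (f : X ⟶ Spec (CommRingCat.of A)) (a : A) :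
    Coh.toGlobal f a = f.appTop.hom (gsec A a) := rfl

theorem Γ_map_smulModΓ (N : (Spec (CommRingCat.of A)).Modules) (a : A) :
    (moduleSpecΓFunctor (R := CommRingCat.of A)).map (Formal.smulModΓ N (gsec A a)) =
      a • 𝟙 ((moduleSpecΓFunctor (R := CommRingCat.of A)).obj N) := by
  ext x
  show (Formal.smulModΓ N (gsec A a)).app ⊤ x = _
  have h := KLin.smulModΓ_app_apply N (gsec A a) ⊤ x
  refine h.trans ?_
  have e : (homOfLE (le_top : (⊤ : (Spec (CommRingCat.of A)).Opens) ≤ ⊤)).op = 𝟙 _ :=
    Subsingleton.elim _ _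
  rw [e, CategoryTheory.Functor.map_id]
  rfl

/-- tilde sends multiplication by `a` to multiplication by the global function `a`. -/
theorem tilde_map_smul (M : ModuleCat.{u} A) (a : A) :
    (tilde.functor (CommRingCat.of A)).map (a • 𝟙 M) =
      Formal.smulModΓ ((tilde.functor (CommRingCat.of A)).obj M) (gsec A a) :=
  map_central_of_adj (tilde.adjunction (R := CommRingCat.of A))
    (fun M => a • 𝟙 M) (fun N => Formal.smulModΓ N (gsec A a))
    (fun φ => by rw [Linear.smul_comp, Linear.comp_smul, Category.id_comp, Category.comp_id])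
    (fun N => Γ_map_smulModΓ A N a) M

end Tilde

section Main

variable (A : Type u) [CommRing A] {X : Scheme.{u}} [X.Over (Spec (CommRingCat.of A))]

/-- **A-linearity of `tensorAFunctor`**: it sends multiplication by `a` on `M` to multiplication
by `a` on `f^*(M~) ⊗ F`. -/
theorem tensorAFunctor_map_smul (F : X.Modules) (M : ModuleCat.{u} A) (a : A) :
    (CohIII.tensorAFunctor A F).map (a • 𝟙 M) =
      Formal.smulMod A ((CohIII.tensorAFunctor A F).obj M) a := by
  change (DCoh.tensorRightMod F).map ((Scheme.Modules.pullback (X ↘ Spec (CommRingCat.of A))).map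
    ((tilde.functor (CommRingCat.of A)).map (a • 𝟙 M))) = _
  refine (congrArg (fun φ => (DCoh.tensorRightMod F).map
    ((Scheme.Modules.pullback (X ↘ Spec (CommRingCat.of A))).map φ)) (tilde_map_smul A M a)).trans ?_
  refine (congrArg (fun φ => (DCoh.tensorRightMod F).map φ)
    (pullback_map_smulModΓ (X ↘ Spec (CommRingCat.of A)) _ (gsec A a))).trans ?_
  exact tensorRightMod_map_smulModΓ F _ _

instance additive_tensorAFunctor (F : X.Modules) : (CohIII.tensorAFunctor A F).Additive := by
  unfold CohIII.tensorAFunctor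
  have h1 : (tilde.functor (CommRingCat.of A)).Additive :=
    AlgebraicGeometry.instAdditiveModuleCatCarrierModulesSpecOfFunctor (R := CommRingCat.of A)
  infer_instance

instance linear_tensorAFunctor (F : X.Modules) : (CohIII.tensorAFunctor A F).Linear A := by
  refine (Functor.linear_iff A _).mpr fun M a => ?_
  rw [tensorAFunctor_map_smul, KLin.smul_id]

end Main

end Groth.Agent.Lib.helper11.TensALin
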