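import Groth.Agent.Lib.helper11.TensALin2
import Groth.Agent.Lib.helper11.GrothCx3
import Groth.Agent.Lib.helper11.TFunLenFormula

/-!
# helper11 — TensALin3: assembly of S4505 (cohomological flatness in degree `p` ⇔ length formula)
from a natural iso `H^p(X, T -) ≅ H^p(L ⊗ -)` with `L` a complex of finite flat modules.
-/

set_option autoImplicit false
universe u

open CategoryTheory AlgebraicGeometry Opposite CohIII IsLocalRing

namespace Groth.Agent.Lib.helper11.TensALin

variable {A : Type u} [CommRing A]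

lemma preservesMono_comp_forget₂_iff (T : ModuleCat.{u} A ⥤ ModuleCat.{u} A) :
    (T ⋙ forget₂ (ModuleCat.{u} A) AddCommGrpCat.{u}).PreservesMonomorphisms ↔
      T.PreservesMonomorphisms := by
  constructor
  · intro h
    refine ⟨fun {M N} g hg => ?_⟩
    have h1 : Mono ((T ⋙ forget₂ (ModuleCat.{u} A) AddCommGrpCat.{u}).map g) := inferInstance
    exact (forget₂ (ModuleCat.{u} A) AddCommGrpCat.{u}).mono_of_mono_map h1
  · intro h
    infer_instance

variable [IsNoetherianRing A] [IsLocalRing A] {X : Scheme.{u}} [X.Over (Spec (CommRingCat.of A))]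

/-- **Assembly of S4505.** -/
theorem exact_iff_length_formula_of_iso (F : X.Modules) (p : ℕ)
    (L : CochainComplex (ModuleCat.{u} A) ℤ)
    (hL : ∀ i, Module.Finite A (L.X i) ∧ Module.Flat A (L.X i))
    (e : CohIII.tensorAFunctor A F ⋙ CohIII.HAb X p ≅
      TFun L (p : ℤ) ⋙ forget₂ (ModuleCat.{u} A) AddCommGrpCat.{u}) :
    ((CohIII.tensorAFunctor A F ⋙ CohIII.HAb X p).PreservesMonomorphisms ∧
        (CohIII.tensorAFunctor A F ⋙ CohIII.HAb X p).PreservesEpimorphisms) ↔
      ∃ n₀ : ℕ, ∀ n : ℕ, n₀ ≤ n →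
        Module.length A (Coh.HH X ((CohIII.tensorAFunctor A F).obj
            (ModuleCat.of A (A ⧸ maximalIdeal A ^ (n + 1)))) p) =
          Module.length A (Coh.HH X ((CohIII.tensorAFunctor A F).obj
              (ModuleCat.of A (ResidueField A))) p) *
            Module.length A (A ⧸ maximalIdeal A ^ (n + 1)) := by
  have h1 : (CohIII.tensorAFunctor A F ⋙ CohIII.HAb X p).PreservesMonomorphisms ↔
      (TFun L (p : ℤ)).PreservesMonomorphisms := by
    rw [← preservesMono_comp_forget₂_iff]
    exact Functor.PreservesMonomorphisms.iso_iff e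
  have h2 : (CohIII.tensorAFunctor A F ⋙ CohIII.HAb X p).PreservesEpimorphisms ↔
      (TFun L (p : ℤ)).PreservesEpimorphisms := by
    rw [← GrothCx3.preservesEpi_comp_forget₂_iff]
    exact Functor.PreservesEpimorphisms.iso_iff e
  rw [h1, h2, TFunLenFormula.exact_iff_length_formula L hL ((p : ℤ) - 1) (p : ℤ) ((p : ℤ) + 1)
    (by simp) (by simp)]
  have hlen : ∀ M : ModuleCat.{u} A,
      Module.length A (Coh.HH X ((CohIII.tensorAFunctor A F).obj M) p) =
        Module.length A ((TFun L (p : ℤ)).obj M) := fun M =>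
    (linEquivOfNatIso A F p (TFun L (p : ℤ)) e M).length_eq
  simp only [hlen]

end Groth.Agent.Lib.helper11.TensALin
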