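import Groth.Prelude.Def_SGA4c
import Mathlib.CategoryTheory.Limits.Shapes.Diagonal
import Mathlib.CategoryTheory.Limits.Shapes.Pullback.Iso

/-!
# Basic facts on quasi-compact objects / morphisms of a topos (helper11)
-/

set_option autoImplicit false
universe u

namespace Groth.Agent.Lib.helper11.ToposFinBasic

open CategoryTheory CategoryTheory.Limits ToposFin

variable {C : Type u} [SmallCategory C] {J : GrothendieckTopology C}

/-- quasi-compactness is invariant under isomorphism. -/
lemma isQC_of_iso {X X' : Sh J} (e : X ≅ X') (h : IsQC X) : IsQC X' := by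
  intro ι F π hπ
  have h1 : Sigma.desc (fun i => π i ≫ e.inv) = Sigma.desc π ≫ e.inv := by
    apply Sigma.hom_ext; intro i; simp
  have h2 : Epi (Sigma.desc (fun i => π i ≫ e.inv)) := by
    rw [h1]; infer_instance
  obtain ⟨s, hs⟩ := h ι F (fun i => π i ≫ e.inv) h2
  refine ⟨s, ?_⟩
  have h3 : Sigma.desc (fun i : s => π i) =
      Sigma.desc (fun i : s => π i ≫ e.inv) ≫ e.hom := by
    apply Sigma.hom_ext; intro i; simp
  rw [h3]
  infer_instance

lemma isQCHom_of_isIso {X Y : Sh J} (f : X ⟶ Y) [IsIso f] : IsQCHom f := by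
  intro Y' g hY'
  exact isQC_of_iso (asIso (pullback.snd f g)).symm hY'

lemma isQSHom_of_mono {X Y : Sh J} (u : X ⟶ Y) [Mono u] : IsQSHom u := by
  have : IsIso (pullback.diagonal u) := (pullback.isIso_diagonal_iff u).2 inferInstance
  exact isQCHom_of_isIso _

end Groth.Agent.Lib.helper11.ToposFinBasic
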