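import Mathlib
import Groth.Agent.Lib.helper11.TorNat
import Groth.Agent.Lib.helper11.ExtShift

/-!
# Uniform Artin–Rees for `Tor` (helper11)

`R` Noetherian, `I` an ideal.  `Van I i c Y` says that `Tor_i(Y, R/I^n) → Tor_i(Y, R/I^a)` vanishes
whenever `a + c ≤ n` (in helper8's model `B R i`).  We prove it for direct sums of a finite module
(`exists_van_finsupp`) and, uniformly, for all modules killed by `I^m` (`exists_van`).
-/

set_option autoImplicit false

namespace Groth.Agent.Lib.helper11.TorAR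

open CategoryTheory Limits MonoidalCategory TensorProduct
open Groth.Agent.Lib.Helper8.TorBal1 Groth.Agent.Lib.Helper8.TorBal2

universe u

variable {R : Type u} [CommRing R] (I : Ideal R)

/-- the projection `R/I^n → R/I^a` for `a ≤ n`. -/
noncomputable def ρ {n a : ℕ} (h : a ≤ n) :
    ModuleCat.of R (R ⧸ I ^ n) ⟶ ModuleCat.of R (R ⧸ I ^ a) :=
  ModuleCat.ofHom (Submodule.mapQ (I ^ n) (I ^ a) LinearMap.id (Ideal.pow_le_pow_right h))

theorem ρ_comp {n a b : ℕ} (h₁ : a ≤ n) (h₂ : b ≤ a) : ρ I h₁ ≫ ρ I h₂ = ρ I (h₂.trans h₁) := by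
  apply ModuleCat.hom_ext
  apply LinearMap.ext
  intro x
  obtain ⟨r, rfl⟩ := Submodule.Quotient.mk_surjective _ x
  rfl

theorem ρ_one {n a : ℕ} (h : a ≤ n) : (ρ I h).hom (1 : R ⧸ I ^ n) = (1 : R ⧸ I ^ a) := rfl

/-- vanishing of the transition maps on `Tor_i(Y, R/I^•)` with shift `c`. -/
def Van (i c : ℕ) (Y : ModuleCat.{u} R) : Prop :=
  ∀ (n a : ℕ) (h : a ≤ n), a + c ≤ n → ((B R i).obj Y).map (ρ I h) = 0

section Tensor

variable (J : Ideal R) (L : Type u) [AddCommGroup L] [Module R L]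

theorem exists_tmul_one (ℓ : L ⊗[R] (R ⧸ J)) : ∃ l : L, ℓ = l ⊗ₜ[R] (1 : R ⧸ J) := by
  obtain ⟨l, hl⟩ := Submodule.Quotient.mk_surjective _ (tensorQuotEquivQuotSMul L J ℓ)
  refine ⟨l, ?_⟩
  apply (tensorQuotEquivQuotSMul L J).injective
  rw [← hl]
  have := tensorQuotEquivQuotSMul_tmul_mk (M := L) J l 1
  rw [one_smul] at this
  exact this.symm

theorem tmul_one_eq_zero_iff (l : L) :
    l ⊗ₜ[R] (1 : R ⧸ J) = 0 ↔ l ∈ J • (⊤ : Submodule R L) := by
  have h1 := tensorQuotEquivQuotSMul_tmul_mk (M := L) J l 1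
  rw [one_smul] at h1
  rw [← (tensorQuotEquivQuotSMul L J).map_eq_zero_iff]
  change tensorQuotEquivQuotSMul L J (l ⊗ₜ[R] Ideal.Quotient.mk J 1) = 0 ↔ _
  rw [h1, Submodule.Quotient.mk_eq_zero]

end Tensor

section Steps

variable {M₁ M₂ M₃ : ModuleCat.{u} R} (f : M₁ ⟶ M₂) (g : M₂ ⟶ M₃) (w : f ≫ g = 0)
  (hS : (ShortComplex.mk f g w).ShortExact)

include hS in
theorem van_one_of_AR [Module.Flat R M₂] (c : ℕ)
    (hAR : ∀ n a : ℕ, a + c ≤ n → ∀ l : M₁, f.hom l ∈ I ^ n • (⊤ : Submodule R M₂) →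
      l ∈ I ^ a • (⊤ : Submodule R M₁)) : Van I 1 c M₃ := by
  intro n a h hac
  apply TorNat.van_one_of_AR f g w hS (ρ I h)
  intro ℓ hℓ
  obtain ⟨l, rfl⟩ := exists_tmul_one (I ^ n) M₁ ℓ
  have h1 : f.hom l ⊗ₜ[R] (1 : R ⧸ I ^ n) = 0 := hℓ
  have h2 := hAR n a hac l ((tmul_one_eq_zero_iff (I ^ n) M₂ _).mp h1)
  exact (tmul_one_eq_zero_iff (I ^ a) M₁ l).mpr h2

include hS in
theorem van_succ [Module.Flat R M₂] (i c : ℕ) (h : Van I (i + 1) c M₁) :
    Van I (i + 2) c M₃ := fun n a hna hac =>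
  TorNat.van_succ f g w hS (ρ I hna) i (h n a hna hac)

include hS in
theorem van_mid (i c' c'' : ℕ) (h1 : Van I i c' M₁) (h2 : Van I (i + 1) c'' M₂) :
    Van I (i + 1) (c' + c'') M₃ := by
  intro n a hna hac
  have h3 : a + c'' ≤ n := by omega
  have h4 : a ≤ a + c'' := by omega
  rw [← ρ_comp I h3 h4]
  exact TorNat.van_of_mid f g w hS (ρ I h3) (ρ I h4) i (h1 n (a + c'') h3 (by omega))
    (h2 (a + c'') a h4 le_rfl)

include hS in
theorem van_one_inj (m c : ℕ)
    (hinj : ∀ n : ℕ, m ≤ n → Function.Injective (f ▷ ModuleCat.of R (R ⧸ I ^ n)).hom)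
    (h2 : Van I 1 c M₂) : Van I 1 (m + c) M₃ := by
  intro n a hna hac
  exact TorNat.van_one_of_inj f g w hS (ρ I hna) (hinj n (by omega)) (h2 n a hna (by omega))

end Steps

/-- `Van` is invariant under isomorphism. -/
theorem Van.of_iso {Y Y' : ModuleCat.{u} R} (e : Y ≅ Y') {i c : ℕ} (h : Van I i c Y) :
    Van I i c Y' := by
  intro n a hna hac
  have h1 := ((B R i).map e.inv).naturality (ρ I hna)
  have h2 : ((B R i).obj Y').map (ρ I hna) =
      ((B R i).obj Y').map (ρ I hna) ≫ ((B R i).map e.inv).app _ ≫ ((B R i).map e.hom).app _ := by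
    rw [← NatTrans.comp_app, ← Functor.map_comp, e.inv_hom_id, CategoryTheory.Functor.map_id,
      NatTrans.id_app, Category.comp_id]
  rw [h2, ← Category.assoc, h1, h n a hna hac, comp_zero, zero_comp]

section Finsupp

variable [IsNoetherianRing R]

omit [IsNoetherianRing R] in
theorem finsupp_exact {X₀ : Type u} [AddCommGroup X₀] [Module R X₀] {k : ℕ}
    (p₀ : (Fin k → R) →ₗ[R] X₀) (hp₀ : Function.Surjective p₀) (J : Type u) :
    Function.Injective (Finsupp.mapRange.linearMap (α := J) (LinearMap.ker p₀).subtype) ∧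
    Function.Surjective (Finsupp.mapRange.linearMap (α := J) p₀) ∧
    Function.Exact (Finsupp.mapRange.linearMap (α := J) (LinearMap.ker p₀).subtype)
      (Finsupp.mapRange.linearMap (α := J) p₀) := by
  refine ⟨?_, ?_, ?_⟩
  · exact Finsupp.mapRange_injective _ (map_zero _) (Submodule.subtype_injective _)
  · exact Finsupp.mapRange_surjective _ (map_zero _) hp₀
  · rw [LinearMap.exact_iff, Finsupp.ker_mapRange,
      Finsupp.range_mapRange_linearMap _ (Submodule.ker_subtype _), Submodule.range_subtype]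

theorem ar_finsupp {F₀ : Type u} [AddCommGroup F₀] [Module R F₀] [Module.Finite R F₀]
    (L₀ : Submodule R F₀) :
    ∃ c : ℕ, ∀ (J : Type u) (n a : ℕ), a + c ≤ n → ∀ v : J →₀ L₀,
      Finsupp.mapRange.linearMap (α := J) L₀.subtype v ∈ I ^ n • (⊤ : Submodule R (J →₀ F₀)) →
      v ∈ I ^ a • (⊤ : Submodule R (J →₀ L₀)) := by
  obtain ⟨k, hk⟩ := Ideal.exists_pow_inf_eq_pow_smul I L₀
  refine ⟨k, fun J n a hac v hv => ?_⟩
  have hj : ∀ j, v j ∈ I ^ a • (⊤ : Submodule R L₀) := by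
    intro j
    rw [Submodule.mem_smul_top_iff]
    have h1 : ((v j : L₀) : F₀) ∈ I ^ n • (⊤ : Submodule R F₀) := by
      have := Submodule.mem_map_of_mem (f := Finsupp.lapply j) hv
      rw [Submodule.map_smul''] at this
      have h3 := Submodule.smul_mono (le_refl (I ^ n)) (le_top : Submodule.map (Finsupp.lapply j)
        (⊤ : Submodule R (J →₀ F₀)) ≤ ⊤) this
      simpa using h3
    have h2 : ((v j : L₀) : F₀) ∈ I ^ n • (⊤ : Submodule R F₀) ⊓ L₀ := ⟨h1, (v j).2⟩
    rw [hk n (by omega)] at h2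
    exact Submodule.smul_mono (Ideal.pow_le_pow_right (by omega)) inf_le_right h2
  rw [← Finsupp.sum_single v]
  apply Submodule.sum_mem
  intro j _
  have := Submodule.mem_map_of_mem (f := Finsupp.lsingle (R := R) j) (hj j)
  rw [Submodule.map_smul''] at this
  exact Submodule.smul_mono (le_refl (I ^ a)) le_top this

/-- uniform Artin–Rees for `Tor_{i+1}(⊕_J X₀, R/I^•)`, `X₀` finite. -/
theorem exists_van_finsupp (i : ℕ) : ∀ (X₀ : Type u) [AddCommGroup X₀] [Module R X₀]
    [Module.Finite R X₀], ∃ c : ℕ, ∀ J : Type u, Van I (i + 1) c (ModuleCat.of R (J →₀ X₀)) := by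
  induction i with
  | zero =>
    intro X₀ _ _ _
    obtain ⟨k, p₀, hp₀⟩ := Module.Finite.exists_fin' R X₀
    obtain ⟨c, hc⟩ := ar_finsupp I (LinearMap.ker p₀)
    refine ⟨c, fun J => ?_⟩
    obtain ⟨hi, hs, he⟩ := finsupp_exact p₀ hp₀ J
    have hS := ExtShift.sc_shortExact (Λ := R) (K := J →₀ LinearMap.ker p₀)
      (F := J →₀ (Fin k → R)) (M := J →₀ X₀)
      (Finsupp.mapRange.linearMap (α := J) (LinearMap.ker p₀).subtype)
      (Finsupp.mapRange.linearMap (α := J) p₀) hi hs he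
    haveI : Module.Flat R (ModuleCat.of R (J →₀ (Fin k → R))) :=
      (inferInstance : Module.Flat R (J →₀ (Fin k → R)))
    exact van_one_of_AR I _ _ _ hS c (fun n a hac l hl => hc J n a hac l hl)
  | succ i ih =>
    intro X₀ _ _ _
    obtain ⟨k, p₀, hp₀⟩ := Module.Finite.exists_fin' R X₀
    obtain ⟨c, hc⟩ := ih (LinearMap.ker p₀)
    refine ⟨c, fun J => ?_⟩
    obtain ⟨hi, hs, he⟩ := finsupp_exact p₀ hp₀ J
    have hS := ExtShift.sc_shortExact (Λ := R) (K := J →₀ LinearMap.ker p₀)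
      (F := J →₀ (Fin k → R)) (M := J →₀ X₀)
      (Finsupp.mapRange.linearMap (α := J) (LinearMap.ker p₀).subtype)
      (Finsupp.mapRange.linearMap (α := J) p₀) hi hs he
    haveI : Module.Flat R (ModuleCat.of R (J →₀ (Fin k → R))) :=
      (inferInstance : Module.Flat R (J →₀ (Fin k → R)))
    exact van_succ I _ _ _ hS i c (hc J)

end Finsupp

section Killed

variable (m : ℕ) (M : Type u) [AddCommGroup M] [Module R M]
  (hM : ∀ a ∈ I ^ m, ∀ x : M, a • x = 0)

/-- the canonical surjection `⊕_M R/I^m → M` for `M` killed by `I^m`. -/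
noncomputable def cover : (M →₀ (R ⧸ I ^ m)) →ₗ[R] M :=
  Finsupp.lsum R (fun x : M => Submodule.liftQ (I ^ m) (LinearMap.toSpanSingleton R M x)
    (fun a ha => by
      rw [LinearMap.mem_ker, LinearMap.toSpanSingleton_apply]
      exact hM a ha x))

theorem cover_surjective : Function.Surjective (cover I m M hM) := by
  intro x
  refine ⟨Finsupp.single x (Submodule.Quotient.mk 1), ?_⟩
  rw [cover, Finsupp.lsum_single, Submodule.liftQ_apply, LinearMap.toSpanSingleton_apply, one_smul]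

omit hM in
theorem smul_finsupp_eq_zero (r : R) (hr : r ∈ I ^ m) (v : M →₀ (R ⧸ I ^ m)) : r • v = 0 := by
  ext j
  rw [Finsupp.smul_apply, Finsupp.zero_apply]
  obtain ⟨s, hs⟩ := Submodule.Quotient.mk_surjective _ (v j)
  rw [← hs, ← Submodule.Quotient.mk_smul, Submodule.Quotient.mk_eq_zero]
  exact Ideal.mul_mem_right _ _ hr

omit hM in
theorem pow_smul_top_finsupp (n : ℕ) (hn : m ≤ n) :
    I ^ n • (⊤ : Submodule R (M →₀ (R ⧸ I ^ m))) = ⊥ := by
  rw [eq_bot_iff]
  apply Submodule.smul_le.mpr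
  intro r hr v _
  rw [Submodule.mem_bot]
  exact smul_finsupp_eq_zero I m M r (Ideal.pow_le_pow_right hn hr) v

omit hM in
theorem rTensor_subtype_injective' {F : Type u} [AddCommGroup F] [Module R F] (K : Submodule R F)
    (J : Ideal R) (h : J • (⊤ : Submodule R F) = ⊥) :
    Function.Injective (LinearMap.rTensor (R ⧸ J) K.subtype) := by
  rw [injective_iff_map_eq_zero]
  intro ℓ hℓ
  obtain ⟨k, rfl⟩ := exists_tmul_one J K ℓ
  rw [LinearMap.rTensor_tmul] at hℓ
  have h1 := (tmul_one_eq_zero_iff J _ _).mp hℓ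
  rw [h, Submodule.mem_bot] at h1
  have : k = 0 := Subtype.ext h1
  rw [this, TensorProduct.zero_tmul]

theorem rTensor_subtype_injective (n : ℕ) (hn : m ≤ n) :
    Function.Injective (LinearMap.rTensor (R ⧸ I ^ n) (LinearMap.ker (cover I m M hM)).subtype) :=
  rTensor_subtype_injective' _ _ (pow_smul_top_finsupp I m M n hn)

variable [IsNoetherianRing R]

omit M hM [AddCommGroup M] [Module R M] in
/-- **uniform Artin–Rees for `Tor_{i+1}`** over all modules killed by `I^m`. -/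
theorem exists_van (i : ℕ) : ∃ c : ℕ, ∀ (M : Type u) [AddCommGroup M] [Module R M],
    (∀ a ∈ I ^ m, ∀ x : M, a • x = 0) → Van I (i + 1) c (ModuleCat.of R M) := by
  induction i with
  | zero =>
    obtain ⟨c'', h''⟩ := exists_van_finsupp I 0 (R ⧸ I ^ m)
    refine ⟨m + c'', fun M _ _ hM => ?_⟩
    have hS := ExtShift.sc_shortExact (Λ := R) (K := LinearMap.ker (cover I m M hM))
      (F := M →₀ (R ⧸ I ^ m)) (M := M) (LinearMap.ker (cover I m M hM)).subtype (cover I m M hM)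
      (Submodule.subtype_injective _) (cover_surjective I m M hM)
      (LinearMap.exact_subtype_ker_map _)
    exact van_one_inj I _ _ _ hS m c'' (fun n hn => rTensor_subtype_injective I m M hM n hn) (h'' M)
  | succ i ih =>
    obtain ⟨c', h'⟩ := ih
    obtain ⟨c'', h''⟩ := exists_van_finsupp I (i + 1) (R ⧸ I ^ m)
    refine ⟨c' + c'', fun M _ _ hM => ?_⟩
    have hS := ExtShift.sc_shortExact (Λ := R) (K := LinearMap.ker (cover I m M hM))
      (F := M →₀ (R ⧸ I ^ m)) (M := M) (LinearMap.ker (cover I m M hM)).subtype (cover I m M hM)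
      (Submodule.subtype_injective _) (cover_surjective I m M hM)
      (LinearMap.exact_subtype_ker_map _)
    refine van_mid I _ _ _ hS (i + 1) c' c'' (h' (LinearMap.ker (cover I m M hM)) ?_) (h'' M)
    intro a ha x
    apply Subtype.ext
    exact smul_finsupp_eq_zero I m M a ha x.1

end Killed

section Final

theorem tor_map_eq_zero_of_van {i c : ℕ} {Y : ModuleCat.{u} R} (h : Van I i c Y) {n a : ℕ}
    (hna : a ≤ n) (hac : a + c ≤ n) :
    ((Tor (ModuleCat.{u} R) i).obj Y).map (ρ I hna) = 0 := by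
  have h1 := torIsoObj_natural_right R i Y (ρ I hna)
  rw [h n a hna hac, comp_zero] at h1
  exact (cancel_mono (torIsoObj R i Y _).hom).mp (by rw [h1, zero_comp])

variable [IsNoetherianRing R]

/-- **S0360**. -/
theorem main_S0360 (m i : ℕ) (hi : 0 < i) : ∃ c : ℕ, ∀ (M : Type u) [AddCommGroup M]
    [Module R M], (∀ a ∈ I ^ m, ∀ x : M, a • x = 0) → ∀ n : ℕ, c ≤ n →
    (((Tor (ModuleCat.{u} R) i).obj (ModuleCat.of R M)).map (ModuleCat.ofHom
      (Submodule.mapQ (I ^ n) (I ^ (n - c)) LinearMap.id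
        (Ideal.pow_le_pow_right (Nat.sub_le n c))))) = 0 := by
  obtain ⟨j, rfl⟩ : ∃ j, i = j + 1 := ⟨i - 1, by omega⟩
  obtain ⟨c, hc⟩ := exists_van I m j
  refine ⟨c, fun M _ _ hM n hn => ?_⟩
  exact tor_map_eq_zero_of_van I (hc M hM) (Nat.sub_le n c) (by omega)

/-- **S15548**. -/
theorem main_S15548 (M : Type u) [AddCommGroup M] [Module R M] [Module.Finite R M] (n : ℕ) :
    ∃ m : ℕ, n ≤ m ∧ ∀ h : I ^ m ≤ I ^ n,
      ((CategoryTheory.Tor (ModuleCat.{u} R) 1).obj (ModuleCat.of R M)).map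
        (ModuleCat.ofHom (Submodule.factor h)) = 0 := by
  obtain ⟨c, hc⟩ := exists_van_finsupp I 0 M
  have hv : Van I 1 c (ModuleCat.of R M) :=
    (hc PUnit.{u + 1}).of_iso I (Finsupp.LinearEquiv.finsuppUnique R M PUnit.{u + 1}).toModuleIso
  refine ⟨n + c, by omega, fun h => ?_⟩
  exact tor_map_eq_zero_of_van I hv (Nat.le_add_right n c) le_rfl

end Final

end Groth.Agent.Lib.helper11.TorAR
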