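import Groth.Agent.Lib.Helper21.TorLES

/-!
# `Tor` in the second variable: kernel description and dimension shifting, module level
(helper11; wraps helper21's `TorLES`/`TorShift`)
-/

set_option autoImplicit false
universe u

namespace Groth.Agent.Lib.helper11.TorKer2

open CategoryTheory CategoryTheory.Limits MonoidalCategory Function
open Groth.Agent.Lib.Helper21.TorShift Groth.Agent.Lib.Helper21.TorLES

variable {R : Type u} [CommRing R]
variable (M : Type u) [AddCommGroup M] [Module R M]
variable {K F N : Type u} [AddCommGroup K] [Module R K] [AddCommGroup F] [Module R F]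
  [AddCommGroup N] [Module R N] [Module.Projective R F]
  (i : K →ₗ[R] F) (q : F →ₗ[R] N)

/-- `Tor_1(M, N) ≃ ker (M ⊗ K → M ⊗ F)` for `0 → K → F → N → 0` exact with `F` projective. -/
theorem nonempty_tor_one_equiv_ker (hi : Injective i) (hex : Exact i q) (hq : Surjective q) :
    Nonempty (TorT R 1 M N ≃ₗ[R] LinearMap.ker (i.lTensor M)) := by
  have hS := shortExact_of i q hi hex hq
  haveI : Projective (ModuleCat.of R F) := (IsProjective.iff_projective F).1 inferInstance
  let e := leftDerivedOneIsoKernel (tensorLeft (ModuleCat.of R M))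
    (ProjectiveResolution.of (ModuleCat.of R K)) (ModuleCat.ofHom i) (ModuleCat.ofHom q) _ hS
  let e' := ModuleCat.kernelIsoKer ((tensorLeft (ModuleCat.of R M)).map (ModuleCat.ofHom i))
  exact ⟨(e ≪≫ e').toLinearEquiv⟩

/-- `Tor_{n+2}(M, N) ≃ Tor_{n+1}(M, K)`. -/
theorem nonempty_tor_shift (hi : Injective i) (hex : Exact i q) (hq : Surjective q) (n : ℕ) :
    Nonempty (TorT R (n + 2) M N ≃ₗ[R] TorT R (n + 1) M K) := by
  have hS := shortExact_of i q hi hex hq
  haveI : Projective (ModuleCat.of R F) := (IsProjective.iff_projective F).1 inferInstance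
  exact ⟨(torShiftIso (ModuleCat.of R M) (ModuleCat.ofHom i) (ModuleCat.ofHom q) _ hS
    n).toLinearEquiv⟩

end Groth.Agent.Lib.helper11.TorKer2
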