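import Groth.Agent.Lib.helper11.TorBC
import Groth.Agent.Lib.helper11.TorKer2
import Groth.Agent.Lib.helper11.SemiBij

/-!
# Flat base change for `Tor`, second variable, semilinear version (helper11)

`Tor_n^A(P', Q) → Tor_n^{A'}(P', A' ⊗_A Q)` for `A → A'` flat and `P'` an `A'`-module.
-/

set_option autoImplicit false
universe u

namespace Groth.Agent.Lib.helper11.TorBC2

open CategoryTheory TensorProduct Function
open Groth.Agent.Lib.Helper21.TorShift Groth.Agent.Lib.helper11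

variable (A A' : Type u) [CommRing A] [CommRing A'] [Algebra A A']
  (P' : Type u) [AddCommGroup P'] [Module A' P'] [Module A P'] [IsScalarTower A A' P']

section Psi

variable (Q : Type u) [AddCommGroup Q] [Module A Q]

/-- `P' ⊗_A Q → P' ⊗_{A'} (A' ⊗_A Q)`. -/
noncomputable def ψ₀ : P' ⊗[A] Q →ₛₗ[algebraMap A A'] P' ⊗[A'] (A' ⊗[A] Q) where
  toFun := (AlgebraTensorModule.cancelBaseChange A A' A' P' Q).symm
  map_add' := map_add _
  map_smul' := fun a m => by
    rw [← algebraMap_smul A' a m, map_smul]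

lemma ψ₀_tmul (p : P') (q : Q) : ψ₀ A A' P' Q (p ⊗ₜ q) = p ⊗ₜ ((1 : A') ⊗ₜ q) := rfl

lemma ψ₀_bijective : Bijective (ψ₀ A A' P' Q) :=
  (AlgebraTensorModule.cancelBaseChange A A' A' P' Q).symm.bijective

variable {A} {Q} in
lemma ψ₀_natural {K : Type u} [AddCommGroup K] [Module A K] (i : K →ₗ[A] Q)
    (x : P' ⊗[A] K) :
    (i.baseChange A').lTensor P' (ψ₀ A A' P' K x) = ψ₀ A A' P' Q (i.lTensor P' x) := by
  induction x using TensorProduct.induction_on with
  | zero => simp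
  | tmul p k => simp [ψ₀_tmul]
  | add x y hx hy => simp only [map_add, hx, hy]

end Psi

variable [Module.Flat A A']

/-- the statement for given `n` and `Q`. -/
def Stmt (n : ℕ) (Q : Type u) [AddCommGroup Q] [Module A Q] : Prop :=
  SemiBij A A' (TorT A n P' Q) (TorT A' n P' (A' ⊗[A] Q))

theorem stmt_zero (Q : Type u) [AddCommGroup Q] [Module A Q] : Stmt A A' P' 0 Q := by
  obtain ⟨e0⟩ := TorBC.tor_zero A P' Q
  obtain ⟨e0'⟩ := TorBC.tor_zero A' P' (A' ⊗[A] Q)
  exact SemiBij.comp_left e0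
    (SemiBij.comp_right ⟨ψ₀ A A' P' Q, ψ₀_bijective A A' P' Q⟩ e0'.symm)

theorem stmt_one (Q : Type u) [AddCommGroup Q] [Module A Q] : Stmt A A' P' 1 Q := by
  obtain ⟨F, _, _, _, q, hq⟩ := TorBC.exists_free_presentation A Q
  obtain ⟨e1⟩ := TorKer2.nonempty_tor_one_equiv_ker P' (LinearMap.ker q).subtype q
    (Submodule.injective_subtype _) (TorBC.pq_exact q) hq
  obtain ⟨e1'⟩ := TorKer2.nonempty_tor_one_equiv_ker P'
    ((LinearMap.ker q).subtype.baseChange A') (q.baseChange A')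
    (TorBC.bc_injective A' q) (TorBC.bc_exact A' q hq) (TorBC.bc_surjective A' q hq)
  refine SemiBij.comp_left e1 (SemiBij.comp_right ?_ e1'.symm)
  exact SemiBij.ker (ψ₀ A A' P' (LinearMap.ker q)) (ψ₀_bijective A A' P' _)
    (ψ₀ A A' P' F) (ψ₀_bijective A A' P' F).1 _ _
    (fun x => ψ₀_natural A' P' (LinearMap.ker q).subtype x)

theorem stmt_succ (n : ℕ)
    (h : ∀ (Q : Type u) [AddCommGroup Q] [Module A Q], Stmt A A' P' (n + 1) Q)
    (Q : Type u) [AddCommGroup Q] [Module A Q] : Stmt A A' P' (n + 2) Q := by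
  obtain ⟨F, _, _, _, q, hq⟩ := TorBC.exists_free_presentation A Q
  obtain ⟨s⟩ := TorKer2.nonempty_tor_shift P' (LinearMap.ker q).subtype q
    (Submodule.injective_subtype _) (TorBC.pq_exact q) hq n
  obtain ⟨s'⟩ := TorKer2.nonempty_tor_shift P'
    ((LinearMap.ker q).subtype.baseChange A') (q.baseChange A')
    (TorBC.bc_injective A' q) (TorBC.bc_exact A' q hq) (TorBC.bc_surjective A' q hq) n
  exact SemiBij.comp_left s (SemiBij.comp_right (h (LinearMap.ker q)) s'.symm)

theorem stmt_all (n : ℕ) :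
    (∀ (Q : Type u) [AddCommGroup Q] [Module A Q], Stmt A A' P' n Q) ∧
      (∀ (Q : Type u) [AddCommGroup Q] [Module A Q], Stmt A A' P' (n + 1) Q) := by
  induction n with
  | zero => exact ⟨fun Q _ _ => stmt_zero A A' P' Q, fun Q _ _ => stmt_one A A' P' Q⟩
  | succ n ih => exact ⟨ih.2, fun Q _ _ => stmt_succ A A' P' n ih.2 Q⟩

end Groth.Agent.Lib.helper11.TorBC2
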