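import Groth.Agent.Lib.helper11.TorBC2

/-!
# Base change for `Tor` under Tor-independence, first variable (helper11)

`Tor_n^A(P, Q') → Tor_n^{A'}(A' ⊗_A P, Q')` is bijective when `Tor_q^A(P, A') = 0` for `q ≥ 1`.
-/

set_option autoImplicit false
universe u

namespace Groth.Agent.Lib.helper11.TorBC3

open CategoryTheory TensorProduct Function
open Groth.Agent.Lib.Helper21.TorShift Groth.Agent.Lib.helper11

variable (A A' : Type u) [CommRing A] [CommRing A'] [Algebra A A']
  (Q' : Type u) [AddCommGroup Q'] [Module A' Q'] [Module A Q'] [IsScalarTower A A' Q']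

section Psi

variable (P : Type u) [AddCommGroup P] [Module A P]

/-- `P ⊗_A Q' → (A' ⊗_A P) ⊗_{A'} Q'`. -/
noncomputable def ψ₁ : P ⊗[A] Q' →ₛₗ[algebraMap A A'] (A' ⊗[A] P) ⊗[A'] Q' :=
  ((TensorProduct.comm A' Q' (A' ⊗[A] P)).toLinearMap).comp
    ((TorBC2.ψ₀ A A' Q' P).comp (TensorProduct.comm A P Q').toLinearMap)

lemma ψ₁_tmul (p : P) (q : Q') : ψ₁ A A' Q' P (p ⊗ₜ q) = ((1 : A') ⊗ₜ p) ⊗ₜ q := rfl

lemma ψ₁_bijective : Bijective (ψ₁ A A' Q' P) :=
  (TensorProduct.comm A' Q' (A' ⊗[A] P)).bijective.comp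
    ((TorBC2.ψ₀_bijective A A' Q' P).comp (TensorProduct.comm A P Q').bijective)

variable {A} {P} in
lemma ψ₁_natural {K : Type u} [AddCommGroup K] [Module A K] (i : K →ₗ[A] P)
    (x : K ⊗[A] Q') :
    (i.baseChange A').rTensor Q' (ψ₁ A A' Q' K x) = ψ₁ A A' Q' P (i.rTensor Q' x) := by
  induction x using TensorProduct.induction_on with
  | zero => simp
  | tmul k q => simp [ψ₁_tmul]
  | add x y hx hy => simp only [map_add, hx, hy]

end Psi

/-- the statement for given `n` and `P`. -/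
def Stmt (n : ℕ) (P : Type u) [AddCommGroup P] [Module A P] : Prop :=
  SemiBij A A' (TorT A n P Q') (TorT A' n (A' ⊗[A] P) Q')

theorem stmt_zero (P : Type u) [AddCommGroup P] [Module A P] : Stmt A A' Q' 0 P := by
  obtain ⟨e0⟩ := TorBC.tor_zero A P Q'
  obtain ⟨e0'⟩ := TorBC.tor_zero A' (A' ⊗[A] P) Q'
  have hk : SemiBij A A' (P ⊗[A] Q') ((A' ⊗[A] P) ⊗[A'] Q') :=
    ⟨ψ₁ A A' Q' P, ψ₁_bijective A A' Q' P⟩
  exact SemiBij.comp_left e0 (SemiBij.comp_right hk e0'.symm)

variable {A} in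
/-- injectivity of the base-changed kernel inclusion from `Tor_1^A(P, A') = 0`. -/
lemma bc_injective_of_tor {P F : Type u} [AddCommGroup P] [Module A P] [AddCommGroup F]
    [Module A F] [Module.Flat A F] (q : F →ₗ[A] P) (hq : Surjective q)
    (h : Subsingleton (TorT A 1 P A')) :
    Injective ((LinearMap.ker q).subtype.baseChange A') := by
  obtain ⟨e⟩ := TorKer.nonempty_tor_one_equiv_ker (LinearMap.ker q).subtype q A'
    (Submodule.injective_subtype _) (TorBC.pq_exact q) hq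
  have hs : Subsingleton (LinearMap.ker ((LinearMap.ker q).subtype.rTensor A')) :=
    e.symm.toEquiv.subsingleton
  have hker : LinearMap.ker ((LinearMap.ker q).subtype.rTensor A') = ⊥ :=
    Submodule.eq_bot_of_subsingleton
  rw [LinearMap.baseChange_eq_ltensor]
  exact (LinearMap.lTensor_inj_iff_rTensor_inj _ _).mpr (LinearMap.ker_eq_bot.mp hker)

theorem stmt_one (P : Type u) [AddCommGroup P] [Module A P]
    (hP : Subsingleton (TorT A 1 P A')) : Stmt A A' Q' 1 P := by
  obtain ⟨F, _, _, _, q, hq⟩ := TorBC.exists_free_presentation A P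
  obtain ⟨e1⟩ := TorKer.nonempty_tor_one_equiv_ker (LinearMap.ker q).subtype q Q'
    (Submodule.injective_subtype _) (TorBC.pq_exact q) hq
  obtain ⟨e1'⟩ := TorKer.nonempty_tor_one_equiv_ker
    ((LinearMap.ker q).subtype.baseChange A') (q.baseChange A') Q'
    (bc_injective_of_tor A' q hq hP) (TorBC.bc_exact A' q hq) (TorBC.bc_surjective A' q hq)
  have hk := SemiBij.ker (ψ₁ A A' Q' (LinearMap.ker q)) (ψ₁_bijective A A' Q' _)
      (ψ₁ A A' Q' F) (ψ₁_bijective A A' Q' F).1 ((LinearMap.ker q).subtype.rTensor Q')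
      (((LinearMap.ker q).subtype.baseChange A').rTensor Q')
      (fun x => ψ₁_natural A' Q' (LinearMap.ker q).subtype x)
  exact SemiBij.comp_left e1 (SemiBij.comp_right hk e1'.symm)

theorem stmt_succ (n : ℕ)
    (h : ∀ (P : Type u) [AddCommGroup P] [Module A P],
      (∀ q : ℕ, 0 < q → Subsingleton (TorT A q P A')) → Stmt A A' Q' (n + 1) P)
    (P : Type u) [AddCommGroup P] [Module A P]
    (hP : ∀ q : ℕ, 0 < q → Subsingleton (TorT A q P A')) : Stmt A A' Q' (n + 2) P := by
  obtain ⟨F, _, _, _, q, hq⟩ := TorBC.exists_free_presentation A P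
  obtain ⟨s⟩ := TorKer.nonempty_tor_shift (LinearMap.ker q).subtype q Q'
    (Submodule.injective_subtype _) (TorBC.pq_exact q) hq n
  obtain ⟨s'⟩ := TorKer.nonempty_tor_shift
    ((LinearMap.ker q).subtype.baseChange A') (q.baseChange A') Q'
    (bc_injective_of_tor A' q hq (hP 1 Nat.one_pos)) (TorBC.bc_exact A' q hq)
    (TorBC.bc_surjective A' q hq) n
  have hK : ∀ m : ℕ, 0 < m → Subsingleton (TorT A m (LinearMap.ker q) A') := by
    intro m hm
    obtain ⟨m, rfl⟩ : ∃ k, m = k + 1 := ⟨m - 1, by omega⟩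
    obtain ⟨t⟩ := TorKer.nonempty_tor_shift (LinearMap.ker q).subtype q A'
      (Submodule.injective_subtype _) (TorBC.pq_exact q) hq m
    haveI := hP (m + 2) (by omega)
    exact t.symm.toEquiv.subsingleton
  exact SemiBij.comp_left s (SemiBij.comp_right (h (LinearMap.ker q) hK) s'.symm)

theorem stmt_all (n : ℕ) :
    (∀ (P : Type u) [AddCommGroup P] [Module A P],
      (∀ q : ℕ, 0 < q → Subsingleton (TorT A q P A')) → Stmt A A' Q' n P) ∧
      (∀ (P : Type u) [AddCommGroup P] [Module A P],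
        (∀ q : ℕ, 0 < q → Subsingleton (TorT A q P A')) → Stmt A A' Q' (n + 1) P) := by
  induction n with
  | zero =>
    exact ⟨fun P _ _ _ => stmt_zero A A' Q' P,
      fun P _ _ hP => stmt_one A A' Q' P (hP 1 Nat.one_pos)⟩
  | succ n ih => exact ⟨ih.2, fun P _ _ hP => stmt_succ A A' Q' n ih.2 P hP⟩

end Groth.Agent.Lib.helper11.TorBC3
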