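import Mathlib
import Groth.Agent.Lib.helper11.LocalDualityBase
import Groth.Agent.Lib.Helper21.TorLES

/-!
# `Tor_i(E, M) ≅ Hom(Ext^i(M, R), E)` for finite `M` and injective `E` (helper11)

Objectwise isomorphisms by (non-natural) dimension shifting in `M`, using a natural base
isomorphism `E ⊗ M ≅ Hom(Hom(M, R), E)`.
-/

set_option autoImplicit false

namespace Groth.Agent.Lib.helper11.TorDual

open CategoryTheory Limits Abelian MonoidalCategory
open Groth.Agent.Lib.helper11.LocalDuality Groth.Agent.Lib.helper11.EW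
open Groth.Agent.Lib.helper11.DDual Groth.Agent.Lib.Helper21

universe u

variable {R : Type u} [CommRing R] [IsNoetherianRing R] (E : Type u) [AddCommGroup E] [Module R E]
  [Module.Injective R E]

/-- `E ≃ Hom(Hom(R, R), E)`. -/
noncomputable def e0 : E ≃ₗ[R] (ddual (A := R) R E).obj (ModuleCat.of R R) :=
  (LinearMap.ringLmapEquivSelf R R E).symm.trans
    (LinearEquiv.congrLeft E R (LinearMap.ringLmapEquivSelf R R R)).symm

section Base

variable (M : ModuleCat.{u} R) [Module.Finite R M]

/-- The base isomorphism `E ⊗ M ≃ Hom(Ext^0(M, R), E)`. -/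
noncomputable def θ0 : TensorProduct R E M ≃ₗ[R] (Ext M (ModuleCat.of R R) 0 →ₗ[R] E) :=
  (TensorProduct.congr (e0 E) (LinearEquiv.refl R M)).trans ((e3 E R M).trans (e4 E R M))

variable {M} {M' : ModuleCat.{u} R} [Module.Finite R M']

theorem congr_lTensor (f : M ⟶ M') (w : TensorProduct R E M) :
    (TensorProduct.congr (e0 E) (LinearEquiv.refl R M')) (LinearMap.lTensor _ f.hom w) =
      LinearMap.lTensor _ f.hom (TensorProduct.congr (e0 E) (LinearEquiv.refl R M) w) := by
  induction w using TensorProduct.induction_on with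
  | zero => simp
  | tmul a m => rfl
  | add a b ha hb => rw [map_add, map_add, ha, hb, map_add, map_add]

theorem θ0_nat (f : M ⟶ M') (w : TensorProduct R E M) :
    θ0 E M' (LinearMap.lTensor E f.hom w) = Umap E (ModuleCat.of R R) 0 f (θ0 E M w) := by
  unfold θ0
  simp only [LinearEquiv.trans_apply]
  rw [congr_lTensor]
  have h3 : e3 E R M' (LinearMap.lTensor _ f.hom
      (TensorProduct.congr (e0 E) (LinearEquiv.refl R M) w)) =
      ddMap R E f.hom (e3 E R M (TensorProduct.congr (e0 E) (LinearEquiv.refl R M) w)) :=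
    tM_naturality (ddual (A := R) R E) f _
  rw [h3]
  exact e4_nat E R f _

end Base

section USide

variable (K : ModuleCat.{u} R) {S : ShortComplex (ModuleCat.{u} R)} (hS : S.ShortExact)

theorem subsingleton_ext_succ_of_projective (X : ModuleCat.{u} R) [Module.Projective R X] (i : ℕ) :
    Subsingleton (Ext X K (i + 1)) := by
  haveI : Projective X := X.projective_of_categoryTheory_projective
  exact subsingleton_of_forall_eq 0 (fun e => Ext.eq_zero_of_projective e)

include hS in
theorem range_Uδ_zero [Module.Projective R S.X₂] (ψ : Ext S.X₁ K 0 →ₗ[R] E) :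
    ψ ∈ LinearMap.range (Uδ E K 0 hS) ↔ Umap E K 0 S.f ψ = 0 := by
  constructor
  · rintro ⟨χ, rfl⟩
    exact Umap_Uδ E K hS 0 χ
  · intro h
    exact Uδ_exact E K hS 0 ψ h

theorem Uδ_bijective_succ [Module.Projective R S.X₂] (i : ℕ) :
    Function.Bijective (Uδ E K (i + 1) hS) := by
  refine ⟨Uδ_injective E K hS (i + 1) (subsingleton_ext_succ_of_projective K S.X₂ (i + 1)), ?_⟩
  intro ψ
  apply Uδ_exact E K hS (i + 1) ψ
  apply LinearMap.ext
  intro x
  haveI := subsingleton_ext_succ_of_projective K S.X₂ i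
  rw [Subsingleton.elim x 0, map_zero, map_zero]

end USide

section Main

/-- `Tor_i(E, M)`. -/
noncomputable abbrev T (i : ℕ) (M : ModuleCat.{u} R) : ModuleCat.{u} R :=
  ((Tor (ModuleCat.{u} R) i).obj (ModuleCat.of R E)).obj M

theorem nonempty_equiv_zero (M : ModuleCat.{u} R) [Module.Finite R M] :
    Nonempty (T E 0 M ≃ₗ[R] (Ext M (ModuleCat.of R R) 0 →ₗ[R] E)) := by
  have e : T E 0 M ≅ (ModuleCat.of R E) ⊗ M :=
    (Functor.leftDerivedZeroIsoSelf (tensorLeft (ModuleCat.of R E))).app M
  exact ⟨e.toLinearEquiv.trans (θ0 E M)⟩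

theorem nonempty_equiv_one (M : ModuleCat.{u} R) [Module.Finite R M] :
    Nonempty (T E 1 M ≃ₗ[R] (Ext M (ModuleCat.of R R) 1 →ₗ[R] E)) := by
  have hS := presSC_shortExact M
  haveI : Module.Projective R (presSC M).X₂ :=
    inferInstanceAs (Module.Projective R (Fin (presRank M) → R))
  haveI : Projective (presSC M).X₂ := (presSC M).X₂.projective_of_categoryTheory_projective
  have e1 : T E 1 M ≅ kernel ((tensorLeft (ModuleCat.of R E)).map (presSC M).f) :=
    TorLES.leftDerivedOneIsoKernel (tensorLeft (ModuleCat.of R E)) (ProjectiveResolution.of _)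
      (presSC M).f (presSC M).g (presSC M).zero hS
  have e2 := e1 ≪≫ ModuleCat.kernelIsoKer _
  let a : LinearMap.ker ((tensorLeft (ModuleCat.of R E)).map (presSC M).f).hom →ₗ[R]
      TensorProduct R E (presSC M).X₁ := Submodule.subtype _
  have hrange : ∀ p : TensorProduct R E (presSC M).X₁, p ∈ LinearMap.range a ↔
      θ0 E (presSC M).X₁ p ∈ LinearMap.range (Uδ E (ModuleCat.of R R) 0 hS) := by
    intro p
    rw [range_Uδ_zero E (ModuleCat.of R R) hS, ← θ0_nat, LinearEquiv.map_eq_zero_iff]
    change p ∈ LinearMap.range (Submodule.subtype _) ↔ _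
    rw [Submodule.range_subtype, LinearMap.mem_ker]
    rfl
  exact ⟨e2.toLinearEquiv.trans (equivOfRange a (Uδ E (ModuleCat.of R R) 0 hS)
    (θ0 E (presSC M).X₁) (Submodule.subtype_injective _)
    (Uδ_injective E (ModuleCat.of R R) hS 0
      (subsingleton_ext_succ_of_projective (ModuleCat.of R R) (presSC M).X₂ 0)) hrange)⟩

/-- **`Tor_i(E, M) ≃ Hom(Ext^i(M, R), E)`** for finite `M` over a Noetherian ring and injective
`E`. -/
theorem nonempty_equiv : ∀ (i : ℕ) (M : ModuleCat.{u} R) [Module.Finite R M],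
    Nonempty (T E i M ≃ₗ[R] (Ext M (ModuleCat.of R R) i →ₗ[R] E))
  | 0, M, _ => nonempty_equiv_zero E M
  | 1, M, _ => nonempty_equiv_one E M
  | (i + 2), M, _ => by
    have hS := presSC_shortExact M
    haveI : Module.Projective R (presSC M).X₂ :=
      inferInstanceAs (Module.Projective R (Fin (presRank M) → R))
    haveI : Projective (presSC M).X₂ := (presSC M).X₂.projective_of_categoryTheory_projective
    obtain ⟨e⟩ := nonempty_equiv (i + 1) (presSC M).X₁
    have sh : T E (i + 2) M ≅ T E (i + 1) (presSC M).X₁ :=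
      TorShift.torShiftIso (ModuleCat.of R E) (presSC M).f (presSC M).g (presSC M).zero hS i
    exact ⟨sh.toLinearEquiv.trans (e.trans (LinearEquiv.ofBijective
      (Uδ E (ModuleCat.of R R) (i + 1) hS)
      (Uδ_bijective_succ E (ModuleCat.of R R) hS i)).symm)⟩

end Main

end Groth.Agent.Lib.helper11.TorDual
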