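import Groth.Agent.Lib.Helper21.TorLES

/-!
# `Tor_1` and `Tor_2` in the first variable as kernels (helper11; uses helper21's `TorLES`)
-/

set_option autoImplicit false
universe u

namespace Groth.Agent.Lib.helper11.TorKer

open CategoryTheory CategoryTheory.Limits MonoidalCategory Function
open Groth.Agent.Lib.Helper21.TorShift Groth.Agent.Lib.Helper21.TorLES

variable {R : Type u} [CommRing R]
variable {M₁ M₂ M₃ : Type u} [AddCommGroup M₁] [Module R M₁] [AddCommGroup M₂] [Module R M₂]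
  [AddCommGroup M₃] [Module R M₃] [Module.Flat R M₂]
  (i : M₁ →ₗ[R] M₂) (q : M₂ →ₗ[R] M₃) (N : Type u) [AddCommGroup N] [Module R N]

/-- `Tor_1(M₃, N) ≃ ker (M₁ ⊗ N → M₂ ⊗ N)` for `0 → M₁ → M₂ → M₃ → 0` exact with `M₂` flat. -/
theorem nonempty_tor_one_equiv_ker (hi : Injective i) (hex : Exact i q) (hq : Surjective q) :
    Nonempty (TorT R 1 M₃ N ≃ₗ[R] LinearMap.ker (i.rTensor N)) := by
  have hS := shortExact_of i q hi hex hq
  haveI : Module.Flat R (ModuleCat.of R M₂) := ‹Module.Flat R M₂›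
  let e := torFirstOneIsoKernel (ModuleCat.ofHom i) (ModuleCat.ofHom q) _ hS (ModuleCat.of R N)
  let e' := ModuleCat.kernelIsoKer (ModuleCat.ofHom i ▷ ModuleCat.of R N)
  exact ⟨(e ≪≫ e').toLinearEquiv⟩

/-- `Tor_{n+2}(M₃, N) ≃ Tor_{n+1}(M₁, N)`. -/
theorem nonempty_tor_shift (hi : Injective i) (hex : Exact i q) (hq : Surjective q) (n : ℕ) :
    Nonempty (TorT R (n + 2) M₃ N ≃ₗ[R] TorT R (n + 1) M₁ N) := by
  have hS := shortExact_of i q hi hex hq
  haveI : Module.Flat R (ModuleCat.of R M₂) := ‹Module.Flat R M₂›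
  exact ⟨(torFirstShiftIso (ModuleCat.ofHom i) (ModuleCat.ofHom q) _ hS (ModuleCat.of R N)
    n).toLinearEquiv⟩

end Groth.Agent.Lib.helper11.TorKer
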