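import Mathlib
import Groth.Prelude.Def_LCI2
import Groth.Agent.Lib.helper11.KosRegTor
import Groth.Agent.Lib.helper11.TTpowFree
import Groth.Agent.Lib.helper11.ExtPowQuot
import Groth.Agent.Lib.Helper5.KosComp
import Groth.Agent.Lib.Helper5.KosPermC
import Groth.Agent.Lib.Helper16.KPR5

/-!
# `Tor_i(A/(f,g), A/(f,h))` for Koszul-regular `f++g`, `f++h`, `f++g++h` (helper11)

`Tor_i(A/(f,g), A/(f,h)) ≅ (A/(f,g,h))^(p choose i)` with `p = length f`, and the `i`-th exterior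
power over `A` of `Tor_1` is the same module for `i ≥ 1`.
-/

set_option autoImplicit false
universe u

open CategoryTheory CategoryTheory.Limits MonoidalCategory

namespace Groth.Agent.Lib.helper11.TorKosExt

open Groth.Agent.Lib.Helper5.KosComp Groth.Agent.Lib.Helper5.KosPerm Groth.Agent.Lib.Helper5.KosBC

attribute [local instance] HasDerivedCategory.standard

variable {A : Type u} [CommRing A]

/-- `K(l) ⊗ A/(l')` has the homology of `K(l ++ l')` when `l'` is Koszul-regular -/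
theorem homology_tensor_quot (l l' : List A) (hl' : LCI.IsKoszulRegularSeq A l') (n : ℤ) :
    Nonempty ((DRing.tensorCx (Koszul.koszul A l)
        (ModuleCat.of A (A ⧸ Ideal.ofList l'))).homology n ≅
      (Koszul.koszul A (l ++ l')).homology n) := by
  set φ := Ideal.Quotient.mk (Ideal.ofList l') with hφ
  obtain ⟨e⟩ := nonempty_Q_koszul_append_iso l' hl' l
  have e1 := (DerivedCategory.homologyFunctorFactors (ModuleCat.{u} A) n).app
    (Koszul.koszul A (l ++ l'))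
  have e2 := (DerivedCategory.homologyFunctorFactors (ModuleCat.{u} A) n).app
    ((RC φ).obj (Koszul.koszul (A ⧸ Ideal.ofList l') (l.map φ)))
  have e3 : (Koszul.koszul A (l ++ l')).homology n ≅
      ((RC φ).obj (Koszul.koszul (A ⧸ Ideal.ofList l') (l.map φ))).homology n :=
    e1.symm ≪≫ (DerivedCategory.homologyFunctor (ModuleCat.{u} A) n).mapIso e ≪≫ e2
  have c1 : (RC φ).obj ((EC φ).obj (Koszul.koszul A l)) ≅
      (RC φ).obj (Koszul.koszul (A ⧸ Ideal.ofList l') (l.map φ)) :=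
    (RC φ).mapIso (koszulIso φ l)
  have c2 : (RC φ).obj ((EC φ).obj (Koszul.koszul A l)) ≅
      (Groth.Agent.Lib.Helper16.TorAmp.tensCx (Groth.Agent.Lib.Helper16.KPR.asMod φ)).obj
        (Koszul.koszul A l) :=
    Groth.Agent.Lib.Helper16.KPR.restrictExtCxIso φ _
  have c3 : (Groth.Agent.Lib.Helper16.TorAmp.tensCx (Groth.Agent.Lib.Helper16.KPR.asMod φ)).obj
        (Koszul.koszul A l) ≅
      DRing.tensorCx (Koszul.koszul A l) (ModuleCat.of A (A ⧸ Ideal.ofList l')) :=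
    (NatIso.mapHomologicalComplex ((tensoringRight (ModuleCat.{u} A)).mapIso
      (quotIso (Ideal.ofList l'))) (ComplexShape.up ℤ)).app _
  exact ⟨(HomologicalComplex.homologyFunctor _ _ n).mapIso (c3.symm ≪≫ c2.symm ≪≫ c1) ≪≫ e3.symm⟩

/-- `Tor_i(A/(f,g), A/(f,h)) ≃ (A/(f,g,h))^(p choose i)` -/
theorem tor_equiv (f g h : List A) (hfg : LCI.IsKoszulRegularSeq A (f ++ g))
    (hfh : LCI.IsKoszulRegularSeq A (f ++ h)) (hfgh : LCI.IsKoszulRegularSeq A (f ++ g ++ h))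
    (i : ℕ) (hi : 1 ≤ i) :
    Nonempty ((((Tor (ModuleCat.{u} A) i).obj (ModuleCat.of A (A ⧸ Ideal.ofList (f ++ g)))).obj
        (ModuleCat.of A (A ⧸ Ideal.ofList (f ++ h))) : ModuleCat.{u} A) ≃ₗ[A]
      (Fin (f.length.choose i) → A ⧸ Ideal.ofList (f ++ g ++ h))) := by
  obtain ⟨m, rfl⟩ : ∃ m, i = m + 1 := ⟨i - 1, by omega⟩
  obtain ⟨a1⟩ := Groth.Agent.Lib.helper11.KosRegTor.tor_koszul (f ++ g) hfg
    (ModuleCat.of A (A ⧸ Ideal.ofList (f ++ h))) m
  obtain ⟨a2⟩ := homology_tensor_quot (f ++ g) (f ++ h) hfh (-((m + 1 : ℕ) : ℤ))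
  have hp : ((f ++ g) ++ (f ++ h)).Perm (f ++ (f ++ g ++ h)) := by
    rw [List.append_assoc f g (f ++ h), ← List.append_assoc g f h]
    exact List.Perm.append_left f (List.Perm.append_right h List.perm_append_comm)
  have k1 : KIso ((f ++ g) ++ (f ++ h)) (f ++ (f ++ g ++ h)) := KIso.perm hp
  have k2 : KIso (f ++ (f ++ g ++ h)) (List.replicate f.length 0 ++ (f ++ g ++ h)) :=
    KIso.replicate_append f (f ++ g ++ h) (fun z hz => Ideal.subset_span (by
      change z ∈ f ++ g ++ h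
      simp [hz]))
  obtain ⟨a3⟩ := (k1.trans k2).homology (-((m + 1 : ℕ) : ℤ))
  obtain ⟨a4⟩ := homology_replicate (f ++ g ++ h) f.length (-((m + 1 : ℕ) : ℤ))
  obtain ⟨e0⟩ := Groth.Agent.Lib.Helper15.RelPC15.homology_zero_koszul (f ++ g ++ h)
  obtain ⟨a5⟩ := Groth.Agent.Lib.helper11.TTpowFree.free
    (fun j => (Koszul.koszul A (f ++ g ++ h)).homology j)
    (fun j hj => ModuleCat.subsingleton_of_isZero (hfgh j hj)) e0.toLinearEquiv
    f.length (m + 1) (-((m + 1 : ℕ) : ℤ)) rfl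
  exact ⟨(a1 ≪≫ a2).toLinearEquiv ≪≫ₗ a3 ≪≫ₗ a4 ≪≫ₗ a5⟩

/-- the final comparison with the exterior power of `Tor_1` -/
theorem main (f g h : List A) (hfg : LCI.IsKoszulRegularSeq A (f ++ g))
    (hfh : LCI.IsKoszulRegularSeq A (f ++ h)) (hfgh : LCI.IsKoszulRegularSeq A (f ++ g ++ h))
    (i : ℕ) (hi : 1 ≤ i) :
    Nonempty (((Tor (ModuleCat.{u} A) i).obj (ModuleCat.of A (A ⧸ Ideal.ofList (f ++ g)))).obj
        (ModuleCat.of A (A ⧸ Ideal.ofList (f ++ h))) ≅
      ModuleCat.of A (⋀[A]^i (((Tor (ModuleCat.{u} A) 1).obj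
        (ModuleCat.of A (A ⧸ Ideal.ofList (f ++ g)))).obj
        (ModuleCat.of A (A ⧸ Ideal.ofList (f ++ h)))))) := by
  obtain ⟨ei⟩ := tor_equiv f g h hfg hfh hfgh i hi
  obtain ⟨e1⟩ := tor_equiv f g h hfg hfh hfgh 1 le_rfl
  set C := A ⧸ Ideal.ofList (f ++ g ++ h) with hC
  set q := f.length.choose 1 with hq
  have x1 := Groth.Agent.Lib.helper11.ExtPowQuot.mapEquiv i e1
  have x2 : ⋀[A]^i (Fin q → C) ≃ₗ[A] (Set.powersetCard (Fin q) i → C) :=
    Groth.Agent.Lib.helper11.ExtPowQuot.extPowEquiv (Ideal.ofList (f ++ g ++ h))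
      (Pi.basisFun C (Fin q)) i hi
  have hcard : Fintype.card (Set.powersetCard (Fin q) i) = f.length.choose i := by
    rw [← Nat.card_eq_fintype_card, Set.powersetCard.card, Nat.card_eq_fintype_card,
      Fintype.card_fin, hq, Nat.choose_one_right]
  have x3 : (Set.powersetCard (Fin q) i → C) ≃ₗ[A] (Fin (f.length.choose i) → C) :=
    LinearEquiv.funCongrLeft A C (Fintype.equivFinOfCardEq hcard).symm
  exact ⟨(ei ≪≫ₗ (x1 ≪≫ₗ x2 ≪≫ₗ x3).symm).toModuleIso⟩

end Groth.Agent.Lib.helper11.TorKosExt
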