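import Mathlib
import Groth.Agent.Lib.helper11.TorKer2
import Groth.Agent.Lib.helper11.FinLenArt
import Groth.Agent.Lib.helper11.CanonFrac

/-!
# Torsion of `B ⊗ M` as `Tor₁(B, T')` for a lattice `M ⊆ O^n` with cokernel `T'` (helper11)
-/

set_option autoImplicit false

namespace Groth.Agent.Lib.helper11.TorTorsion

open TensorProduct IsLocalRing
open Groth.Agent.Lib.Helper21.TorShift

universe u

section Domain

variable {O : Type u} [CommRing O] [IsDomain O]

/-- a finite length module over a one-dimensional Noetherian local domain is killed by a nonzero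
element. -/
theorem exists_ne_zero_smul_eq_zero [IsNoetherianRing O] [IsLocalRing O]
    (hdim : ringKrullDim O = 1) (T : Type u) [AddCommGroup T] [Module O T]
    (hT : IsFiniteLength O T) : ∃ a : O, a ≠ 0 ∧ ∀ t : T, a • t = 0 := by
  obtain ⟨j, hj⟩ := Groth.Agent.Lib.helper11.FinLenArt.exists_pow_le_annihilator_of_isFiniteLength T hT
  obtain ⟨x, hx, hx0⟩ := Groth.Agent.Lib.helper11.CanonFrac.exists_mem_maximalIdeal_ne_zero hdim
  refine ⟨x ^ j, pow_ne_zero j hx0, fun t => ?_⟩
  exact Module.mem_annihilator.mp (hj (Ideal.pow_mem_pow hx j)) t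

variable (B : Type u) [AddCommGroup B] [Module O B] [NoZeroSMulDivisors O B]
  {M : Type u} [AddCommGroup M] [Module O M]

theorem torsion_eq_ker (n : ℕ) (g : M →ₗ[O] (Fin n → O)) (hg : Function.Injective g)
    (a : O) (ha : a ≠ 0) (haT : ∀ y : Fin n → O, a • y ∈ LinearMap.range g) :
    Submodule.torsion O (B ⊗[O] M) = LinearMap.ker (g.lTensor B) := by
  classical
  ext x
  rw [Submodule.mem_torsion_iff, LinearMap.mem_ker]
  constructor
  · rintro ⟨b, hb⟩
    let e := TensorProduct.piScalarRight O O B (Fin n)
    have h1 : (b : O) • (g.lTensor B x) = 0 := by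
      have : (b : O) • (g.lTensor B x) = g.lTensor B ((b : O) • x) := (map_smul _ _ _).symm
      rw [this]
      have hb' : (b : O) • x = 0 := hb
      rw [hb', map_zero]
    have h2 : (b : O) • e (g.lTensor B x) = 0 := by
      rw [← map_smul, h1, map_zero]
    have h3 : e (g.lTensor B x) = 0 :=
      (smul_eq_zero.mp h2).resolve_left (nonZeroDivisors.ne_zero b.2)
    exact e.injective (by rw [h3, map_zero])
  · intro hx
    let eg := LinearEquiv.ofInjective g hg
    let h : (Fin n → O) →ₗ[O] M :=
      eg.symm.toLinearMap ∘ₗ LinearMap.codRestrict (LinearMap.range g) (a • LinearMap.id) haT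
    have hgh : ∀ y, g (h y) = a • y := by
      intro y
      have : (eg (h y) : Fin n → O) = a • y := by
        change (eg (eg.symm _) : Fin n → O) = a • y
        rw [LinearEquiv.apply_symm_apply]
        rfl
      exact this
    have hhg : h ∘ₗ g = a • LinearMap.id := by
      ext m
      apply hg
      change g (h (g m)) = g (a • m)
      rw [hgh, map_smul]
    refine ⟨⟨a, mem_nonZeroDivisors_of_ne_zero ha⟩, ?_⟩
    change a • x = 0
    have : a • x = (h ∘ₗ g).lTensor B x := by
      rw [hhg, LinearMap.lTensor_smul, LinearMap.lTensor_id]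
      rfl
    rw [this, LinearMap.lTensor_comp, LinearMap.comp_apply, hx, map_zero]

/-- the torsion of `B ⊗ M` is `Tor₁(B, O^n/M)`. -/
theorem main [IsNoetherianRing O] [IsLocalRing O] (hdim : ringKrullDim O = 1)
    (n : ℕ) (g : M →ₗ[O] (Fin n → O)) (hg : Function.Injective g)
    (hT : IsFiniteLength O ((Fin n → O) ⧸ LinearMap.range g)) :
    Nonempty (↥(Submodule.torsion O (B ⊗[O] M)) ≃ₗ[O]
      TorT O 1 B ((Fin n → O) ⧸ LinearMap.range g)) := by
  obtain ⟨a, ha, haT⟩ := exists_ne_zero_smul_eq_zero hdim _ hT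
  have haT' : ∀ y : Fin n → O, a • y ∈ LinearMap.range g := by
    intro y
    have := haT ((LinearMap.range g).mkQ y)
    rwa [← map_smul, ← LinearMap.mem_ker, Submodule.ker_mkQ] at this
  obtain ⟨e⟩ := Groth.Agent.Lib.helper11.TorKer2.nonempty_tor_one_equiv_ker B g
    (LinearMap.range g).mkQ hg (LinearMap.exact_map_mkQ_range g)
    (Submodule.mkQ_surjective _)
  exact ⟨(LinearEquiv.ofEq _ _ (torsion_eq_ker B n g hg a ha haT')).trans e.symm⟩

/-- the integral closure in the fraction field is a torsion-free module. -/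
theorem noZeroSMulDivisors_integralClosure (K : Type u) [Field K] [Algebra O K]
    [IsFractionRing O K] : NoZeroSMulDivisors O ↥(integralClosure O K) := by
  refine ⟨fun {a b} h => ?_⟩
  have h1 : a • (b : K) = 0 := congrArg Subtype.val h
  rw [Algebra.smul_def] at h1
  rcases mul_eq_zero.mp h1 with h2 | h2
  · left
    exact (IsFractionRing.injective O K) (by rw [h2, map_zero])
  · exact Or.inr (Subtype.ext h2)

theorem main_integralClosure [IsNoetherianRing O] [IsLocalRing O] (hdim : ringKrullDim O = 1)
    (K : Type u) [Field K] [Algebra O K] [IsFractionRing O K]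
    (n : ℕ) (g : M →ₗ[O] (Fin n → O)) (hg : Function.Injective g)
    (hT : IsFiniteLength O ((Fin n → O) ⧸ LinearMap.range g)) :
    Nonempty (↥(Submodule.torsion O (↥(integralClosure O K) ⊗[O] M)) ≃ₗ[O]
      TorT O 1 ↥(integralClosure O K) ((Fin n → O) ⧸ LinearMap.range g)) := by
  haveI := noZeroSMulDivisors_integralClosure (O := O) K
  exact main ↥(integralClosure O K) hdim n g hg hT

end Domain

end Groth.Agent.Lib.helper11.TorTorsion
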