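import Mathlib
import Groth.Agent.Lib.helper11.TorTorsion

/-!
# `Tor₁(B, M) ≃ Tor₁(B, M/O^n)` for a full free sublattice `O^n ⊆ M` (helper11)
-/

set_option autoImplicit false

namespace Groth.Agent.Lib.helper11.TorTorsion2

open TensorProduct IsLocalRing
open Groth.Agent.Lib.Helper21.TorShift

universe u

section General

variable {O : Type u} [CommRing O] (B : Type u) [AddCommGroup B] [Module O B]
  {M : Type u} [AddCommGroup M] [Module O M] [Module.Finite O M]

/-- If `f : O^n → M` is injective and stays injective after `B ⊗ -`, then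
`Tor₁(B, M) ≃ Tor₁(B, M/O^n)`. -/
theorem tor_iso (n : ℕ) (f : (Fin n → O) →ₗ[O] M) (hf : Function.Injective f)
    (hfB : Function.Injective (f.lTensor B)) :
    Nonempty (TorT O 1 B M ≃ₗ[O] TorT O 1 B (M ⧸ LinearMap.range f)) := by
  classical
  obtain ⟨r, p, hp⟩ := Module.Finite.exists_fin' O M
  let q : (Fin r → O) →ₗ[O] M ⧸ LinearMap.range f := (LinearMap.range f).mkQ ∘ₗ p
  have hq : Function.Surjective q := (Submodule.mkQ_surjective _).comp hp
  have hKK' : LinearMap.ker p ≤ LinearMap.ker q := by
    intro x hx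
    rw [LinearMap.mem_ker] at hx ⊢
    change (LinearMap.range f).mkQ (p x) = 0
    rw [hx, map_zero]
  obtain ⟨e1⟩ := Groth.Agent.Lib.helper11.TorKer2.nonempty_tor_one_equiv_ker B
    (LinearMap.ker p).subtype p Subtype.val_injective (LinearMap.exact_subtype_ker_map p) hp
  obtain ⟨e2⟩ := Groth.Agent.Lib.helper11.TorKer2.nonempty_tor_one_equiv_ker B
    (LinearMap.ker q).subtype q Subtype.val_injective (LinearMap.exact_subtype_ker_map q) hq
  let ι : ↥(LinearMap.ker p) →ₗ[O] ↥(LinearMap.ker q) := Submodule.inclusion hKK'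
  obtain ⟨s', hs'⟩ := Module.projective_lifting_property p f hp
  have hps' : ∀ y, p (s' y) = f y := fun y => LinearMap.congr_fun hs' y
  have hφmem : ∀ x : ↥(LinearMap.ker q), (p ∘ₗ (LinearMap.ker q).subtype) x ∈ LinearMap.range f := by
    intro x
    have hx : q x = 0 := x.2
    change (LinearMap.range f).mkQ (p x) = 0 at hx
    rwa [← LinearMap.mem_ker, Submodule.ker_mkQ] at hx
  let ef := LinearEquiv.ofInjective f hf
  let φ : ↥(LinearMap.ker q) →ₗ[O] (Fin n → O) :=
    ef.symm.toLinearMap ∘ₗ LinearMap.codRestrict (LinearMap.range f)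
      (p ∘ₗ (LinearMap.ker q).subtype) hφmem
  have hfφ : ∀ x : ↥(LinearMap.ker q), f (φ x) = p x := by
    intro x
    have : (ef (φ x) : M) = p x := by
      change (ef (ef.symm _) : M) = p x
      rw [LinearEquiv.apply_symm_apply]
      rfl
    exact this
  let π : ↥(LinearMap.ker q) →ₗ[O] ↥(LinearMap.ker p) :=
    LinearMap.codRestrict (LinearMap.ker p) ((LinearMap.ker q).subtype - s' ∘ₗ φ) (by
      intro x
      rw [LinearMap.mem_ker]
      change p ((x : Fin r → O) - s' (φ x)) = 0
      rw [map_sub, hps', hfφ, sub_self])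
  let s'' : (Fin n → O) →ₗ[O] ↥(LinearMap.ker q) :=
    LinearMap.codRestrict (LinearMap.ker q) s' (by
      intro y
      rw [LinearMap.mem_ker]
      change (LinearMap.range f).mkQ (p (s' y)) = 0
      rw [hps', ← LinearMap.mem_ker, Submodule.ker_mkQ]
      exact ⟨y, rfl⟩)
  have hφι : ∀ x : ↥(LinearMap.ker p), φ (ι x) = 0 := by
    intro x
    apply hf
    rw [hfφ, map_zero]
    exact x.2
  have hπι : π ∘ₗ ι = LinearMap.id := by
    ext x : 1
    apply Subtype.ext
    change ((ι x : Fin r → O)) - s' (φ (ι x)) = (x : Fin r → O)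
    rw [hφι, map_zero, sub_zero]
    rfl
  have hdecomp : ι ∘ₗ π + s'' ∘ₗ φ = LinearMap.id := by
    ext x : 1
    apply Subtype.ext
    change ((x : Fin r → O) - s' (φ x)) + s' (φ x) = (x : Fin r → O)
    rw [sub_add_cancel]
  have hsub : (LinearMap.ker q).subtype ∘ₗ ι = (LinearMap.ker p).subtype := rfl
  have hpφ : p ∘ₗ (LinearMap.ker q).subtype = f ∘ₗ φ := by
    ext x : 1
    exact (hfφ x).symm
  -- the map on kernels
  let Φ : ↥(LinearMap.ker ((LinearMap.ker p).subtype.lTensor B)) →ₗ[O]
      ↥(LinearMap.ker ((LinearMap.ker q).subtype.lTensor B)) :=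
    (ι.lTensor B).restrict (by
      intro w hw
      rw [LinearMap.mem_ker] at hw ⊢
      rw [← LinearMap.comp_apply, ← LinearMap.lTensor_comp, hsub, hw])
  have hΦ : Function.Bijective Φ := by
    constructor
    · intro w₁ w₂ h
      have h1 : ι.lTensor B (w₁ : B ⊗[O] ↥(LinearMap.ker p)) = ι.lTensor B w₂ :=
        congrArg Subtype.val h
      have h2 := congrArg (π.lTensor B) h1
      rw [← LinearMap.comp_apply, ← LinearMap.comp_apply, ← LinearMap.lTensor_comp, hπι,
        LinearMap.lTensor_id] at h2
      exact Subtype.ext h2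
    · rintro ⟨z, hz⟩
      rw [LinearMap.mem_ker] at hz
      have hφz : φ.lTensor B z = 0 := by
        apply hfB
        rw [map_zero, ← LinearMap.comp_apply, ← LinearMap.lTensor_comp, ← hpφ,
          LinearMap.lTensor_comp, LinearMap.comp_apply, hz, map_zero]
      have hz' : z = ι.lTensor B (π.lTensor B z) := by
        have h1 : z = (ι ∘ₗ π + s'' ∘ₗ φ).lTensor B z := by
          rw [hdecomp, LinearMap.lTensor_id]; rfl
        rw [LinearMap.lTensor_add, LinearMap.add_apply, LinearMap.lTensor_comp,
          LinearMap.lTensor_comp, LinearMap.comp_apply, LinearMap.comp_apply, hφz, map_zero,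
          add_zero] at h1
        exact h1
      have hw : π.lTensor B z ∈ LinearMap.ker ((LinearMap.ker p).subtype.lTensor B) := by
        rw [LinearMap.mem_ker, ← hsub, LinearMap.lTensor_comp, LinearMap.comp_apply, ← hz', hz]
      refine ⟨⟨π.lTensor B z, hw⟩, ?_⟩
      apply Subtype.ext
      exact hz'.symm
  exact ⟨e1.trans ((LinearEquiv.ofBijective Φ hΦ).trans e2.symm)⟩

end General

section Domain

variable {O : Type u} [CommRing O] [IsDomain O]
  (B : Type u) [AddCommGroup B] [Module O B] [NoZeroSMulDivisors O B]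
  {M : Type u} [AddCommGroup M] [Module O M] [NoZeroSMulDivisors O M]

omit [NoZeroSMulDivisors O M] in
/-- `B ⊗ f` is injective when `a M ⊆ f(O^n)` for some `a ≠ 0`. -/
theorem lTensor_injective (n : ℕ) (f : (Fin n → O) →ₗ[O] M) (hf : Function.Injective f)
    (a : O) (ha : a ≠ 0) (haT : ∀ m : M, a • m ∈ LinearMap.range f) :
    Function.Injective (f.lTensor B) := by
  classical
  let ef := LinearEquiv.ofInjective f hf
  let h : M →ₗ[O] (Fin n → O) :=
    ef.symm.toLinearMap ∘ₗ LinearMap.codRestrict (LinearMap.range f) (a • LinearMap.id) haT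
  have hfh : ∀ m, f (h m) = a • m := by
    intro m
    have : (ef (h m) : M) = a • m := by
      change (ef (ef.symm _) : M) = a • m
      rw [LinearEquiv.apply_symm_apply]
      rfl
    exact this
  have hhf : h ∘ₗ f = a • LinearMap.id := by
    refine LinearMap.ext fun y => ?_
    apply hf
    change f (h (f y)) = f (a • y)
    rw [hfh, map_smul]
  rw [injective_iff_map_eq_zero]
  intro x hx
  let e := TensorProduct.piScalarRight O O B (Fin n)
  have h1 : a • x = 0 := by
    have : a • x = (h ∘ₗ f).lTensor B x := by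
      rw [hhf, LinearMap.lTensor_smul, LinearMap.lTensor_id]
      rfl
    rw [this, LinearMap.lTensor_comp, LinearMap.comp_apply, hx, map_zero]
  have h2 : a • e x = 0 := by rw [← map_smul, h1, map_zero]
  have h3 : e x = 0 := (smul_eq_zero.mp h2).resolve_left ha
  exact e.injective (by rw [h3, map_zero])

omit [NoZeroSMulDivisors O M] in
theorem main [IsNoetherianRing O] [IsLocalRing O] (hdim : ringKrullDim O = 1)
    [Module.Finite O M]
    (n : ℕ) (f : (Fin n → O) →ₗ[O] M) (hf : Function.Injective f)
    (hT : IsFiniteLength O (M ⧸ LinearMap.range f)) :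
    Nonempty (TorT O 1 B M ≃ₗ[O] TorT O 1 B (M ⧸ LinearMap.range f)) ∧
      Function.Injective (f.lTensor B) := by
  obtain ⟨a, ha, haT⟩ := Groth.Agent.Lib.helper11.TorTorsion.exists_ne_zero_smul_eq_zero hdim _ hT
  have haT' : ∀ m : M, a • m ∈ LinearMap.range f := by
    intro m
    have := haT ((LinearMap.range f).mkQ m)
    rwa [← map_smul, ← LinearMap.mem_ker, Submodule.ker_mkQ] at this
  have hinj := lTensor_injective B n f hf a ha haT'
  exact ⟨tor_iso B n f hf hinj, hinj⟩

omit [NoZeroSMulDivisors O M] in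
theorem main_integralClosure [IsNoetherianRing O] [IsLocalRing O] (hdim : ringKrullDim O = 1)
    (K : Type u) [Field K] [Algebra O K] [IsFractionRing O K] [Module.Finite O M]
    (n : ℕ) (f : (Fin n → O) →ₗ[O] M) (hf : Function.Injective f)
    (hT : IsFiniteLength O (M ⧸ LinearMap.range f)) :
    Nonempty (TorT O 1 ↥(integralClosure O K) M ≃ₗ[O]
        TorT O 1 ↥(integralClosure O K) (M ⧸ LinearMap.range f)) ∧
      Function.Injective (f.lTensor ↥(integralClosure O K)) := by
  haveI := Groth.Agent.Lib.helper11.TorTorsion.noZeroSMulDivisors_integralClosure (O := O) K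
  exact main ↥(integralClosure O K) hdim n f hf hT

end Domain

end Groth.Agent.Lib.helper11.TorTorsion2
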