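import Mathlib
import Groth.Prelude.Def_AbDual
import Groth.Agent.Lib.helper11.MulEtaleComm
import Groth.Agent.S17448

/-!
# Lifting torsion points over a henselian local ring (helper11)
-/

set_option autoImplicit false
set_option linter.style.haveILetI false
universe u

open CategoryTheory Limits MonoidalCategory CartesianMonoidalCategory MonObj GrpObj AlgebraicGeometry

namespace Groth.Agent.Lib.helper11.TorsLift

open Groth.Agent.Lib.helper11

/-- étale morphisms are locally quasi-finite -/
theorem locallyQuasiFinite_of_etale {X Y : Scheme.{u}} (f : X ⟶ Y) [Etale f] :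
    LocallyQuasiFinite f := by
  refine ⟨fun {U} hU {V} hV e => ?_⟩
  have h := HasRingHomProperty.appLE (P := @Etale) f inferInstance ⟨U, hU⟩ ⟨V, hV⟩ e
  algebraize [(f.appLE U V e).hom]
  change Algebra.QuasiFinite _ _
  infer_instance

variable (R : Type u) [CommRing R] [HenselianLocalRing R]
  (G : Over (Spec (CommRingCat.of R))) [GrpObj G] [IsCommMonObj G]
  [Smooth G.hom] [IsSeparated G.hom] [QuasiCompact G.hom]

/-- **S19658** -/
theorem main (N : ℕ) (hN : IsUnit (N : R))
    (τ : Over.mk (Spec.map (CommRingCat.ofHom (IsLocalRing.residue R))) ⟶ G)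
    (hτ : τ ∈ AbDual.torsPts G N (Over.mk (Spec.map (CommRingCat.ofHom (IsLocalRing.residue R))))) :
    ∃! σ : Over.mk (𝟙 (Spec (CommRingCat.of R))) ⟶ G,
      σ ∈ AbDual.torsPts G N (Over.mk (𝟙 (Spec (CommRingCat.of R)))) ∧
        Over.homMk (Spec.map (CommRingCat.ofHom (IsLocalRing.residue R))) (Category.comp_id _) ≫ σ
          = τ := by
  let B : Scheme.{u} := Spec (CommRingCat.of R)
  let r : Spec (CommRingCat.of (IsLocalRing.ResidueField R)) ⟶ B :=
    Spec.map (CommRingCat.ofHom (IsLocalRing.residue R))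
  let u : G ⟶ G := 𝟙 G ^ N
  have hu : Etale u.left :=
    MulEtaleComm.etale_pow_nat G N (MulEtaleComm.natCast_residue_ne_zero R N hN)
  haveI := hu
  have hη : η[G].left ≫ G.hom = 𝟙 B := Over.w η[G]
  haveI : IsClosedImmersion η[G].left := by
    haveI : IsClosedImmersion (η[G].left ≫ G.hom) := by
      rw [hη]; exact inferInstanceAs (IsClosedImmersion (𝟙 (Spec (CommRingCat.of R))))
    exact IsClosedImmersion.of_comp η[G].left G.hom
  let K := pullback u.left η[G].left
  let p : K ⟶ B := pullback.snd u.left η[G].left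
  let j : K ⟶ G.left := pullback.fst u.left η[G].left
  have hjp : j ≫ G.hom = p := by
    have h1 : j ≫ u.left = p ≫ η[G].left := pullback.condition
    have h2 := congrArg (fun t => t ≫ G.hom) h1
    simp only [Category.assoc, Over.w, hη] at h2
    simpa using h2
  haveI : Etale p := inferInstanceAs (Etale (pullback.snd u.left η[G].left))
  haveI : IsClosedImmersion j := inferInstanceAs (IsClosedImmersion (pullback.fst u.left η[G].left))
  haveI : IsSeparated p := by rw [← hjp]; infer_instance
  haveI : QuasiCompact p := by rw [← hjp]; infer_instance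
  haveI : LocallyQuasiFinite p := locallyQuasiFinite_of_etale p
  -- the one of the hom groups
  have hone : ∀ (T : Over B) (a : T ⟶ G), a ^ N = 1 ↔ a.left ≫ u.left = T.hom ≫ η[G].left := by
    intro T a
    have e1 : a ^ N = a ≫ u := by
      show a ^ N = a ≫ (𝟙 G ^ N)
      rw [MonObj.comp_pow, Category.comp_id]
    rw [e1]
    constructor
    · intro h
      have := congrArg (fun t => t.left) h
      simpa [Hom.one_def] using this
    · intro h
      ext1
      simpa [Hom.one_def] using h
  have hτ' : τ.left ≫ u.left = r ≫ η[G].left := (hone _ τ).1 hτ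
  have hτw : τ.left ≫ G.hom = r := Over.w τ
  let t : Spec (CommRingCat.of (IsLocalRing.ResidueField R)) ⟶ K :=
    pullback.lift τ.left r hτ'
  have htj : t ≫ j = τ.left := pullback.lift_fst _ _ _
  have htp : t ≫ p = r := pullback.lift_snd _ _ _
  obtain ⟨s, ⟨hs1, hs2⟩, hsuniq⟩ := Groth.Agent.S17448.result R p t htp
  have hσw : (s ≫ j) ≫ G.hom = 𝟙 B := by rw [Category.assoc, hjp, hs1]
  refine ⟨Over.homMk (s ≫ j) (by simpa using hσw), ⟨?_, ?_⟩, ?_⟩
  · rw [AbDual.mem_torsPts, hone]
    show (s ≫ j) ≫ u.left = 𝟙 B ≫ η[G].left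
    rw [Category.assoc, show j ≫ u.left = p ≫ η[G].left from pullback.condition,
      ← Category.assoc, hs1]
  · ext1
    show r ≫ s ≫ j = τ.left
    rw [← Category.assoc, hs2, htj]
  · rintro σ' ⟨hσ'1, hσ'2⟩
    have h1 : σ'.left ≫ u.left = 𝟙 B ≫ η[G].left := (hone _ σ').1 hσ'1
    let s' : B ⟶ K := pullback.lift σ'.left (𝟙 B) h1
    have hs'j : s' ≫ j = σ'.left := pullback.lift_fst _ _ _
    have hs'p : s' ≫ p = 𝟙 B := pullback.lift_snd _ _ _
    have h2 : r ≫ σ'.left = τ.left := by
      have := congrArg (fun t => t.left) hσ'2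
      simpa using this
    have hs't : r ≫ s' = t := by
      apply pullback.hom_ext
      · show (r ≫ s') ≫ j = t ≫ j
        rw [Category.assoc, hs'j, h2, htj]
      · show (r ≫ s') ≫ p = t ≫ p
        rw [Category.assoc, hs'p, Category.comp_id, htp]
    have := hsuniq s' ⟨hs'p, hs't⟩
    ext1
    show σ'.left = s ≫ j
    rw [← hs'j, this]

end Groth.Agent.Lib.helper11.TorsLift
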