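import Mathlib
import Groth.Agent.Lib.helper11.MulEtaleComm

/-!
# Torsion of order invertible on a local base injects under reduction (helper11)

`N` a commutative, flat, locally finitely presented, separated group scheme over `Spec R`, `R`
local, `n` a unit of `R`; a section `x` with `x ^ n = 1` which passes through the identity point
of the closed fibre is the unit section.  (`[n]` is étale, so the kernel of `[n]` is étale over
`Spec R`; its unit section is an open immersion; the closed point of a local scheme lies in no
proper open subset.)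
-/

set_option autoImplicit false
universe u
open CategoryTheory CategoryTheory.Limits MonoidalCategory CartesianMonoidalCategory MonObj
  AlgebraicGeometry

namespace Groth.Agent.Lib.helper11.TorsRed

open Groth.Agent.Lib.helper11

theorem eq_one_of_pow_eq_one (R : Type u) [CommRing R] [IsLocalRing R]
    (N : Over (Spec (CommRingCat.of R))) [GrpObj N] [IsCommMonObj N] [Flat N.hom]
    [LocallyOfFinitePresentation N.hom] [IsSeparated N.hom]
    (n : ℕ) (hn : IsUnit (n : R))
    (x : 𝟙_ (Over (Spec (CommRingCat.of R))) ⟶ N) (hx : x ^ n = 1)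
    (hred : x.left.base (IsLocalRing.closedPoint R) = (η[N]).left.base (IsLocalRing.closedPoint R)) :
    x = 1 := by
  obtain ⟨u, hu⟩ : ∃ u : N ⟶ N, u = 𝟙 N ^ n := ⟨_, rfl⟩
  haveI : Etale u.left := by
    rw [hu]
    exact MulEtaleComm.etale_pow_nat N n (MulEtaleComm.natCast_residue_ne_zero R n hn)
  have hη : η[N].left ≫ N.hom = 𝟙 _ := by
    have := Over.w η[N]
    simpa using this
  haveI : IsClosedImmersion η[N].left := by
    haveI : IsClosedImmersion (η[N].left ≫ N.hom) := by rw [hη]; infer_instance
    exact IsClosedImmersion.of_comp η[N].left N.hom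
  let P : Scheme.{u} := pullback u.left η[N].left
  let p : P ⟶ Spec (CommRingCat.of R) := pullback.snd u.left η[N].left
  let j : P ⟶ N.left := pullback.fst u.left η[N].left
  haveI : Etale p := inferInstanceAs (Etale (pullback.snd u.left η[N].left))
  haveI : IsClosedImmersion j := inferInstanceAs (IsClosedImmersion (pullback.fst u.left η[N].left))
  have hone : ∀ (a : 𝟙_ (Over (Spec (CommRingCat.of R))) ⟶ N),
      a ^ n = 1 → a.left ≫ u.left = η[N].left := by
    intro a h
    have e1 : a ^ n = a ≫ u := by
      rw [hu, MonObj.comp_pow, Category.comp_id]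
    rw [e1] at h
    have := congrArg (fun t => t.left) h
    simpa [Hom.one_def] using this
  have hx' : x.left ≫ u.left = 𝟙 _ ≫ η[N].left := by
    rw [Category.id_comp]; exact hone x hx
  have he' : η[N].left ≫ u.left = 𝟙 _ ≫ η[N].left := by
    rw [Category.id_comp]
    have h1 : (1 : 𝟙_ (Over (Spec (CommRingCat.of R))) ⟶ N) ^ n = 1 := one_pow n
    have := hone 1 h1
    simpa [Hom.one_def] using this
  let sx : Spec (CommRingCat.of R) ⟶ P := pullback.lift x.left (𝟙 _) hx'
  let se : Spec (CommRingCat.of R) ⟶ P := pullback.lift η[N].left (𝟙 _) he'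
  have hsxj : sx ≫ j = x.left := pullback.lift_fst _ _ _
  have hsxp : sx ≫ p = 𝟙 _ := pullback.lift_snd _ _ _
  have hsej : se ≫ j = η[N].left := pullback.lift_fst _ _ _
  have hsep : se ≫ p = 𝟙 _ := pullback.lift_snd _ _ _
  -- the unit section of the kernel is an open immersion
  haveI : Etale (se ≫ p) := by rw [hsep]; infer_instance
  haveI : Etale se := Etale.of_comp se p
  haveI : Mono se := mono_of_mono_fac hsep
  haveI : IsOpenImmersion se := IsOpenImmersion.of_flat_of_mono se
  -- the preimage of its range under `sx` is an open set containing the closed point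
  have hopen : IsOpen (sx ⁻¹' Set.range se) :=
    se.isOpenEmbedding.isOpen_range.preimage sx.continuous
  have hmem : IsLocalRing.closedPoint R ∈ sx ⁻¹' Set.range se := by
    refine ⟨IsLocalRing.closedPoint R, ?_⟩
    apply j.isClosedEmbedding.injective
    show j (se (IsLocalRing.closedPoint R)) = j (sx (IsLocalRing.closedPoint R))
    rw [← Scheme.Hom.comp_apply, ← Scheme.Hom.comp_apply, hsej, hsxj]
    exact hred.symm
  have huniv : sx ⁻¹' Set.range se = Set.univ := by
    have := (IsLocalRing.closedPoint_mem_iff (R := R)
      (U := ⟨sx ⁻¹' Set.range se, hopen⟩)).1 hmem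
    exact congrArg (fun U : TopologicalSpace.Opens (PrimeSpectrum R) => U.carrier) this
  have hr : Set.range sx ⊆ Set.range se := by
    rintro _ ⟨z, rfl⟩
    have : z ∈ sx ⁻¹' Set.range se := by rw [huniv]; trivial
    exact this
  let l := IsOpenImmersion.lift se sx hr
  have hl : l ≫ se = sx := IsOpenImmersion.lift_fac _ _ _
  have hl1 : l = 𝟙 _ := by
    have := congrArg (fun t => t ≫ p) hl
    simp only [Category.assoc, hsep, hsxp, Category.comp_id] at this
    exact this
  have hsx : sx = se := by rw [← hl, hl1, Category.id_comp]
  ext1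
  have : x.left = η[N].left := by rw [← hsxj, ← hsej, hsx]
  simpa [Hom.one_def] using this

end Groth.Agent.Lib.helper11.TorsRed
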