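import Mathlib
import Groth.Prelude.Def_Wider

/-!
# Resolutions of power-torsion modules by direct sums of `R/I^n` (S7089)
-/

set_option autoImplicit false
universe u

namespace Groth.Agent.Lib.helper11.TorsRes

open CategoryTheory CategoryTheory.Limits LocCoh

variable {R : Type u} [CommRing R] (I : Ideal R)

section Cover

variable (N : Type u) [AddCommGroup N] [Module R N] (hN : IsPowerTorsion I N)

/-- exponent killing `x`. -/
noncomputable def expo (x : N) : ℕ := (hN x).choose

lemma expo_spec (x : N) : ∀ a ∈ I ^ expo I N hN x, a • x = 0 := (hN x).choose_spec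

/-- the cover of `N` by a direct sum of `R/I^n`. -/
abbrev Cov : Type u := DirectSum N (fun x => R ⧸ I ^ expo I N hN x)

/-- the component `R/I^n → N`, `1 ↦ x`. -/
noncomputable def covComp (x : N) : (R ⧸ I ^ expo I N hN x) →ₗ[R] N :=
  Submodule.liftQ _ (LinearMap.toSpanSingleton R N x) (by
    intro a ha
    rw [LinearMap.mem_ker, LinearMap.toSpanSingleton_apply]
    exact expo_spec I N hN x a ha)

lemma covComp_one (x : N) : covComp I N hN x (Submodule.Quotient.mk 1) = x := by
  change LinearMap.toSpanSingleton R N x 1 = x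
  simp

open Classical in
/-- the covering map. -/
noncomputable def covMap : Cov I N hN →ₗ[R] N :=
  DirectSum.toModule R N N (fun x => covComp I N hN x)

lemma covMap_surjective : Function.Surjective (covMap I N hN) := by
  classical
  intro x
  refine ⟨DirectSum.lof R N (fun x => R ⧸ I ^ expo I N hN x) x (Submodule.Quotient.mk 1), ?_⟩
  rw [covMap, DirectSum.toModule_lof, covComp_one]

lemma quot_torsion (n : ℕ) (y : R ⧸ I ^ n) : ∀ a ∈ I ^ n, a • y = 0 := by
  intro a ha
  obtain ⟨r, rfl⟩ := Submodule.Quotient.mk_surjective _ y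
  rw [← Submodule.Quotient.mk_smul, Submodule.Quotient.mk_eq_zero]
  exact Ideal.mul_mem_right _ _ ha

lemma cov_torsion : IsPowerTorsion I (Cov I N hN) := by
  classical
  intro z
  induction z using DirectSum.induction_on with
  | zero => exact ⟨0, fun a _ => smul_zero a⟩
  | of x y =>
    refine ⟨expo I N hN x, fun a ha => ?_⟩
    have : a • (DirectSum.of (fun x => R ⧸ I ^ expo I N hN x) x y) =
        DirectSum.lof R N (fun x => R ⧸ I ^ expo I N hN x) x (a • y) := by
      rw [map_smul]
      rfl
    rw [this, quot_torsion I _ y a ha, map_zero]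
  | add z w hz hw =>
    obtain ⟨k, hk⟩ := hz
    obtain ⟨l, hl⟩ := hw
    refine ⟨k + l, fun a ha => ?_⟩
    rw [smul_add, hk a (Ideal.pow_le_pow_right (Nat.le_add_right k l) ha),
      hl a (Ideal.pow_le_pow_right (Nat.le_add_left l k) ha), add_zero]

lemma ker_torsion : IsPowerTorsion I (LinearMap.ker (covMap I N hN)) := by
  intro z
  obtain ⟨n, hn⟩ := cov_torsion I N hN z.1
  exact ⟨n, fun a ha => Subtype.ext (hn a ha)⟩

end Cover

section Seq

/-- bundled power-torsion modules. -/
structure TMod where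
  carrier : ModuleCat.{u} R
  tors : IsPowerTorsion I carrier

variable {I}

/-- kernel of the cover. -/
noncomputable def TMod.next (T : TMod I) : TMod I :=
  ⟨ModuleCat.of R (LinearMap.ker (covMap I T.carrier T.tors)), ker_torsion I T.carrier T.tors⟩

/-- the syzygy sequence. -/
noncomputable def seq (M : TMod I) : ℕ → TMod I
  | 0 => M
  | n + 1 => (seq M n).next

variable (M : TMod I)

/-- terms of the resolution. -/
noncomputable def L (n : ℕ) : ModuleCat.{u} R :=
  ModuleCat.of R (Cov I (seq M n).carrier (seq M n).tors)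

/-- `L n → N n`. -/
noncomputable def p (n : ℕ) : L M n ⟶ (seq M n).carrier :=
  ModuleCat.ofHom (covMap I (seq M n).carrier (seq M n).tors)

/-- `N (n+1) → L n`. -/
noncomputable def ι (n : ℕ) : (seq M (n + 1)).carrier ⟶ L M n :=
  ModuleCat.ofHom (LinearMap.ker (covMap I (seq M n).carrier (seq M n).tors)).subtype

lemma p_surjective (n : ℕ) : Function.Surjective (p M n).hom :=
  covMap_surjective I _ _

lemma ι_injective (n : ℕ) : Function.Injective (ι M n).hom :=
  Submodule.injective_subtype _

lemma ι_p (n : ℕ) : ι M n ≫ p M n = 0 := by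
  ext x
  exact x.2

lemma exists_of_p_eq_zero (n : ℕ) (x : L M n) (hx : (p M n).hom x = 0) :
    ∃ y, (ι M n).hom y = x :=
  ⟨⟨x, hx⟩, rfl⟩

/-- the resolution. -/
noncomputable def K : ChainComplex (ModuleCat.{u} R) ℕ :=
  ChainComplex.of (L M) (fun n => p M (n + 1) ≫ ι M n) (fun n => by
    rw [Category.assoc, ← Category.assoc (ι M (n + 1)), ι_p, zero_comp, comp_zero])

lemma K_d (n : ℕ) : (K M).d (n + 1) n = p M (n + 1) ≫ ι M n := by
  simp [K]

lemma K_exactAt_succ (n : ℕ) : (K M).ExactAt (n + 1) := by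
  rw [HomologicalComplex.exactAt_iff' _ (n + 1 + 1) (n + 1) n (by simp) (by simp),
    ShortComplex.moduleCat_exact_iff]
  intro x hx
  change ((K M).d (n + 1) n).hom x = 0 at hx
  rw [K_d] at hx
  have h1 : (p M (n + 1)).hom x = 0 := by
    apply ι_injective M n
    rw [map_zero]
    exact hx
  obtain ⟨y, hy⟩ := exists_of_p_eq_zero M (n + 1) x h1
  obtain ⟨z, hz⟩ := p_surjective M (n + 1 + 1) y
  refine ⟨z, ?_⟩
  change ((K M).d (n + 1 + 1) (n + 1)).hom z = x
  rw [K_d]
  change (ι M (n + 1)).hom ((p M (n + 1 + 1)).hom z) = x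
  rw [hz, hy]

/-- augmentation. -/
noncomputable def π : K M ⟶ (ChainComplex.single₀ (ModuleCat.{u} R)).obj M.carrier :=
  (ChainComplex.toSingle₀Equiv _ _).symm ⟨p M 0, by
    have h : (K M).d 1 0 = p M 1 ≫ ι M 0 := K_d M 0
    rw [h]
    exact (Category.assoc (p M 1) (ι M 0) (p M 0)).trans (by rw [ι_p, comp_zero]; rfl)⟩

lemma π_f_zero : (π M).f 0 = p M 0 := by
  simp [π, ChainComplex.toSingle₀Equiv]

instance : QuasiIso (π M) where
  quasiIsoAt n := by
    cases n with
    | zero =>
      rw [ChainComplex.quasiIsoAt₀_iff, ShortComplex.quasiIso_iff_of_zeros' _ ((K M).shape 0 0 (by simp)) rfl rfl]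
      constructor
      · rw [ShortComplex.moduleCat_exact_iff]
        intro x hx
        change ((π M).f 0).hom x = 0 at hx
        rw [π_f_zero] at hx
        obtain ⟨y, hy⟩ := exists_of_p_eq_zero M 0 x hx
        obtain ⟨z, hz⟩ := p_surjective M 1 y
        refine ⟨z, ?_⟩
        change ((K M).d 1 0).hom z = x
        rw [K_d]
        change (ι M 0).hom ((p M 1).hom z) = x
        rw [hz, hy]
      · change Epi ((π M).f 0)
        rw [π_f_zero, ModuleCat.epi_iff_surjective]
        exact p_surjective M 0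
    | succ n =>
      rw [quasiIsoAt_iff_exactAt' (hL := ChainComplex.exactAt_succ_single_obj ..)]
      exact K_exactAt_succ M n

end Seq

theorem main (M : Type u) [AddCommGroup M] [Module R M] (hM : IsPowerTorsion I M) :
    ∃ (K : ChainComplex (ModuleCat.{u} R) ℕ)
      (π : K ⟶ (ChainComplex.single₀ (ModuleCat.{u} R)).obj (ModuleCat.of R M)),
      QuasiIso π ∧ ∀ i : ℕ, ∃ (ι : Type u) (n : ι → ℕ),
        Nonempty (K.X i ≅ ModuleCat.of R (DirectSum ι fun j => R ⧸ I ^ n j)) := by
  let T : TMod I := ⟨ModuleCat.of R M, hM⟩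
  refine ⟨K T, π T, inferInstance, fun i => ?_⟩
  exact ⟨(seq T i).carrier, fun x => expo I _ (seq T i).tors x, ⟨Iso.refl _⟩⟩

end Groth.Agent.Lib.helper11.TorsRes
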