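import Mathlib
import Groth.Prelude.Def_AbDual
import Groth.Prelude.Def_AgPol
import Groth.Agent.Lib.helper11.SectExt
import Groth.Agent.Lib.helper11.MulEtale
import Groth.Agent.Lib.helper11.MulEtaleComm
import Groth.Agent.Lib.helper11.RegularUFD
import Groth.Agent.Lib.helper11.RigidOver3

/-!
# Specialisation of torsion points of an abelian scheme over a regular local `ℚ`-domain (helper11)

`#A[m](K) ≤ #A[m](k)`: `[m]` is finite étale (`MulEtale`), so `A[m] → Spec R` is finite étale;
`R` is a UFD (Auslander–Buchsbaum, `RegularUFD.ufd`) hence integrally closed, so `K`-points of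
`A[m]` extend to sections (`SectExt.exists_section`); two sections agreeing at the closed point are
equal (`SectExt.lift_unique_connected`); and `A[m](k)` is finite.
-/

set_option autoImplicit false
universe u
open CategoryTheory CategoryTheory.Limits MonoidalCategory CartesianMonoidalCategory MonObj
  AlgebraicGeometry

namespace Groth.Agent.Lib.helper11.TorsSpecialize

open Groth.Agent.Lib.helper11

/-- core: `u` a finite étale endomorphism of `A` plays the role of `[m]` -/
theorem core (R : Type u) [CommRing R] [IsDomain R] [IsLocalRing R] [IsIntegrallyClosed R]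
    (A : Over (Spec (CommRingCat.of R))) [GrpObj A] [IsCommMonObj A] (m : ℕ) (u : A ⟶ A)
    (hu : u = 𝟙 A ^ m)
    [Etale u.left] [IsFinite u.left] :
    Nat.card (AbDual.torsPts A m
        (Over.mk (Spec.map (CommRingCat.ofHom (algebraMap R (FractionRing R)))))) ≤
      Nat.card (AbDual.torsPts A m
        (Over.mk (Spec.map (CommRingCat.ofHom (IsLocalRing.residue R))))) := by
  obtain ⟨ηK, hηK⟩ : ∃ ηK : Spec (CommRingCat.of (FractionRing R)) ⟶ Spec (CommRingCat.of R),
    ηK = Spec.map (CommRingCat.ofHom (algebraMap R (FractionRing R))) := ⟨_, rfl⟩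
  obtain ⟨ηk, hηk⟩ : ∃ ηk : Spec (CommRingCat.of (IsLocalRing.ResidueField R)) ⟶
      Spec (CommRingCat.of R),
    ηk = Spec.map (CommRingCat.ofHom (IsLocalRing.residue R)) := ⟨_, rfl⟩
  rw [← hηK, ← hηk]
  have hη : η[A].left ≫ A.hom = 𝟙 _ := by
    have := Over.w η[A]
    simpa using this
  let N : Scheme.{u} := pullback u.left η[A].left
  let p : N ⟶ Spec (CommRingCat.of R) := pullback.snd u.left η[A].left
  let j : N ⟶ A.left := pullback.fst u.left η[A].left
  have hjp : j ≫ A.hom = p := by
    have h1 : j ≫ u.left = p ≫ η[A].left := pullback.condition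
    have h2 := congrArg (fun t => t ≫ A.hom) h1
    simp only [Category.assoc, Over.w, hη] at h2
    simpa using h2
  haveI : IsFinite p := inferInstanceAs (IsFinite (pullback.snd u.left η[A].left))
  have hone : ∀ (T : Over (Spec (CommRingCat.of R))) (a : T ⟶ A),
      a ^ m = 1 ↔ a.left ≫ u.left = T.hom ≫ η[A].left := by
    intro T a
    have e1 : a ^ m = a ≫ u := by
      rw [hu, MonObj.comp_pow, Category.comp_id]
    rw [e1]
    constructor
    · intro h
      have := congrArg (fun t => t.left) h
      simpa [Hom.one_def] using this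
    · intro h
      ext1
      simpa [Hom.one_def] using h
  -- extension of `K`-points to sections
  have hext : ∀ a : AbDual.torsPts A m (Over.mk ηK), ∃ σ : Spec (CommRingCat.of R) ⟶ A.left,
      σ ≫ u.left = η[A].left ∧ ηK ≫ σ = a.1.left := by
    rintro ⟨a, ha⟩
    have ha' : a.left ≫ u.left = ηK ≫ η[A].left := (hone _ a).1 ha
    have haw : a.left ≫ A.hom = ηK := Over.w a
    let t : Spec (CommRingCat.of (FractionRing R)) ⟶ N := pullback.lift a.left ηK ha'
    have htj : t ≫ j = a.left := pullback.lift_fst _ _ _
    have htp : t ≫ p = ηK := pullback.lift_snd _ _ _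
    obtain ⟨s, hs1, hs2⟩ := SectExt.exists_section R (FractionRing R) p t (htp.trans hηK)
    refine ⟨s ≫ j, ?_, ?_⟩
    · rw [Category.assoc, show j ≫ u.left = p ≫ η[A].left from pullback.condition,
        ← Category.assoc, hs1, Category.id_comp]
    · show ηK ≫ s ≫ j = a.left
      have hs2' : ηK ≫ s = t := (congrArg (fun q => q ≫ s) hηK).trans hs2
      rw [← Category.assoc, hs2', htj]
  choose σ hσ1 hσ2 using hext
  have hσw : ∀ a, σ a ≫ A.hom = 𝟙 _ := by
    intro a
    have h2 := congrArg (fun t => t ≫ A.hom) (hσ1 a)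
    simp only [Category.assoc, Over.w, hη] at h2
    exact h2
  -- the specialisation map
  let F : AbDual.torsPts A m (Over.mk ηK) → AbDual.torsPts A m (Over.mk ηk) := fun a =>
    ⟨Over.homMk (ηk ≫ σ a) (by
        show (ηk ≫ σ a) ≫ A.hom = ηk
        rw [Category.assoc, hσw, Category.comp_id]), by
      rw [AbDual.mem_torsPts, hone]
      show (ηk ≫ σ a) ≫ u.left = ηk ≫ η[A].left
      rw [Category.assoc, hσ1]⟩
  haveI : PreconnectedSpace ↥(Spec (CommRingCat.of R)) := by
    haveI : IrreducibleSpace ↥(Spec (CommRingCat.of R)) :=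
      inferInstanceAs (IrreducibleSpace (PrimeSpectrum R))
    infer_instance
  have hF : Function.Injective F := by
    intro a b hab
    have h1 : ηk ≫ σ a = ηk ≫ σ b := by
      have := congrArg (fun t : AbDual.torsPts A m (Over.mk ηk) => t.1.left) hab
      exact this
    have h2 : σ a = σ b :=
      SectExt.lift_unique_connected u.left ηk (σ a) (σ b) ((hσ1 a).trans (hσ1 b).symm) h1
    apply Subtype.ext
    ext1
    rw [← hσ2 a, ← hσ2 b, h2]
  -- finiteness of the `k`-points
  haveI hfin := SectExt.finite_points R (IsLocalRing.ResidueField R) (IsLocalRing.residue R) p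
  let H : AbDual.torsPts A m (Over.mk ηk) →
      {a : Spec (CommRingCat.of (IsLocalRing.ResidueField R)) ⟶ N //
        a ≫ p = Spec.map (CommRingCat.ofHom (IsLocalRing.residue R))} := fun a =>
    ⟨pullback.lift a.1.left ηk ((hone _ a.1).1 a.2), (pullback.lift_snd _ _ _).trans hηk⟩
  have hH : Function.Injective H := by
    intro a b hab
    have h1 := congrArg (fun t : {a : Spec (CommRingCat.of (IsLocalRing.ResidueField R)) ⟶ N //
        a ≫ p = Spec.map (CommRingCat.ofHom (IsLocalRing.residue R))} => t.1 ≫ j) hab
    have h2 : a.1.left = b.1.left := by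
      have ea : (H a).1 ≫ j = a.1.left := pullback.lift_fst _ _ _
      have eb : (H b).1 ≫ j = b.1.left := pullback.lift_fst _ _ _
      rw [← ea, ← eb]
      exact h1
    apply Subtype.ext
    ext1
    exact h2
  haveI : Finite (AbDual.torsPts A m (Over.mk ηk)) := Finite.of_injective H hH
  exact Nat.card_le_card_of_injective F hF

theorem main (R : Type u) [CommRing R] [IsDomain R] [IsRegularLocalRing R] [Algebra ℚ R]
    (A : Over (Spec (CommRingCat.of R))) [GrpObj A] [IsCommMonObj A] (g : ℕ)
    (hA : AgPol.IsAbSch A g) (m : ℕ) (hm : 1 ≤ m) :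
    Nat.card (AbDual.torsPts A m
        (Over.mk (Spec.map (CommRingCat.ofHom (algebraMap R (FractionRing R)))))) ≤
      Nat.card (AbDual.torsPts A m
        (Over.mk (Spec.map (CommRingCat.ofHom (IsLocalRing.residue R))))) := by
  haveI := hA.smooth
  haveI := hA.proper
  haveI := hA.geomConnected
  haveI : GeometricallyReduced A.hom := RigidOver.geometricallyReduced_of_smooth A.hom
  have hmu : IsUnit (m : R) := by
    have h0 : IsUnit (m : ℚ) := (Nat.cast_ne_zero.2 (by omega)).isUnit
    have := h0.map (algebraMap ℚ R)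
    rwa [map_natCast] at this
  haveI : Etale (𝟙 A ^ m).left :=
    MulEtale.etale_pow_nat A m (MulEtaleComm.natCast_residue_ne_zero R m hmu)
  haveI : IsFinite (𝟙 A ^ m).left := MulEtale.isFinite_of_etale A _
  haveI : IsIntegrallyClosed R := by
    haveI := RegularUFD.ufd R
    infer_instance
  exact core R A m (𝟙 A ^ m) rfl

end Groth.Agent.Lib.helper11.TorsSpecialize
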