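import Mathlib
import Groth.Agent.Lib.helper11.TorsionlessReflexive

/-!
# Torsionless modules over a reduced finite free algebra over a PID (helper11)
-/

set_option autoImplicit false

namespace Groth.Agent.Lib.helper11.TorsionlessFree

open Module nonZeroDivisors

universe u

variable (Λ : Type u) [CommRing Λ] [IsDomain Λ] [IsPrincipalIdealRing Λ]
  (S : Type u) [CommRing S] [Algebra Λ S] [Module.Finite Λ S] [Module.Free Λ S] [IsReduced S]
  (M : Type u) [AddCommGroup M] [Module S M] [Module Λ M] [IsScalarTower Λ S M] [Module.Finite S M]

include Λ in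
theorem isNoetherianRing : IsNoetherianRing S := by
  have h1 : IsNoetherian Λ S := isNoetherian_of_isNoetherianRing_of_finite Λ S
  exact isNoetherian_of_tower Λ h1

include Λ in
theorem ringKrullDim_le_one : ringKrullDim S ≤ 1 := by
  have h1 : ringKrullDim S ≤ ringKrullDim Λ := by
    refine Order.krullDim_le_of_strictMono
      (fun q => PrimeSpectrum.comap (algebraMap Λ S) q) ?_
    intro q q' h
    exact Ideal.IsIntegral.comap_lt_comap (R := Λ) (I := q.asIdeal) (J := q'.asIdeal) h
  have h2 : ringKrullDim Λ ≤ 1 := by
    have := (Ring.krullDimLE_iff (n := 1) (R := Λ)).1 inferInstance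
    exact_mod_cast this
  exact h1.trans h2

theorem free_of_injective (hinj : Function.Injective (Dual.eval S M)) : Module.Free Λ M := by
  haveI : Module.Finite Λ M := Module.Finite.trans S M
  haveI : Module.IsTorsionFree Λ M := by
    constructor
    intro l hl m₁ m₂ h
    apply hinj
    ext f
    change f m₁ = f m₂
    have h2 : l • f m₁ = l • f m₂ := by
      rw [← LinearMap.map_smul_of_tower, ← LinearMap.map_smul_of_tower]
      exact congrArg f h
    exact hl.isSMulRegular h2
  infer_instance

theorem injective_of_free [Module.Free Λ M] : Function.Injective (Dual.eval S M) := by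
  haveI : IsNoetherianRing S := isNoetherianRing Λ S
  haveI : Module.FinitePresentation S M := Module.finitePresentation_of_finite S M
  let W : Submonoid S := Algebra.algebraMapSubmonoid S Λ⁰
  let S' := Localization W
  let M' := LocalizedModule W M
  haveI : IsArtinianRing S' := IsArtinianRing.of_finite (FractionRing Λ) S'
  haveI : IsSemisimpleRing S' := IsArtinianRing.isSemisimpleRing_of_isReduced S'
  haveI : Module.Projective S' M' := Module.projective_of_isSemisimpleRing S' M'
  let D1 : Dual S M →ₗ[S] Dual S' M' :=
    IsLocalizedModule.mapExtendScalars W (LocalizedModule.mkLinearMap W M)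
      (Algebra.linearMap S S') S'
  haveI : IsLocalizedModule W D1 := by
    change IsLocalizedModule W (IsLocalizedModule.mapExtendScalars W
      (LocalizedModule.mkLinearMap W M) (Algebra.linearMap S S') S')
    infer_instance
  have hD1 : ∀ (f : Dual S M) (m : M),
      D1 f (LocalizedModule.mkLinearMap W M m) = algebraMap S S' (f m) := by
    intro f m
    change IsLocalizedModule.mapExtendScalars W (LocalizedModule.mkLinearMap W M)
      (Algebra.linearMap S S') S' f (LocalizedModule.mkLinearMap W M m) = _
    rw [IsLocalizedModule.mapExtendScalars_apply_apply, IsLocalizedModule.map_apply]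
    rfl
  rw [injective_iff_map_eq_zero]
  intro m hm
  have hm' : ∀ f : Dual S M, f m = 0 := fun f => by
    have := congrArg (fun Φ => Φ f) hm
    simpa using this
  have h1 : LocalizedModule.mkLinearMap W M m = 0 := by
    apply (Module.bijective_dual_eval S' M').1
    rw [map_zero]
    ext φ
    rw [Dual.eval_apply, LinearMap.zero_apply]
    obtain ⟨⟨f, w⟩, hfw⟩ := IsLocalizedModule.surj W D1 φ
    have h2 := congrArg (fun Φ => Φ (LocalizedModule.mkLinearMap W M m)) hfw
    simp only [hD1, hm' f, map_zero] at h2
    rw [LinearMap.smul_apply, Submonoid.smul_def, ← algebraMap_smul S', smul_eq_mul] at h2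
    have hu : IsUnit (algebraMap S S' (w : S)) := IsLocalization.map_units S' w
    exact (hu.mul_right_eq_zero).1 h2
  have h3 : LocalizedModule.mkLinearMap W M m = LocalizedModule.mkLinearMap W M 0 := by
    rw [h1, map_zero]
  obtain ⟨w, hw⟩ := IsLocalizedModule.exists_of_eq (S := W) h3
  rw [smul_zero, Submonoid.smul_def] at hw
  obtain ⟨l, hl, hlw⟩ := w.2
  rw [← hlw, algebraMap_smul] at hw
  have hl0 : l ≠ 0 := nonZeroDivisors.ne_zero hl
  exact (smul_eq_zero_iff_right hl0).1 hw

end Groth.Agent.Lib.helper11.TorsionlessFree
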