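import Groth.Prelude.Def_Twist2

/-! Generation of the degree-`n` fractions `Twist.twistAt 𝒜 n p` by `f/1` (helper11). -/

set_option autoImplicit false
universe u

namespace Groth.Agent.Lib.helper11.TwistSpan

open Twist HomogeneousLocalization

variable {R A : Type u} [CommRing R] [CommRing A] [Algebra R A] (𝒜 : ℕ → Submodule R A)
  [GradedAlgebra 𝒜]

lemma one_not_mem (p : ProjectiveSpectrum 𝒜) : (1 : A) ∉ p.asHomogeneousIdeal :=
  fun h => p.isPrime.ne_top ((Ideal.eq_top_iff_one _).mpr h)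

/-- the element `f/1` of the localization at `p`. -/
noncomputable def fOne (p : ProjectiveSpectrum 𝒜) (f : A) : Loc 𝒜 p :=
  Localization.mk f ⟨1, one_not_mem 𝒜 p⟩

/-- If `f ∉ p` is homogeneous of degree `m` with `(m : ℤ) = n`, then every degree-`n` fraction at `p`
is an `A0`-multiple of `f/1`. -/
lemma twistAt_le_span_fOne (n : ℤ) (p : ProjectiveSpectrum 𝒜) {m : ℕ} (hm : (m : ℤ) = n)
    (f : A) (hf : f ∈ 𝒜 m) (hfp : f ∉ p.asHomogeneousIdeal) :
    twistAt 𝒜 n p ≤ Submodule.span (A0 𝒜 p) {fOne 𝒜 p f} := by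
  rw [twistAt, Submodule.span_le]
  rintro q ⟨i, j, a, s, hs, hij, rfl⟩
  have hi : i = j + m := by omega
  have hsf : s.1 * f ∉ p.asHomogeneousIdeal := fun h =>
    (p.isPrime.mem_or_mem h).elim hs hfp
  let c : A0 𝒜 p := HomogeneousLocalization.mk
    ⟨i, a, ⟨s.1 * f, hi ▸ SetLike.mul_mem_graded s.2 hf⟩, hsf⟩
  refine Submodule.mem_span_singleton.2 ⟨c, ?_⟩
  rw [Algebra.smul_def, HomogeneousLocalization.algebraMap_apply, HomogeneousLocalization.val_mk,
    fOne, Localization.mk_mul, Localization.mk_eq_mk_iff, Localization.r_iff_exists]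
  refine ⟨1, ?_⟩
  simp only [OneMemClass.coe_one, one_mul, Submonoid.coe_mul, mul_one]
  ring

/-- If `f/1` generates the degree-`n` fractions at `p` and there is a fraction `a/s` of degree `n` with
`a ∉ p`, then `f ∉ p`. -/
lemma not_mem_of_span_fOne (n : ℤ) (p : ProjectiveSpectrum 𝒜) (f : A)
    (h : twistAt 𝒜 n p ≤ Submodule.span (A0 𝒜 p) {fOne 𝒜 p f})
    {i j : ℕ} (a : 𝒜 i) (s : 𝒜 j) (hs : s.1 ∉ p.asHomogeneousIdeal)
    (ha : a.1 ∉ p.asHomogeneousIdeal) (hij : (i : ℤ) = j + n) :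
    f ∉ p.asHomogeneousIdeal := by
  intro hfp
  have hmem : Localization.mk a.1 ⟨s.1, hs⟩ ∈ twistAt 𝒜 n p :=
    Submodule.subset_span ⟨i, j, a, s, hs, hij, rfl⟩
  obtain ⟨c, hc⟩ := Submodule.mem_span_singleton.1 (h hmem)
  rw [Algebra.smul_def, HomogeneousLocalization.algebraMap_apply,
    HomogeneousLocalization.eq_num_div_den, fOne, Localization.mk_mul, Localization.mk_eq_mk_iff,
    Localization.r_iff_exists] at hc
  obtain ⟨u, hu⟩ := hc
  simp only [Submonoid.coe_mul, OneMemClass.coe_one, mul_one] at hu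
  have h1 : (u : A) * (s.1 * (c.num * f)) ∈ p.asHomogeneousIdeal.toIdeal :=
    Ideal.mul_mem_left _ _ (Ideal.mul_mem_left _ _ (Ideal.mul_mem_left _ _ hfp))
  rw [hu] at h1
  have hu' : (u : A) ∉ p.asHomogeneousIdeal.toIdeal := u.2
  have hden : c.den ∉ p.asHomogeneousIdeal.toIdeal := c.den_mem
  rcases p.isPrime.mem_or_mem h1 with h2 | h2
  · exact hu' h2
  · rcases p.isPrime.mem_or_mem h2 with h3 | h3
    · exact hden h3
    · exact ha h3

/-- Passage between the ambient span and the span inside the submodule `twistAt`. -/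
lemma span_singleton_eq_top_iff (n : ℤ) (p : ProjectiveSpectrum 𝒜) (g : twistAt 𝒜 n p) :
    Submodule.span (A0 𝒜 p) {g} = ⊤ ↔
      twistAt 𝒜 n p ≤ Submodule.span (A0 𝒜 p) {(g : Loc 𝒜 p)} := by
  constructor
  · intro h q hq
    have : (⟨q, hq⟩ : twistAt 𝒜 n p) ∈ Submodule.span (A0 𝒜 p) {g} := by rw [h]; trivial
    obtain ⟨c, hc⟩ := Submodule.mem_span_singleton.1 this
    refine Submodule.mem_span_singleton.2 ⟨c, ?_⟩
    have := congrArg Subtype.val hc
    simpa using this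
  · intro h
    rw [eq_top_iff]
    rintro ⟨q, hq⟩ -
    obtain ⟨c, hc⟩ := Submodule.mem_span_singleton.1 (h hq)
    refine Submodule.mem_span_singleton.2 ⟨c, ?_⟩
    apply Subtype.ext
    simpa using hc

/-- Main criterion. -/
theorem mem_basicOpen_iff_span_globalOf_eq_top (p : ProjectiveSpectrum 𝒜) {m : ℕ} (f : 𝒜 m)
    {i j : ℕ} (a : 𝒜 i) (s : 𝒜 j) (hs : s.1 ∉ p.asHomogeneousIdeal)
    (ha : a.1 ∉ p.asHomogeneousIdeal) (hij : (i : ℤ) = j + (m : ℤ)) :
    p ∈ ProjectiveSpectrum.basicOpen 𝒜 (f : A) ↔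
      Submodule.span (A0 𝒜 p) {(globalOf 𝒜 f).1 ⟨p, trivial⟩} = ⊤ := by
  rw [span_singleton_eq_top_iff, ProjectiveSpectrum.mem_basicOpen]
  have hcoe : (((globalOf 𝒜 f).1 ⟨p, trivial⟩ : twistAt 𝒜 (m : ℤ) p) : Loc 𝒜 p) = fOne 𝒜 p f.1 := rfl
  rw [hcoe]
  constructor
  · intro hfp
    exact twistAt_le_span_fOne 𝒜 (m : ℤ) p rfl f.1 f.2 hfp
  · intro h
    exact not_mem_of_span_fOne 𝒜 (m : ℤ) p f.1 h a s hs ha hij

end Groth.Agent.Lib.helper11.TwistSpan
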