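import Mathlib
import Groth.Agent.Lib.helper11.FGEtale

/-!
# Group schemes over a field whose local ring at the unit is a field (helper11)
-/

set_option autoImplicit false
universe u

open CategoryTheory Limits MonoidalCategory CartesianMonoidalCategory MonObj GrpObj AlgebraicGeometry

namespace Groth.Agent.Lib.helper11.UnitOpen

open Groth.Agent.Lib.helper11.FGEtale

variable {K : Type u} [Field K] {G : Over (Spec (CommRingCat.of K))} [GrpObj G]

/-- if the unit point is open with integral open neighbourhood `{e}`, the unit section is an open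
immersion -/
theorem isOpenImmersion_unit_of_singleton (V : G.left.Opens) (hVint : IsIntegral V.toScheme)
    (hV : (V : Set G.left) = {ptOf G (1 : 𝟙_ (Over (Spec (CommRingCat.of K))) ⟶ G)}) :
    IsOpenImmersion η[G].left := by
  haveI := hVint
  have hpt : ∀ t, η[G].left t = ptOf G (1 : 𝟙_ (Over (Spec (CommRingCat.of K))) ⟶ G) := by
    intro t
    have : t = IsLocalRing.closedPoint K := Subsingleton.elim (α := PrimeSpectrum K) _ _
    rw [this, ← MonObj.one_eq_one]
    rfl
  have hrange : Set.range η[G].left ⊆ Set.range V.ι := by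
    rintro _ ⟨t, rfl⟩
    rw [V.range_ι, hV, hpt]
    rfl
  let e' : Spec (CommRingCat.of K) ⟶ V.toScheme := IsOpenImmersion.lift V.ι η[G].left hrange
  have he' : e' ≫ V.ι = η[G].left := IsOpenImmersion.lift_fac _ _ _
  haveI : IsClosedImmersion e' :=
    isClosedImmersion_of_comp_eq_id (Y := Spec (CommRingCat.of K)) (V.ι ≫ G.hom) e' (by
      rw [← Category.assoc, he']
      simp)
  haveI : Surjective e' := by
    refine ⟨fun w => ⟨IsLocalRing.closedPoint K, ?_⟩⟩
    apply Subtype.ext
    have h1 : (w.1 : G.left) ∈ (V : Set G.left) := w.2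
    have h2 : ((e' (IsLocalRing.closedPoint K)).1 : G.left) ∈ (V : Set G.left) :=
      (e' (IsLocalRing.closedPoint K)).2
    rw [hV] at h1 h2
    exact h2.trans h1.symm
  haveI : IsIso e' := isIso_of_isClosedImmersion_of_surjective e'
  rw [← he']
  infer_instance

/-- the unit point is open as soon as its local ring is a field -/
theorem exists_singleton_of_isField [LocallyOfFiniteType G.hom]
    (h : IsField (G.left.presheaf.stalk (ptOf G (1 : 𝟙_ (Over (Spec (CommRingCat.of K))) ⟶ G)))) :
    ∃ V : G.left.Opens, IsIntegral V.toScheme ∧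
      (V : Set G.left) = {ptOf G (1 : 𝟙_ (Over (Spec (CommRingCat.of K))) ⟶ G)} := by
  set e0 := ptOf G (1 : 𝟙_ (Over (Spec (CommRingCat.of K))) ⟶ G) with he0
  haveI : IsLocallyNoetherian G.left := LocallyOfFiniteType.isLocallyNoetherian G.hom
  letI := h.toField
  haveI : IsDomain (G.left.presheaf.stalk e0) := inferInstance
  obtain ⟨V, he0V, hVint⟩ :=
    Groth.Agent.Lib.Helper13.IntegralNhd.exists_isIntegral_of_isLocallyNoetherian e0
  haveI := hVint
  refine ⟨V, hVint, ?_⟩
  let ξ : V.toScheme := genericPoint V.toScheme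
  -- the generic point of `V` is a generization of `e0`, hence equal to it
  have hspec : (ξ.1 : G.left) ⤳ e0 := by
    have h1 : ξ ⤳ (⟨e0, he0V⟩ : V.toScheme) := (genericPoint_spec V.toScheme).specializes trivial
    exact h1.map V.ι.continuous
  have hmem : (ξ.1 : G.left) ∈ Set.range (G.left.fromSpecStalk e0) := by
    rw [Scheme.range_fromSpecStalk]
    exact hspec
  obtain ⟨t, ht⟩ := hmem
  have hsub : Subsingleton (PrimeSpectrum (G.left.presheaf.stalk e0)) := inferInstance
  have ht' : t = IsLocalRing.closedPoint (G.left.presheaf.stalk e0) :=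
    Subsingleton.elim (α := PrimeSpectrum (G.left.presheaf.stalk e0)) _ _
  have hξ : (ξ.1 : G.left) = e0 := by
    rw [← ht, ht', Scheme.fromSpecStalk_closedPoint]
  have hcl : IsClosed ({ξ} : Set V.toScheme) := by
    have h := (isClosed_singleton_ptOf (1 : 𝟙_ (Over (Spec (CommRingCat.of K))) ⟶ G)).preimage
      V.ι.continuous
    convert h using 1
    ext w
    simp only [Set.mem_singleton_iff, Set.mem_preimage]
    constructor
    · rintro rfl
      exact hξ
    · intro h
      exact Subtype.ext (h.trans hξ.symm)
  have huniv : ({ξ} : Set V.toScheme) = Set.univ := by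
    have := (genericPoint_spec V.toScheme).def
    rwa [hcl.closure_eq] at this
  ext w
  simp only [SetLike.mem_coe, Set.mem_singleton_iff]
  constructor
  · intro hw
    have h1 : (⟨w, hw⟩ : V.toScheme) ∈ ({ξ} : Set V.toScheme) := huniv ▸ Set.mem_univ _
    have h1' : (⟨w, hw⟩ : V.toScheme) = ξ := h1
    exact (congrArg Subtype.val h1').trans hξ
  · rintro rfl
    exact he0V

/-- étaleness from openness of the unit section -/
theorem etale_of_isOpenImmersion_unit [LocallyOfFiniteType G.hom] [IsOpenImmersion η[G].left] :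
    Etale G.hom := by
  have H := Groth.Agent.Lib.Helper29.GrpSchDiag.isPullback_diagonal G
  haveI : IsOpenImmersion (pullback.diagonal G.hom) :=
    MorphismProperty.of_isPullback (P := @IsOpenImmersion) H.flip inferInstance
  haveI : FormallyUnramified G.hom := inferInstance
  haveI : LocallyOfFinitePresentation G.hom :=
    LocallyOfFinitePresentation.iff_locallyOfFiniteType.mpr inferInstance
  exact Etale.of_formallyUnramified_of_flat G.hom

/-- every rational point is an open immersion once the unit section is -/
theorem isOpenImmersion_pt [IsOpenImmersion η[G].left]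
    (x : 𝟙_ (Over (Spec (CommRingCat.of K))) ⟶ G) : IsOpenImmersion x.left := by
  have h : x = η[G] ≫ FFGal.trans x := (FFGal.unit_comp_trans x).symm
  have h2 : x.left = η[G].left ≫ (FFGal.trans x).left := by
    conv_lhs => rw [h]
    rfl
  rw [h2]
  haveI : IsIso (FFGal.trans x).left :=
    inferInstanceAs (IsIso ((Over.forget _).map (FFGal.trans x)))
  infer_instance

theorem range_pt (x : 𝟙_ (Over (Spec (CommRingCat.of K))) ⟶ G) :
    Set.range x.left = {ptOf G x} := by
  ext w
  constructor
  · rintro ⟨t, rfl⟩
    have : t = IsLocalRing.closedPoint K := Subsingleton.elim (α := PrimeSpectrum K) _ _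
    rw [this]; rfl
  · rintro rfl
    exact ⟨_, rfl⟩

theorem isOpen_singleton_pt [IsOpenImmersion η[G].left]
    (x : 𝟙_ (Over (Spec (CommRingCat.of K))) ⟶ G) : IsOpen ({ptOf G x} : Set G.left) := by
  haveI := isOpenImmersion_pt x
  rw [← range_pt]
  exact x.left.isOpenEmbedding.isOpen_range

/-- the structure map `K → 𝒪_{Spec K, pt}` is bijective -/
theorem bijective_toStalk_field (t : Spec (CommRingCat.of K)) :
    Function.Bijective (((Spec (CommRingCat.of K)).presheaf.germ ⊤ t trivial).hom.comp
      (Scheme.ΓSpecIso (CommRingCat.of K)).inv.hom) := by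
  let S := (Spec.structureSheaf K).presheaf.stalk t
  have hunits : ∀ a ∈ (t : PrimeSpectrum K).asIdeal.primeCompl, IsUnit a := by
    intro a ha
    have ha0 : a ≠ 0 := by
      rintro rfl
      exact ha (Ideal.zero_mem _)
    exact isUnit_iff_ne_zero.mpr ha0
  let e : K ≃ₐ[K] S := IsLocalization.atUnits K (t : PrimeSpectrum K).asIdeal.primeCompl hunits
  have he : (e : K → S) = algebraMap K S := by
    ext a
    have := e.commutes a
    simpa using this
  have hb : Function.Bijective (algebraMap K S) := he ▸ e.bijective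
  exact hb

theorem bijective_stalkMap_pt [IsOpenImmersion η[G].left]
    (x : 𝟙_ (Over (Spec (CommRingCat.of K))) ⟶ G) :
    letI : G.left.Over (Spec (CommRingCat.of K)) := ⟨G.hom⟩
    Function.Bijective (Curv2.stalkMap K G.left (ptOf G x)) := by
  letI : G.left.Over (Spec (CommRingCat.of K)) := ⟨G.hom⟩
  haveI := isOpenImmersion_pt x
  have hy : x.left ≫ G.hom = 𝟙 _ := by simpa using Over.w x
  haveI : IsIso (x.left.stalkMap (IsLocalRing.closedPoint K)) := inferInstance
  constructor
  · exact RingHom.injective _
  · intro s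
    obtain ⟨a, ha⟩ := (bijective_toStalk_field (IsLocalRing.closedPoint K)).2
      (x.left.stalkMap (IsLocalRing.closedPoint K) s)
    refine ⟨a, ?_⟩
    apply (ConcreteCategory.bijective_of_isIso (x.left.stalkMap (IsLocalRing.closedPoint K))).1
    rw [← ha]
    unfold Curv2.stalkMap Coh.toGlobal
    simp only [RingHom.comp_apply]
    have h1 := Scheme.Hom.germ_stalkMap_apply x.left ⊤ (IsLocalRing.closedPoint K) trivial
      ((G.hom.appTop).hom ((Scheme.ΓSpecIso (CommRingCat.of K)).inv.hom a))
    have h2 : (x.left.app ⊤).hom ((G.hom.appTop).hom ((Scheme.ΓSpecIso (CommRingCat.of K)).inv.hom a)) =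
        (Scheme.ΓSpecIso (CommRingCat.of K)).inv.hom a := by
      have h3 : G.hom.appTop ≫ x.left.appTop = 𝟙 _ := by
        rw [← Scheme.Hom.comp_appTop, hy]
        rfl
      exact congrArg (fun φ => φ.hom ((Scheme.ΓSpecIso (CommRingCat.of K)).inv.hom a)) h3
    rw [h2] at h1
    exact h1

section algClosed

variable [IsAlgClosed K] [LocallyOfFiniteType G.hom] [CompactSpace G.left]

/-- over an algebraically closed field, if the unit section is open then every point is rational -/
theorem exists_pt_eq [IsOpenImmersion η[G].left] (g : G.left) :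
    ∃ x : 𝟙_ (Over (Spec (CommRingCat.of K))) ⟶ G, ptOf G x = g := by
  obtain ⟨c, hc, hcl⟩ := IsClosed.exists_closed_singleton (isClosed_closure (s := ({g} : Set G.left)))
    ⟨g, subset_closure rfl⟩
  obtain ⟨⟨p, hp⟩, hpc⟩ := (pointEquivClosedPoint G.hom).surjective ⟨c, hcl⟩
  have hpc' : p (IsLocalRing.closedPoint K) = c := congrArg Subtype.val hpc
  let x : 𝟙_ (Over (Spec (CommRingCat.of K))) ⟶ G := Over.homMk p (by simpa using hp)
  refine ⟨x, ?_⟩
  have hxc : ptOf G x = c := hpc'
  have hopen := isOpen_singleton_pt x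
  rw [hxc] at hopen
  obtain ⟨w, hw1, hw2⟩ := mem_closure_iff.mp hc {c} hopen rfl
  rw [hxc]
  rw [Set.mem_singleton_iff] at hw1 hw2
  rw [← hw1, hw2]

end algClosed

/-- **S14059** -/
theorem main [IsAlgClosed K] [LocallyOfFiniteType G.hom] [QuasiCompact G.hom]
    (e : G.left) (he : e ∈ Set.range (η[G]).left.base) :
    letI : G.left.Over (Spec (CommRingCat.of K)) := ⟨G.hom⟩
    Subsingleton (IsLocalRing.CotangentSpace (G.left.presheaf.stalk e)) ↔
      (Finite G.left ∧ DiscreteTopology G.left ∧
        ∀ g : G.left, Function.Bijective (Curv2.stalkMap K G.left g)) := by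
  letI : G.left.Over (Spec (CommRingCat.of K)) := ⟨G.hom⟩
  haveI : IsLocallyNoetherian G.left := LocallyOfFiniteType.isLocallyNoetherian G.hom
  have he0 : e = ptOf G (1 : 𝟙_ (Over (Spec (CommRingCat.of K))) ⟶ G) := by
    obtain ⟨t, rfl⟩ := he
    have : t = IsLocalRing.closedPoint K := Subsingleton.elim (α := PrimeSpectrum K) _ _
    rw [this, ← MonObj.one_eq_one]
    rfl
  subst he0
  rw [IsLocalRing.subsingleton_cotangentSpace_iff]
  constructor
  · intro hfield
    obtain ⟨V, hVint, hV⟩ := exists_singleton_of_isField hfield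
    haveI := isOpenImmersion_unit_of_singleton V hVint hV
    haveI : CompactSpace G.left := QuasiCompact.compactSpace_of_compactSpace G.hom
    haveI : DiscreteTopology G.left := by
      rw [discreteTopology_iff_isOpen_singleton]
      intro g
      obtain ⟨x, rfl⟩ := exists_pt_eq g
      exact isOpen_singleton_pt x
    refine ⟨finite_of_compact_of_discrete, inferInstance, ?_⟩
    intro g
    obtain ⟨x, rfl⟩ := exists_pt_eq g
    exact bijective_stalkMap_pt x
  · rintro ⟨-, -, hbij⟩
    have h := hbij (ptOf G (1 : 𝟙_ (Over (Spec (CommRingCat.of K))) ⟶ G))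
    exact (MulEquiv.isField (Field.toIsField K) (RingEquiv.ofBijective _ h).symm.toMulEquiv)

end Groth.Agent.Lib.helper11.UnitOpen
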